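import Cfsg.Agent.Lib.M12Central.Order
import Cfsg.Agent.Lib.Cores.Nilpotent

/-!
A finite group with an involution whose centraliser is that of a central involution of `M₁₂` and
lies in the normal closure of the involution has order 95040 and is simple.
-/

set_option autoImplicit false
set_option maxRecDepth 20000

namespace Cfsg.Agent.Co3Type

open Cfsg.Agent.Golay.Cert Cfsg.Agent.Golay.TabList
open Cfsg.Agent.M12Central Cfsg.Agent.M12Central.Data Cfsg.Agent.M12Central.Facts
open Subgroup

/-- No element of order 3 of the centraliser generates a normal subgroup. -/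
theorem three_facts : (elems.all fun x => x == idTab || !(mulTab x (mulTab x x) == idTab) ||
    elems.any fun g => !(mulTab g x == mulTab x g) &&
      !(mulTab g x == mulTab (mulTab x x) g)) = true := by
  decide +kernel

variable {X : Type*} [Group X] [Finite X] {s : X}

omit [Finite X] in
theorem exists_commutator (D : Local s) :
    ∃ p ∈ centralizer ({s} : Set X), ∃ q ∈ centralizer ({s} : Set X), p * q = s * (q * p) := by
  obtain ⟨hT, -⟩ := T_ok
  simp only [Bool.and_eq_true, List.all_eq_true, List.any_eq_true, Bool.or_eq_true, beq_iff_eq,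
    Bool.not_eq_true'] at hT
  obtain ⟨⟨⟨⟨hcomm, x, hx, y, hy, hxy⟩, -⟩, -⟩, -⟩ := hT
  have hx' := (List.mem_filter.1 hx).1
  have hy' := (List.mem_filter.1 hy).1
  refine ⟨D.el x, D.el_mem hx', D.el y, D.el_mem hy', ?_⟩
  rcases hcomm x hx y hy with e | e
  · exact absurd (by simp [Facts.comm, e]) (ne_true_of_eq_false hxy)
  · rw [← D.el_mul hx' hy', e, D.el_mul elems_basic.2.2.2 (D.closed hy' hx'), D.z_eq,
      D.el_mul hy' hx']

/-- An odd-order subgroup normal under a normal subgroup `N` containing the centraliser meets the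
centraliser trivially. -/
theorem inf_centralizer_of_odd (D : Local s) {N O : Subgroup X}
    (hCN : centralizer ({s} : Set X) ≤ N) (hnorm : ∀ n ∈ N, ∀ o ∈ O, n * o * n⁻¹ ∈ O)
    (hodd : Odd (Nat.card O)) {o : X} (ho : o ∈ O) (hc : Commute o s) : o = 1 := by
  by_contra hne
  set R := O ⊓ centralizer ({s} : Set X) with hR
  have hoR : o ∈ R := ⟨ho, mem_centralizer_singleton_iff.2 hc.eq⟩
  have hRo : Odd (Nat.card R) := Odd.of_dvd_nat hodd (card_dvd_of_le inf_le_left)
  have hR192 : Nat.card R ∣ 192 := D.card_centralizer ▸ card_dvd_of_le inf_le_right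
  have hR3 : Nat.card R ∣ 3 := by
    have hco : (Nat.card R).Coprime 64 := by
      rw [show (64 : ℕ) = 2 ^ 6 by norm_num]
      exact Nat.Coprime.pow_right _ hRo.coprime_two_right
    exact hco.dvd_of_dvd_mul_left (show Nat.card R ∣ 64 * 3 by norm_num; exact hR192)
  have hord : orderOf o = 3 := by
    have h1 : orderOf o ∣ 3 :=
      (orderOf_dvd_natCard (⟨o, hoR⟩ : R)).trans hR3 |> fun h => by simpa using h
    exact ((Nat.dvd_prime Nat.prime_three).1 h1).resolve_left
      fun h => hne (orderOf_eq_one_iff.1 h)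
  have hgen : zpowers o = R := by
    refine Subgroup.eq_of_le_of_card_ge ((zpowers_le).2 hoR) ?_
    rw [Nat.card_zpowers, hord]
    exact Nat.le_of_dvd (by norm_num) hR3
  obtain ⟨x, hx, rfl⟩ := (D.mem' o).1 (mem_centralizer_singleton_iff.2 hc.eq)
  have hxx := D.closed hx hx
  have h := List.all_eq_true.1 three_facts x hx
  simp only [Bool.or_eq_true, beq_iff_eq, Bool.not_eq_true', beq_eq_false_iff_ne, List.any_eq_true,
    Bool.and_eq_true, ne_eq] at h
  rcases h with (h | h) | ⟨g, hg, hg1, hg2⟩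
  · exact hne (by rw [h, D.el_one])
  · apply h
    refine D.el_inj (D.closed hx hxx) elems_basic.2.2.1 ?_
    rw [D.el_mul hx hxx, D.el_mul hx hx, D.el_one, ← pow_three, ← hord, pow_orderOf_eq_one]
  · have hy : D.el g * D.el x * (D.el g)⁻¹ ∈ zpowers (D.el x) := by
      rw [hgen]
      exact ⟨hnorm _ (hCN (D.el_mem hg)) _ ho,
        (centralizer ({s} : Set X)).mul_mem
          ((centralizer ({s} : Set X)).mul_mem (D.el_mem hg) (D.el_mem hx))
          ((centralizer ({s} : Set X)).inv_mem (D.el_mem hg))⟩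
    classical
    rw [mem_zpowers_iff_mem_range_orderOf, hord] at hy
    simp only [Finset.mem_image, Finset.mem_range] at hy
    obtain ⟨k, hk, hk'⟩ := hy
    interval_cases k
    · exact hne (conj_eq_one_iff.1 (hk'.symm.trans (pow_zero _)))
    · rw [pow_one, eq_mul_inv_iff_mul_eq, ← D.el_mul hx hg, ← D.el_mul hg hx] at hk'
      exact hg1 (D.el_inj (D.closed hg hx) (D.closed hx hg) hk'.symm)
    · rw [pow_two, eq_mul_inv_iff_mul_eq, ← D.el_mul hx hx, ← D.el_mul hxx hg,
        ← D.el_mul hg hx] at hk'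
      exact hg2 (D.el_inj (D.closed hg hx) (D.closed hxx hg) hk'.symm)

/-- No non-trivial odd-order subgroup is normal under `N`. -/
theorem odd_normal_eq_bot (D : Local s) {N : Subgroup X} [N.Normal]
    (hgen : centralizer ({s} : Set X) ≤ normalClosure {s})
    (hCN : centralizer ({s} : Set X) ≤ N) {O : Subgroup X}
    (hnorm : ∀ n ∈ N, ∀ o ∈ O, n * o * n⁻¹ ∈ O) (hodd : Odd (Nat.card O)) : O = ⊥ := by
  have hs2 := D.orderOf_t
  have hsN : s ∈ N := hCN (mem_centralizer_singleton_iff.2 rfl)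
  have hinv : ∀ x : X, ∀ o ∈ O, x * s * x⁻¹ * o * (x * s * x⁻¹)⁻¹ = o⁻¹ := by
    intro x o ho
    let O' := O.map (MulAut.conj x⁻¹).toMonoidHom
    have hmem : ∀ z, z ∈ O' ↔ x * z * x⁻¹ ∈ O := by
      intro z
      simp only [O', mem_map, MulEquiv.coe_toMonoidHom, MulAut.conj_apply]
      constructor
      · rintro ⟨w, hw, rfl⟩; simpa [mul_assoc] using hw
      · exact fun h => ⟨_, h, by group⟩
    have hodd' : Odd (Nat.card O') := by
      rwa [card_map_of_injective (MulAut.conj x⁻¹).injective]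
    have hnorm' : ∀ n ∈ N, ∀ z ∈ O', n * z * n⁻¹ ∈ O' := by
      intro n hn z hz
      rw [hmem] at hz ⊢
      have := hnorm _ (Normal.conj_mem inferInstance n hn x) _ hz
      simpa [mul_assoc] using this
    let φ : O' →* O' :=
      { toFun := fun z => ⟨s * z.1 * s⁻¹, hnorm' s hsN z.1 z.2⟩
        map_one' := Subtype.ext (by simp)
        map_mul' := fun a b => Subtype.ext (by simp [mul_assoc]) }
    have hfix : MonoidHom.FixedPointFree φ := fun z hz => Subtype.ext <|
      inf_centralizer_of_odd D hCN hnorm' hodd' z.2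
        (show Commute z.1 s from
          (mul_inv_eq_iff_eq_mul.1 (congrArg Subtype.val hz : s * z.1 * s⁻¹ = z.1)).symm)
    have hinvol : Function.Involutive φ := fun z => Subtype.ext <| by
      show s * (s * z.1 * s⁻¹) * s⁻¹ = z.1
      rw [Involutions.Basic.inv_eq hs2, ← mul_assoc, ← mul_assoc, Involutions.Basic.inv_sq_one hs2,
        one_mul, mul_assoc, Involutions.Basic.inv_sq_one hs2, mul_one]
    have hz : x⁻¹ * o * x ∈ O' := by rw [hmem]; simpa [mul_assoc] using ho
    have h := congrArg Subtype.val (congrFun (hfix.coe_eq_inv_of_involutive hinvol) ⟨_, hz⟩)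
    calc x * s * x⁻¹ * o * (x * s * x⁻¹)⁻¹ = x * (s * (x⁻¹ * o * x) * s⁻¹) * x⁻¹ := by group
      _ = x * (x⁻¹ * o * x)⁻¹ * x⁻¹ := by
        rw [show s * (x⁻¹ * o * x) * s⁻¹ = (x⁻¹ * o * x)⁻¹ from h]
      _ = o⁻¹ := by group
  let K : Subgroup X :=
    { carrier := {g | (∀ o ∈ O, g * o * g⁻¹ = o) ∨ ∀ o ∈ O, g * o * g⁻¹ = o⁻¹}
      one_mem' := Or.inl fun o _ => by simp
      mul_mem' := by
        intro a b ha hb
        have e : ∀ o, a * b * o * (a * b)⁻¹ = a * (b * o * b⁻¹) * a⁻¹ := fun o => by group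
        rcases ha with ha | ha <;> rcases hb with hb | hb
        · exact Or.inl fun o ho => by rw [e, hb o ho, ha o ho]
        · exact Or.inr fun o ho => by rw [e, hb o ho, ha _ (inv_mem ho)]
        · exact Or.inr fun o ho => by rw [e, hb o ho, ha o ho]
        · exact Or.inl fun o ho => by rw [e, hb o ho, ha _ (inv_mem ho), inv_inv]
      inv_mem' := by
        rintro a (ha | ha)
        · exact Or.inl fun o ho => by
            conv_lhs => rw [← ha o ho]
            group
        · exact Or.inr fun o ho => by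
            have h1 := ha _ (inv_mem ho)
            rw [inv_inv] at h1
            conv_lhs => rw [← h1]
            group }
  have hCK : centralizer ({s} : Set X) ≤ K := by
    refine hgen.trans ((closure_le K).2 fun g hg => ?_)
    rw [Group.mem_conjugatesOfSet_iff] at hg
    obtain ⟨a, rfl, hc⟩ := hg
    obtain ⟨x, rfl⟩ := isConj_iff.1 hc
    exact Or.inr (hinv x)
  obtain ⟨p, hp, q, hq, hpq⟩ := exists_commutator D
  have hswap : ∀ o ∈ O, p * (q * o * q⁻¹) * p⁻¹ = q * (p * o * p⁻¹) * q⁻¹ := by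
    intro o ho
    rcases hCK hp with ha | ha <;> rcases hCK hq with hb | hb
    · rw [hb o ho, ha o ho, hb o ho]
    · rw [hb o ho, ha o ho, hb o ho, ha _ (inv_mem ho)]
    · rw [hb o ho, ha o ho, hb _ (inv_mem ho)]
    · rw [hb o ho, ha o ho, hb _ (inv_mem ho), ha _ (inv_mem ho)]
  have hcomm : ∀ o ∈ O, s * o * s⁻¹ = o := by
    intro o ho
    have hw : (q * p)⁻¹ * o * (q * p) ∈ O := by
      simpa using hnorm _ (inv_mem (N.mul_mem (hCN hq) (hCN hp))) o ho
    calc s * o * s⁻¹ = (s * (q * p)) * ((q * p)⁻¹ * o * (q * p)) * (s * (q * p))⁻¹ := by group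
      _ = (p * q) * ((q * p)⁻¹ * o * (q * p)) * (p * q)⁻¹ := by rw [hpq]
      _ = p * (q * ((q * p)⁻¹ * o * (q * p)) * q⁻¹) * p⁻¹ := by group
      _ = q * (p * ((q * p)⁻¹ * o * (q * p)) * p⁻¹) * q⁻¹ := hswap _ hw
      _ = o := by group
  refine (Subgroup.eq_bot_iff_forall _).2 fun o ho => ?_
  have h1 := hinv 1 o ho
  simp only [one_mul, inv_one, mul_one] at h1
  rw [hcomm o ho] at h1
  have h2 : orderOf o ∣ 2 := orderOf_dvd_of_pow_eq_one (by rw [pow_two]; nth_rw 1 [h1]; simp)
  have h3 : orderOf o ∣ Nat.card O := by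
    simpa using orderOf_dvd_natCard (⟨o, ho⟩ : O)
  exact orderOf_eq_one_iff.1 (Nat.eq_one_of_dvd_coprimes hodd.coprime_two_right h3 h2)

/-- A non-trivial subgroup normal under a normal subgroup containing the centraliser contains `s`. -/
theorem mem_of_normal (D : Local s) {N : Subgroup X} [N.Normal]
    (hgen : centralizer ({s} : Set X) ≤ normalClosure {s})
    (hCN : centralizer ({s} : Set X) ≤ N) {K : Subgroup X} (_hKN : K ≤ N)
    (hnorm : ∀ n ∈ N, ∀ o ∈ K, n * o * n⁻¹ ∈ K) (hne : K ≠ ⊥) : s ∈ K := by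
  obtain ⟨S, hS, hcard, hmem, hndvd⟩ := D.exists_sylow
  have : Fact (Nat.Prime 2) := ⟨Nat.prime_two⟩
  have heven : 2 ∣ Nat.card K := by
    by_contra h
    exact hne (odd_normal_eq_bot D hgen hCN hnorm (Nat.not_even_iff_odd.1 fun he => h he.two_dvd))
  have hSN : ∀ g ∈ S, g ∈ N := fun g hg => hCN (hS hg)
  have hn : (K.subgroupOf S).Normal :=
    ⟨fun k hk g => hnorm _ (hSN g g.2) _ hk⟩
  have hint : K.subgroupOf S ≠ ⊥ := by
    intro hbot
    apply hndvd
    -- `S` normalises `K` and meets it trivially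
    have hSnorm : S ≤ normalizer (K : Set X) := fun g hg => mem_normalizer_iff.2 fun k =>
      ⟨fun hk => hnorm g (hSN g hg) k hk, fun hk => by
        have := hnorm g⁻¹ (inv_mem (hSN g hg)) _ hk
        simpa [mul_assoc] using this⟩
    have hdis : Disjoint K S := by
      rw [Subgroup.disjoint_def]
      intro g hgK hgS
      have : (⟨g, hgS⟩ : S) ∈ K.subgroupOf S := hgK
      rw [hbot, mem_bot] at this
      exact congrArg Subtype.val this
    have hinj : Function.Injective fun p : K × S => p.1.1 * p.2.1 :=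
      Subgroup.mul_injective_of_disjoint hdis
    have hcardsup : Nat.card ↥(K ⊔ S) = Nat.card K * 64 := by
      rw [← hcard, ← Nat.card_prod]
      refine (Nat.card_congr (Equiv.ofBijective
        (fun p : K × S => (⟨p.1.1 * p.2.1, mul_mem (mem_sup_left p.1.2) (mem_sup_right p.2.2)⟩ : ↥(K ⊔ S)))
        ⟨fun a b h => hinj (congrArg Subtype.val h), fun g => ?_⟩)).symm
      have hg : (g : X) ∈ ((K ⊔ S : Subgroup X) : Set X) := g.2
      rw [Subgroup.coe_mul_of_right_le_normalizer_left K S hSnorm] at hg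
      obtain ⟨a, ha, b, hb, hab⟩ := hg
      exact ⟨(⟨a, ha⟩, ⟨b, hb⟩), Subtype.ext hab⟩
    obtain ⟨c, hc⟩ := heven
    refine (Dvd.intro c ?_).trans (card_subgroup_dvd_card (K ⊔ S))
    rw [hcardsup, hc]; ring
  have hSp : IsPGroup 2 S := IsPGroup.of_card (n := 6) (by rw [hcard]; norm_num)
  have : Group.IsNilpotent S := hSp.isNilpotent
  obtain ⟨g, ⟨hgK, hgZ⟩, hg1⟩ := (K.subgroupOf S ⊓ center S).bot_or_exists_ne_one.resolve_left
    (Cores.inf_center_ne_bot hint)
  obtain ⟨x, hx, hxe⟩ := (hmem g.1).1 g.2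
  obtain ⟨h, -, -, -⟩ := syl_ok
  simp only [Bool.and_eq_true, beq_iff_eq, List.all_eq_true, closedList,
    List.contains_iff_mem] at h
  obtain ⟨⟨⟨hsub, -⟩, -⟩, hsmall⟩ := h
  have hall : syl.all (comm x) = true := by
    rw [List.all_eq_true]
    intro y hy
    rw [← D.commute_iff (hsub x hx) (hsub y hy), hxe]
    exact (congrArg Subtype.val (mem_center_iff.1 hgZ ⟨D.el y, (hmem _).2 ⟨y, hy, rfl⟩⟩)).symm
  have hne' : x ≠ idTab := by
    rintro rfl
    exact hg1 (Subtype.ext (by rw [← hxe, D.el_one]; rfl))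
  have h2 := hsmall x hx
  simp only [Bool.or_eq_true, beq_iff_eq, Bool.not_eq_true', hall] at h2
  obtain rfl : x = zT := by simpa [hne'] using h2
  rw [← D.z_eq, hxe]
  exact hgK

omit [Finite X] in
theorem card_centralizer_map {N : Type*} [Group N] (φ : MulAut N) (a : N) :
    Nat.card (centralizer ({φ a} : Set N)) = Nat.card (centralizer ({a} : Set N)) := by
  refine (Nat.card_congr (Equiv.subtypeEquiv φ.toEquiv fun k => ?_)).symm
  simp only [mem_centralizer_singleton_iff, MulEquiv.toEquiv_eq_coe, EquivLike.coe_coe]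
  rw [← map_mul, ← map_mul]
  exact φ.injective.eq_iff.symm

/-- The group is simple of order 95040. -/
theorem simple_and_card (D : Local s) (hgen : centralizer ({s} : Set X) ≤ normalClosure {s}) :
    IsSimpleGroup X ∧ Nat.card X = 95040 := by
  set N := normalClosure ({s} : Set X) with hNdef
  have hsN : s ∈ N := subset_normalClosure rfl
  have hs1 := Involutions.Basic.ne_one D.orderOf_t
  -- the elements lying in every non-trivial normal subgroup of `N`
  let I : Subgroup X := ⨅ K : {K : Subgroup X // K ≤ N ∧ K ≠ ⊥ ∧ ∀ n ∈ N, ∀ o ∈ K, n * o * n⁻¹ ∈ K}, K.1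
  have hI : I.Normal := ⟨fun a ha x => mem_iInf.2 fun K => by
    obtain ⟨hKN, hne, hnorm⟩ := K.2
    let K' := K.1.map (MulAut.conj x⁻¹).toMonoidHom
    have hmem : ∀ z, z ∈ K' ↔ x * z * x⁻¹ ∈ K.1 := by
      intro z
      simp only [K', mem_map, MulEquiv.coe_toMonoidHom, MulAut.conj_apply]
      constructor
      · rintro ⟨w, hw, rfl⟩; simpa [mul_assoc] using hw
      · exact fun h => ⟨_, h, by group⟩
    refine (hmem a).1 (mem_iInf.1 ha ⟨K', fun z hz => ?_, ?_, fun n hn z hz => ?_⟩)
    · have := Normal.conj_mem (normalClosure_normal) _ (hKN ((hmem z).1 hz)) x⁻¹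
      simpa [mul_assoc] using this
    · rwa [Ne, map_eq_bot_iff_of_injective _ (MulAut.conj x⁻¹).injective]
    · rw [hmem] at hz ⊢
      have := hnorm _ (Normal.conj_mem normalClosure_normal n hn x) _ hz
      simpa [mul_assoc] using this⟩
  have hNI : N ≤ I := normalClosure_le_normal
    (Set.singleton_subset_iff.2 (mem_iInf.2 fun K => mem_of_normal D hgen hgen K.2.1 K.2.2.2 K.2.2.1))
  have : Nontrivial N := ⟨⟨⟨s, hsN⟩, 1, fun h => hs1 (congrArg Subtype.val h)⟩⟩
  have hsimple : IsSimpleGroup N := ⟨fun K hK => by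
    by_contra hcon
    push Not at hcon
    refine hcon.2 (top_le_iff.1 fun n _ => ?_)
    have hmap : K.map N.subtype ≠ ⊥ := by
      rw [Ne, map_eq_bot_iff_of_injective _ N.subtype_injective]; exact hcon.1
    have := mem_iInf.1 (hNI n.2) ⟨K.map N.subtype, map_subtype_le K, hmap, fun m hm o ho => by
      obtain ⟨o, ho, rfl⟩ := ho
      exact ⟨⟨m, hm⟩ * o * ⟨m, hm⟩⁻¹, hK.conj_mem o ho _, rfl⟩⟩
    obtain ⟨n', hn', e⟩ := this
    rwa [← Subtype.ext e]⟩
  let s' : N := ⟨s, hsN⟩
  let φ : centralizer ({s'} : Set N) ≃* centralizer ({s} : Set X) :=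
    { toFun := fun g => ⟨g.1.1, mem_centralizer_singleton_iff.2
        (congrArg Subtype.val (mem_centralizer_singleton_iff.1 g.2))⟩
      invFun := fun g => ⟨⟨g.1, hgen g.2⟩, mem_centralizer_singleton_iff.2
        (Subtype.ext (mem_centralizer_singleton_iff.1 g.2))⟩
      left_inv := fun _ => rfl
      right_inv := fun _ => rfl
      map_mul' := fun _ _ => rfl }
  let D' : Local s' := D.transport (s := s') (by rw [← Subgroup.orderOf_coe]; exact D.orderOf_t) φ
  have hna : ¬ IsMulCommutative N := by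
    intro h
    obtain ⟨p, hp, q, hq, hpq⟩ := exists_commutator D
    have e := congrArg Subtype.val (h.is_comm.comm (⟨p, hgen hp⟩ : N) ⟨q, hgen hq⟩)
    simp only [Subgroup.coe_mul] at e
    rw [hpq, mul_eq_right] at e
    exact hs1 e
  have hNX : N = ⊤ := by
    refine top_le_iff.1 fun x _ => ?_
    let σ : MulAut N := MulAut.conjNormal x
    have ho : orderOf (σ s') = 2 := by
      rw [MulEquiv.orderOf_eq]; exact D'.orderOf_t
    have hc : Nat.card (centralizer ({σ s'} : Set N)) = 192 :=
      (card_centralizer_map σ s').trans D'.card_centralizer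
    rcases D'.two_classes hna (σ s') ho with h | h
    · obtain ⟨n, hn⟩ := isConj_iff.1 h
      have e : n.1 * s * (n.1)⁻¹ = x * s * x⁻¹ := congrArg Subtype.val hn
      have hmem : n.1⁻¹ * x ∈ centralizer ({s} : Set X) := mem_centralizer_singleton_iff.2 <| by
        calc n.1⁻¹ * x * s = n.1⁻¹ * (x * s * x⁻¹) * x := by group
          _ = n.1⁻¹ * (n.1 * s * n.1⁻¹) * x := by rw [e]
          _ = s * (n.1⁻¹ * x) := by group
      simpa using N.mul_mem n.2 (hgen hmem)
    · rw [← M12Central.Local.card_centralizer_conj h] at hc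
      rcases D'.centB_count hna with ⟨h1, -⟩ | ⟨h1, -⟩ <;> omega
  have hc := D'.card_eq hna
  have e : N ≃* X := (MulEquiv.subgroupCongr hNX).trans Subgroup.topEquiv
  exact ⟨e.isSimpleGroup_congr.1 hsimple, (Nat.card_congr e.toEquiv).symm.trans hc⟩

end Cfsg.Agent.Co3Type
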