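import Cfsg.Agent.Lib.CosetCert.Check

/-!
Generated data on the involutions of the double cover of `Sp₆(2)`.
Produced by a search outside Lean; every entry is checked where it is used.
-/

set_option autoImplicit false
set_option maxRecDepth 100000

namespace Cfsg.Agent.Co3Type.Data

open Cfsg.Agent.CosetCert (Tree)

/-- The code of the second class representative. -/
def bC : ℕ := 2128187

/-- A square root of the central involution commuting with it. -/
def rootC : ℕ := 843106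

/-- The code of the element inverting `c`. -/
def sC : ℕ := 231843

/-- A Sylow 2-subgroup. -/
def sylT : Tree :=
  (.node 512 (.node 256 (.node 128 (.node 64 (.node 32 (.node 16 (.node 8 (.node 4 (.node 2 (.node 1 (.leaf
  0) (.leaf
  1326780)) (.node 1 (.leaf
  54810) (.leaf
  1428840))) (.node 2 (.node 1 (.leaf
  2142633) (.leaf
  138600)) (.node 1 (.leaf
  91980) (.leaf
  1360170)))) (.node 4 (.node 2 (.node 1 (.leaf
  73080) (.leaf
  359103)) (.node 1 (.leaf
  1434510) (.leaf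
  1389150))) (.node 2 (.node 1 (.leaf
  1367730) (.leaf
  2229573)) (.node 1 (.leaf
  86310) (.leaf
  143640))))) (.node 8 (.node 4 (.node 2 (.node 1 (.leaf
  1377810) (.leaf
  466203)) (.node 1 (.leaf
  1290240) (.leaf
  386193))) (.node 2 (.node 1 (.leaf
  2116173) (.leaf
  439113)) (.node 1 (.leaf
  71820) (.leaf
  2205003)))) (.node 4 (.node 2 (.node 1 (.leaf
  1370880) (.leaf
  87570)) (.node 1 (.leaf
  1355130) (.leaf
  2240913))) (.node 2 (.node 1 (.leaf
  1396080) (.leaf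
  123480)) (.node 1 (.leaf
  1338120) (.leaf
  2225163)))))) (.node 16 (.node 8 (.node 4 (.node 2 (.node 1 (.leaf
  49140) (.leaf
  33390)) (.node 1 (.leaf
  132930) (.leaf
  424623))) (.node 2 (.node 1 (.leaf
  1402380) (.leaf
  20160)) (.node 1 (.leaf
  2108613) (.leaf
  107730)))) (.node 4 (.node 2 (.node 1 (.leaf
  2188623) (.leaf
  392493)) (.node 1 (.leaf
  2146413) (.leaf
  1335600))) (.node 2 (.node 1 (.leaf
  461793) (.leaf
  27090)) (.node 1 (.leaf
  1401120) (.leaf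
  128520))))) (.node 8 (.node 4 (.node 2 (.node 1 (.leaf
  415803) (.leaf
  125370)) (.node 1 (.leaf
  1418130) (.leaf
  471873))) (.node 2 (.node 1 (.leaf
  1331190) (.leaf
  112140)) (.node 1 (.leaf
  1319850) (.leaf
  354693)))) (.node 4 (.node 2 (.node 1 (.leaf
  1393560) (.leaf
  434703)) (.node 1 (.leaf
  2179803) (.leaf
  391863))) (.node 2 (.node 1 (.leaf
  22680) (.leaf
  2129403)) (.node 1 (.leaf
  1312920) (.leaf
  139860))))))) (.node 32 (.node 16 (.node 8 (.node 4 (.node 2 (.node 1 (.leaf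
  1413090) (.leaf
  2174763)) (.node 1 (.leaf
  1338750) (.leaf
  111510))) (.node 2 (.node 1 (.leaf
  1396710) (.leaf
  2189883)) (.node 1 (.leaf
  37170) (.leaf
  40950)))) (.node 4 (.node 2 (.node 1 (.leaf
  103950) (.leaf
  402573)) (.node 1 (.leaf
  1343790) (.leaf
  2222643))) (.node 2 (.node 1 (.leaf
  434073) (.leaf
  2111133)) (.node 1 (.leaf
  1398600) (.leaf
  323193))))) (.node 8 (.node 4 (.node 2 (.node 1 (.leaf
  57960) (.leaf
  1345050)) (.node 1 (.leaf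
  116550) (.leaf
  367923))) (.node 2 (.node 1 (.leaf
  2226423) (.leaf
  352803)) (.node 1 (.leaf
  2107353) (.leaf
  1409310)))) (.node 4 (.node 2 (.node 1 (.leaf
  405093) (.leaf
  479433)) (.node 1 (.leaf
  345873) (.leaf
  2254773))) (.node 2 (.node 1 (.leaf
  471243) (.leaf
  1345680)) (.node 1 (.leaf
  381153) (.leaf
  1426950)))))) (.node 16 (.node 8 (.node 4 (.node 2 (.node 1 (.leaf
  23940) (.leaf
  1329930)) (.node 1 (.leaf
  2097273) (.leaf
  108990))) (.node 2 (.node 1 (.leaf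
  2252883) (.leaf
  322563)) (.node 1 (.leaf
  48510) (.leaf
  1425690)))) (.node 4 (.node 2 (.node 1 (.leaf
  106470) (.leaf
  371073)) (.node 1 (.leaf
  1349460) (.leaf
  1314180))) (.node 2 (.node 1 (.leaf
  1411830) (.leaf
  2176023)) (.node 1 (.leaf
  53550) (.leaf
  36540))))) (.node 8 (.node 4 (.node 2 (.node 1 (.leaf
  1321740) (.leaf
  413283)) (.node 1 (.leaf
  1407420) (.leaf
  333273))) (.node 2 (.node 1 (.leaf
  2207523) (.leaf
  452343)) (.node 1 (.leaf
  108360) (.leaf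
  2096643)))) (.node 4 (.node 2 (.node 1 (.leaf
  630) (.leaf
  1449000)) (.node 1 (.leaf
  144270) (.leaf
  442263))) (.node 2 (.node 1 (.leaf
  1365210) (.leaf
  1298430)) (.node 1 (.leaf
  1437030) (.leaf
  2150193)))))))) (.node 64 (.node 32 (.node 16 (.node 8 (.node 4 (.node 2 (.node 1 (.leaf
  16380) (.leaf
  1306620)) (.node 1 (.leaf
  384303) (.leaf
  1380960))) (.node 2 (.node 1 (.leaf
  465573) (.leaf
  2193663)) (.node 1 (.leaf
  360993) (.leaf
  143010)))) (.node 4 (.node 2 (.node 1 (.leaf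
  2123103) (.leaf
  1300320)) (.node 1 (.leaf
  15120) (.leaf
  1444590))) (.node 2 (.node 1 (.leaf
  2157753) (.leaf
  1450890)) (.node 1 (.leaf
  60480) (.leaf
  2111763))))) (.node 8 (.node 4 (.node 2 (.node 1 (.leaf
  147420) (.leaf
  1375920)) (.node 1 (.leaf
  83160) (.leaf
  2222013))) (.node 2 (.node 1 (.leaf
  9450) (.leaf
  2140743)) (.node 1 (.leaf
  477543) (.leaf
  2194293)))) (.node 4 (.node 2 (.node 1 (.leaf
  1307880) (.leaf
  367293)) (.node 1 (.leaf
  90090) (.leaf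
  1435770))) (.node 2 (.node 1 (.leaf
  65520) (.leaf
  332013)) (.node 1 (.leaf
  2182953) (.leaf
  159390)))))) (.node 16 (.node 8 (.node 4 (.node 2 (.node 1 (.leaf
  440373) (.leaf
  2140113)) (.node 1 (.leaf
  387453) (.leaf
  4410))) (.node 2 (.node 1 (.leaf
  2252253) (.leaf
  1353870)) (.node 1 (.leaf
  160650) (.leaf
  1372140)))) (.node 4 (.node 2 (.node 1 (.leaf
  2215083) (.leaf
  441003)) (.node 1 (.leaf
  2220123) (.leaf
  383043))) (.node 2 (.node 1 (.leaf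
  14490) (.leaf
  2170353)) (.node 1 (.leaf
  2106093) (.leaf
  2228943))))) (.node 8 (.node 4 (.node 2 (.node 1 (.leaf
  408873) (.leaf
  2112393)) (.node 1 (.leaf
  152460) (.leaf
  2203743))) (.node 2 (.node 1 (.leaf
  72450) (.leaf
  1309140)) (.node 1 (.leaf
  93870) (.leaf
  394383)))) (.node 4 (.node 2 (.node 1 (.leaf
  1383480) (.leaf
  409503)) (.node 1 (.leaf
  2251623) (.leaf
  1363320))) (.node 2 (.node 1 (.leaf
  80010) (.leaf
  1382220)) (.node 1 (.leaf
  2213193) (.leaf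
  154980))))))) (.node 32 (.node 16 (.node 8 (.node 4 (.node 2 (.node 1 (.leaf
  88830) (.leaf
  66780)) (.node 1 (.leaf
  330753) (.leaf
  1358910))) (.node 2 (.node 1 (.leaf
  1290870) (.leaf
  97020)) (.node 1 (.leaf
  2160273) (.leaf
  11340)))) (.node 4 (.node 2 (.node 1 (.leaf
  2240283) (.leaf
  444783)) (.node 1 (.leaf
  2133183) (.leaf
  1384110))) (.node 2 (.node 1 (.leaf
  395013) (.leaf
  1299060)) (.node 1 (.leaf
  91350) (.leaf
  1437660))))) (.node 8 (.node 4 (.node 2 (.node 1 (.leaf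
  2150823) (.leaf
  15750)) (.node 1 (.leaf
  61110) (.leaf
  84420))) (.node 2 (.node 1 (.leaf
  396903) (.leaf
  1303470)) (.node 1 (.leaf
  2101683) (.leaf
  438483)))) (.node 4 (.node 2 (.node 1 (.leaf
  2230833) (.leaf
  1438920)) (.node 1 (.leaf
  327603) (.leaf
  78750))) (.node 2 (.node 1 (.leaf
  1304730) (.leaf
  97650)) (.node 1 (.leaf
  363513) (.leaf
  1438290)))))) (.node 16 (.node 8 (.node 4 (.node 2 (.node 1 (.leaf
  145530) (.leaf
  1299690)) (.node 1 (.leaf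
  2105463) (.leaf
  69930))) (.node 2 (.node 1 (.leaf
  13860) (.leaf
  153090)) (.node 1 (.leaf
  430293) (.leaf
  1442700)))) (.node 4 (.node 2 (.node 1 (.leaf
  2148303) (.leaf
  386823)) (.node 1 (.leaf
  2185473) (.leaf
  1295280))) (.node 2 (.node 1 (.leaf
  456123) (.leaf
  5670)) (.node 1 (.leaf
  1441440) (.leaf
  149310))))) (.node 8 (.node 4 (.node 2 (.node 1 (.leaf
  421473) (.leaf
  2149563)) (.node 1 (.leaf
  468093) (.leaf
  2184213))) (.node 2 (.node 1 (.leaf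
  1305360) (.leaf
  376743)) (.node 1 (.leaf
  351543) (.leaf
  475023)))) (.node 4 (.node 2 (.node 1 (.leaf
  2158383) (.leaf
  359733)) (.node 1 (.leaf
  1449630) (.leaf
  408243))) (.node 2 (.node 1 (.leaf
  1368360) (.leaf
  70560)) (.node 1 (.leaf
  1387260) (.leaf
  156870))))))))) (.node 128 (.node 64 (.node 32 (.node 16 (.node 8 (.node 4 (.node 2 (.node 1 (.leaf
  456753) (.leaf
  1360800)) (.node 1 (.leaf
  420213) (.leaf
  1447110))) (.node 2 (.node 1 (.leaf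
  2242173) (.leaf
  1260)) (.node 1 (.leaf
  69300) (.leaf
  366663)))) (.node 4 (.node 2 (.node 1 (.leaf
  1308510) (.leaf
  447933)) (.node 1 (.leaf
  2121843) (.leaf
  337683))) (.node 2 (.node 1 (.leaf
  156240) (.leaf
  73710)) (.node 1 (.leaf
  1307250) (.leaf
  92610))))) (.node 8 (.node 4 (.node 2 (.node 1 (.leaf
  384933) (.leaf
  1381590)) (.node 1 (.leaf
  1436400) (.leaf
  1297800))) (.node 2 (.node 1 (.leaf
  2104833) (.leaf
  68040)) (.node 1 (.leaf
  442893) (.leaf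
  1364580)))) (.node 4 (.node 2 (.node 1 (.leaf
  361623) (.leaf
  2218863)) (.node 1 (.leaf
  463683) (.leaf
  93240))) (.node 2 (.node 1 (.leaf
  2169093) (.leaf
  1445220)) (.node 1 (.leaf
  1302210) (.leaf
  2136963)))))) (.node 16 (.node 8 (.node 4 (.node 2 (.node 1 (.leaf
  98910) (.leaf
  1358280)) (.node 1 (.leaf
  151830) (.leaf
  2195553))) (.node 2 (.node 1 (.leaf
  76860) (.leaf
  2114283)) (.node 1 (.leaf
  349653) (.leaf
  2219493)))) (.node 4 (.node 2 (.node 1 (.leaf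
  1447740) (.leaf
  418323)) (.node 1 (.leaf
  157500) (.leaf
  1291500))) (.node 2 (.node 1 (.leaf
  19530) (.leaf
  453603)) (.node 1 (.leaf
  383673) (.leaf
  2196183))))) (.node 8 (.node 4 (.node 2 (.node 1 (.leaf
  441633) (.leaf
  2125623)) (.node 1 (.leaf
  2151453) (.leaf
  2182323))) (.node 2 (.node 1 (.leaf
  376113) (.leaf
  2137593)) (.node 1 (.leaf
  85050) (.leaf
  2249733)))) (.node 4 (.node 2 (.node 1 (.leaf
  3780) (.leaf
  1446480)) (.node 1 (.leaf
  142380) (.leaf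
  430923))) (.node 2 (.node 1 (.leaf
  1362690) (.leaf
  2205633)) (.node 1 (.leaf
  6930) (.leaf
  2239023))))))) (.node 32 (.node 16 (.node 8 (.node 4 (.node 2 (.node 1 (.leaf
  81900) (.leaf
  18270)) (.node 1 (.leaf
  454863) (.leaf
  1376550))) (.node 2 (.node 1 (.leaf
  1433880) (.leaf
  148680)) (.node 1 (.leaf
  2134443) (.leaf
  63000)))) (.node 4 (.node 2 (.node 1 (.leaf
  2215713) (.leaf
  341463)) (.node 1 (.leaf
  1362060) (.leaf
  431553))) (.node 2 (.node 1 (.leaf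
  464313) (.leaf
  2192403)) (.node 1 (.leaf
  362253) (.leaf
  141750))))) (.node 8 (.node 4 (.node 2 (.node 1 (.leaf
  2147673) (.leaf
  2186103)) (.node 1 (.leaf
  1297170) (.leaf
  458013))) (.node 2 (.node 1 (.leaf
  2141373) (.leaf
  3150)) (.node 1 (.leaf
  2250993) (.leaf
  62370)))) (.node 4 (.node 2 (.node 1 (.leaf
  352173) (.leaf
  1350720)) (.node 1 (.leaf
  2204373) (.leaf
  1357650))) (.node 2 (.node 1 (.leaf
  340833) (.leaf
  2217603)) (.node 1 (.leaf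
  393753) (.leaf
  1378440)))))) (.node 16 (.node 8 (.node 4 (.node 2 (.node 1 (.leaf
  445413) (.leaf
  364773)) (.node 1 (.leaf
  2206893) (.leaf
  422103))) (.node 2 (.node 1 (.leaf
  2102313) (.leaf
  2230203)) (.node 1 (.leaf
  1439550) (.leaf
  328233)))) (.node 4 (.node 2 (.node 1 (.leaf
  475653) (.leaf
  1374660)) (.node 1 (.leaf
  2124363) (.leaf
  328863))) (.node 2 (.node 1 (.leaf
  2247843) (.leaf
  1445850)) (.node 1 (.leaf
  1379700) (.leaf
  476283))))) (.node 8 (.node 4 (.node 2 (.node 1 (.leaf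
  1293390) (.leaf
  1369620)) (.node 1 (.leaf
  1386000) (.leaf
  158130))) (.node 2 (.node 1 (.leaf
  1357020) (.leaf
  347763)) (.node 1 (.leaf
  1431360) (.leaf
  429033)))) (.node 4 (.node 2 (.node 1 (.leaf
  397533) (.leaf
  1375290)) (.node 1 (.leaf
  362883) (.leaf
  67410))) (.node 2 (.node 1 (.leaf
  2168463) (.leaf
  377373)) (.node 1 (.leaf
  466833) (.leaf
  17010)))))))) (.node 64 (.node 32 (.node 16 (.node 8 (.node 4 (.node 2 (.node 1 (.leaf
  146160) (.leaf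
  7560)) (.node 1 (.leaf
  2216343) (.leaf
  74340))) (.node 2 (.node 1 (.leaf
  2136333) (.leaf
  339573)) (.node 1 (.leaf
  2238393) (.leaf
  1442070)))) (.node 4 (.node 2 (.node 1 (.leaf
  428403) (.leaf
  1295910)) (.node 1 (.leaf
  11970) (.leaf
  418953))) (.node 2 (.node 1 (.leaf
  1448370) (.leaf
  1385370)) (.node 1 (.leaf
  365403) (.leaf
  1309770))))) (.node 8 (.node 4 (.node 2 (.node 1 (.leaf
  446673) (.leaf
  338943)) (.node 1 (.leaf
  2193033) (.leaf
  1390410))) (.node 2 (.node 1 (.leaf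
  1366470) (.leaf
  2228313)) (.node 1 (.leaf
  1301580) (.leaf
  2133813)))) (.node 4 (.node 2 (.node 1 (.leaf
  77490) (.leaf
  2159643)) (.node 1 (.leaf
  447303) (.leaf
  2212563))) (.node 2 (.node 1 (.leaf
  1302840) (.leaf
  80640)) (.node 1 (.leaf
  1440810) (.leaf
  64890)))))) (.node 16 (.node 8 (.node 4 (.node 2 (.node 1 (.leaf
  2157123) (.leaf
  1292760)) (.node 1 (.leaf
  476913) (.leaf
  412023))) (.node 2 (.node 1 (.leaf
  373593) (.leaf
  1351350)) (.node 1 (.leaf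
  1327410) (.leaf
  54180)))) (.node 4 (.node 2 (.node 1 (.leaf
  1429470) (.leaf
  2142003)) (.node 1 (.leaf
  139230) (.leaf
  103320))) (.node 2 (.node 1 (.leaf
  40320) (.leaf
  1311030)) (.node 1 (.leaf
  110880) (.leaf
  2190513))))) (.node 8 (.node 4 (.node 2 (.node 1 (.leaf
  2109243) (.leaf
  470613)) (.node 1 (.leaf
  2224533) (.leaf
  379263))) (.node 2 (.node 1 (.leaf
  117180) (.leaf
  1312290)) (.node 1 (.leaf
  59850) (.leaf
  1346940)))) (.node 4 (.node 2 (.node 1 (.leaf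
  388713) (.leaf
  1421910)) (.node 1 (.leaf
  22050) (.leaf
  1408680))) (.node 2 (.node 1 (.leaf
  436593) (.leaf
  1324260)) (.node 1 (.leaf
  355323) (.leaf
  2097903))))))) (.node 32 (.node 16 (.node 8 (.node 4 (.node 2 (.node 1 (.leaf
  469983) (.leaf
  113400)) (.node 1 (.leaf
  2208153) (.leaf
  1404900))) (.node 2 (.node 1 (.leaf
  47880) (.leaf
  1342530)) (.node 1 (.leaf
  480063) (.leaf
  1413720)))) (.node 4 (.node 2 (.node 1 (.leaf
  2145153) (.leaf
  357213)) (.node 1 (.leaf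
  2187363) (.leaf
  405723))) (.node 2 (.node 1 (.leaf
  129780) (.leaf
  1414980)) (.node 1 (.leaf
  25830) (.leaf
  452973))))) (.node 8 (.node 4 (.node 2 (.node 1 (.leaf
  2143263) (.leaf
  437223)) (.node 1 (.leaf
  2191773) (.leaf
  326343))) (.node 2 (.node 1 (.leaf
  401313) (.leaf
  425253)) (.node 1 (.leaf
  2175393) (.leaf
  388083)))) (.node 4 (.node 2 (.node 1 (.leaf
  1416240) (.leaf
  459903)) (.node 1 (.leaf
  1336230) (.leaf
  114660))) (.node 2 (.node 1 (.leaf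
  1399230) (.leaf
  2181063)) (.node 1 (.leaf
  37800) (.leaf
  406353)))))) (.node 16 (.node 8 (.node 4 (.node 2 (.node 1 (.leaf
  1334340) (.leaf
  35280)) (.node 1 (.leaf
  450453) (.leaf
  1420020))) (.node 2 (.node 1 (.leaf
  1403640) (.leaf
  1341270)) (.node 1 (.leaf
  2253513) (.leaf
  124740)))) (.node 4 (.node 2 (.node 1 (.leaf
  107100) (.leaf
  1391670)) (.node 1 (.leaf
  335163) (.leaf
  1315440))) (.node 2 (.node 1 (.leaf
  416433) (.leaf
  38430)) (.node 1 (.leaf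
  2181693) (.leaf
  105210))))) (.node 8 (.node 4 (.node 2 (.node 1 (.leaf
  1397970) (.leaf
  42210)) (.node 1 (.leaf
  346503) (.leaf
  1311660))) (.node 2 (.node 1 (.leaf
  1347570) (.leaf
  1409940)) (.node 1 (.leaf
  2178543) (.leaf
  119070)))) (.node 4 (.node 2 (.node 1 (.leaf
  400053) (.leaf
  2145783)) (.node 1 (.leaf
  426513) (.leaf
  44730))) (.node 2 (.node 1 (.leaf
  2255403) (.leaf
  1333080)) (.node 1 (.leaf
  120330) (.leaf
  1391040)))))))))) (.node 256 (.node 128 (.node 64 (.node 32 (.node 16 (.node 8 (.node 4 (.node 2 (.node 1 (.leaf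
  2211933) (.leaf
  41580)) (.node 1 (.leaf
  1430730) (.leaf
  104580))) (.node 2 (.node 1 (.leaf
  400683) (.leaf
  1344420)) (.node 1 (.leaf
  1319220) (.leaf
  1416870)))) (.node 4 (.node 2 (.node 1 (.leaf
  2155863) (.leaf
  56700)) (.node 1 (.leaf
  344613) (.leaf
  2187993))) (.node 2 (.node 1 (.leaf
  483213) (.leaf
  102690)) (.node 1 (.leaf
  2117433) (.leaf
  55440))))) (.node 8 (.node 4 (.node 2 (.node 1 (.leaf
  1423800) (.leaf
  2163423)) (.node 1 (.leaf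
  345243) (.leaf
  2106723))) (.node 2 (.node 1 (.leaf
  478803) (.leaf
  2199333)) (.node 1 (.leaf
  2234613) (.leaf
  2100423)))) (.node 4 (.node 2 (.node 1 (.leaf
  333903) (.leaf
  2225793)) (.node 1 (.leaf
  134820) (.leaf
  1336860))) (.node 2 (.node 1 (.leaf
  30240) (.leaf
  1412460)) (.node 1 (.leaf
  2116803) (.leaf
  136080)))))) (.node 16 (.node 8 (.node 4 (.node 2 (.node 1 (.leaf
  2164683) (.leaf
  51030)) (.node 1 (.leaf
  417063) (.leaf
  1325520))) (.node 2 (.node 1 (.leaf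
  114030) (.leaf
  2127513)) (.node 1 (.leaf
  378003) (.leaf
  2247213)))) (.node 4 (.node 2 (.node 1 (.leaf
  390603) (.leaf
  2236503)) (.node 1 (.leaf
  433443) (.leaf
  51660))) (.node 2 (.node 1 (.leaf
  2166573) (.leaf
  2119953)) (.node 1 (.leaf
  2191143) (.leaf
  472503))))) (.node 8 (.node 4 (.node 2 (.node 1 (.leaf
  2143893) (.leaf
  382413)) (.node 1 (.leaf
  347133) (.leaf
  480693))) (.node 2 (.node 1 (.leaf
  2197443) (.leaf
  354063)) (.node 1 (.leaf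
  1410570) (.leaf
  403833)))) (.node 4 (.node 2 (.node 1 (.leaf
  1329300) (.leaf
  50400)) (.node 1 (.leaf
  1426320) (.leaf
  2152713))) (.node 2 (.node 1 (.leaf
  137970) (.leaf
  461163)) (.node 1 (.leaf
  1320480) (.leaf
  414543))))))) (.node 32 (.node 16 (.node 8 (.node 4 (.node 2 (.node 1 (.leaf
  1406160) (.leaf
  2121213)) (.node 1 (.leaf
  21420) (.leaf
  49770))) (.node 2 (.node 1 (.leaf
  1424430) (.leaf
  372333)) (.node 1 (.leaf
  1348200) (.leaf
  2243433)))) (.node 4 (.node 2 (.node 1 (.leaf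
  137340) (.leaf
  2152083)) (.node 1 (.leaf
  2110503) (.leaf
  469353))) (.node 2 (.node 1 (.leaf
  2223273) (.leaf
  1428210)) (.node 1 (.leaf
  342723) (.leaf
  481323))))) (.node 8 (.node 4 (.node 2 (.node 1 (.leaf
  100800) (.leaf
  2118063)) (.node 1 (.leaf
  355953) (.leaf
  1328670))) (.node 2 (.node 1 (.leaf
  406983) (.leaf
  1346310)) (.node 1 (.leaf
  2233983) (.leaf
  126630)))) (.node 4 (.node 2 (.node 1 (.leaf
  460533) (.leaf
  122220)) (.node 1 (.leaf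
  2244063) (.leaf
  435333))) (.node 2 (.node 1 (.leaf
  2180433) (.leaf
  23310)) (.node 1 (.leaf
  2130033) (.leaf
  2210673)))))) (.node 16 (.node 8 (.node 4 (.node 2 (.node 1 (.leaf
  462423) (.leaf
  2162793)) (.node 1 (.leaf
  399423) (.leaf
  425883))) (.node 2 (.node 1 (.leaf
  44100) (.leaf
  2256033)) (.node 1 (.leaf
  2101053) (.leaf
  29610)))) (.node 4 (.node 2 (.node 1 (.leaf
  2256663) (.leaf
  404463)) (.node 1 (.leaf
  58590) (.leaf
  24570))) (.node 2 (.node 1 (.leaf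
  133560) (.leaf
  31500)) (.node 1 (.leaf
  1411200) (.leaf
  122850))))) (.node 8 (.node 4 (.node 2 (.node 1 (.leaf
  2235873) (.leaf
  45990)) (.node 1 (.leaf
  2154603) (.leaf
  2179173))) (.node 2 (.node 1 (.leaf
  28980) (.leaf
  2211303)) (.node 1 (.leaf
  1340640) (.leaf
  2198703)))) (.node 4 (.node 2 (.node 1 (.leaf
  2107983) (.leaf
  1310400)) (.node 1 (.leaf
  1423170) (.leaf
  1323630))) (.node 2 (.node 1 (.leaf
  451713) (.leaf
  1339380)) (.node 1 (.leaf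
  370443) (.leaf
  2245323)))))))) (.node 64 (.node 32 (.node 16 (.node 8 (.node 4 (.node 2 (.node 1 (.leaf
  413913) (.leaf
  56070)) (.node 1 (.leaf
  2155233) (.leaf
  102060))) (.node 2 (.node 1 (.leaf
  1316070) (.leaf
  2165943)) (.node 1 (.leaf
  52290) (.leaf
  39690)))) (.node 4 (.node 2 (.node 1 (.leaf
  2208783) (.leaf
  115290)) (.node 1 (.leaf
  2128773) (.leaf
  2245953))) (.node 2 (.node 1 (.leaf
  468723) (.leaf
  34650)) (.node 1 (.leaf
  131670) (.leaf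
  423363))))) (.node 8 (.node 4 (.node 2 (.node 1 (.leaf
  115920) (.leaf
  368553)) (.node 1 (.leaf
  1330560) (.leaf
  335793))) (.node 2 (.node 1 (.leaf
  2126883) (.leaf
  449823)) (.node 1 (.leaf
  118440) (.leaf
  42840)))) (.node 4 (.node 2 (.node 1 (.leaf
  1350090) (.leaf
  332643)) (.node 1 (.leaf
  2173503) (.leaf
  2199963))) (.node 2 (.node 1 (.leaf
  126000) (.leaf
  112770)) (.node 1 (.leaf
  389343) (.leaf
  1422540)))))) (.node 16 (.node 8 (.node 4 (.node 2 (.node 1 (.leaf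
  1340010) (.leaf
  2227053)) (.node 1 (.leaf
  1404270) (.leaf
  32760))) (.node 2 (.node 1 (.leaf
  1317960) (.leaf
  343983)) (.node 1 (.leaf
  1408050) (.leaf
  1332450)))) (.node 4 (.node 2 (.node 1 (.leaf
  39060) (.leaf
  459273)) (.node 1 (.leaf
  2156493) (.leaf
  435963))) (.node 2 (.node 1 (.leaf
  380523) (.leaf
  2128143)) (.node 1 (.leaf
  1406790) (.leaf
  1322370))))) (.node 8 (.node 4 (.node 2 (.node 1 (.leaf
  1324890) (.leaf
  1394190)) (.node 1 (.leaf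
  129150) (.leaf
  337053))) (.node 2 (.node 1 (.leaf
  20790) (.leaf
  437853)) (.node 1 (.leaf
  1323000) (.leaf
  1397340)))) (.node 4 (.node 2 (.node 1 (.leaf
  389973) (.leaf
  2244693)) (.node 1 (.leaf
  1348830) (.leaf
  371703))) (.node 2 (.node 1 (.leaf
  109620) (.leaf
  1394820)) (.node 1 (.leaf
  46620) (.leaf
  2099793))))))) (.node 32 (.node 16 (.node 8 (.node 4 (.node 2 (.node 1 (.leaf
  403203) (.leaf
  132300)) (.node 1 (.leaf
  2164053) (.leaf
  59220))) (.node 2 (.node 1 (.leaf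
  2174133) (.leaf
  134190)) (.node 1 (.leaf
  45360) (.leaf
  325083)))) (.node 4 (.node 2 (.node 1 (.leaf
  1318590) (.leaf
  2200593)) (.node 1 (.leaf
  2119323) (.leaf
  2098533))) (.node 2 (.node 1 (.leaf
  1400490) (.leaf
  323823)) (.node 1 (.leaf
  2235243) (.leaf
  2165313))))) (.node 8 (.node 4 (.node 2 (.node 1 (.leaf
  1419390) (.leaf
  448563)) (.node 1 (.leaf
  2153973) (.leaf
  427143))) (.node 2 (.node 1 (.leaf
  1316700) (.leaf
  336423)) (.node 1 (.leaf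
  2131293) (.leaf
  369813)))) (.node 4 (.node 2 (.node 1 (.leaf
  2189253) (.leaf
  2210043)) (.node 1 (.leaf
  463053) (.leaf
  2162163))) (.node 2 (.node 1 (.leaf
  1341900) (.leaf
  1392930)) (.node 1 (.leaf
  110250) (.leaf
  1418760)))))) (.node 16 (.node 8 (.node 4 (.node 2 (.node 1 (.leaf
  119700) (.leaf
  57330)) (.node 1 (.leaf
  2201223) (.leaf
  2172243))) (.node 2 (.node 1 (.leaf
  334533) (.leaf
  451083)) (.node 1 (.leaf
  1430100) (.leaf
  1405530)))) (.node 4 (.node 2 (.node 1 (.leaf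
  1403010) (.leaf
  135450)) (.node 1 (.leaf
  1337490) (.leaf
  30870))) (.node 2 (.node 1 (.leaf
  1392300) (.leaf
  343353)) (.node 1 (.leaf
  407613) (.leaf
  1415610))))) (.node 8 (.node 4 (.node 2 (.node 1 (.leaf
  1414350) (.leaf
  124110)) (.node 1 (.leaf
  2144523) (.leaf
  356583))) (.node 2 (.node 1 (.leaf
  130410) (.leaf
  25200)) (.node 1 (.leaf
  52920) (.leaf
  1421280)))) (.node 4 (.node 2 (.node 1 (.leaf
  2153343) (.leaf
  120960)) (.node 1 (.leaf
  2242803) (.leaf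
  35910))) (.node 2 (.node 1 (.leaf
  2109873) (.leaf
  2223903)) (.node 1 (.leaf
  379893) (.leaf
  117810))))))))) (.node 128 (.node 64 (.node 32 (.node 16 (.node 8 (.node 4 (.node 2 (.node 1 (.leaf
  401943) (.leaf
  325713)) (.node 1 (.leaf
  1317330) (.leaf
  1333710))) (.node 2 (.node 1 (.leaf
  127890) (.leaf
  34020)) (.node 1 (.leaf
  1326150) (.leaf
  131040)))) (.node 4 (.node 2 (.node 1 (.leaf
  423993) (.leaf
  1401750)) (.node 1 (.leaf
  1417500) (.leaf
  2099163))) (.node 2 (.node 1 (.leaf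
  27720) (.leaf
  482583)) (.node 1 (.leaf
  101430) (.leaf
  1399860))))) (.node 8 (.node 4 (.node 2 (.node 1 (.leaf
  43470) (.leaf
  1314810)) (.node 1 (.leaf
  369183) (.leaf
  121590))) (.node 2 (.node 1 (.leaf
  1328040) (.leaf
  481953)) (.node 1 (.leaf
  2172873) (.leaf
  1427580)))) (.node 4 (.node 2 (.node 1 (.leaf
  378633) (.leaf
  2209413)) (.node 1 (.leaf
  391233) (.leaf
  2237133))) (.node 2 (.node 1 (.leaf
  2246583) (.leaf
  32130)) (.node 1 (.leaf
  2201853) (.leaf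
  381783)))))) (.node 16 (.node 8 (.node 4 (.node 2 (.node 1 (.leaf
  26460) (.leaf
  1313550)) (.node 1 (.leaf
  415173) (.leaf
  47250))) (.node 2 (.node 1 (.leaf
  449193) (.leaf
  2176653)) (.node 1 (.leaf
  458643) (.leaf
  2233353)))) (.node 4 (.node 2 (.node 1 (.leaf
  398163) (.leaf
  2130663)) (.node 1 (.leaf
  1395450) (.leaf
  136710))) (.node 2 (.node 1 (.leaf
  324453) (.leaf
  2198073)) (.node 1 (.leaf
  2177913) (.leaf
  2257293))))) (.node 8 (.node 4 (.node 2 (.node 1 (.leaf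
  2120583) (.leaf
  2177283)) (.node 1 (.leaf
  140490) (.leaf
  1425060))) (.node 2 (.node 1 (.leaf
  398793) (.leaf
  427773)) (.node 1 (.leaf
  473133) (.leaf
  105840)))) (.node 4 (.node 2 (.node 1 (.leaf
  28350) (.leaf
  127260)) (.node 1 (.leaf
  1343160) (.leaf
  2254143))) (.node 2 (.node 1 (.leaf
  1321110) (.leaf
  2232723)) (.node 1 (.leaf
  2118693) (.leaf
  353433))))))) (.node 32 (.node 16 (.node 8 (.node 4 (.node 2 (.node 1 (.leaf
  1331820) (.leaf
  1359540)) (.node 1 (.leaf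
  1388520) (.leaf
  1367100))) (.node 2 (.node 1 (.leaf
  85680) (.leaf
  1377180)) (.node 1 (.leaf
  385563) (.leaf
  2115543)))) (.node 4 (.node 2 (.node 1 (.leaf
  1371510) (.leaf
  86940)) (.node 1 (.leaf
  1354500) (.leaf
  151200))) (.node 2 (.node 1 (.leaf
  2194923) (.leaf
  1305990)) (.node 1 (.leaf
  98280) (.leaf
  17640))))) (.node 8 (.node 4 (.node 2 (.node 1 (.leaf
  1363950) (.leaf
  2104203)) (.node 1 (.leaf
  68670) (.leaf
  358473))) (.node 2 (.node 1 (.leaf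
  2138223) (.leaf
  331383)) (.node 1 (.leaf
  2124993) (.leaf
  150570)))) (.node 4 (.node 2 (.node 1 (.leaf
  1292130) (.leaf
  18900)) (.node 1 (.leaf
  410133) (.leaf
  1450260))) (.node 2 (.node 1 (.leaf
  5040) (.leaf
  81270)) (.node 1 (.leaf
  12600) (.leaf
  474393)))))) (.node 16 (.node 8 (.node 4 (.node 2 (.node 1 (.leaf
  1373400) (.leaf
  360363)) (.node 1 (.leaf
  1370250) (.leaf
  412653))) (.node 2 (.node 1 (.leaf
  446043) (.leaf
  1365840)) (.node 1 (.leaf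
  74970) (.leaf
  1389780)))) (.node 4 (.node 2 (.node 1 (.leaf
  2183583) (.leaf
  160020)) (.node 1 (.leaf
  83790) (.leaf
  61740))) (.node 2 (.node 1 (.leaf
  1386630) (.leaf
  1352610)) (.node 1 (.leaf
  78120) (.leaf
  455493))))) (.node 8 (.node 4 (.node 2 (.node 1 (.leaf
  429663) (.leaf
  395643)) (.node 1 (.leaf
  1440180) (.leaf
  1296540))) (.node 2 (.node 1 (.leaf
  66150) (.leaf
  372963)) (.node 1 (.leaf
  1433250) (.leaf
  2159013)))) (.node 4 (.node 2 (.node 1 (.leaf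
  90720) (.leaf
  1379070)) (.node 1 (.leaf
  432183) (.leaf
  2139483))) (.node 2 (.node 1 (.leaf
  1355760) (.leaf
  375483)) (.node 1 (.leaf
  467463) (.leaf
  2113653)))))))) (.node 64 (.node 32 (.node 16 (.node 8 (.node 4 (.node 2 (.node 1 (.leaf
  357843) (.leaf
  2202483)) (.node 1 (.leaf
  2227683) (.leaf
  2221383))) (.node 2 (.node 1 (.leaf
  13230) (.leaf
  2171613)) (.node 1 (.leaf
  2123733) (.leaf
  95760)))) (.node 4 (.node 2 (.node 1 (.leaf
  2161533) (.leaf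
  10080)) (.node 1 (.leaf
  2214453) (.leaf
  153720))) (.node 2 (.node 1 (.leaf
  1431990) (.leaf
  348393)) (.node 1 (.leaf
  439743) (.leaf
  71190))))) (.node 8 (.node 4 (.node 2 (.node 1 (.leaf
  2232093) (.leaf
  2102943)) (.node 1 (.leaf
  374223) (.leaf
  2218233))) (.node 2 (.node 1 (.leaf
  95130) (.leaf
  2167203)) (.node 1 (.leaf
  419583) (.leaf
  478173)))) (.node 4 (.node 2 (.node 1 (.leaf
  2122473) (.leaf
  338313)) (.node 1 (.leaf
  2184843) (.leaf
  2148933))) (.node 2 (.node 1 (.leaf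
  396273) (.leaf
  1304100)) (.node 1 (.leaf
  411393) (.leaf
  2169723)))))) (.node 16 (.node 8 (.node 4 (.node 2 (.node 1 (.leaf
  1353240) (.leaf
  350283)) (.node 1 (.leaf
  473763) (.leaf
  76230))) (.node 2 (.node 1 (.leaf
  100170) (.leaf
  2132553)) (.node 1 (.leaf
  1351980) (.leaf
  350913)))) (.node 4 (.node 2 (.node 1 (.leaf
  342093) (.leaf
  1356390)) (.node 1 (.leaf
  1294020) (.leaf
  443523))) (.node 2 (.node 1 (.leaf
  1380330) (.leaf
  420843)) (.node 1 (.leaf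
  2114913) (.leaf
  1372770))))) (.node 8 (.node 4 (.node 2 (.node 1 (.leaf
  148050) (.leaf
  2237763)) (.node 1 (.leaf
  364143) (.leaf
  2135703))) (.node 2 (.node 1 (.leaf
  1374030) (.leaf
  155610)) (.node 1 (.leaf
  1443330) (.leaf
  2196813)))) (.node 4 (.node 2 (.node 1 (.leaf
  75600) (.leaf
  144900)) (.node 1 (.leaf
  1294650) (.leaf
  10710))) (.node 2 (.node 1 (.leaf
  8820) (.leaf
  1443960)) (.node 1 (.leaf
  2138853) (.leaf
  99540))))))) (.node 32 (.node 16 (.node 8 (.node 4 (.node 2 (.node 1 (.leaf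
  1890) (.leaf
  154350)) (.node 1 (.leaf
  2213823) (.leaf
  8190))) (.node 2 (.node 1 (.leaf
  1361430) (.leaf
  2170983)) (.node 1 (.leaf
  2249103) (.leaf
  393123)))) (.node 4 (.node 2 (.node 1 (.leaf
  2520) (.leaf
  2250363)) (.node 1 (.leaf
  340203) (.leaf
  349023))) (.node 2 (.node 1 (.leaf
  82530) (.leaf
  2239653)) (.node 1 (.leaf
  2216973) (.leaf
  464943))))) (.node 8 (.node 4 (.node 2 (.node 1 (.leaf
  6300) (.leaf
  1384740)) (.node 1 (.leaf
  63630) (.leaf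
  2241543))) (.node 2 (.node 1 (.leaf
  2131923) (.leaf
  141120)) (.node 1 (.leaf
  2231463) (.leaf
  2167833)))) (.node 4 (.node 2 (.node 1 (.leaf
  1387890) (.leaf
  1368990)) (.node 1 (.leaf
  88200) (.leaf
  94500))) (.node 2 (.node 1 (.leaf
  2103573) (.leaf
  329493)) (.node 1 (.leaf
  2206263) (.leaf
  444153)))))) (.node 16 (.node 8 (.node 4 (.node 2 (.node 1 (.leaf
  432813) (.leaf
  422733)) (.node 1 (.leaf
  457383) (.leaf
  2203113))) (.node 2 (.node 1 (.leaf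
  1300950) (.leaf
  89460)) (.node 1 (.leaf
  2160903) (.leaf
  2135073)))) (.node 4 (.node 2 (.node 1 (.leaf
  330123) (.leaf
  2126253)) (.node 1 (.leaf
  366033) (.leaf
  1432620))) (.node 2 (.node 1 (.leaf
  454233) (.leaf
  410763)) (.node 1 (.leaf
  1435140) (.leaf
  79380))))) (.node 8 (.node 4 (.node 2 (.node 1 (.leaf
  2186733) (.leaf
  2147043)) (.node 1 (.leaf
  2113023) (.leaf
  1382850))) (.node 2 (.node 1 (.leaf
  158760) (.leaf
  96390)) (.node 1 (.leaf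
  374853) (.leaf
  2220753)))) (.node 4 (.node 2 (.node 1 (.leaf
  146790) (.leaf
  149940)) (.node 1 (.leaf
  64260) (.leaf
  2248473))) (.node 2 (.node 1 (.leaf
  326973) (.leaf
  1420650)) (.node 1 (.leaf
  417693) (.leaf
  1334970)))))))))))

/-- Its generators. -/
def sylGen : List ℕ :=
  [
  1326780, 54810, 1428840, 2142633, 138600]

/-- The products with the generators. -/
def sylMul : Tree :=
  (.node 2560 (.node 1280 (.node 640 (.node 320 (.node 160 (.node 80 (.node 40 (.node 20 (.node 10 (.node 5 (.node 2 (.node 1 (.leaf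
  1) (.leaf
  2)) (.node 1 (.leaf
  3) (.node 1 (.leaf
  4) (.leaf
  5)))) (.node 2 (.node 1 (.leaf
  6) (.leaf
  7)) (.node 1 (.leaf
  8) (.node 1 (.leaf
  9) (.leaf
  10))))) (.node 5 (.node 2 (.node 1 (.leaf
  11) (.leaf
  0)) (.node 1 (.leaf
  12) (.node 1 (.leaf
  13) (.leaf
  14)))) (.node 2 (.node 1 (.leaf
  15) (.leaf
  16)) (.node 1 (.leaf
  0) (.node 1 (.leaf
  17) (.leaf
  18)))))) (.node 10 (.node 5 (.node 2 (.node 1 (.leaf
  19) (.leaf
  20)) (.node 1 (.leaf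
  21) (.node 1 (.leaf
  22) (.leaf
  23)))) (.node 2 (.node 1 (.leaf
  24) (.leaf
  25)) (.node 1 (.leaf
  26) (.node 1 (.leaf
  27) (.leaf
  0))))) (.node 5 (.node 2 (.node 1 (.leaf
  28) (.leaf
  29)) (.node 1 (.leaf
  30) (.node 1 (.leaf
  31) (.leaf
  32)))) (.node 2 (.node 1 (.leaf
  33) (.leaf
  1)) (.node 1 (.leaf
  34) (.node 1 (.leaf
  35) (.leaf
  36))))))) (.node 20 (.node 10 (.node 5 (.node 2 (.node 1 (.leaf
  3) (.leaf
  37)) (.node 1 (.leaf
  1) (.node 1 (.leaf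
  38) (.leaf
  39)))) (.node 2 (.node 1 (.leaf
  40) (.leaf
  41)) (.node 1 (.leaf
  42) (.node 1 (.leaf
  43) (.leaf
  44))))) (.node 5 (.node 2 (.node 1 (.leaf
  45) (.leaf
  46)) (.node 1 (.leaf
  47) (.node 1 (.leaf
  48) (.leaf
  1)))) (.node 2 (.node 1 (.leaf
  49) (.leaf
  50)) (.node 1 (.leaf
  37) (.node 1 (.leaf
  51) (.leaf
  52)))))) (.node 10 (.node 5 (.node 2 (.node 1 (.leaf
  53) (.leaf
  54)) (.node 1 (.leaf
  2) (.node 1 (.leaf
  55) (.leaf
  56)))) (.node 2 (.node 1 (.leaf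
  57) (.leaf
  58)) (.node 1 (.leaf
  59) (.node 1 (.leaf
  60) (.leaf
  61))))) (.node 5 (.node 2 (.node 1 (.leaf
  62) (.leaf
  63)) (.node 1 (.leaf
  64) (.node 1 (.leaf
  65) (.leaf
  2)))) (.node 2 (.node 1 (.leaf
  66) (.leaf
  67)) (.node 1 (.leaf
  68) (.node 1 (.leaf
  69) (.leaf
  70)))))))) (.node 40 (.node 20 (.node 10 (.node 5 (.node 2 (.node 1 (.leaf
  71) (.leaf
  3)) (.node 1 (.leaf
  72) (.node 1 (.leaf
  73) (.leaf
  74)))) (.node 2 (.node 1 (.leaf
  75) (.leaf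
  76)) (.node 1 (.leaf
  77) (.node 1 (.leaf
  78) (.leaf
  79))))) (.node 5 (.node 2 (.node 1 (.leaf
  80) (.leaf
  81)) (.node 1 (.leaf
  82) (.node 1 (.leaf
  83) (.leaf
  3)))) (.node 2 (.node 1 (.leaf
  84) (.leaf
  85)) (.node 1 (.leaf
  86) (.node 1 (.leaf
  87) (.leaf
  88)))))) (.node 10 (.node 5 (.node 2 (.node 1 (.leaf
  89) (.leaf
  4)) (.node 1 (.leaf
  90) (.node 1 (.leaf
  29) (.leaf
  91)))) (.node 2 (.node 1 (.leaf
  69) (.leaf
  92)) (.node 1 (.leaf
  4) (.node 1 (.leaf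
  93) (.leaf
  94))))) (.node 5 (.node 2 (.node 1 (.leaf
  95) (.leaf
  96)) (.node 1 (.leaf
  97) (.node 1 (.leaf
  98) (.leaf
  99)))) (.node 2 (.node 1 (.leaf
  44) (.leaf
  100)) (.node 1 (.leaf
  101) (.node 1 (.leaf
  5) (.leaf
  4))))))) (.node 20 (.node 10 (.node 5 (.node 2 (.node 1 (.leaf
  102) (.leaf
  103)) (.node 1 (.leaf
  104) (.node 1 (.leaf
  105) (.leaf
  106)))) (.node 2 (.node 1 (.leaf
  107) (.leaf
  5)) (.node 1 (.leaf
  108) (.node 1 (.leaf
  109) (.leaf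
  110))))) (.node 5 (.node 2 (.node 1 (.leaf
  111) (.leaf
  112)) (.node 1 (.leaf
  5) (.node 1 (.leaf
  113) (.leaf
  114)))) (.node 2 (.node 1 (.leaf
  115) (.leaf
  116)) (.node 1 (.leaf
  117) (.node 1 (.leaf
  118) (.leaf
  119)))))) (.node 10 (.node 5 (.node 2 (.node 1 (.leaf
  120) (.leaf
  121)) (.node 1 (.leaf
  122) (.node 1 (.leaf
  123) (.leaf
  124)))) (.node 2 (.node 1 (.leaf
  125) (.leaf
  6)) (.node 1 (.leaf
  126) (.node 1 (.leaf
  127) (.leaf
  128))))) (.node 5 (.node 2 (.node 1 (.leaf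
  8) (.leaf
  129)) (.node 1 (.leaf
  6) (.node 1 (.leaf
  130) (.leaf
  131)))) (.node 2 (.node 1 (.leaf
  132) (.leaf
  133)) (.node 1 (.leaf
  134) (.node 1 (.leaf
  135) (.leaf
  136))))))))) (.node 80 (.node 40 (.node 20 (.node 10 (.node 5 (.node 2 (.node 1 (.leaf
  137) (.leaf
  138)) (.node 1 (.leaf
  139) (.node 1 (.leaf
  140) (.leaf
  6)))) (.node 2 (.node 1 (.leaf
  141) (.leaf
  142)) (.node 1 (.leaf
  129) (.node 1 (.leaf
  143) (.leaf
  144))))) (.node 5 (.node 2 (.node 1 (.leaf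
  145) (.leaf
  146)) (.node 1 (.leaf
  7) (.node 1 (.leaf
  147) (.leaf
  148)))) (.node 2 (.node 1 (.leaf
  149) (.leaf
  150)) (.node 1 (.leaf
  151) (.node 1 (.leaf
  152) (.leaf
  153)))))) (.node 10 (.node 5 (.node 2 (.node 1 (.leaf
  154) (.leaf
  155)) (.node 1 (.leaf
  156) (.node 1 (.leaf
  157) (.leaf
  7)))) (.node 2 (.node 1 (.leaf
  12) (.leaf
  8)) (.node 1 (.leaf
  11) (.node 1 (.leaf
  158) (.leaf
  159))))) (.node 5 (.node 2 (.node 1 (.leaf
  160) (.leaf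
  161)) (.node 1 (.leaf
  162) (.node 1 (.leaf
  163) (.leaf
  164)))) (.node 2 (.node 1 (.leaf
  165) (.leaf
  166)) (.node 1 (.leaf
  167) (.node 1 (.leaf
  168) (.leaf
  8))))))) (.node 20 (.node 10 (.node 5 (.node 2 (.node 1 (.leaf
  169) (.leaf
  170)) (.node 1 (.leaf
  171) (.node 1 (.leaf
  172) (.leaf
  173)))) (.node 2 (.node 1 (.leaf
  174) (.leaf
  9)) (.node 1 (.leaf
  175) (.node 1 (.leaf
  121) (.leaf
  176))))) (.node 5 (.node 2 (.node 1 (.leaf
  17) (.leaf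
  177)) (.node 1 (.leaf
  9) (.node 1 (.leaf
  178) (.leaf
  179)))) (.node 2 (.node 1 (.leaf
  180) (.leaf
  181)) (.node 1 (.leaf
  182) (.node 1 (.leaf
  183) (.leaf
  184)))))) (.node 10 (.node 5 (.node 2 (.node 1 (.leaf
  136) (.leaf
  185)) (.node 1 (.leaf
  186) (.node 1 (.leaf
  10) (.leaf
  9)))) (.node 2 (.node 1 (.leaf
  187) (.leaf
  188)) (.node 1 (.leaf
  189) (.node 1 (.leaf
  190) (.leaf
  191))))) (.node 5 (.node 2 (.node 1 (.leaf
  192) (.leaf
  10)) (.node 1 (.leaf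
  193) (.node 1 (.leaf
  194) (.leaf
  195)))) (.node 2 (.node 1 (.leaf
  196) (.leaf
  197)) (.node 1 (.leaf
  10) (.node 1 (.leaf
  198) (.leaf
  199)))))))) (.node 40 (.node 20 (.node 10 (.node 5 (.node 2 (.node 1 (.leaf
  200) (.leaf
  201)) (.node 1 (.leaf
  202) (.node 1 (.leaf
  203) (.leaf
  204)))) (.node 2 (.node 1 (.leaf
  205) (.leaf
  206)) (.node 1 (.leaf
  207) (.node 1 (.leaf
  208) (.leaf
  209))))) (.node 5 (.node 2 (.node 1 (.leaf
  210) (.leaf
  11)) (.node 1 (.leaf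
  211) (.node 1 (.leaf
  212) (.leaf
  213)))) (.node 2 (.node 1 (.leaf
  214) (.leaf
  215)) (.node 1 (.leaf
  216) (.node 1 (.leaf
  217) (.leaf
  218)))))) (.node 10 (.node 5 (.node 2 (.node 1 (.leaf
  219) (.leaf
  220)) (.node 1 (.leaf
  221) (.node 1 (.leaf
  222) (.leaf
  11)))) (.node 2 (.node 1 (.leaf
  223) (.leaf
  224)) (.node 1 (.leaf
  225) (.node 1 (.leaf
  226) (.leaf
  227))))) (.node 5 (.node 2 (.node 1 (.leaf
  228) (.leaf
  12)) (.node 1 (.leaf
  229) (.node 1 (.leaf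
  230) (.leaf
  231)))) (.node 2 (.node 1 (.leaf
  232) (.leaf
  233)) (.node 1 (.leaf
  234) (.node 1 (.leaf
  235) (.leaf
  236))))))) (.node 20 (.node 10 (.node 5 (.node 2 (.node 1 (.leaf
  237) (.leaf
  238)) (.node 1 (.leaf
  239) (.node 1 (.leaf
  240) (.leaf
  12)))) (.node 2 (.node 1 (.leaf
  241) (.leaf
  242)) (.node 1 (.leaf
  243) (.node 1 (.leaf
  244) (.leaf
  245))))) (.node 5 (.node 2 (.node 1 (.leaf
  246) (.leaf
  13)) (.node 1 (.leaf
  247) (.node 1 (.leaf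
  206) (.leaf
  248)))) (.node 2 (.node 1 (.leaf
  226) (.leaf
  249)) (.node 1 (.leaf
  13) (.node 1 (.leaf
  250) (.leaf
  251)))))) (.node 10 (.node 5 (.node 2 (.node 1 (.leaf
  252) (.leaf
  253)) (.node 1 (.leaf
  254) (.node 1 (.leaf
  133) (.leaf
  255)))) (.node 2 (.node 1 (.leaf
  218) (.leaf
  140)) (.node 1 (.leaf
  256) (.node 1 (.leaf
  14) (.leaf
  13))))) (.node 5 (.node 2 (.node 1 (.leaf
  128) (.leaf
  257)) (.node 1 (.leaf
  166) (.node 1 (.leaf
  258) (.leaf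
  259)))) (.node 2 (.node 1 (.leaf
  167) (.leaf
  14)) (.node 1 (.leaf
  165) (.node 1 (.leaf
  260) (.leaf
  261)))))))))) (.node 160 (.node 80 (.node 40 (.node 20 (.node 10 (.node 5 (.node 2 (.node 1 (.leaf
  262) (.leaf
  203)) (.node 1 (.leaf
  14) (.node 1 (.leaf
  263) (.leaf
  264)))) (.node 2 (.node 1 (.leaf
  265) (.leaf
  266)) (.node 1 (.leaf
  267) (.node 1 (.leaf
  268) (.leaf
  151))))) (.node 5 (.node 2 (.node 1 (.leaf
  269) (.leaf
  270)) (.node 1 (.leaf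
  271) (.node 1 (.leaf
  272) (.leaf
  273)))) (.node 2 (.node 1 (.leaf
  274) (.leaf
  15)) (.node 1 (.leaf
  275) (.node 1 (.leaf
  276) (.leaf
  277)))))) (.node 10 (.node 5 (.node 2 (.node 1 (.leaf
  0) (.leaf
  250)) (.node 1 (.leaf
  15) (.node 1 (.leaf
  278) (.leaf
  279)))) (.node 2 (.node 1 (.leaf
  280) (.leaf
  281)) (.node 1 (.leaf
  282) (.node 1 (.leaf
  283) (.leaf
  284))))) (.node 5 (.node 2 (.node 1 (.leaf
  285) (.leaf
  262)) (.node 1 (.leaf
  286) (.node 1 (.leaf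
  202) (.leaf
  15)))) (.node 2 (.node 1 (.leaf
  244) (.leaf
  172)) (.node 1 (.leaf
  250) (.node 1 (.leaf
  287) (.leaf
  288))))))) (.node 20 (.node 10 (.node 5 (.node 2 (.node 1 (.leaf
  289) (.leaf
  290)) (.node 1 (.leaf
  16) (.node 1 (.leaf
  291) (.leaf
  292)))) (.node 2 (.node 1 (.leaf
  293) (.leaf
  294)) (.node 1 (.leaf
  295) (.node 1 (.leaf
  296) (.leaf
  297))))) (.node 5 (.node 2 (.node 1 (.leaf
  298) (.leaf
  299)) (.node 1 (.leaf
  300) (.node 1 (.leaf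
  301) (.leaf
  16)))) (.node 2 (.node 1 (.leaf
  302) (.leaf
  303)) (.node 1 (.leaf
  304) (.node 1 (.leaf
  142) (.leaf
  305)))))) (.node 10 (.node 5 (.node 2 (.node 1 (.leaf
  306) (.leaf
  17)) (.node 1 (.leaf
  307) (.node 1 (.leaf
  270) (.leaf
  308)))) (.node 2 (.node 1 (.leaf
  9) (.leaf
  309)) (.node 1 (.leaf
  17) (.node 1 (.leaf
  310) (.leaf
  311))))) (.node 5 (.node 2 (.node 1 (.leaf
  312) (.leaf
  313)) (.node 1 (.leaf
  314) (.node 1 (.leaf
  315) (.leaf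
  316)))) (.node 2 (.node 1 (.leaf
  284) (.leaf
  245)) (.node 1 (.leaf
  317) (.node 1 (.leaf
  18) (.leaf
  17)))))))) (.node 40 (.node 20 (.node 10 (.node 5 (.node 2 (.node 1 (.leaf
  189) (.leaf
  318)) (.node 1 (.leaf
  187) (.node 1 (.leaf
  319) (.leaf
  320)))) (.node 2 (.node 1 (.leaf
  268) (.leaf
  18)) (.node 1 (.leaf
  321) (.node 1 (.leaf
  322) (.leaf
  323))))) (.node 5 (.node 2 (.node 1 (.leaf
  324) (.leaf
  325)) (.node 1 (.leaf
  18) (.node 1 (.leaf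
  326) (.leaf
  327)))) (.node 2 (.node 1 (.leaf
  328) (.leaf
  329)) (.node 1 (.leaf
  140) (.node 1 (.leaf
  330) (.leaf
  331)))))) (.node 10 (.node 5 (.node 2 (.node 1 (.leaf
  332) (.leaf
  333)) (.node 1 (.leaf
  334) (.node 1 (.leaf
  335) (.leaf
  266)))) (.node 2 (.node 1 (.leaf
  336) (.leaf
  19)) (.node 1 (.leaf
  337) (.node 1 (.leaf
  338) (.leaf
  339))))) (.node 5 (.node 2 (.node 1 (.leaf
  21) (.leaf
  340)) (.node 1 (.leaf
  19) (.node 1 (.leaf
  341) (.leaf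
  342)))) (.node 2 (.node 1 (.leaf
  146) (.leaf
  274)) (.node 1 (.leaf
  343) (.node 1 (.leaf
  344) (.leaf
  345))))))) (.node 20 (.node 10 (.node 5 (.node 2 (.node 1 (.leaf
  173) (.leaf
  236)) (.node 1 (.leaf
  346) (.node 1 (.leaf
  286) (.leaf
  19)))) (.node 2 (.node 1 (.leaf
  133) (.leaf
  331)) (.node 1 (.leaf
  340) (.node 1 (.leaf
  347) (.leaf
  348))))) (.node 5 (.node 2 (.node 1 (.leaf
  349) (.leaf
  350)) (.node 1 (.leaf
  20) (.node 1 (.leaf
  351) (.leaf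
  352)))) (.node 2 (.node 1 (.leaf
  353) (.leaf
  354)) (.node 1 (.leaf
  355) (.node 1 (.leaf
  156) (.leaf
  20)))))) (.node 10 (.node 5 (.node 2 (.node 1 (.leaf
  356) (.leaf
  21)) (.node 1 (.leaf
  357) (.node 1 (.leaf
  358) (.leaf
  359)))) (.node 2 (.node 1 (.leaf
  229) (.leaf
  225)) (.node 1 (.leaf
  228) (.node 1 (.leaf
  360) (.leaf
  361))))) (.node 5 (.node 2 (.node 1 (.leaf
  362) (.leaf
  363)) (.node 1 (.leaf
  364) (.node 1 (.leaf
  365) (.leaf
  21)))) (.node 2 (.node 1 (.leaf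
  314) (.leaf
  366)) (.node 1 (.leaf
  312) (.node 1 (.leaf
  367) (.leaf
  368))))))))) (.node 80 (.node 40 (.node 20 (.node 10 (.node 5 (.node 2 (.node 1 (.leaf
  369) (.leaf
  22)) (.node 1 (.leaf
  370) (.node 1 (.leaf
  333) (.leaf
  371)))) (.node 2 (.node 1 (.leaf
  283) (.leaf
  372)) (.node 1 (.leaf
  22) (.node 1 (.leaf
  373) (.leaf
  374))))) (.node 5 (.node 2 (.node 1 (.leaf
  375) (.leaf
  208)) (.node 1 (.leaf
  376) (.node 1 (.leaf
  120) (.leaf
  200)))) (.node 2 (.node 1 (.leaf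
  345) (.leaf
  255)) (.node 1 (.leaf
  377) (.node 1 (.leaf
  23) (.leaf
  22)))))) (.node 10 (.node 5 (.node 2 (.node 1 (.leaf
  378) (.leaf
  23)) (.node 1 (.leaf
  240) (.node 1 (.leaf
  379) (.leaf
  293)))) (.node 2 (.node 1 (.leaf
  380) (.leaf
  381)) (.node 1 (.leaf
  23) (.node 1 (.leaf
  196) (.leaf
  382))))) (.node 5 (.node 2 (.node 1 (.leaf
  286) (.leaf
  383)) (.node 1 (.leaf
  285) (.node 1 (.leaf
  248) (.leaf
  206)))) (.node 2 (.node 1 (.leaf
  384) (.leaf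
  24)) (.node 1 (.leaf
  385) (.node 1 (.leaf
  339) (.leaf
  338))))))) (.node 20 (.node 10 (.node 5 (.node 2 (.node 1 (.leaf
  26) (.leaf
  159)) (.node 1 (.leaf
  24) (.node 1 (.leaf
  386) (.leaf
  387)))) (.node 2 (.node 1 (.leaf
  388) (.leaf
  389)) (.node 1 (.leaf
  390) (.node 1 (.leaf
  391) (.leaf
  392))))) (.node 5 (.node 2 (.node 1 (.leaf
  191) (.leaf
  393)) (.node 1 (.leaf
  394) (.node 1 (.leaf
  332) (.leaf
  24)))) (.node 2 (.node 1 (.leaf
  138) (.leaf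
  330)) (.node 1 (.leaf
  159) (.node 1 (.leaf
  395) (.leaf
  396)))))) (.node 10 (.node 5 (.node 2 (.node 1 (.leaf
  277) (.leaf
  397)) (.node 1 (.leaf
  25) (.node 1 (.leaf
  398) (.leaf
  399)))) (.node 2 (.node 1 (.leaf
  400) (.leaf
  136)) (.node 1 (.leaf
  401) (.node 1 (.leaf
  298) (.leaf
  402))))) (.node 5 (.node 2 (.node 1 (.leaf
  403) (.leaf
  261)) (.node 1 (.leaf
  404) (.node 1 (.leaf
  405) (.leaf
  25)))) (.node 2 (.node 1 (.leaf
  365) (.leaf
  227)) (.node 1 (.leaf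
  406) (.node 1 (.leaf
  407) (.leaf
  122)))))))) (.node 40 (.node 20 (.node 10 (.node 5 (.node 2 (.node 1 (.leaf
  288) (.leaf
  26)) (.node 1 (.leaf
  408) (.node 1 (.leaf
  359) (.leaf
  358)))) (.node 2 (.node 1 (.leaf
  409) (.leaf
  410)) (.node 1 (.leaf
  411) (.node 1 (.leaf
  412) (.leaf
  376))))) (.node 5 (.node 2 (.node 1 (.leaf
  413) (.leaf
  414)) (.node 1 (.leaf
  415) (.node 1 (.leaf
  280) (.leaf
  26)))) (.node 2 (.node 1 (.leaf
  416) (.leaf
  153)) (.node 1 (.leaf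
  168) (.node 1 (.leaf
  417) (.leaf
  418)))))) (.node 10 (.node 5 (.node 2 (.node 1 (.leaf
  419) (.leaf
  27)) (.node 1 (.leaf
  420) (.node 1 (.leaf
  383) (.leaf
  241)))) (.node 2 (.node 1 (.leaf
  407) (.leaf
  297)) (.node 1 (.leaf
  27) (.node 1 (.leaf
  374) (.leaf
  373))))) (.node 5 (.node 2 (.node 1 (.leaf
  421) (.leaf
  268)) (.node 1 (.leaf
  361) (.node 1 (.leaf
  317) (.leaf
  180)))) (.node 2 (.node 1 (.leaf
  392) (.leaf
  306)) (.node 1 (.leaf
  212) (.node 1 (.leaf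
  0) (.leaf
  27))))))) (.node 20 (.node 10 (.node 5 (.node 2 (.node 1 (.leaf
  422) (.leaf
  423)) (.node 1 (.leaf
  424) (.node 1 (.leaf
  425) (.leaf
  426)))) (.node 2 (.node 1 (.leaf
  427) (.leaf
  28)) (.node 1 (.leaf
  428) (.node 1 (.leaf
  90) (.leaf
  429))))) (.node 5 (.node 2 (.node 1 (.leaf
  30) (.leaf
  430)) (.node 1 (.leaf
  28) (.node 1 (.leaf
  431) (.leaf
  111)))) (.node 2 (.node 1 (.leaf
  432) (.leaf
  433)) (.node 1 (.leaf
  434) (.node 1 (.leaf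
  95) (.leaf
  435)))))) (.node 10 (.node 5 (.node 2 (.node 1 (.leaf
  436) (.leaf
  437)) (.node 1 (.leaf
  438) (.node 1 (.leaf
  115) (.leaf
  28)))) (.node 2 (.node 1 (.leaf
  110) (.leaf
  439)) (.node 1 (.leaf
  430) (.node 1 (.leaf
  440) (.leaf
  441))))) (.node 5 (.node 2 (.node 1 (.leaf
  442) (.leaf
  443)) (.node 1 (.leaf
  29) (.node 1 (.leaf
  444) (.leaf
  445)))) (.node 2 (.node 1 (.leaf
  446) (.leaf
  447)) (.node 1 (.leaf
  448) (.node 1 (.leaf
  449) (.leaf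
  450))))))))))) (.node 320 (.node 160 (.node 80 (.node 40 (.node 20 (.node 10 (.node 5 (.node 2 (.node 1 (.leaf
  451) (.leaf
  452)) (.node 1 (.leaf
  453) (.node 1 (.leaf
  91) (.leaf
  29)))) (.node 2 (.node 1 (.leaf
  34) (.leaf
  30)) (.node 1 (.leaf
  33) (.node 1 (.leaf
  454) (.leaf
  455))))) (.node 5 (.node 2 (.node 1 (.leaf
  456) (.leaf
  457)) (.node 1 (.leaf
  458) (.node 1 (.leaf
  97) (.leaf
  459)))) (.node 2 (.node 1 (.leaf
  460) (.leaf
  461)) (.node 1 (.leaf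
  462) (.node 1 (.leaf
  463) (.leaf
  30)))))) (.node 10 (.node 5 (.node 2 (.node 1 (.leaf
  464) (.leaf
  465)) (.node 1 (.leaf
  466) (.node 1 (.leaf
  54) (.leaf
  467)))) (.node 2 (.node 1 (.leaf
  468) (.leaf
  31)) (.node 1 (.leaf
  469) (.node 1 (.leaf
  423) (.leaf
  470))))) (.node 5 (.node 2 (.node 1 (.leaf
  38) (.leaf
  471)) (.node 1 (.leaf
  31) (.node 1 (.leaf
  472) (.leaf
  473)))) (.node 2 (.node 1 (.leaf
  474) (.leaf
  475)) (.node 1 (.leaf
  476) (.node 1 (.leaf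
  477) (.leaf
  478))))))) (.node 20 (.node 10 (.node 5 (.node 2 (.node 1 (.leaf
  435) (.leaf
  109)) (.node 1 (.leaf
  479) (.node 1 (.leaf
  32) (.leaf
  31)))) (.node 2 (.node 1 (.leaf
  63) (.leaf
  480)) (.node 1 (.leaf
  481) (.node 1 (.leaf
  482) (.leaf
  483))))) (.node 5 (.node 2 (.node 1 (.leaf
  484) (.leaf
  32)) (.node 1 (.leaf
  485) (.node 1 (.leaf
  486) (.leaf
  487)))) (.node 2 (.node 1 (.leaf
  488) (.leaf
  489)) (.node 1 (.leaf
  32) (.node 1 (.leaf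
  490) (.leaf
  491)))))) (.node 10 (.node 5 (.node 2 (.node 1 (.leaf
  492) (.leaf
  61)) (.node 1 (.leaf
  83) (.node 1 (.leaf
  493) (.leaf
  494)))) (.node 2 (.node 1 (.leaf
  495) (.leaf
  496)) (.node 1 (.leaf
  497) (.node 1 (.leaf
  498) (.leaf
  499))))) (.node 5 (.node 2 (.node 1 (.leaf
  500) (.leaf
  33)) (.node 1 (.leaf
  501) (.node 1 (.leaf
  502) (.leaf
  503)))) (.node 2 (.node 1 (.leaf
  504) (.leaf
  505)) (.node 1 (.leaf
  506) (.node 1 (.leaf
  507) (.leaf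
  508)))))))) (.node 40 (.node 20 (.node 10 (.node 5 (.node 2 (.node 1 (.leaf
  509) (.leaf
  510)) (.node 1 (.leaf
  511) (.node 1 (.leaf
  512) (.leaf
  33)))) (.node 2 (.node 1 (.leaf
  513) (.leaf
  514)) (.node 1 (.leaf
  515) (.node 1 (.leaf
  516) (.leaf
  517))))) (.node 5 (.node 2 (.node 1 (.leaf
  518) (.leaf
  34)) (.node 1 (.leaf
  519) (.node 1 (.leaf
  520) (.leaf
  521)))) (.node 2 (.node 1 (.leaf
  522) (.leaf
  523)) (.node 1 (.leaf
  524) (.node 1 (.leaf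
  525) (.leaf
  526)))))) (.node 10 (.node 5 (.node 2 (.node 1 (.leaf
  112) (.leaf
  527)) (.node 1 (.leaf
  528) (.node 1 (.leaf
  529) (.leaf
  34)))) (.node 2 (.node 1 (.leaf
  530) (.leaf
  531)) (.node 1 (.leaf
  532) (.node 1 (.leaf
  53) (.leaf
  533))))) (.node 5 (.node 2 (.node 1 (.leaf
  534) (.leaf
  35)) (.node 1 (.leaf
  535) (.node 1 (.leaf
  496) (.leaf
  536)))) (.node 2 (.node 1 (.leaf
  516) (.leaf
  537)) (.node 1 (.leaf
  35) (.node 1 (.leaf
  2) (.leaf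
  65))))))) (.node 20 (.node 10 (.node 5 (.node 2 (.node 1 (.leaf
  538) (.leaf
  539)) (.node 1 (.leaf
  540) (.node 1 (.leaf
  433) (.leaf
  541)))) (.node 2 (.node 1 (.leaf
  508) (.leaf
  115)) (.node 1 (.leaf
  542) (.node 1 (.leaf
  36) (.leaf
  35))))) (.node 5 (.node 2 (.node 1 (.leaf
  429) (.leaf
  543)) (.node 1 (.leaf
  461) (.node 1 (.leaf
  544) (.leaf
  545)))) (.node 2 (.node 1 (.leaf
  462) (.leaf
  36)) (.node 1 (.leaf
  460) (.node 1 (.leaf
  546) (.leaf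
  547)))))) (.node 10 (.node 5 (.node 2 (.node 1 (.leaf
  81) (.leaf
  493)) (.node 1 (.leaf
  36) (.node 1 (.leaf
  116) (.leaf
  548)))) (.node 2 (.node 1 (.leaf
  549) (.leaf
  550)) (.node 1 (.leaf
  551) (.node 1 (.leaf
  64) (.leaf
  448))))) (.node 5 (.node 2 (.node 1 (.leaf
  552) (.leaf
  553)) (.node 1 (.leaf
  554) (.node 1 (.leaf
  555) (.leaf
  556)))) (.node 2 (.node 1 (.leaf
  108) (.leaf
  104)) (.node 1 (.leaf
  107) (.node 1 (.leaf
  557) (.leaf
  37))))))))) (.node 80 (.node 40 (.node 20 (.node 10 (.node 5 (.node 2 (.node 1 (.leaf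
  558) (.leaf
  559)) (.node 1 (.leaf
  560) (.node 1 (.leaf
  439) (.leaf
  561)))) (.node 2 (.node 1 (.leaf
  562) (.leaf
  38)) (.node 1 (.leaf
  563) (.node 1 (.leaf
  67) (.leaf
  564))))) (.node 5 (.node 2 (.node 1 (.leaf
  31) (.leaf
  565)) (.node 1 (.leaf
  38) (.node 1 (.leaf
  566) (.leaf
  567)))) (.node 2 (.node 1 (.leaf
  568) (.leaf
  569)) (.node 1 (.leaf
  570) (.node 1 (.leaf
  571) (.leaf
  572)))))) (.node 10 (.node 5 (.node 2 (.node 1 (.leaf
  79) (.leaf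
  533)) (.node 1 (.leaf
  573) (.node 1 (.leaf
  39) (.leaf
  38)))) (.node 2 (.node 1 (.leaf
  481) (.leaf
  574)) (.node 1 (.leaf
  63) (.node 1 (.leaf
  575) (.leaf
  576))))) (.node 5 (.node 2 (.node 1 (.leaf
  64) (.leaf
  39)) (.node 1 (.leaf
  62) (.node 1 (.leaf
  577) (.leaf
  578)))) (.node 2 (.node 1 (.leaf
  579) (.leaf
  580)) (.node 1 (.leaf
  39) (.node 1 (.leaf
  581) (.leaf
  582))))))) (.node 20 (.node 10 (.node 5 (.node 2 (.node 1 (.leaf
  117) (.leaf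
  583)) (.node 1 (.leaf
  115) (.node 1 (.leaf
  584) (.leaf
  585)))) (.node 2 (.node 1 (.leaf
  586) (.leaf
  587)) (.node 1 (.leaf
  588) (.node 1 (.leaf
  589) (.leaf
  550))))) (.node 5 (.node 2 (.node 1 (.leaf
  590) (.leaf
  40)) (.node 1 (.leaf
  591) (.node 1 (.leaf
  592) (.leaf
  593)))) (.node 2 (.node 1 (.leaf
  42) (.leaf
  594)) (.node 1 (.leaf
  40) (.node 1 (.leaf
  595) (.leaf
  596)))))) (.node 10 (.node 5 (.node 2 (.node 1 (.leaf
  443) (.leaf
  71)) (.node 1 (.leaf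
  597) (.node 1 (.leaf
  598) (.leaf
  599)))) (.node 2 (.node 1 (.leaf
  467) (.leaf
  526)) (.node 1 (.leaf
  600) (.node 1 (.leaf
  82) (.leaf
  40))))) (.node 5 (.node 2 (.node 1 (.leaf
  433) (.leaf
  585)) (.node 1 (.leaf
  594) (.node 1 (.leaf
  601) (.leaf
  602)))) (.node 2 (.node 1 (.leaf
  603) (.leaf
  604)) (.node 1 (.leaf
  41) (.node 1 (.leaf
  605) (.leaf
  606)))))))) (.node 40 (.node 20 (.node 10 (.node 5 (.node 2 (.node 1 (.leaf
  607) (.leaf
  608)) (.node 1 (.leaf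
  609) (.node 1 (.leaf
  453) (.leaf
  41)))) (.node 2 (.node 1 (.leaf
  610) (.leaf
  42)) (.node 1 (.leaf
  611) (.node 1 (.leaf
  612) (.leaf
  613))))) (.node 5 (.node 2 (.node 1 (.leaf
  519) (.leaf
  515)) (.node 1 (.leaf
  518) (.node 1 (.leaf
  614) (.leaf
  615)))) (.node 2 (.node 1 (.leaf
  94) (.leaf
  616)) (.node 1 (.leaf
  617) (.node 1 (.leaf
  618) (.leaf
  42)))))) (.node 10 (.node 5 (.node 2 (.node 1 (.leaf
  570) (.leaf
  619)) (.node 1 (.leaf
  568) (.node 1 (.leaf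
  119) (.leaf
  118)))) (.node 2 (.node 1 (.leaf
  620) (.leaf
  43)) (.node 1 (.leaf
  621) (.node 1 (.leaf
  587) (.leaf
  622))))) (.node 5 (.node 2 (.node 1 (.leaf
  78) (.leaf
  623)) (.node 1 (.leaf
  43) (.node 1 (.leaf
  624) (.leaf
  625)))) (.node 2 (.node 1 (.leaf
  626) (.leaf
  498)) (.node 1 (.leaf
  627) (.node 1 (.leaf
  422) (.leaf
  492))))))) (.node 20 (.node 10 (.node 5 (.node 2 (.node 1 (.leaf
  599) (.leaf
  541)) (.node 1 (.leaf
  628) (.node 1 (.leaf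
  44) (.leaf
  43)))) (.node 2 (.node 1 (.leaf
  629) (.leaf
  44)) (.node 1 (.leaf
  529) (.node 1 (.leaf
  630) (.leaf
  552))))) (.node 5 (.node 2 (.node 1 (.leaf
  101) (.leaf
  631)) (.node 1 (.leaf
  44) (.node 1 (.leaf
  488) (.leaf
  632)))) (.node 2 (.node 1 (.leaf
  82) (.leaf
  633)) (.node 1 (.leaf
  80) (.node 1 (.leaf
  536) (.leaf
  496)))))) (.node 10 (.node 5 (.node 2 (.node 1 (.leaf
  634) (.leaf
  45)) (.node 1 (.leaf
  635) (.node 1 (.leaf
  593) (.leaf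
  592)))) (.node 2 (.node 1 (.leaf
  47) (.leaf
  455)) (.node 1 (.leaf
  45) (.node 1 (.leaf
  636) (.leaf
  637))))) (.node 5 (.node 2 (.node 1 (.leaf
  638) (.leaf
  639)) (.node 1 (.leaf
  640) (.node 1 (.leaf
  641) (.leaf
  642)))) (.node 2 (.node 1 (.leaf
  483) (.leaf
  643)) (.node 1 (.leaf
  644) (.node 1 (.leaf
  586) (.leaf
  45)))))))))) (.node 160 (.node 80 (.node 40 (.node 20 (.node 10 (.node 5 (.node 2 (.node 1 (.leaf
  437) (.leaf
  584)) (.node 1 (.leaf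
  455) (.node 1 (.leaf
  645) (.leaf
  646)))) (.node 2 (.node 1 (.leaf
  74) (.leaf
  647)) (.node 1 (.leaf
  46) (.node 1 (.leaf
  648) (.leaf
  649))))) (.node 5 (.node 2 (.node 1 (.leaf
  650) (.leaf
  435)) (.node 1 (.leaf
  651) (.node 1 (.leaf
  108) (.leaf
  652)))) (.node 2 (.node 1 (.leaf
  653) (.leaf
  547)) (.node 1 (.leaf
  654) (.node 1 (.leaf
  655) (.leaf
  46)))))) (.node 10 (.node 5 (.node 2 (.node 1 (.leaf
  618) (.leaf
  517)) (.node 1 (.leaf
  656) (.node 1 (.leaf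
  657) (.leaf
  424)))) (.node 2 (.node 1 (.leaf
  56) (.leaf
  47)) (.node 1 (.leaf
  658) (.node 1 (.leaf
  613) (.leaf
  612))))) (.node 5 (.node 2 (.node 1 (.leaf
  659) (.leaf
  660)) (.node 1 (.leaf
  661) (.node 1 (.leaf
  662) (.leaf
  627)))) (.node 2 (.node 1 (.leaf
  114) (.leaf
  663)) (.node 1 (.leaf
  664) (.node 1 (.leaf
  75) (.leaf
  47))))))) (.node 20 (.node 10 (.node 5 (.node 2 (.node 1 (.leaf
  665) (.leaf
  450)) (.node 1 (.leaf
  463) (.node 1 (.leaf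
  99) (.leaf
  98)))) (.node 2 (.node 1 (.leaf
  666) (.leaf
  48)) (.node 1 (.leaf
  667) (.node 1 (.leaf
  633) (.leaf
  530))))) (.node 5 (.node 2 (.node 1 (.leaf
  657) (.leaf
  556)) (.node 1 (.leaf
  48) (.node 1 (.leaf
  625) (.leaf
  624)))) (.node 2 (.node 1 (.leaf
  668) (.leaf
  64)) (.node 1 (.leaf
  615) (.node 1 (.leaf
  573) (.leaf
  474)))))) (.node 10 (.node 5 (.node 2 (.node 1 (.leaf
  642) (.leaf
  562)) (.node 1 (.leaf
  502) (.node 1 (.leaf
  1) (.leaf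
  48)))) (.node 2 (.node 1 (.leaf
  423) (.leaf
  597)) (.node 1 (.leaf
  669) (.node 1 (.leaf
  670) (.leaf
  671))))) (.node 5 (.node 2 (.node 1 (.leaf
  496) (.leaf
  49)) (.node 1 (.leaf
  672) (.node 1 (.leaf
  673) (.leaf
  102)))) (.node 2 (.node 1 (.leaf
  37) (.leaf
  566)) (.node 1 (.leaf
  49) (.node 1 (.leaf
  465) (.leaf
  635)))))))) (.node 40 (.node 20 (.node 10 (.node 5 (.node 2 (.node 1 (.leaf
  457) (.leaf
  98)) (.node 1 (.leaf
  587) (.node 1 (.leaf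
  649) (.leaf
  648)))) (.node 2 (.node 1 (.leaf
  674) (.leaf
  579)) (.node 1 (.leaf
  630) (.node 1 (.leaf
  100) (.leaf
  49))))) (.node 5 (.node 2 (.node 1 (.leaf
  439) (.leaf
  675)) (.node 1 (.leaf
  566) (.node 1 (.leaf
  627) (.leaf
  662)))) (.node 2 (.node 1 (.leaf
  676) (.leaf
  654)) (.node 1 (.leaf
  50) (.node 1 (.leaf
  626) (.leaf
  527)))))) (.node 10 (.node 5 (.node 2 (.node 1 (.leaf
  624) (.leaf
  677)) (.node 1 (.leaf
  119) (.node 1 (.leaf
  678) (.leaf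
  640)))) (.node 2 (.node 1 (.leaf
  543) (.leaf
  679)) (.node 1 (.leaf
  680) (.node 1 (.leaf
  681) (.leaf
  50))))) (.node 5 (.node 2 (.node 1 (.leaf
  471) (.leaf
  682)) (.node 1 (.leaf
  683) (.node 1 (.leaf
  428) (.leaf
  651)))) (.node 2 (.node 1 (.leaf
  431) (.leaf
  51)) (.node 1 (.leaf
  425) (.node 1 (.leaf
  597) (.leaf
  684))))))) (.node 20 (.node 10 (.node 5 (.node 2 (.node 1 (.leaf
  55) (.leaf
  502)) (.node 1 (.leaf
  51) (.node 1 (.leaf
  427) (.leaf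
  685)))) (.node 2 (.node 1 (.leaf
  605) (.leaf
  686)) (.node 1 (.leaf
  601) (.node 1 (.leaf
  506) (.leaf
  687))))) (.node 5 (.node 2 (.node 1 (.leaf
  648) (.leaf
  561)) (.node 1 (.leaf
  645) (.node 1 (.leaf
  52) (.leaf
  51)))) (.node 2 (.node 1 (.leaf
  441) (.leaf
  462)) (.node 1 (.leaf
  688) (.node 1 (.leaf
  542) (.leaf
  643)))))) (.node 10 (.node 5 (.node 2 (.node 1 (.leaf
  584) (.leaf
  52)) (.node 1 (.leaf
  478) (.node 1 (.leaf
  600) (.leaf
  519)))) (.node 2 (.node 1 (.leaf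
  689) (.leaf
  690)) (.node 1 (.leaf
  52) (.node 1 (.leaf
  508) (.leaf
  507))))) (.node 5 (.node 2 (.node 1 (.leaf
  470) (.leaf
  691)) (.node 1 (.leaf
  533) (.node 1 (.leaf
  112) (.leaf
  611)))) (.node 2 (.node 1 (.leaf
  692) (.leaf
  501)) (.node 1 (.leaf
  487) (.node 1 (.leaf
  693) (.leaf
  694))))))))) (.node 80 (.node 40 (.node 20 (.node 10 (.node 5 (.node 2 (.node 1 (.leaf
  637) (.leaf
  53)) (.node 1 (.leaf
  695) (.node 1 (.leaf
  466) (.leaf
  481)))) (.node 2 (.node 1 (.leaf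
  2) (.leaf
  93)) (.node 1 (.leaf
  53) (.node 1 (.leaf
  696) (.leaf
  634))))) (.node 5 (.node 2 (.node 1 (.leaf
  448) (.leaf
  571)) (.node 1 (.leaf
  446) (.node 1 (.leaf
  623) (.leaf
  697)))) (.node 2 (.node 1 (.leaf
  453) (.leaf
  111)) (.node 1 (.leaf
  451) (.node 1 (.leaf
  533) (.leaf
  53)))))) (.node 10 (.node 5 (.node 2 (.node 1 (.leaf
  87) (.leaf
  428)) (.node 1 (.leaf
  93) (.node 1 (.leaf
  534) (.leaf
  668)))) (.node 2 (.node 1 (.leaf
  472) (.leaf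
  495)) (.node 1 (.leaf
  54) (.node 1 (.leaf
  535) (.leaf
  628))))) (.node 5 (.node 2 (.node 1 (.leaf
  494) (.leaf
  524)) (.node 1 (.leaf
  585) (.node 1 (.leaf
  698) (.leaf
  699)))) (.node 2 (.node 1 (.leaf
  700) (.leaf
  701)) (.node 1 (.leaf
  702) (.node 1 (.leaf
  467) (.leaf
  54))))))) (.node 20 (.node 10 (.node 5 (.node 2 (.node 1 (.leaf
  444) (.leaf
  703)) (.node 1 (.leaf
  440) (.node 1 (.leaf
  675) (.leaf
  629)))) (.node 2 (.node 1 (.leaf
  537) (.leaf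
  55)) (.node 1 (.leaf
  632) (.node 1 (.leaf
  501) (.leaf
  704))))) (.node 5 (.node 2 (.node 1 (.leaf
  51) (.leaf
  598)) (.node 1 (.leaf
  55) (.node 1 (.leaf
  705) (.leaf
  706)))) (.node 2 (.node 1 (.leaf
  646) (.leaf
  664)) (.node 1 (.leaf
  475) (.node 1 (.leaf
  504) (.leaf
  528)))))) (.node 10 (.node 5 (.node 2 (.node 1 (.leaf
  697) (.leaf
  88)) (.node 1 (.leaf
  606) (.node 1 (.leaf
  56) (.leaf
  55)))) (.node 2 (.node 1 (.leaf
  688) (.leaf
  707)) (.node 1 (.leaf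
  441) (.node 1 (.leaf
  708) (.leaf
  709))))) (.node 5 (.node 2 (.node 1 (.leaf
  118) (.leaf
  56)) (.node 1 (.leaf
  710) (.node 1 (.leaf
  711) (.leaf
  712)))) (.node 2 (.node 1 (.leaf
  658) (.leaf
  656)) (.node 1 (.leaf
  56) (.node 1 (.leaf
  713) (.leaf
  621)))))))) (.node 40 (.node 20 (.node 10 (.node 5 (.node 2 (.node 1 (.leaf
  714) (.leaf
  482)) (.node 1 (.leaf
  100) (.node 1 (.leaf
  580) (.leaf
  610)))) (.node 2 (.node 1 (.leaf
  594) (.leaf
  715)) (.node 1 (.leaf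
  433) (.node 1 (.leaf
  548) (.leaf
  116))))) (.node 5 (.node 2 (.node 1 (.leaf
  434) (.leaf
  57)) (.node 1 (.leaf
  432) (.node 1 (.leaf
  716) (.leaf
  717)))) (.node 2 (.node 1 (.leaf
  59) (.leaf
  718)) (.node 1 (.leaf
  57) (.node 1 (.leaf
  569) (.leaf
  719)))))) (.node 10 (.node 5 (.node 2 (.node 1 (.leaf
  654) (.leaf
  637)) (.node 1 (.leaf
  653) (.node 1 (.leaf
  532) (.leaf
  461)))) (.node 2 (.node 1 (.leaf
  651) (.leaf
  79)) (.node 1 (.leaf
  650) (.node 1 (.leaf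
  451) (.leaf
  57))))) (.node 5 (.node 2 (.node 1 (.leaf
  98) (.leaf
  610)) (.node 1 (.leaf
  718) (.node 1 (.leaf
  720) (.leaf
  721)))) (.node 2 (.node 1 (.leaf
  722) (.leaf
  723)) (.node 1 (.leaf
  58) (.node 1 (.leaf
  724) (.leaf
  725))))))) (.node 20 (.node 10 (.node 5 (.node 2 (.node 1 (.leaf
  546) (.leaf
  726)) (.node 1 (.leaf
  727) (.node 1 (.leaf
  680) (.leaf
  58)))) (.node 2 (.node 1 (.leaf
  728) (.leaf
  59)) (.node 1 (.leaf
  505) (.node 1 (.leaf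
  474) (.leaf
  573))))) (.node 5 (.node 2 (.node 1 (.leaf
  72) (.leaf
  68)) (.node 1 (.leaf
  71) (.node 1 (.leaf
  530) (.leaf
  633)))) (.node 2 (.node 1 (.leaf
  729) (.leaf
  730)) (.node 1 (.leaf
  731) (.node 1 (.leaf
  732) (.leaf
  59)))))) (.node 10 (.node 5 (.node 2 (.node 1 (.leaf
  475) (.leaf
  491)) (.node 1 (.leaf
  646) (.node 1 (.leaf
  590) (.leaf
  733)))) (.node 2 (.node 1 (.leaf
  589) (.leaf
  60)) (.node 1 (.leaf
  595) (.node 1 (.leaf
  715) (.leaf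
  734))))) (.node 5 (.node 2 (.node 1 (.leaf
  623) (.leaf
  735)) (.node 1 (.leaf
  60) (.node 1 (.leaf
  591) (.leaf
  480)))) (.node 2 (.node 1 (.leaf
  461) (.leaf
  99)) (.node 1 (.leaf
  429) (.node 1 (.leaf
  61) (.leaf
  60)))))))))))) (.node 640 (.node 320 (.node 160 (.node 80 (.node 40 (.node 20 (.node 10 (.node 5 (.node 2 (.node 1 (.leaf
  602) (.leaf
  617)) (.node 1 (.leaf
  61) (.node 1 (.leaf
  689) (.leaf
  565)))) (.node 2 (.node 1 (.leaf
  736) (.leaf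
  62)) (.node 1 (.leaf
  737) (.node 1 (.leaf
  717) (.leaf
  716))))) (.node 5 (.node 2 (.node 1 (.leaf
  738) (.leaf
  636)) (.node 1 (.leaf
  739) (.node 1 (.leaf
  517) (.leaf
  516)))) (.node 2 (.node 1 (.leaf
  643) (.leaf
  476)) (.node 1 (.leaf
  612) (.node 1 (.leaf
  594) (.leaf
  62)))))) (.node 10 (.node 5 (.node 2 (.node 1 (.leaf
  740) (.leaf
  648)) (.node 1 (.leaf
  741) (.node 1 (.leaf
  700) (.leaf
  447)))) (.node 2 (.node 1 (.leaf
  547) (.leaf
  110)) (.node 1 (.leaf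
  742) (.node 1 (.leaf
  560) (.leaf
  63))))) (.node 5 (.node 2 (.node 1 (.leaf
  732) (.leaf
  70)) (.node 1 (.leaf
  743) (.node 1 (.leaf
  631) (.leaf
  669)))) (.node 2 (.node 1 (.leaf
  613) (.leaf
  665)) (.node 1 (.leaf
  526) (.node 1 (.leaf
  744) (.leaf
  469))))))) (.node 20 (.node 10 (.node 5 (.node 2 (.node 1 (.leaf
  745) (.leaf
  746)) (.node 1 (.leaf
  747) (.node 1 (.leaf
  448) (.leaf
  64)))) (.node 2 (.node 1 (.leaf
  486) (.leaf
  640)) (.node 1 (.leaf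
  557) (.node 1 (.leaf
  748) (.leaf
  749))))) (.node 5 (.node 2 (.node 1 (.leaf
  550) (.leaf
  65)) (.node 1 (.leaf
  750) (.node 1 (.leaf
  452) (.leaf
  84)))) (.node 2 (.node 1 (.leaf
  631) (.leaf
  699)) (.node 1 (.leaf
  65) (.node 1 (.leaf
  480) (.leaf
  591)))))) (.node 10 (.node 5 (.node 2 (.node 1 (.leaf
  751) (.leaf
  118)) (.node 1 (.leaf
  633) (.node 1 (.leaf
  606) (.leaf
  605)))) (.node 2 (.node 1 (.leaf
  424) (.leaf
  692)) (.node 1 (.leaf
  422) (.node 1 (.leaf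
  632) (.leaf
  488))))) (.node 5 (.node 2 (.node 1 (.leaf
  705) (.leaf
  66)) (.node 1 (.leaf
  675) (.node 1 (.leaf
  563) (.leaf
  752)))) (.node 2 (.node 1 (.leaf
  68) (.leaf
  753)) (.node 1 (.leaf
  66) (.node 1 (.leaf
  537) (.leaf
  579)))))))) (.node 40 (.node 20 (.node 10 (.node 5 (.node 2 (.node 1 (.leaf
  754) (.leaf
  755)) (.node 1 (.leaf
  523) (.node 1 (.leaf
  568) (.leaf
  479)))) (.node 2 (.node 1 (.leaf
  756) (.leaf
  751)) (.node 1 (.leaf
  757) (.node 1 (.leaf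
  117) (.leaf
  66))))) (.node 5 (.node 2 (.node 1 (.leaf
  578) (.leaf
  87)) (.node 1 (.leaf
  753) (.node 1 (.leaf
  683) (.leaf
  688)))) (.node 2 (.node 1 (.leaf
  758) (.leaf
  500)) (.node 1 (.leaf
  67) (.node 1 (.leaf
  471) (.leaf
  759)))))) (.node 10 (.node 5 (.node 2 (.node 1 (.leaf
  587) (.leaf
  760)) (.node 1 (.leaf
  457) (.node 1 (.leaf
  761) (.leaf
  762)))) (.node 2 (.node 1 (.leaf
  630) (.leaf
  763)) (.node 1 (.leaf
  674) (.node 1 (.leaf
  564) (.leaf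
  67))))) (.node 5 (.node 2 (.node 1 (.leaf
  764) (.leaf
  448)) (.node 1 (.leaf
  765) (.node 1 (.leaf
  570) (.leaf
  766)))) (.node 2 (.node 1 (.leaf
  767) (.leaf
  499)) (.node 1 (.leaf
  707) (.node 1 (.leaf
  665) (.leaf
  68))))))) (.node 20 (.node 10 (.node 5 (.node 2 (.node 1 (.leaf
  531) (.leaf
  696)) (.node 1 (.leaf
  673) (.node 1 (.leaf
  50) (.leaf
  681)))) (.node 2 (.node 1 (.leaf
  655) (.leaf
  69)) (.node 1 (.leaf
  768) (.node 1 (.leaf
  692) (.leaf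
  714))))) (.node 5 (.node 2 (.node 1 (.leaf
  4) (.leaf
  444)) (.node 1 (.leaf
  69) (.node 1 (.leaf
  676) (.leaf
  769)))) (.node 2 (.node 1 (.leaf
  476) (.leaf
  601)) (.node 1 (.leaf
  474) (.node 1 (.leaf
  718) (.leaf
  710)))))) (.node 10 (.node 5 (.node 2 (.node 1 (.leaf
  479) (.leaf
  577)) (.node 1 (.leaf
  435) (.node 1 (.leaf
  70) (.leaf
  69)))) (.node 2 (.node 1 (.leaf
  104) (.leaf
  748)) (.node 1 (.leaf
  102) (.node 1 (.leaf
  691) (.leaf
  770))))) (.node 5 (.node 2 (.node 1 (.leaf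
  426) (.leaf
  771)) (.node 1 (.leaf
  70) (.node 1 (.leaf
  721) (.leaf
  720)))) (.node 2 (.node 1 (.leaf
  506) (.leaf
  586)) (.node 1 (.leaf
  504) (.node 1 (.leaf
  621) (.leaf
  713))))))))) (.node 80 (.node 40 (.node 20 (.node 10 (.node 5 (.node 2 (.node 1 (.leaf
  511) (.leaf
  772)) (.node 1 (.leaf
  509) (.node 1 (.leaf
  639) (.leaf
  71)))) (.node 2 (.node 1 (.leaf
  773) (.leaf
  774)) (.node 1 (.leaf
  775) (.node 1 (.leaf
  776) (.leaf
  777))))) (.node 5 (.node 2 (.node 1 (.leaf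
  778) (.leaf
  72)) (.node 1 (.leaf
  712) (.node 1 (.leaf
  779) (.leaf
  780)))) (.node 2 (.node 1 (.leaf
  781) (.leaf
  434)) (.node 1 (.leaf
  677) (.node 1 (.leaf
  620) (.leaf
  666)))))) (.node 10 (.node 5 (.node 2 (.node 1 (.leaf
  580) (.leaf
  628)) (.node 1 (.leaf
  687) (.node 1 (.leaf
  650) (.leaf
  72)))) (.node 2 (.node 1 (.leaf
  454) (.leaf
  464)) (.node 1 (.leaf
  498) (.node 1 (.leaf
  49) (.leaf
  100))))) (.node 5 (.node 2 (.node 1 (.leaf
  627) (.leaf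
  73)) (.node 1 (.leaf
  626) (.node 1 (.leaf
  637) (.leaf
  636)))) (.node 2 (.node 1 (.leaf
  776) (.leaf
  431)) (.node 1 (.leaf
  73) (.node 1 (.leaf
  37) (.leaf
  557))))))) (.node 20 (.node 10 (.node 5 (.node 2 (.node 1 (.leaf
  782) (.leaf
  783)) (.node 1 (.leaf
  784) (.node 1 (.leaf
  755) (.leaf
  785)))) (.node 2 (.node 1 (.leaf
  713) (.leaf
  117)) (.node 1 (.leaf
  708) (.node 1 (.leaf
  74) (.leaf
  73))))) (.node 5 (.node 2 (.node 1 (.leaf
  752) (.leaf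
  700)) (.node 1 (.leaf
  499) (.node 1 (.leaf
  726) (.leaf
  619)))) (.node 2 (.node 1 (.leaf
  707) (.leaf
  74)) (.node 1 (.leaf
  767) (.node 1 (.leaf
  786) (.leaf
  742)))))) (.node 10 (.node 5 (.node 2 (.node 1 (.leaf
  46) (.leaf
  625)) (.node 1 (.leaf
  74) (.node 1 (.leaf
  583) (.leaf
  787)))) (.node 2 (.node 1 (.leaf
  731) (.leaf
  750)) (.node 1 (.leaf
  729) (.node 1 (.leaf
  107) (.leaf
  457))))) (.node 5 (.node 2 (.node 1 (.leaf
  505) (.leaf
  446)) (.node 1 (.leaf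
  728) (.node 1 (.leaf
  788) (.leaf
  750)))) (.node 2 (.node 1 (.leaf
  789) (.leaf
  75)) (.node 1 (.leaf
  749) (.node 1 (.leaf
  745) (.leaf
  790)))))))) (.node 40 (.node 20 (.node 10 (.node 5 (.node 2 (.node 1 (.leaf
  77) (.leaf
  652)) (.node 1 (.leaf
  75) (.node 1 (.leaf
  791) (.leaf
  792)))) (.node 2 (.node 1 (.leaf
  681) (.leaf
  666)) (.node 1 (.leaf
  711) (.node 1 (.leaf
  47) (.leaf
  75))))) (.node 5 (.node 2 (.node 1 (.leaf
  755) (.leaf
  119)) (.node 1 (.leaf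
  652) (.node 1 (.leaf
  475) (.leaf
  793)))) (.node 2 (.node 1 (.leaf
  794) (.leaf
  795)) (.node 1 (.leaf
  76) (.node 1 (.leaf
  646) (.leaf
  645)))))) (.node 10 (.node 5 (.node 2 (.node 1 (.leaf
  796) (.leaf
  717)) (.node 1 (.leaf
  660) (.node 1 (.leaf
  674) (.leaf
  76)))) (.node 2 (.node 1 (.leaf
  611) (.leaf
  77)) (.node 1 (.leaf
  610) (.node 1 (.leaf
  797) (.leaf
  667))))) (.node 5 (.node 2 (.node 1 (.leaf
  712) (.leaf
  775)) (.node 1 (.leaf
  778) (.node 1 (.leaf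
  642) (.leaf
  641)))) (.node 2 (.node 1 (.leaf
  567) (.leaf
  798)) (.node 1 (.leaf
  799) (.node 1 (.leaf
  800) (.leaf
  77))))))) (.node 20 (.node 10 (.node 5 (.node 2 (.node 1 (.leaf
  97) (.leaf
  545)) (.node 1 (.leaf
  95) (.node 1 (.leaf
  585) (.leaf
  584)))) (.node 2 (.node 1 (.leaf
  525) (.leaf
  78)) (.node 1 (.leaf
  507) (.node 1 (.leaf
  446) (.leaf
  801))))) (.node 5 (.node 2 (.node 1 (.leaf
  43) (.leaf
  649)) (.node 1 (.leaf
  78) (.node 1 (.leaf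
  494) (.leaf
  493)))) (.node 2 (.node 1 (.leaf
  535) (.leaf
  532)) (.node 1 (.leaf
  534) (.node 1 (.leaf
  424) (.leaf
  657)))))) (.node 10 (.node 5 (.node 2 (.node 1 (.leaf
  503) (.leaf
  785)) (.node 1 (.leaf
  527) (.node 1 (.leaf
  79) (.leaf
  78)))) (.node 2 (.node 1 (.leaf
  573) (.leaf
  486)) (.node 1 (.leaf
  79) (.node 1 (.leaf
  426) (.leaf
  425))))) (.node 5 (.node 2 (.node 1 (.leaf
  635) (.leaf
  80)) (.node 1 (.leaf
  634) (.node 1 (.leaf
  790) (.leaf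
  745)))) (.node 2 (.node 1 (.leaf
  802) (.leaf
  512)) (.node 1 (.leaf
  699) (.node 1 (.leaf
  615) (.leaf
  614)))))))))) (.node 160 (.node 80 (.node 40 (.node 20 (.node 10 (.node 5 (.node 2 (.node 1 (.leaf
  770) (.leaf
  709)) (.node 1 (.leaf
  735) (.node 1 (.leaf
  505) (.leaf
  80)))) (.node 2 (.node 1 (.leaf
  36) (.leaf
  803)) (.node 1 (.leaf
  81) (.node 1 (.leaf
  697) (.leaf
  623))))) (.node 5 (.node 2 (.node 1 (.leaf
  529) (.leaf
  479)) (.node 1 (.leaf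
  629) (.node 1 (.leaf
  62) (.leaf
  594)))) (.node 2 (.node 1 (.leaf
  497) (.leaf
  742)) (.node 1 (.leaf
  495) (.node 1 (.leaf
  468) (.leaf
  81)))))) (.node 10 (.node 5 (.node 2 (.node 1 (.leaf
  800) (.leaf
  777)) (.node 1 (.leaf
  690) (.node 1 (.leaf
  492) (.leaf
  422)))) (.node 2 (.node 1 (.leaf
  52) (.leaf
  82)) (.node 1 (.leaf
  689) (.node 1 (.leaf
  667) (.leaf
  797))))) (.node 5 (.node 2 (.node 1 (.leaf
  804) (.leaf
  609)) (.node 1 (.leaf
  725) (.node 1 (.leaf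
  668) (.leaf
  534)))) (.node 2 (.node 1 (.leaf
  582) (.leaf
  747)) (.node 1 (.leaf
  686) (.node 1 (.leaf
  40) (.leaf
  82))))))) (.node 20 (.node 10 (.node 5 (.node 2 (.node 1 (.leaf
  463) (.leaf
  762)) (.node 1 (.leaf
  665) (.node 1 (.leaf
  572) (.leaf
  571)))) (.node 2 (.node 1 (.leaf
  526) (.leaf
  83)) (.node 1 (.leaf
  613) (.node 1 (.leaf
  455) (.leaf
  454))))) (.node 5 (.node 2 (.node 1 (.leaf
  662) (.leaf
  107)) (.node 1 (.leaf
  641) (.node 1 (.leaf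
  101) (.leaf
  476)))) (.node 2 (.node 1 (.leaf
  614) (.leaf
  89)) (.node 1 (.leaf
  598) (.node 1 (.leaf
  3) (.leaf
  83)))))) (.node 10 (.node 5 (.node 2 (.node 1 (.leaf
  425) (.leaf
  683)) (.node 1 (.leaf
  431) (.node 1 (.leaf
  712) (.leaf
  711)))) (.node 2 (.node 1 (.leaf
  73) (.leaf
  84)) (.node 1 (.leaf
  776) (.node 1 (.leaf
  758) (.leaf
  805))))) (.node 5 (.node 2 (.node 1 (.leaf
  86) (.leaf
  670)) (.node 1 (.leaf
  84) (.node 1 (.leaf
  778) (.leaf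
  806)))) (.node 2 (.node 1 (.leaf
  746) (.leaf
  449)) (.node 1 (.leaf
  716) (.node 1 (.leaf
  58) (.leaf
  680)))))))) (.node 40 (.node 20 (.node 10 (.node 5 (.node 2 (.node 1 (.leaf
  465) (.leaf
  535)) (.node 1 (.leaf
  670) (.node 1 (.leaf
  653) (.leaf
  607)))) (.node 2 (.node 1 (.leaf
  559) (.leaf
  807)) (.node 1 (.leaf
  85) (.node 1 (.leaf
  654) (.leaf
  731))))) (.node 5 (.node 2 (.node 1 (.leaf
  569) (.leaf
  582)) (.node 1 (.leaf
  548) (.node 1 (.leaf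
  808) (.leaf
  103)))) (.node 2 (.node 1 (.leaf
  762) (.leaf
  704)) (.node 1 (.leaf
  809) (.node 1 (.leaf
  810) (.leaf
  85)))))) (.node 10 (.node 5 (.node 2 (.node 1 (.leaf
  90) (.leaf
  86)) (.node 1 (.leaf
  89) (.node 1 (.leaf
  669) (.leaf
  631)))) (.node 2 (.node 1 (.leaf
  788) (.leaf
  555)) (.node 1 (.leaf
  791) (.node 1 (.leaf
  722) (.leaf
  811))))) (.node 5 (.node 2 (.node 1 (.leaf
  812) (.leaf
  813)) (.node 1 (.leaf
  608) (.node 1 (.leaf
  104) (.leaf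
  86)))) (.node 2 (.node 1 (.leaf
  93) (.leaf
  773)) (.node 1 (.leaf
  87) (.node 1 (.leaf
  814) (.leaf
  736))))))) (.node 20 (.node 10 (.node 5 (.node 2 (.node 1 (.leaf
  119) (.leaf
  504)) (.node 1 (.leaf
  624) (.node 1 (.leaf
  735) (.leaf
  804)))) (.node 2 (.node 1 (.leaf
  680) (.leaf
  635)) (.node 1 (.leaf
  543) (.node 1 (.leaf
  88) (.leaf
  87))))) (.node 5 (.node 2 (.node 1 (.leaf
  684) (.leaf
  815)) (.node 1 (.leaf
  88) (.node 1 (.leaf
  80) (.leaf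
  505)))) (.node 2 (.node 1 (.leaf
  621) (.leaf
  568)) (.node 1 (.leaf
  620) (.node 1 (.leaf
  57) (.leaf
  451)))))) (.node 10 (.node 5 (.node 2 (.node 1 (.leaf
  593) (.leaf
  727)) (.node 1 (.leaf
  616) (.node 1 (.leaf
  751) (.leaf
  89)))) (.node 2 (.node 1 (.leaf
  35) (.leaf
  558)) (.node 1 (.leaf
  516) (.node 1 (.leaf
  442) (.leaf
  816))))) (.node 5 (.node 2 (.node 1 (.leaf
  682) (.leaf
  90)) (.node 1 (.leaf
  817) (.node 1 (.leaf
  547) (.leaf
  546)))) (.node 2 (.node 1 (.leaf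
  784) (.leaf
  589)) (.node 1 (.leaf
  782) (.node 1 (.leaf
  59) (.leaf
  732))))))))) (.node 80 (.node 40 (.node 20 (.node 10 (.node 5 (.node 2 (.node 1 (.leaf
  708) (.leaf
  492)) (.node 1 (.leaf
  713) (.node 1 (.leaf
  429) (.leaf
  90)))) (.node 2 (.node 1 (.leaf
  805) (.leaf
  659)) (.node 1 (.leaf
  813) (.node 1 (.leaf
  574) (.leaf
  723))))) (.node 5 (.node 2 (.node 1 (.leaf
  608) (.leaf
  91)) (.node 1 (.leaf
  812) (.node 1 (.leaf
  818) (.leaf
  464)))) (.node 2 (.node 1 (.leaf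
  577) (.leaf
  721)) (.node 1 (.leaf
  91) (.node 1 (.leaf
  819) (.leaf
  820)))))) (.node 10 (.node 5 (.node 2 (.node 1 (.leaf
  440) (.leaf
  520)) (.node 1 (.leaf
  444) (.node 1 (.leaf
  71) (.leaf
  639)))) (.node 2 (.node 1 (.leaf
  565) (.leaf
  627)) (.node 1 (.leaf
  92) (.node 1 (.leaf
  72) (.leaf
  650))))) (.node 5 (.node 2 (.node 1 (.leaf
  60) (.leaf
  576)) (.node 1 (.leaf
  623) (.node 1 (.leaf
  611) (.leaf
  112)))) (.node 2 (.node 1 (.leaf
  793) (.leaf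
  799)) (.node 1 (.leaf
  556) (.node 1 (.leaf
  658) (.leaf
  92))))))) (.node 20 (.node 10 (.node 5 (.node 2 (.node 1 (.leaf
  760) (.leaf
  821)) (.node 1 (.leaf
  604) (.node 1 (.leaf
  770) (.leaf
  691)))) (.node 2 (.node 1 (.leaf
  710) (.leaf
  441)) (.node 1 (.leaf
  118) (.node 1 (.leaf
  94) (.leaf
  93))))) (.node 5 (.node 2 (.node 1 (.leaf
  600) (.leaf
  739)) (.node 1 (.leaf
  467) (.node 1 (.leaf
  460) (.leaf
  765)))) (.node 2 (.node 1 (.leaf
  116) (.leaf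
  94)) (.node 1 (.leaf
  544) (.node 1 (.leaf
  679) (.leaf
  822)))))) (.node 10 (.node 5 (.node 2 (.node 1 (.leaf
  617) (.leaf
  667)) (.node 1 (.leaf
  94) (.node 1 (.leaf
  462) (.leaf
  432)))) (.node 2 (.node 1 (.leaf
  823) (.leaf
  733)) (.node 1 (.leaf
  452) (.node 1 (.leaf
  725) (.leaf
  724))))) (.node 5 (.node 2 (.node 1 (.leaf
  507) (.leaf
  95)) (.node 1 (.leaf
  525) (.node 1 (.leaf
  552) (.leaf
  630)))) (.node 2 (.node 1 (.leaf
  807) (.leaf
  655)) (.node 1 (.leaf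
  779) (.node 1 (.leaf
  68) (.leaf
  665)))))))) (.node 40 (.node 20 (.node 10 (.node 5 (.node 2 (.node 1 (.leaf
  521) (.leaf
  732)) (.node 1 (.leaf
  510) (.node 1 (.leaf
  435) (.leaf
  95)))) (.node 2 (.node 1 (.leaf
  449) (.leaf
  724)) (.node 1 (.leaf
  545) (.node 1 (.leaf
  677) (.leaf
  489))))) (.node 5 (.node 2 (.node 1 (.leaf
  787) (.leaf
  483)) (.node 1 (.leaf
  96) (.node 1 (.leaf
  781) (.leaf
  509)))) (.node 2 (.node 1 (.leaf
  455) (.leaf
  734)) (.node 1 (.leaf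
  437) (.node 1 (.leaf
  809) (.leaf
  96)))))) (.node 10 (.node 5 (.node 2 (.node 1 (.leaf
  797) (.leaf
  97)) (.node 1 (.leaf
  709) (.node 1 (.leaf
  603) (.leaf
  743)))) (.node 2 (.node 1 (.leaf
  817) (.leaf
  516)) (.node 1 (.leaf
  682) (.node 1 (.leaf
  66) (.leaf
  117))))) (.node 5 (.node 2 (.node 1 (.leaf
  824) (.leaf
  674)) (.node 1 (.leaf
  825) (.node 1 (.leaf
  459) (.leaf
  97)))) (.node 2 (.node 1 (.leaf
  604) (.leaf
  789)) (.node 1 (.leaf
  760) (.node 1 (.leaf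
  664) (.leaf
  638))))))) (.node 20 (.node 10 (.node 5 (.node 2 (.node 1 (.leaf
  718) (.leaf
  522)) (.node 1 (.leaf
  98) (.node 1 (.leaf
  114) (.leaf
  113)))) (.node 2 (.node 1 (.leaf
  625) (.leaf
  759)) (.node 1 (.leaf
  99) (.node 1 (.leaf
  684) (.leaf
  597))))) (.node 5 (.node 2 (.node 1 (.leaf
  65) (.leaf
  725)) (.node 1 (.leaf
  631) (.node 1 (.leaf
  687) (.leaf
  506)))) (.node 2 (.node 1 (.leaf
  826) (.leaf
  680)) (.node 1 (.leaf
  777) (.node 1 (.leaf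
  793) (.leaf
  475)))))) (.node 10 (.node 5 (.node 2 (.node 1 (.leaf
  459) (.leaf
  816)) (.node 1 (.leaf
  766) (.node 1 (.leaf
  111) (.leaf
  431)))) (.node 2 (.node 1 (.leaf
  639) (.leaf
  101)) (.node 1 (.leaf
  685) (.node 1 (.leaf
  743) (.leaf
  603))))) (.node 5 (.node 2 (.node 1 (.leaf
  588) (.leaf
  554)) (.node 1 (.leaf
  586) (.node 1 (.leaf
  476) (.leaf
  101)))) (.node 2 (.node 1 (.leaf
  743) (.leaf
  102)) (.node 1 (.leaf
  732) (.node 1 (.leaf
  827) (.leaf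
  753))))))))))) (.node 320 (.node 160 (.node 80 (.node 40 (.node 20 (.node 10 (.node 5 (.node 2 (.node 1 (.leaf
  480) (.leaf
  503)) (.node 1 (.leaf
  748) (.node 1 (.leaf
  607) (.leaf
  653)))) (.node 2 (.node 1 (.leaf
  828) (.leaf
  737)) (.node 1 (.leaf
  103) (.node 1 (.leaf
  609) (.leaf
  775))))) (.node 5 (.node 2 (.node 1 (.leaf
  741) (.leaf
  697)) (.node 1 (.leaf
  740) (.node 1 (.leaf
  543) (.leaf
  760)))) (.node 2 (.node 1 (.leaf
  742) (.leaf
  578)) (.node 1 (.leaf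
  547) (.node 1 (.leaf
  86) (.leaf
  104)))))) (.node 10 (.node 5 (.node 2 (.node 1 (.leaf
  661) (.leaf
  529)) (.node 1 (.leaf
  659) (.node 1 (.leaf
  772) (.leaf
  829)))) (.node 2 (.node 1 (.leaf
  813) (.leaf
  105)) (.node 1 (.leaf
  805) (.node 1 (.leaf
  771) (.leaf
  524))))) (.node 5 (.node 2 (.node 1 (.leaf
  113) (.leaf
  729)) (.node 1 (.leaf
  105) (.node 1 (.leaf
  780) (.leaf
  779)))) (.node 2 (.node 1 (.leaf
  99) (.leaf
  689)) (.node 1 (.leaf
  625) (.node 1 (.leaf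
  769) (.leaf
  676))))))) (.node 20 (.node 10 (.node 5 (.node 2 (.node 1 (.leaf
  58) (.leaf
  591)) (.node 1 (.leaf
  722) (.node 1 (.leaf
  106) (.leaf
  105)))) (.node 2 (.node 1 (.leaf
  555) (.leaf
  106)) (.node 1 (.leaf
  649) (.node 1 (.leaf
  610) (.leaf
  580))))) (.node 5 (.node 2 (.node 1 (.leaf
  678) (.leaf
  784)) (.node 1 (.leaf
  106) (.node 1 (.leaf
  588) (.leaf
  690)))) (.node 2 (.node 1 (.leaf
  667) (.leaf
  463)) (.node 1 (.leaf
  666) (.node 1 (.leaf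
  826) (.leaf
  768)))))) (.node 10 (.node 5 (.node 2 (.node 1 (.leaf
  592) (.leaf
  716)) (.node 1 (.leaf
  663) (.node 1 (.leaf
  457) (.leaf
  107)))) (.node 2 (.node 1 (.leaf
  825) (.leaf
  108)) (.node 1 (.leaf
  824) (.node 1 (.leaf
  608) (.leaf
  746))))) (.node 5 (.node 2 (.node 1 (.leaf
  815) (.leaf
  536)) (.node 1 (.leaf
  830) (.node 1 (.leaf
  777) (.leaf
  776)))) (.node 2 (.node 1 (.leaf
  709) (.leaf
  474)) (.node 1 (.leaf
  797) (.node 1 (.leaf
  652) (.leaf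
  108)))))))) (.node 40 (.node 20 (.node 10 (.node 5 (.node 2 (.node 1 (.leaf
  91) (.leaf
  802)) (.node 1 (.leaf
  577) (.node 1 (.leaf
  511) (.leaf
  522)))) (.node 2 (.node 1 (.leaf
  564) (.leaf
  638)) (.node 1 (.leaf
  109) (.node 1 (.leaf
  509) (.leaf
  781))))) (.node 5 (.node 2 (.node 1 (.leaf
  768) (.leaf
  673)) (.node 1 (.leaf
  655) (.node 1 (.leaf
  110) (.leaf
  109)))) (.node 2 (.node 1 (.leaf
  753) (.leaf
  519)) (.node 1 (.leaf
  578) (.node 1 (.leaf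
  822) (.leaf
  679)))))) (.node 10 (.node 5 (.node 2 (.node 1 (.leaf
  430) (.leaf
  712)) (.node 1 (.leaf
  110) (.node 1 (.leaf
  831) (.leaf
  701)))) (.node 2 (.node 1 (.leaf
  554) (.leaf
  477)) (.node 1 (.leaf
  552) (.node 1 (.leaf
  96) (.leaf
  809))))) (.node 5 (.node 2 (.node 1 (.leaf
  5) (.leaf
  509)) (.node 1 (.leaf
  111) (.node 1 (.leaf
  804) (.leaf
  735)))) (.node 2 (.node 1 (.leaf
  83) (.leaf
  645)) (.node 1 (.leaf
  492) (.node 1 (.leaf
  710) (.leaf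
  718))))))) (.node 20 (.node 10 (.node 5 (.node 2 (.node 1 (.leaf
  528) (.leaf
  615)) (.node 1 (.leaf
  112) (.node 1 (.leaf
  685) (.leaf
  427)))) (.node 2 (.node 1 (.leaf
  490) (.leaf
  549)) (.node 1 (.leaf
  482) (.node 1 (.leaf
  503) (.leaf
  502))))) (.node 5 (.node 2 (.node 1 (.leaf
  100) (.leaf
  113)) (.node 1 (.leaf
  714) (.node 1 (.leaf
  733) (.leaf
  590)))) (.node 2 (.node 1 (.leaf
  105) (.leaf
  651)) (.node 1 (.leaf
  113) (.node 1 (.leaf
  527) (.leaf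
  626)))))) (.node 10 (.node 5 (.node 2 (.node 1 (.leaf
  811) (.leaf
  832)) (.node 1 (.leaf
  647) (.node 1 (.leaf
  806) (.leaf
  778)))) (.node 2 (.node 1 (.leaf
  644) (.leaf
  745)) (.node 1 (.leaf
  483) (.node 1 (.leaf
  754) (.leaf
  707))))) (.node 5 (.node 2 (.node 1 (.leaf
  96) (.leaf
  114)) (.node 1 (.leaf
  787) (.node 1 (.leaf
  723) (.leaf
  574)))) (.node 2 (.node 1 (.leaf
  664) (.leaf
  621)) (.node 1 (.leaf
  114) (.node 1 (.leaf
  523) (.leaf
  436))))))))) (.node 80 (.node 40 (.node 20 (.node 10 (.node 5 (.node 2 (.node 1 (.leaf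
  48) (.leaf
  606)) (.node 1 (.leaf
  657) (.node 1 (.leaf
  478) (.leaf
  477)))) (.node 2 (.node 1 (.leaf
  737) (.leaf
  453)) (.node 1 (.leaf
  736) (.node 1 (.leaf
  766) (.leaf
  570))))) (.node 5 (.node 2 (.node 1 (.leaf
  829) (.leaf
  776)) (.node 1 (.leaf
  703) (.node 1 (.leaf
  28) (.leaf
  115)))) (.node 2 (.node 1 (.leaf
  726) (.leaf
  681)) (.node 1 (.leaf
  583) (.node 1 (.leaf
  759) (.leaf
  471)))))) (.node 10 (.node 5 (.node 2 (.node 1 (.leaf
  544) (.leaf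
  467)) (.node 1 (.leaf
  116) (.node 1 (.leaf
  445) (.leaf
  444)))) (.node 2 (.node 1 (.leaf
  647) (.leaf
  694)) (.node 1 (.leaf
  811) (.node 1 (.leaf
  617) (.leaf
  443))))) (.node 5 (.node 2 (.node 1 (.leaf
  271) (.leaf
  833)) (.node 1 (.leaf
  269) (.node 1 (.leaf
  249) (.leaf
  324)))) (.node 2 (.node 1 (.leaf
  834) (.leaf
  120)) (.node 1 (.leaf
  835) (.node 1 (.leaf
  175) (.leaf
  836))))))) (.node 20 (.node 10 (.node 5 (.node 2 (.node 1 (.leaf
  122) (.leaf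
  837)) (.node 1 (.leaf
  120) (.node 1 (.leaf
  382) (.leaf
  196)))) (.node 2 (.node 1 (.leaf
  838) (.leaf
  839)) (.node 1 (.leaf
  215) (.node 1 (.leaf
  180) (.leaf
  317))))) (.node 5 (.node 2 (.node 1 (.leaf
  840) (.leaf
  841)) (.node 1 (.leaf
  842) (.node 1 (.leaf
  200) (.leaf
  120)))) (.node 2 (.node 1 (.leaf
  195) (.leaf
  843)) (.node 1 (.leaf
  837) (.node 1 (.leaf
  844) (.leaf
  408)))))) (.node 10 (.node 5 (.node 2 (.node 1 (.leaf
  845) (.leaf
  228)) (.node 1 (.leaf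
  121) (.node 1 (.leaf
  309) (.leaf
  846)))) (.node 2 (.node 1 (.leaf
  847) (.leaf
  848)) (.node 1 (.leaf
  255) (.node 1 (.leaf
  176) (.leaf
  121))))) (.node 5 (.node 2 (.node 1 (.leaf
  126) (.leaf
  122)) (.node 1 (.leaf
  125) (.node 1 (.leaf
  849) (.leaf
  850)))) (.node 2 (.node 1 (.leaf
  334) (.leaf
  295)) (.node 1 (.leaf
  332) (.node 1 (.leaf
  182) (.leaf
  380)))))))) (.node 40 (.node 20 (.node 10 (.node 5 (.node 2 (.node 1 (.leaf
  851) (.leaf
  852)) (.node 1 (.leaf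
  242) (.node 1 (.leaf
  146) (.leaf
  364)))) (.node 2 (.node 1 (.leaf
  243) (.leaf
  123)) (.node 1 (.leaf
  241) (.node 1 (.leaf
  833) (.leaf
  853))))) (.node 5 (.node 2 (.node 1 (.leaf
  130) (.leaf
  291)) (.node 1 (.leaf
  123) (.node 1 (.leaf
  343) (.leaf
  854)))) (.node 2 (.node 1 (.leaf
  317) (.leaf
  194)) (.node 1 (.leaf
  284) (.node 1 (.leaf
  124) (.leaf
  123)))))) (.node 10 (.node 5 (.node 2 (.node 1 (.leaf
  155) (.leaf
  855)) (.node 1 (.leaf
  856) (.node 1 (.leaf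
  388) (.leaf
  415)))) (.node 2 (.node 1 (.leaf
  857) (.leaf
  124)) (.node 1 (.leaf
  371) (.node 1 (.leaf
  858) (.leaf
  859))))) (.node 5 (.node 2 (.node 1 (.leaf
  273) (.leaf
  860)) (.node 1 (.leaf
  124) (.node 1 (.leaf
  390) (.leaf
  861)))) (.node 2 (.node 1 (.leaf
  290) (.leaf
  125)) (.node 1 (.leaf
  862) (.node 1 (.leaf
  863) (.leaf
  864))))))) (.node 20 (.node 10 (.node 5 (.node 2 (.node 1 (.leaf
  234) (.leaf
  865)) (.node 1 (.leaf
  232) (.node 1 (.leaf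
  866) (.leaf
  867)))) (.node 2 (.node 1 (.leaf
  239) (.leaf
  361)) (.node 1 (.leaf
  237) (.node 1 (.leaf
  868) (.leaf
  125))))) (.node 5 (.node 2 (.node 1 (.leaf
  869) (.leaf
  870)) (.node 1 (.leaf
  871) (.node 1 (.leaf
  872) (.leaf
  873)))) (.node 2 (.node 1 (.leaf
  874) (.leaf
  126)) (.node 1 (.leaf
  875) (.node 1 (.leaf
  246) (.leaf
  421)))))) (.node 10 (.node 5 (.node 2 (.node 1 (.leaf
  357) (.leaf
  282)) (.node 1 (.leaf
  356) (.node 1 (.leaf
  876) (.leaf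
  420)))) (.node 2 (.node 1 (.leaf
  197) (.leaf
  877)) (.node 1 (.leaf
  878) (.node 1 (.leaf
  401) (.leaf
  126))))) (.node 5 (.node 2 (.node 1 (.leaf
  13) (.leaf
  302)) (.node 1 (.leaf
  226) (.node 1 (.leaf
  145) (.leaf
  879)))) (.node 2 (.node 1 (.leaf
  880) (.leaf
  127)) (.node 1 (.leaf
  881) (.node 1 (.leaf
  261) (.leaf
  260)))))))))) (.node 160 (.node 80 (.node 40 (.node 20 (.node 10 (.node 5 (.node 2 (.node 1 (.leaf
  872) (.leaf
  278)) (.node 1 (.leaf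
  127) (.node 1 (.leaf
  7) (.leaf
  157)))) (.node 2 (.node 1 (.leaf
  882) (.leaf
  335)) (.node 1 (.leaf
  883) (.node 1 (.leaf
  839) (.leaf
  884))))) (.node 5 (.node 2 (.node 1 (.leaf
  867) (.leaf
  200)) (.node 1 (.leaf
  885) (.node 1 (.leaf
  128) (.leaf
  127)))) (.node 2 (.node 1 (.leaf
  836) (.leaf
  886)) (.node 1 (.leaf
  227) (.node 1 (.leaf
  348) (.leaf
  347)))))) (.node 10 (.node 5 (.node 2 (.node 1 (.leaf
  406) (.leaf
  128)) (.node 1 (.leaf
  365) (.node 1 (.leaf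
  887) (.leaf
  888)))) (.node 2 (.node 1 (.leaf
  166) (.leaf
  417)) (.node 1 (.leaf
  128) (.node 1 (.leaf
  201) (.leaf
  889))))) (.node 5 (.node 2 (.node 1 (.leaf
  402) (.leaf
  890)) (.node 1 (.leaf
  891) (.node 1 (.leaf
  892) (.leaf
  329)))) (.node 2 (.node 1 (.leaf
  193) (.leaf
  189)) (.node 1 (.leaf
  192) (.node 1 (.leaf
  893) (.leaf
  129))))))) (.node 20 (.node 10 (.node 5 (.node 2 (.node 1 (.leaf
  894) (.leaf
  895)) (.node 1 (.leaf
  896) (.node 1 (.leaf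
  843) (.leaf
  897)))) (.node 2 (.node 1 (.leaf
  898) (.leaf
  130)) (.node 1 (.leaf
  276) (.node 1 (.leaf
  16) (.leaf
  301))))) (.node 5 (.node 2 (.node 1 (.leaf
  123) (.leaf
  899)) (.node 1 (.leaf
  130) (.node 1 (.leaf
  900) (.leaf
  901)))) (.node 2 (.node 1 (.leaf
  164) (.leaf
  879)) (.node 1 (.leaf
  902) (.node 1 (.leaf
  131) (.leaf
  130)))))) (.node 10 (.node 5 (.node 2 (.node 1 (.leaf
  856) (.leaf
  903)) (.node 1 (.leaf
  155) (.node 1 (.leaf
  904) (.leaf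
  905)))) (.node 2 (.node 1 (.leaf
  156) (.leaf
  131)) (.node 1 (.leaf
  154) (.node 1 (.leaf
  245) (.leaf
  244))))) (.node 5 (.node 2 (.node 1 (.leaf
  279) (.leaf
  219)) (.node 1 (.leaf
  131) (.node 1 (.leaf
  906) (.leaf
  907)))) (.node 2 (.node 1 (.leaf
  202) (.leaf
  395)) (.node 1 (.leaf
  200) (.node 1 (.leaf
  908) (.leaf
  909)))))))) (.node 40 (.node 20 (.node 10 (.node 5 (.node 2 (.node 1 (.leaf
  233) (.leaf
  293)) (.node 1 (.leaf
  910) (.node 1 (.leaf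
  911) (.leaf
  354)))) (.node 2 (.node 1 (.leaf
  912) (.leaf
  132)) (.node 1 (.leaf
  913) (.node 1 (.leaf
  254) (.leaf
  914))))) (.node 5 (.node 2 (.node 1 (.leaf
  134) (.leaf
  915)) (.node 1 (.leaf
  132) (.node 1 (.leaf
  916) (.leaf
  917)))) (.node 2 (.node 1 (.leaf
  364) (.leaf
  420)) (.node 1 (.leaf
  362) (.node 1 (.leaf
  167) (.leaf
  132)))))) (.node 10 (.node 5 (.node 2 (.node 1 (.leaf
  839) (.leaf
  909)) (.node 1 (.leaf
  915) (.node 1 (.leaf
  313) (.leaf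
  918)))) (.node 2 (.node 1 (.leaf
  340) (.leaf
  919)) (.node 1 (.leaf
  133) (.node 1 (.leaf
  264) (.leaf
  263))))) (.node 5 (.node 2 (.node 1 (.leaf
  410) (.leaf
  920)) (.node 1 (.leaf
  921) (.node 1 (.leaf
  255) (.leaf
  133)))) (.node 2 (.node 1 (.leaf
  922) (.leaf
  134)) (.node 1 (.leaf
  923) (.node 1 (.leaf
  369) (.leaf
  419))))))) (.node 20 (.node 10 (.node 5 (.node 2 (.node 1 (.leaf
  875) (.leaf
  871)) (.node 1 (.leaf
  874) (.node 1 (.leaf
  924) (.leaf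
  925)))) (.node 2 (.node 1 (.leaf
  179) (.leaf
  926)) (.node 1 (.leaf
  927) (.node 1 (.leaf
  928) (.leaf
  134))))) (.node 5 (.node 2 (.node 1 (.leaf
  22) (.leaf
  399)) (.node 1 (.leaf
  283) (.node 1 (.leaf
  204) (.leaf
  203)))) (.node 2 (.node 1 (.leaf
  217) (.leaf
  135)) (.node 1 (.leaf
  235) (.node 1 (.leaf
  293) (.leaf
  379)))))) (.node 10 (.node 5 (.node 2 (.node 1 (.leaf
  163) (.leaf
  259)) (.node 1 (.leaf
  135) (.node 1 (.leaf
  331) (.leaf
  330)))) (.node 2 (.node 1 (.leaf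
  929) (.leaf
  405)) (.node 1 (.leaf
  930) (.node 1 (.leaf
  271) (.leaf
  416))))) (.node 5 (.node 2 (.node 1 (.leaf
  231) (.leaf
  884)) (.node 1 (.leaf
  220) (.node 1 (.leaf
  136) (.leaf
  135)))) (.node 2 (.node 1 (.leaf
  186) (.leaf
  322)) (.node 1 (.leaf
  136) (.node 1 (.leaf
  273) (.leaf
  272))))))))) (.node 80 (.node 40 (.node 20 (.node 10 (.node 5 (.node 2 (.node 1 (.leaf
  931) (.leaf
  137)) (.node 1 (.leaf
  932) (.node 1 (.leaf
  914) (.leaf
  254)))) (.node 2 (.node 1 (.leaf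
  139) (.leaf
  850)) (.node 1 (.leaf
  137) (.node 1 (.leaf
  933) (.leaf
  224))))) (.node 5 (.node 2 (.node 1 (.leaf
  411) (.leaf
  240)) (.node 1 (.leaf
  409) (.node 1 (.leaf
  934) (.leaf
  935)))) (.node 2 (.node 1 (.leaf
  415) (.leaf
  370)) (.node 1 (.leaf
  413) (.node 1 (.leaf
  233) (.leaf
  137)))))) (.node 10 (.node 5 (.node 2 (.node 1 (.leaf
  841) (.leaf
  908)) (.node 1 (.leaf
  850) (.node 1 (.leaf
  936) (.leaf
  937)))) (.node 2 (.node 1 (.leaf
  159) (.leaf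
  938)) (.node 1 (.leaf
  138) (.node 1 (.leaf
  939) (.leaf
  940))))) (.node 5 (.node 2 (.node 1 (.leaf
  222) (.leaf
  317)) (.node 1 (.leaf
  941) (.node 1 (.leaf
  193) (.leaf
  942)))) (.node 2 (.node 1 (.leaf
  225) (.leaf
  888)) (.node 1 (.leaf
  223) (.node 1 (.leaf
  306) (.leaf
  138))))))) (.node 20 (.node 10 (.node 5 (.node 2 (.node 1 (.leaf
  928) (.leaf
  873)) (.node 1 (.leaf
  943) (.node 1 (.leaf
  328) (.leaf
  269)))) (.node 2 (.node 1 (.leaf
  148) (.leaf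
  139)) (.node 1 (.leaf
  944) (.node 1 (.leaf
  419) (.leaf
  369))))) (.node 5 (.node 2 (.node 1 (.leaf
  945) (.leaf
  946)) (.node 1 (.leaf
  947) (.node 1 (.leaf
  948) (.leaf
  930)))) (.node 2 (.node 1 (.leaf
  199) (.leaf
  252)) (.node 1 (.leaf
  949) (.node 1 (.leaf
  160) (.leaf
  139)))))) (.node 10 (.node 5 (.node 2 (.node 1 (.leaf
  27) (.leaf
  352)) (.node 1 (.leaf
  407) (.node 1 (.leaf
  184) (.leaf
  183)))) (.node 2 (.node 1 (.leaf
  950) (.leaf
  156)) (.node 1 (.leaf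
  925) (.node 1 (.leaf
  902) (.leaf
  314))))) (.node 5 (.node 2 (.node 1 (.leaf
  935) (.leaf
  898)) (.node 1 (.leaf
  863) (.node 1 (.leaf
  6) (.leaf
  140)))) (.node 2 (.node 1 (.leaf
  833) (.leaf
  229)) (.node 1 (.leaf
  323) (.node 1 (.leaf
  951) (.leaf
  952)))))))) (.node 40 (.node 20 (.node 10 (.node 5 (.node 2 (.node 1 (.leaf
  261) (.leaf
  141)) (.node 1 (.leaf
  953) (.node 1 (.leaf
  304) (.leaf
  187)))) (.node 2 (.node 1 (.leaf
  129) (.leaf
  900)) (.node 1 (.leaf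
  141) (.node 1 (.leaf
  852) (.leaf
  932))))) (.node 5 (.node 2 (.node 1 (.leaf
  295) (.leaf
  183)) (.node 1 (.leaf
  293) (.node 1 (.leaf
  940) (.leaf
  939)))) (.node 2 (.node 1 (.leaf
  300) (.leaf
  279)) (.node 1 (.leaf
  298) (.node 1 (.leaf
  185) (.leaf
  141)))))) (.node 10 (.node 5 (.node 2 (.node 1 (.leaf
  843) (.leaf
  275)) (.node 1 (.leaf
  900) (.node 1 (.leaf
  930) (.leaf
  948)))) (.node 2 (.node 1 (.leaf
  310) (.leaf
  223)) (.node 1 (.leaf
  142) (.node 1 (.leaf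
  929) (.leaf
  877))))) (.node 5 (.node 2 (.node 1 (.leaf
  331) (.leaf
  216)) (.node 1 (.leaf
  204) (.node 1 (.leaf
  394) (.leaf
  409)))) (.node 2 (.node 1 (.leaf
  886) (.leaf
  384)) (.node 1 (.leaf
  954) (.node 1 (.leaf
  305) (.leaf
  142))))))) (.node 20 (.node 10 (.node 5 (.node 2 (.node 1 (.leaf
  291) (.leaf
  344)) (.node 1 (.leaf
  287) (.node 1 (.leaf
  835) (.leaf
  941)))) (.node 2 (.node 1 (.leaf
  382) (.leaf
  143)) (.node 1 (.leaf
  249) (.node 1 (.leaf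
  229) (.leaf
  346))))) (.node 5 (.node 2 (.node 1 (.leaf
  147) (.leaf
  863)) (.node 1 (.leaf
  143) (.node 1 (.leaf
  834) (.leaf
  378)))) (.node 2 (.node 1 (.leaf
  264) (.leaf
  955)) (.node 1 (.leaf
  313) (.node 1 (.leaf
  232) (.leaf
  221)))))) (.node 10 (.node 5 (.node 2 (.node 1 (.leaf
  939) (.leaf
  897)) (.node 1 (.leaf
  936) (.node 1 (.leaf
  144) (.leaf
  143)))) (.node 2 (.node 1 (.leaf
  408) (.leaf
  406)) (.node 1 (.leaf
  288) (.node 1 (.leaf
  885) (.leaf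
  370))))) (.node 5 (.node 2 (.node 1 (.leaf
  908) (.leaf
  144)) (.node 1 (.leaf
  368) (.node 1 (.leaf
  362) (.leaf
  875)))) (.node 2 (.node 1 (.leaf
  956) (.leaf
  957)) (.node 1 (.leaf
  144) (.node 1 (.leaf
  867) (.leaf
  866))))))))))))) (.node 1280 (.node 640 (.node 320 (.node 160 (.node 80 (.node 40 (.node 20 (.node 10 (.node 5 (.node 2 (.node 1 (.leaf
  853) (.leaf
  319)) (.node 1 (.leaf
  879) (.node 1 (.leaf
  197) (.leaf
  923)))) (.node 2 (.node 1 (.leaf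
  270) (.leaf
  862)) (.node 1 (.leaf
  859) (.node 1 (.leaf
  958) (.leaf
  959))))) (.node 5 (.node 2 (.node 1 (.leaf
  224) (.leaf
  145)) (.node 1 (.leaf
  960) (.node 1 (.leaf
  242) (.leaf
  856)))) (.node 2 (.node 1 (.leaf
  7) (.leaf
  178)) (.node 1 (.leaf
  145) (.node 1 (.leaf
  303) (.leaf
  931)))))) (.node 10 (.node 5 (.node 2 (.node 1 (.leaf
  20) (.leaf
  373)) (.node 1 (.leaf
  349) (.node 1 (.leaf
  259) (.leaf
  258)))) (.node 2 (.node 1 (.leaf
  255) (.leaf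
  196)) (.node 1 (.leaf
  847) (.node 1 (.leaf
  879) (.leaf
  145))))) (.node 5 (.node 2 (.node 1 (.leaf
  172) (.leaf
  835)) (.node 1 (.leaf
  178) (.node 1 (.leaf
  880) (.leaf
  950)))) (.node 2 (.node 1 (.leaf
  343) (.leaf
  403)) (.node 1 (.leaf
  146) (.node 1 (.leaf
  881) (.leaf
  220))))))) (.node 20 (.node 10 (.node 5 (.node 2 (.node 1 (.leaf
  418) (.leaf
  356)) (.node 1 (.leaf
  909) (.node 1 (.leaf
  961) (.leaf
  962)))) (.node 2 (.node 1 (.leaf
  397) (.leaf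
  963)) (.node 1 (.leaf
  964) (.node 1 (.leaf
  364) (.leaf
  146))))) (.node 5 (.node 2 (.node 1 (.leaf
  309) (.leaf
  376)) (.node 1 (.leaf
  844) (.node 1 (.leaf
  275) (.leaf
  400)))) (.node 2 (.node 1 (.leaf
  278) (.leaf
  147)) (.node 1 (.leaf
  272) (.node 1 (.leaf
  862) (.leaf
  965)))))) (.node 10 (.node 5 (.node 2 (.node 1 (.leaf
  143) (.leaf
  230)) (.node 1 (.leaf
  147) (.node 1 (.leaf
  274) (.leaf
  389)))) (.node 2 (.node 1 (.leaf
  937) (.leaf
  949)) (.node 1 (.leaf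
  366) (.node 1 (.leaf
  234) (.leaf
  878))))) (.node 5 (.node 2 (.node 1 (.leaf
  258) (.leaf
  173)) (.node 1 (.leaf
  263) (.node 1 (.leaf
  148) (.leaf
  147)))) (.node 2 (.node 1 (.leaf
  203) (.leaf
  148)) (.node 1 (.leaf
  316) (.node 1 (.leaf
  966) (.leaf
  211)))))))) (.node 40 (.node 20 (.node 10 (.node 5 (.node 2 (.node 1 (.leaf
  944) (.leaf
  943)) (.node 1 (.leaf
  148) (.node 1 (.leaf
  236) (.leaf
  235)))) (.node 2 (.node 1 (.leaf
  308) (.leaf
  388)) (.node 1 (.leaf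
  185) (.node 1 (.leaf
  219) (.leaf
  922))))) (.node 5 (.node 2 (.node 1 (.leaf
  915) (.leaf
  967)) (.node 1 (.leaf
  839) (.node 1 (.leaf
  889) (.leaf
  201)))) (.node 2 (.node 1 (.leaf
  215) (.leaf
  149)) (.node 1 (.leaf
  838) (.node 1 (.leaf
  968) (.leaf
  969)))))) (.node 10 (.node 5 (.node 2 (.node 1 (.leaf
  151) (.leaf
  315)) (.node 1 (.leaf
  149) (.node 1 (.leaf
  372) (.leaf
  970)))) (.node 2 (.node 1 (.leaf
  941) (.leaf
  164)) (.node 1 (.leaf
  222) (.node 1 (.leaf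
  847) (.leaf
  149))))) (.node 5 (.node 2 (.node 1 (.leaf
  183) (.leaf
  922)) (.node 1 (.leaf
  315) (.node 1 (.leaf
  327) (.leaf
  326)))) (.node 2 (.node 1 (.leaf
  971) (.leaf
  336)) (.node 1 (.leaf
  150) (.node 1 (.leaf
  972) (.leaf
  973))))))) (.node 20 (.node 10 (.node 5 (.node 2 (.node 1 (.leaf
  887) (.leaf
  398)) (.node 1 (.leaf
  974) (.node 1 (.leaf
  954) (.leaf
  150)))) (.node 2 (.node 1 (.leaf
  975) (.leaf
  151)) (.node 1 (.leaf
  865) (.node 1 (.leaf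
  314) (.leaf
  902))))) (.node 5 (.node 2 (.node 1 (.leaf
  366) (.leaf
  861)) (.node 1 (.leaf
  937) (.node 1 (.leaf
  912) (.leaf
  976)))) (.node 2 (.node 1 (.leaf
  911) (.leaf
  152)) (.node 1 (.leaf
  916) (.node 1 (.leaf
  967) (.leaf
  977)))))) (.node 10 (.node 5 (.node 2 (.node 1 (.leaf
  259) (.leaf
  978)) (.node 1 (.leaf
  152) (.node 1 (.leaf
  913) (.leaf
  855)))) (.node 2 (.node 1 (.leaf
  227) (.leaf
  184)) (.node 1 (.leaf
  836) (.node 1 (.leaf
  153) (.leaf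
  152))))) (.node 5 (.node 2 (.node 1 (.leaf
  918) (.leaf
  927)) (.node 1 (.leaf
  153) (.node 1 (.leaf
  956) (.leaf
  899)))) (.node 2 (.node 1 (.leaf
  377) (.leaf
  154)) (.node 1 (.leaf
  345) (.node 1 (.leaf
  969) (.leaf
  968))))))))) (.node 80 (.node 40 (.node 20 (.node 10 (.node 5 (.node 2 (.node 1 (.leaf
  339) (.leaf
  933)) (.node 1 (.leaf
  363) (.node 1 (.leaf
  873) (.leaf
  872)))) (.node 2 (.node 1 (.leaf
  370) (.leaf
  312)) (.node 1 (.leaf
  369) (.node 1 (.leaf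
  915) (.leaf
  154))))) (.node 5 (.node 2 (.node 1 (.leaf
  979) (.leaf
  939)) (.node 1 (.leaf
  980) (.node 1 (.leaf
  397) (.leaf
  350)))) (.node 2 (.node 1 (.leaf
  888) (.leaf
  195)) (.node 1 (.leaf
  387) (.node 1 (.leaf
  896) (.leaf
  155)))))) (.node 10 (.node 5 (.node 2 (.node 1 (.leaf
  414) (.leaf
  981)) (.node 1 (.leaf
  338) (.node 1 (.leaf
  20) (.leaf
  156)))) (.node 2 (.node 1 (.leaf
  858) (.leaf
  409)) (.node 1 (.leaf
  893) (.node 1 (.leaf
  318) (.leaf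
  982))))) (.node 5 (.node 2 (.node 1 (.leaf
  354) (.leaf
  157)) (.node 1 (.leaf
  983) (.node 1 (.leaf
  848) (.leaf
  169)))) (.node 2 (.node 1 (.leaf
  322) (.leaf
  962)) (.node 1 (.leaf
  157) (.node 1 (.leaf
  855) (.leaf
  913))))))) (.node 20 (.node 10 (.node 5 (.node 2 (.node 1 (.leaf
  849) (.leaf
  851)) (.node 1 (.leaf
  405) (.node 1 (.leaf
  141) (.leaf
  185)))) (.node 2 (.node 1 (.leaf
  930) (.leaf
  158)) (.node 1 (.leaf
  929) (.node 1 (.leaf
  224) (.leaf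
  933))))) (.node 5 (.node 2 (.node 1 (.leaf
  208) (.leaf
  382)) (.node 1 (.leaf
  158) (.node 1 (.leaf
  129) (.leaf
  893)))) (.node 2 (.node 1 (.leaf
  984) (.leaf
  341)) (.node 1 (.leaf
  985) (.node 1 (.leaf
  281) (.leaf
  986)))))) (.node 10 (.node 5 (.node 2 (.node 1 (.leaf
  236) (.leaf
  202)) (.node 1 (.leaf
  359) (.node 1 (.leaf
  159) (.leaf
  158)))) (.node 2 (.node 1 (.leaf
  267) (.leaf
  983)) (.node 1 (.leaf
  265) (.node 1 (.leaf
  192) (.leaf
  295))))) (.node 5 (.node 2 (.node 1 (.leaf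
  865) (.leaf
  349)) (.node 1 (.leaf
  975) (.node 1 (.leaf
  987) (.leaf
  983)))) (.node 2 (.node 1 (.leaf
  988) (.leaf
  160)) (.node 1 (.leaf
  982) (.node 1 (.leaf
  414) (.leaf
  989)))))))) (.node 40 (.node 20 (.node 10 (.node 5 (.node 2 (.node 1 (.leaf
  162) (.leaf
  942)) (.node 1 (.leaf
  160) (.node 1 (.leaf
  253) (.leaf
  990)))) (.node 2 (.node 1 (.leaf
  305) (.leaf
  218)) (.node 1 (.leaf
  966) (.node 1 (.leaf
  139) (.leaf
  160))))) (.node 5 (.node 2 (.node 1 (.leaf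
  281) (.leaf
  204)) (.node 1 (.leaf
  942) (.node 1 (.leaf
  366) (.leaf
  991)))) (.node 2 (.node 1 (.leaf
  333) (.leaf
  992)) (.node 1 (.leaf
  161) (.node 1 (.leaf
  937) (.leaf
  936)))))) (.node 10 (.node 5 (.node 2 (.node 1 (.leaf
  993) (.leaf
  969)) (.node 1 (.leaf
  946) (.node 1 (.leaf
  300) (.leaf
  161)))) (.node 2 (.node 1 (.leaf
  923) (.leaf
  162)) (.node 1 (.leaf
  922) (.node 1 (.leaf
  393) (.leaf
  256))))) (.node 5 (.node 2 (.node 1 (.leaf
  211) (.leaf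
  207)) (.node 1 (.leaf
  210) (.node 1 (.leaf
  935) (.leaf
  934)))) (.node 2 (.node 1 (.leaf
  901) (.leaf
  994)) (.node 1 (.leaf
  995) (.node 1 (.leaf
  996) (.leaf
  162))))))) (.node 20 (.node 10 (.node 5 (.node 2 (.node 1 (.leaf
  182) (.leaf
  347)) (.node 1 (.leaf
  180) (.node 1 (.leaf
  909) (.leaf
  908)))) (.node 2 (.node 1 (.leaf
  876) (.leaf
  163)) (.node 1 (.leaf
  866) (.node 1 (.leaf
  349) (.leaf
  997))))) (.node 5 (.node 2 (.node 1 (.leaf
  135) (.leaf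
  940)) (.node 1 (.leaf
  163) (.node 1 (.leaf
  418) (.leaf
  417)))) (.node 2 (.node 1 (.leaf
  881) (.leaf
  226)) (.node 1 (.leaf
  880) (.node 1 (.leaf
  269) (.leaf
  328)))))) (.node 10 (.node 5 (.node 2 (.node 1 (.leaf
  864) (.leaf
  986)) (.node 1 (.leaf
  877) (.node 1 (.leaf
  164) (.leaf
  163)))) (.node 2 (.node 1 (.leaf
  902) (.leaf
  858)) (.node 1 (.leaf
  164) (.node 1 (.leaf
  324) (.leaf
  249))))) (.node 5 (.node 2 (.node 1 (.leaf
  932) (.leaf
  165)) (.node 1 (.leaf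
  931) (.node 1 (.leaf
  989) (.leaf
  414)))) (.node 2 (.node 1 (.leaf
  998) (.leaf
  868)) (.node 1 (.leaf
  962) (.node 1 (.leaf
  925) (.leaf
  924)))))))))) (.node 160 (.node 80 (.node 40 (.node 20 (.node 10 (.node 5 (.node 2 (.node 1 (.leaf
  320) (.leaf
  358)) (.node 1 (.leaf
  978) (.node 1 (.leaf
  865) (.leaf
  165)))) (.node 2 (.node 1 (.leaf
  401) (.leaf
  284)) (.node 1 (.leaf
  400) (.node 1 (.leaf
  154) (.leaf
  915))))) (.node 5 (.node 2 (.node 1 (.leaf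
  404) (.leaf
  387)) (.node 1 (.leaf
  403) (.node 1 (.leaf
  243) (.leaf
  166)))) (.node 2 (.node 1 (.leaf
  996) (.leaf
  209)) (.node 1 (.leaf
  957) (.node 1 (.leaf
  416) (.leaf
  271)))))) (.node 10 (.node 5 (.node 2 (.node 1 (.leaf
  144) (.leaf
  167)) (.node 1 (.leaf
  956) (.node 1 (.leaf
  256) (.leaf
  393)))) (.node 2 (.node 1 (.leaf
  999) (.leaf
  921)) (.node 1 (.leaf
  973) (.node 1 (.leaf
  950) (.leaf
  880))))) (.node 5 (.node 2 (.node 1 (.leaf
  907) (.leaf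
  338)) (.node 1 (.leaf
  955) (.node 1 (.leaf
  132) (.leaf
  167)))) (.node 2 (.node 1 (.leaf
  420) (.leaf
  168)) (.node 1 (.leaf
  419) (.node 1 (.leaf
  850) (.leaf
  849))))))) (.node 20 (.node 10 (.node 5 (.node 2 (.node 1 (.leaf
  948) (.leaf
  192)) (.node 1 (.leaf
  934) (.node 1 (.leaf
  186) (.leaf
  312)))) (.node 2 (.node 1 (.leaf
  924) (.leaf
  174)) (.node 1 (.leaf
  230) (.node 1 (.leaf
  8) (.leaf
  168))))) (.node 5 (.node 2 (.node 1 (.leaf
  249) (.leaf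
  287)) (.node 1 (.leaf
  382) (.node 1 (.leaf
  211) (.leaf
  966)))) (.node 2 (.node 1 (.leaf
  158) (.leaf
  169)) (.node 1 (.leaf
  208) (.node 1 (.leaf
  289) (.leaf
  1000)))))) (.node 10 (.node 5 (.node 2 (.node 1 (.leaf
  171) (.leaf
  951)) (.node 1 (.leaf
  169) (.node 1 (.leaf
  210) (.leaf
  1001)))) (.node 2 (.node 1 (.leaf
  981) (.leaf
  351)) (.node 1 (.leaf
  968) (.node 1 (.leaf
  150) (.leaf
  954))))) (.node 5 (.node 2 (.node 1 (.leaf
  852) (.leaf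
  881)) (.node 1 (.leaf
  951) (.node 1 (.leaf
  225) (.leaf
  410)))) (.node 2 (.node 1 (.leaf
  895) (.leaf
  392)) (.node 1 (.leaf
  170) (.node 1 (.leaf
  223) (.leaf
  267)))))))) (.node 40 (.node 20 (.node 10 (.node 5 (.node 2 (.node 1 (.leaf
  372) (.leaf
  907)) (.node 1 (.leaf
  889) (.node 1 (.leaf
  337) (.leaf
  188)))) (.node 2 (.node 1 (.leaf
  297) (.leaf
  965)) (.node 1 (.leaf
  1002) (.node 1 (.leaf
  385) (.leaf
  170))))) (.node 5 (.node 2 (.node 1 (.leaf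
  175) (.leaf
  171)) (.node 1 (.leaf
  174) (.node 1 (.leaf
  323) (.leaf
  322)))) (.node 2 (.node 1 (.leaf
  987) (.leaf
  892)) (.node 1 (.leaf
  253) (.node 1 (.leaf
  971) (.leaf
  1003)))))) (.node 10 (.node 5 (.node 2 (.node 1 (.leaf
  342) (.leaf
  1004)) (.node 1 (.leaf
  920) (.node 1 (.leaf
  189) (.leaf
  171)))) (.node 2 (.node 1 (.leaf
  178) (.leaf
  205)) (.node 1 (.leaf
  172) (.node 1 (.leaf
  247) (.leaf
  377))))) (.node 5 (.node 2 (.node 1 (.leaf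
  204) (.leaf
  234)) (.node 1 (.leaf
  331) (.node 1 (.leaf
  978) (.leaf
  999)))) (.node 2 (.node 1 (.leaf
  954) (.leaf
  932)) (.node 1 (.leaf
  886) (.node 1 (.leaf
  173) (.leaf
  172))))))) (.node 20 (.node 10 (.node 5 (.node 2 (.node 1 (.leaf
  346) (.leaf
  1005)) (.node 1 (.leaf
  173) (.node 1 (.leaf
  165) (.leaf
  865)))) (.node 2 (.node 1 (.leaf
  235) (.leaf
  283)) (.node 1 (.leaf
  217) (.node 1 (.leaf
  149) (.leaf
  847))))) (.node 5 (.node 2 (.node 1 (.leaf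
  914) (.leaf
  974)) (.node 1 (.leaf
  926) (.node 1 (.leaf
  262) (.leaf
  174)))) (.node 2 (.node 1 (.leaf
  127) (.leaf
  894)) (.node 1 (.leaf
  872) (.node 1 (.leaf
  845) (.leaf
  381)))))) (.node 10 (.node 5 (.node 2 (.node 1 (.leaf
  344) (.leaf
  175)) (.node 1 (.leaf
  360) (.node 1 (.leaf
  888) (.leaf
  887)))) (.node 2 (.node 1 (.leaf
  985) (.leaf
  911)) (.node 1 (.leaf
  984) (.node 1 (.leaf
  151) (.leaf
  268))))) (.node 5 (.node 2 (.node 1 (.leaf
  359) (.leaf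
  416)) (.node 1 (.leaf
  236) (.node 1 (.leaf
  836) (.leaf
  175)))) (.node 2 (.node 1 (.leaf
  1000) (.leaf
  945)) (.node 1 (.leaf
  1004) (.node 1 (.leaf
  903) (.leaf
  336))))))))) (.node 80 (.node 40 (.node 20 (.node 10 (.node 5 (.node 2 (.node 1 (.leaf
  920) (.leaf
  176)) (.node 1 (.leaf
  342) (.node 1 (.leaf
  1006) (.leaf
  851)))) (.node 2 (.node 1 (.leaf
  245) (.leaf
  326)) (.node 1 (.leaf
  176) (.node 1 (.leaf
  1007) (.leaf
  1008))))) (.node 5 (.node 2 (.node 1 (.leaf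
  844) (.leaf
  246)) (.node 1 (.leaf
  309) (.node 1 (.leaf
  12) (.leaf
  240)))) (.node 2 (.node 1 (.leaf
  899) (.leaf
  930)) (.node 1 (.leaf
  177) (.node 1 (.leaf
  11) (.leaf
  222)))))) (.node 10 (.node 5 (.node 2 (.node 1 (.leaf
  152) (.leaf
  905)) (.node 1 (.leaf
  259) (.node 1 (.leaf
  923) (.leaf
  197)))) (.node 2 (.node 1 (.leaf
  991) (.leaf
  995)) (.node 1 (.leaf
  329) (.node 1 (.leaf
  944) (.leaf
  177))))) (.node 5 (.node 2 (.node 1 (.leaf
  294) (.leaf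
  1009)) (.node 1 (.leaf
  919) (.node 1 (.leaf
  320) (.leaf
  319)))) (.node 2 (.node 1 (.leaf
  316) (.leaf
  408)) (.node 1 (.leaf
  203) (.node 1 (.leaf
  179) (.leaf
  178))))))) (.node 20 (.node 10 (.node 5 (.node 2 (.node 1 (.leaf
  201) (.leaf
  179)) (.node 1 (.leaf
  348) (.node 1 (.leaf
  384) (.leaf
  1010)))) (.node 2 (.node 1 (.leaf
  927) (.leaf
  256)) (.node 1 (.leaf
  179) (.node 1 (.leaf
  406) (.leaf
  838))))) (.node 5 (.node 2 (.node 1 (.leaf
  1011) (.leaf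
  976)) (.node 1 (.leaf
  848) (.node 1 (.leaf
  973) (.leaf
  972)))) (.node 2 (.node 1 (.leaf
  866) (.leaf
  180)) (.node 1 (.leaf
  876) (.node 1 (.leaf
  402) (.leaf
  298)))))) (.node 10 (.node 5 (.node 2 (.node 1 (.leaf
  351) (.leaf
  972)) (.node 1 (.leaf
  347) (.node 1 (.leaf
  216) (.leaf
  860)))) (.node 2 (.node 1 (.leaf
  396) (.leaf
  415)) (.node 1 (.leaf
  181) (.node 1 (.leaf
  214) (.leaf
  239))))) (.node 5 (.node 2 (.node 1 (.leaf
  850) (.leaf
  977)) (.node 1 (.leaf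
  841) (.node 1 (.leaf
  1002) (.leaf
  181)))) (.node 2 (.node 1 (.leaf
  393) (.leaf
  182)) (.node 1 (.leaf
  358) (.node 1 (.leaf
  340) (.leaf
  321)))))))) (.node 40 (.node 20 (.node 10 (.node 5 (.node 2 (.node 1 (.leaf
  360) (.leaf
  872)) (.node 1 (.leaf
  344) (.node 1 (.leaf
  15) (.leaf
  202)))) (.node 2 (.node 1 (.leaf
  412) (.leaf
  300)) (.node 1 (.leaf
  391) (.node 1 (.leaf
  380) (.leaf
  182))))) (.node 5 (.node 2 (.node 1 (.leaf
  919) (.leaf
  988)) (.node 1 (.leaf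
  294) (.node 1 (.leaf
  949) (.leaf
  411)))) (.node 2 (.node 1 (.leaf
  315) (.leaf
  357)) (.node 1 (.leaf
  183) (.node 1 (.leaf
  199) (.leaf
  198)))))) (.node 10 (.node 5 (.node 2 (.node 1 (.leaf
  330) (.leaf
  292)) (.node 1 (.leaf
  184) (.node 1 (.leaf
  346) (.leaf
  229)))) (.node 2 (.node 1 (.leaf
  157) (.leaf
  973)) (.node 1 (.leaf
  322) (.node 1 (.leaf
  221) (.leaf
  232))))) (.node 5 (.node 2 (.node 1 (.leaf
  1012) (.leaf
  954)) (.node 1 (.leaf
  209) (.node 1 (.leaf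
  991) (.leaf
  366)))) (.node 2 (.node 1 (.leaf
  240) (.leaf
  186)) (.node 1 (.leaf
  378) (.node 1 (.leaf
  321) (.leaf
  340))))))) (.node 20 (.node 10 (.node 5 (.node 2 (.node 1 (.leaf
  910) (.leaf
  891)) (.node 1 (.leaf
  233) (.node 1 (.leaf
  312) (.leaf
  186)))) (.node 2 (.node 1 (.leaf
  321) (.leaf
  187)) (.node 1 (.leaf
  268) (.node 1 (.leaf
  251) (.leaf
  250))))) (.node 5 (.node 2 (.node 1 (.leaf
  855) (.leaf
  864)) (.node 1 (.leaf
  318) (.node 1 (.leaf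
  410) (.leaf
  225)))) (.node 2 (.node 1 (.leaf
  1013) (.leaf
  345)) (.node 1 (.leaf
  188) (.node 1 (.leaf
  921) (.leaf
  207)))))) (.node 10 (.node 5 (.node 2 (.node 1 (.leaf
  980) (.leaf
  258)) (.node 1 (.leaf
  979) (.node 1 (.leaf
  886) (.leaf
  294)))) (.node 2 (.node 1 (.leaf
  387) (.leaf
  244)) (.node 1 (.leaf
  888) (.node 1 (.leaf
  171) (.leaf
  189))))) (.node 5 (.node 2 (.node 1 (.leaf
  947) (.leaf
  401)) (.node 1 (.leaf
  945) (.node 1 (.leaf
  238) (.leaf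
  375)))) (.node 2 (.node 1 (.leaf
  1004) (.leaf
  190)) (.node 1 (.leaf
  1000) (.node 1 (.leaf
  325) (.leaf
  356))))))))))) (.node 320 (.node 160 (.node 80 (.node 40 (.node 20 (.node 10 (.node 5 (.node 2 (.node 1 (.leaf
  198) (.leaf
  265)) (.node 1 (.leaf
  190) (.node 1 (.leaf
  213) (.leaf
  212)))) (.node 2 (.node 1 (.leaf
  184) (.leaf
  956)) (.node 1 (.leaf
  330) (.node 1 (.leaf
  311) (.leaf
  310))))) (.node 5 (.node 2 (.node 1 (.leaf
  150) (.leaf
  913)) (.node 1 (.leaf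
  971) (.node 1 (.leaf
  191) (.leaf
  190)))) (.node 2 (.node 1 (.leaf
  892) (.leaf
  191)) (.node 1 (.leaf
  940) (.node 1 (.leaf
  922) (.leaf
  219)))))) (.node 10 (.node 5 (.node 2 (.node 1 (.leaf
  394) (.leaf
  985)) (.node 1 (.leaf
  191) (.node 1 (.leaf
  910) (.leaf
  957)))) (.node 2 (.node 1 (.leaf
  256) (.leaf
  407)) (.node 1 (.leaf
  218) (.node 1 (.leaf
  1012) (.leaf
  307))))) (.node 5 (.node 2 (.node 1 (.leaf
  254) (.leaf
  968)) (.node 1 (.leaf
  252) (.node 1 (.leaf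
  295) (.leaf
  192)))) (.node 2 (.node 1 (.leaf
  391) (.leaf
  193)) (.node 1 (.leaf
  412) (.node 1 (.leaf
  920) (.leaf
  981))))))) (.node 20 (.node 10 (.node 5 (.node 2 (.node 1 (.leaf
  1005) (.leaf
  260)) (.node 1 (.leaf
  1014) (.node 1 (.leaf
  209) (.leaf
  208)))) (.node 2 (.node 1 (.leaf
  358) (.leaf
  314)) (.node 1 (.leaf
  393) (.node 1 (.leaf
  942) (.leaf
  193))))) (.node 5 (.node 2 (.node 1 (.leaf
  176) (.leaf
  998)) (.node 1 (.leaf
  245) (.node 1 (.leaf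
  237) (.leaf
  357)))) (.node 2 (.node 1 (.leaf
  301) (.leaf
  411)) (.node 1 (.leaf
  194) (.node 1 (.leaf
  239) (.leaf
  214)))))) (.node 10 (.node 5 (.node 2 (.node 1 (.leaf
  307) (.leaf
  304)) (.node 1 (.leaf
  306) (.node 1 (.leaf
  195) (.leaf
  194)))) (.node 2 (.node 1 (.leaf
  250) (.leaf
  875)) (.node 1 (.leaf
  244) (.node 1 (.leaf
  1010) (.leaf
  384))))) (.node 5 (.node 2 (.node 1 (.leaf
  837) (.leaf
  211)) (.node 1 (.leaf
  195) (.node 1 (.leaf
  1015) (.leaf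
  963)))) (.node 2 (.node 1 (.leaf
  891) (.leaf
  367)) (.node 1 (.leaf
  402) (.node 1 (.leaf
  181) (.leaf
  1002)))))))) (.node 40 (.node 20 (.node 10 (.node 5 (.node 2 (.node 1 (.leaf
  10) (.leaf
  239)) (.node 1 (.leaf
  196) (.node 1 (.leaf
  999) (.leaf
  978)))) (.node 2 (.node 1 (.leaf
  168) (.leaf
  936)) (.node 1 (.leaf
  416) (.node 1 (.leaf
  316) (.leaf
  315))))) (.node 5 (.node 2 (.node 1 (.leaf
  878) (.leaf
  925)) (.node 1 (.leaf
  197) (.node 1 (.leaf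
  378) (.leaf
  834)))) (.node 2 (.node 1 (.leaf
  390) (.leaf
  353)) (.node 1 (.leaf
  388) (.node 1 (.leaf
  864) (.leaf
  863)))))) (.node 10 (.node 5 (.node 2 (.node 1 (.leaf
  185) (.leaf
  198)) (.node 1 (.leaf
  308) (.node 1 (.leaf
  976) (.leaf
  912)))) (.node 2 (.node 1 (.leaf
  190) (.leaf
  941)) (.node 1 (.leaf
  198) (.node 1 (.leaf
  877) (.leaf
  929))))) (.node 5 (.node 2 (.node 1 (.leaf
  1003) (.leaf
  1016)) (.node 1 (.leaf
  938) (.node 1 (.leaf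
  1001) (.leaf
  210)))) (.node 2 (.node 1 (.leaf
  181) (.leaf
  199)) (.node 1 (.leaf
  396) (.node 1 (.leaf
  336) (.leaf
  903))))))) (.node 20 (.node 10 (.node 5 (.node 2 (.node 1 (.leaf
  949) (.leaf
  235)) (.node 1 (.leaf
  199) (.node 1 (.leaf
  282) (.leaf
  840)))) (.node 2 (.node 1 (.leaf
  140) (.leaf
  263)) (.node 1 (.leaf
  328) (.node 1 (.leaf
  368) (.leaf
  367))))) (.node 5 (.node 2 (.node 1 (.leaf
  398) (.leaf
  305)) (.node 1 (.leaf
  395) (.node 1 (.leaf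
  292) (.leaf
  291)))) (.node 2 (.node 1 (.leaf
  348) (.leaf
  364)) (.node 1 (.leaf
  201) (.node 1 (.leaf
  846) (.leaf
  309)))))) (.node 10 (.node 5 (.node 2 (.node 1 (.leaf
  938) (.leaf
  959)) (.node 1 (.leaf
  1003) (.node 1 (.leaf
  927) (.leaf
  228)))) (.node 2 (.node 1 (.leaf
  207) (.leaf
  953)) (.node 1 (.leaf
  205) (.node 1 (.leaf
  174) (.leaf
  262))))) (.node 5 (.node 2 (.node 1 (.leaf
  337) (.leaf
  334)) (.node 1 (.leaf
  336) (.node 1 (.leaf
  252) (.leaf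
  1005)))) (.node 2 (.node 1 (.leaf
  1017) (.leaf
  948)) (.node 1 (.leaf
  976) (.node 1 (.leaf
  265) (.leaf
  205))))))))) (.node 80 (.node 40 (.node 20 (.node 10 (.node 5 (.node 2 (.node 1 (.leaf
  870) (.leaf
  845)) (.node 1 (.leaf
  206) (.node 1 (.leaf
  302) (.leaf
  1011)))) (.node 2 (.node 1 (.leaf
  282) (.leaf
  402)) (.node 1 (.leaf
  280) (.node 1 (.leaf
  981) (.leaf
  920))))) (.node 5 (.node 2 (.node 1 (.leaf
  25) (.leaf
  374)) (.node 1 (.leaf
  277) (.node 1 (.leaf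
  329) (.leaf
  892)))) (.node 2 (.node 1 (.leaf
  859) (.leaf
  210)) (.node 1 (.leaf
  270) (.node 1 (.leaf
  177) (.leaf
  944)))))) (.node 10 (.node 5 (.node 2 (.node 1 (.leaf
  900) (.leaf
  869)) (.node 1 (.leaf
  843) (.node 1 (.leaf
  392) (.leaf
  391)))) (.node 2 (.node 1 (.leaf
  287) (.leaf
  212)) (.node 1 (.leaf
  291) (.node 1 (.leaf
  125) (.leaf
  868))))) (.node 5 (.node 2 (.node 1 (.leaf
  861) (.leaf
  882)) (.node 1 (.leaf
  1018) (.node 1 (.leaf
  334) (.leaf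
  842)))) (.node 2 (.node 1 (.leaf
  188) (.leaf
  213)) (.node 1 (.leaf
  1013) (.node 1 (.leaf
  353) (.leaf
  403))))))) (.node 20 (.node 10 (.node 5 (.node 2 (.node 1 (.leaf
  238) (.leaf
  379)) (.node 1 (.leaf
  213) (.node 1 (.leaf
  266) (.leaf
  335)))) (.node 2 (.node 1 (.leaf
  995) (.leaf
  419)) (.node 1 (.leaf
  901) (.node 1 (.leaf
  26) (.leaf
  280))))) (.node 5 (.node 2 (.node 1 (.leaf
  367) (.leaf
  214)) (.node 1 (.leaf
  373) (.node 1 (.leaf
  907) (.leaf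
  906)))) (.node 2 (.node 1 (.leaf
  216) (.leaf
  332)) (.node 1 (.leaf
  214) (.node 1 (.leaf
  370) (.leaf
  885)))))) (.node 10 (.node 5 (.node 2 (.node 1 (.leaf
  854) (.leaf
  989)) (.node 1 (.leaf
  1019) (.node 1 (.leaf
  285) (.leaf
  215)))) (.node 2 (.node 1 (.leaf
  251) (.leaf
  904)) (.node 1 (.leaf
  381) (.node 1 (.leaf
  860) (.leaf
  216))))) (.node 5 (.node 2 (.node 1 (.leaf
  972) (.leaf
  217)) (.node 1 (.leaf
  327) (.node 1 (.leaf
  134) (.leaf
  928)))) (.node 2 (.node 1 (.leaf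
  846) (.leaf
  842)) (.node 1 (.leaf
  292) (.node 1 (.leaf
  218) (.leaf
  217)))))))) (.node 40 (.node 20 (.node 10 (.node 5 (.node 2 (.node 1 (.leaf
  221) (.leaf
  934)) (.node 1 (.leaf
  219) (.node 1 (.leaf
  389) (.leaf
  274)))) (.node 2 (.node 1 (.leaf
  860) (.leaf
  391)) (.node 1 (.leaf
  325) (.node 1 (.leaf
  941) (.leaf
  835))))) (.node 5 (.node 2 (.node 1 (.leaf
  18) (.leaf
  221)) (.node 1 (.leaf
  324) (.node 1 (.leaf
  409) (.leaf
  394)))) (.node 2 (.node 1 (.leaf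
  973) (.leaf
  222)) (.node 1 (.leaf
  999) (.node 1 (.leaf
  361) (.leaf
  360)))))) (.node 10 (.node 5 (.node 2 (.node 1 (.leaf
  835) (.leaf
  269)) (.node 1 (.leaf
  834) (.node 1 (.leaf
  307) (.leaf
  1012)))) (.node 2 (.node 1 (.leaf
  982) (.leaf
  975)) (.node 1 (.leaf
  988) (.node 1 (.leaf
  984) (.leaf
  1014))))) (.node 5 (.node 2 (.node 1 (.leaf
  903) (.leaf
  421)) (.node 1 (.leaf
  1007) (.node 1 (.leaf
  267) (.leaf
  223)))) (.node 2 (.node 1 (.leaf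
  960) (.leaf
  859)) (.node 1 (.leaf
  224) (.node 1 (.leaf
  169) (.leaf
  848))))))) (.node 20 (.node 10 (.node 5 (.node 2 (.node 1 (.leaf
  1008) (.leaf
  280)) (.node 1 (.leaf
  1009) (.node 1 (.leaf
  985) (.leaf
  926)))) (.node 2 (.node 1 (.leaf
  1014) (.leaf
  386)) (.node 1 (.leaf
  1005) (.node 1 (.leaf
  227) (.leaf
  226))))) (.node 5 (.node 2 (.node 1 (.leaf
  961) (.leaf
  883)) (.node 1 (.leaf
  905) (.node 1 (.leaf
  975) (.leaf
  943)))) (.node 2 (.node 1 (.leaf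
  326) (.leaf
  267)) (.node 1 (.leaf
  319) (.node 1 (.leaf
  231) (.leaf
  230)))))) (.node 10 (.node 5 (.node 2 (.node 1 (.leaf
  877) (.leaf
  298)) (.node 1 (.leaf
  864) (.node 1 (.leaf
  354) (.leaf
  911)))) (.node 2 (.node 1 (.leaf
  318) (.leaf
  231)) (.node 1 (.leaf
  855) (.node 1 (.leaf
  993) (.leaf
  404))))) (.node 5 (.node 2 (.node 1 (.leaf
  220) (.leaf
  847)) (.node 1 (.leaf
  231) (.node 1 (.leaf
  983) (.leaf
  987)))) (.node 2 (.node 1 (.leaf
  909) (.leaf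
  232)) (.node 1 (.leaf
  418) (.node 1 (.leaf
  413) (.leaf
  945)))))))))) (.node 160 (.node 80 (.node 40 (.node 20 (.node 10 (.node 5 (.node 2 (.node 1 (.leaf
  965) (.leaf
  339)) (.node 1 (.leaf
  897) (.node 1 (.leaf
  137) (.leaf
  233)))) (.node 2 (.node 1 (.leaf
  323) (.leaf
  874)) (.node 1 (.leaf
  833) (.node 1 (.leaf
  899) (.leaf
  956))))) (.node 5 (.node 2 (.node 1 (.leaf
  893) (.leaf
  947)) (.node 1 (.leaf
  858) (.node 1 (.leaf
  878) (.leaf
  234)))) (.node 2 (.node 1 (.leaf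
  131) (.leaf
  237)) (.node 1 (.leaf
  279) (.node 1 (.leaf
  945) (.leaf
  413)))))) (.node 10 (.node 5 (.node 2 (.node 1 (.leaf
  1002) (.leaf
  1001)) (.node 1 (.leaf
  297) (.node 1 (.leaf
  408) (.leaf
  844)))) (.node 2 (.node 1 (.leaf
  889) (.leaf
  320)) (.node 1 (.leaf
  372) (.node 1 (.leaf
  357) (.leaf
  237))))) (.node 5 (.node 2 (.node 1 (.leaf
  213) (.leaf
  857)) (.node 1 (.leaf
  238) (.node 1 (.leaf
  284) (.leaf
  283)))) (.node 2 (.node 1 (.leaf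
  966) (.leaf
  1014)) (.node 1 (.leaf
  305) (.node 1 (.leaf
  24) (.leaf
  332))))))) (.node 20 (.node 10 (.node 5 (.node 2 (.node 1 (.leaf
  862) (.leaf
  404)) (.node 1 (.leaf
  290) (.node 1 (.leaf
  375) (.leaf
  238)))) (.node 2 (.node 1 (.leaf
  970) (.leaf
  1019)) (.node 1 (.leaf
  352) (.node 1 (.leaf
  288) (.leaf
  287))))) (.node 5 (.node 2 (.node 1 (.leaf
  921) (.leaf
  917)) (.node 1 (.leaf
  410) (.node 1 (.leaf
  986) (.leaf
  281)))) (.node 2 (.node 1 (.leaf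
  230) (.leaf
  241)) (.node 1 (.leaf
  924) (.node 1 (.leaf
  960) (.leaf
  979)))))) (.node 10 (.node 5 (.node 2 (.node 1 (.leaf
  341) (.leaf
  396)) (.node 1 (.leaf
  335) (.node 1 (.leaf
  992) (.leaf
  257)))) (.node 2 (.node 1 (.leaf
  917) (.leaf
  308)) (.node 1 (.leaf
  990) (.node 1 (.leaf
  856) (.leaf
  242))))) (.node 5 (.node 2 (.node 1 (.leaf
  247) (.leaf
  243)) (.node 1 (.leaf
  246) (.node 1 (.leaf
  122) (.leaf
  407)))) (.node 2 (.node 1 (.leaf
  994) (.leaf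
  980)) (.node 1 (.leaf
  989) (.node 1 (.leaf
  166) (.leaf
  243)))))))) (.node 40 (.node 20 (.node 10 (.node 5 (.node 2 (.node 1 (.leaf
  327) (.leaf
  984)) (.node 1 (.leaf
  972) (.node 1 (.leaf
  19) (.leaf
  286)))) (.node 2 (.node 1 (.leaf
  906) (.leaf
  355)) (.node 1 (.leaf
  904) (.node 1 (.leaf
  421) (.leaf
  246))))) (.node 5 (.node 2 (.node 1 (.leaf
  212) (.leaf
  849)) (.node 1 (.leaf
  392) (.node 1 (.leaf
  870) (.leaf
  974)))) (.node 2 (.node 1 (.leaf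
  170) (.leaf
  247)) (.node 1 (.leaf
  895) (.node 1 (.leaf
  403) (.leaf
  353)))))) (.node 10 (.node 5 (.node 2 (.node 1 (.leaf
  905) (.leaf
  369)) (.node 1 (.leaf
  961) (.node 1 (.leaf
  21) (.leaf
  365)))) (.node 2 (.node 1 (.leaf
  319) (.leaf
  378)) (.node 1 (.leaf
  326) (.node 1 (.leaf
  377) (.leaf
  247))))) (.node 5 (.node 2 (.node 1 (.leaf
  989) (.leaf
  248)) (.node 1 (.leaf
  994) (.node 1 (.leaf
  841) (.leaf
  898)))) (.node 2 (.node 1 (.leaf
  386) (.leaf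
  348)) (.node 1 (.leaf
  248) (.node 1 (.leaf
  964) (.leaf
  890))))))) (.node 20 (.node 10 (.node 5 (.node 2 (.node 1 (.leaf
  304) (.leaf
  1015)) (.node 1 (.leaf
  302) (.node 1 (.leaf
  228) (.leaf
  927)))) (.node 2 (.node 1 (.leaf
  194) (.leaf
  390)) (.node 1 (.leaf
  301) (.node 1 (.leaf
  1013) (.leaf
  1009))))) (.node 5 (.node 2 (.node 1 (.leaf
  266) (.leaf
  251)) (.node 1 (.leaf
  969) (.node 1 (.leaf
  155) (.leaf
  896)))) (.node 2 (.node 1 (.leaf
  381) (.leaf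
  999)) (.node 1 (.leaf
  251) (.node 1 (.leaf
  188) (.leaf
  337)))))) (.node 10 (.node 5 (.node 2 (.node 1 (.leaf
  873) (.leaf
  368)) (.node 1 (.leaf
  383) (.node 1 (.leaf
  352) (.leaf
  351)))) (.node 2 (.node 1 (.leaf
  963) (.leaf
  365)) (.node 1 (.leaf
  1016) (.node 1 (.leaf
  1005) (.leaf
  252))))) (.node 5 (.node 2 (.node 1 (.leaf
  934) (.leaf
  371)) (.node 1 (.leaf
  948) (.node 1 (.leaf
  990) (.leaf
  253)))) (.node 2 (.node 1 (.leaf
  978) (.leaf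
  254)) (.node 1 (.leaf
  320) (.node 1 (.leaf
  838) (.leaf
  406))))))))) (.node 80 (.node 40 (.node 20 (.node 10 (.node 5 (.node 2 (.node 1 (.leaf
  374) (.leaf
  944)) (.node 1 (.leaf
  417) (.node 1 (.leaf
  854) (.leaf
  343)))) (.node 2 (.node 1 (.leaf
  977) (.leaf
  385)) (.node 1 (.leaf
  257) (.node 1 (.leaf
  1019) (.leaf
  874))))) (.node 5 (.node 2 (.node 1 (.leaf
  936) (.leaf
  966)) (.node 1 (.leaf
  939) (.node 1 (.leaf
  959) (.leaf
  958)))) (.node 2 (.node 1 (.leaf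
  263) (.leaf
  362)) (.node 1 (.leaf
  258) (.node 1 (.leaf
  952) (.leaf
  951)))))) (.node 10 (.node 5 (.node 2 (.node 1 (.leaf
  248) (.leaf
  1002)) (.node 1 (.leaf
  386) (.node 1 (.leaf
  938) (.leaf
  919)))) (.node 2 (.node 1 (.leaf
  933) (.leaf
  918)) (.node 1 (.leaf
  260) (.node 1 (.leaf
  1003) (.leaf
  971))))) (.node 5 (.node 2 (.node 1 (.leaf
  953) (.leaf
  323)) (.node 1 (.leaf
  261) (.node 1 (.leaf
  894) (.leaf
  299)))) (.node 2 (.node 1 (.leaf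
  14) (.leaf
  1003)) (.node 1 (.leaf
  262) (.node 1 (.leaf
  970) (.leaf
  372))))))) (.node 20 (.node 10 (.node 5 (.node 2 (.node 1 (.leaf
  997) (.leaf
  1006)) (.node 1 (.leaf
  884) (.node 1 (.leaf
  853) (.leaf
  833)))) (.node 2 (.node 1 (.leaf
  940) (.leaf
  413)) (.node 1 (.leaf
  892) (.node 1 (.leaf
  982) (.leaf
  318))))) (.node 5 (.node 2 (.node 1 (.leaf
  253) (.leaf
  264)) (.node 1 (.leaf
  987) (.node 1 (.leaf
  350) (.leaf
  397)))) (.node 2 (.node 1 (.leaf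
  313) (.leaf
  327)) (.node 1 (.leaf
  264) (.node 1 (.leaf
  988) (.leaf
  1017)))))) (.node 10 (.node 5 (.node 2 (.node 1 (.leaf
  385) (.leaf
  285)) (.node 1 (.leaf
  384) (.node 1 (.leaf
  926) (.leaf
  985)))) (.node 2 (.node 1 (.leaf
  958) (.leaf
  924)) (.node 1 (.leaf
  303) (.node 1 (.leaf
  205) (.leaf
  265))))) (.node 5 (.node 2 (.node 1 (.leaf
  969) (.leaf
  301)) (.node 1 (.leaf
  266) (.node 1 (.leaf
  1011) (.leaf
  302)))) (.node 2 (.node 1 (.leaf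
  884) (.leaf
  273)) (.node 1 (.leaf
  997) (.node 1 (.leaf
  381) (.leaf
  845)))))))) (.node 40 (.node 20 (.node 10 (.node 5 (.node 2 (.node 1 (.leaf
  379) (.leaf
  1011)) (.node 1 (.leaf
  986) (.node 1 (.leaf
  308) (.leaf
  270)))) (.node 2 (.node 1 (.leaf
  275) (.leaf
  271)) (.node 1 (.leaf
  274) (.node 1 (.leaf
  241) (.leaf
  383))))) (.node 5 (.node 2 (.node 1 (.leaf
  242) (.leaf
  1010)) (.node 1 (.leaf
  851) (.node 1 (.leaf
  290) (.leaf
  995)))) (.node 2 (.node 1 (.leaf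
  405) (.leaf
  272)) (.node 1 (.leaf
  849) (.node 1 (.leaf
  837) (.leaf
  1004)))))) (.node 10 (.node 5 (.node 2 (.node 1 (.leaf
  299) (.leaf
  1013)) (.node 1 (.leaf
  1006) (.node 1 (.leaf
  998) (.leaf
  955)))) (.node 2 (.node 1 (.leaf
  124) (.leaf
  878)) (.node 1 (.leaf
  273) (.node 1 (.leaf
  962) (.leaf
  961))))) (.node 5 (.node 2 (.node 1 (.leaf
  871) (.leaf
  960)) (.node 1 (.leaf
  869) (.node 1 (.leaf
  898) (.leaf
  841)))) (.node 2 (.node 1 (.leaf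
  325) (.leaf
  377)) (.node 1 (.leaf
  860) (.node 1 (.leaf
  400) (.leaf
  275))))))) (.node 20 (.node 10 (.node 5 (.node 2 (.node 1 (.leaf
  376) (.leaf
  276)) (.node 1 (.leaf
  375) (.node 1 (.leaf
  387) (.leaf
  386)))) (.node 2 (.node 1 (.leaf
  883) (.leaf
  987)) (.node 1 (.leaf
  882) (.node 1 (.leaf
  891) (.leaf
  857))))) (.node 5 (.node 2 (.node 1 (.leaf
  885) (.leaf
  328)) (.node 1 (.leaf
  867) (.node 1 (.leaf
  277) (.leaf
  276)))) (.node 2 (.node 1 (.leaf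
  957) (.leaf
  277)) (.node 1 (.leaf
  996) (.node 1 (.leaf
  980) (.leaf
  953)))))) (.node 10 (.node 5 (.node 2 (.node 1 (.leaf
  896) (.leaf
  958)) (.node 1 (.leaf
  894) (.node 1 (.leaf
  874) (.leaf
  1019)))) (.node 2 (.node 1 (.leaf
  272) (.leaf
  844)) (.node 1 (.leaf
  278) (.node 1 (.leaf
  875) (.leaf
  362))))) (.node 5 (.node 2 (.node 1 (.leaf
  23) (.leaf
  1000)) (.node 1 (.leaf
  380) (.node 1 (.leaf
  279) (.leaf
  278)))) (.node 2 (.node 1 (.leaf
  1006) (.leaf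
  1017)) (.node 1 (.leaf
  299) (.node 1 (.leaf
  947) (.leaf
  1018)))))))))))) (.node 640 (.node 320 (.node 160 (.node 80 (.node 40 (.node 20 (.node 10 (.node 5 (.node 2 (.node 1 (.leaf
  942) (.leaf
  971)) (.node 1 (.leaf
  281) (.node 1 (.leaf
  396) (.leaf
  395)))) (.node 2 (.node 1 (.leaf
  311) (.leaf
  914)) (.node 1 (.leaf
  1001) (.node 1 (.leaf
  840) (.leaf
  282))))) (.node 5 (.node 2 (.node 1 (.leaf
  955) (.leaf
  866)) (.node 1 (.leaf
  907) (.node 1 (.leaf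
  215) (.leaf
  285)))) (.node 2 (.node 1 (.leaf
  292) (.leaf
  286)) (.node 1 (.leaf
  846) (.node 1 (.leaf
  420) (.leaf
  876)))))) (.node 10 (.node 5 (.node 2 (.node 1 (.leaf
  368) (.leaf
  288)) (.node 1 (.leaf
  908) (.node 1 (.leaf
  901) (.leaf
  900)))) (.node 2 (.node 1 (.leaf
  121) (.leaf
  343)) (.node 1 (.leaf
  845) (.node 1 (.leaf
  895) (.leaf
  1016))))) (.node 5 (.node 2 (.node 1 (.leaf
  206) (.leaf
  289)) (.node 1 (.leaf
  870) (.node 1 (.leaf
  851) (.leaf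
  1006)))) (.node 2 (.node 1 (.leaf
  16) (.leaf
  310)) (.node 1 (.leaf
  289) (.node 1 (.leaf
  170) (.leaf
  385))))))) (.node 20 (.node 10 (.node 5 (.node 2 (.node 1 (.leaf
  161) (.leaf
  418)) (.node 1 (.leaf
  333) (.node 1 (.leaf
  399) (.leaf
  398)))) (.node 2 (.node 1 (.leaf
  986) (.leaf
  324)) (.node 1 (.leaf
  379) (.node 1 (.leaf
  1000) (.leaf
  289))))) (.node 5 (.node 2 (.node 1 (.leaf
  142) (.leaf
  834)) (.node 1 (.leaf
  310) (.node 1 (.leaf
  376) (.leaf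
  412)))) (.node 2 (.node 1 (.leaf
  373) (.leaf
  923)) (.node 1 (.leaf
  367) (.node 1 (.leaf
  861) (.leaf
  390)))))) (.node 10 (.node 5 (.node 2 (.node 1 (.leaf
  257) (.leaf
  952)) (.node 1 (.leaf
  977) (.node 1 (.leaf
  995) (.leaf
  290)))) (.node 2 (.node 1 (.leaf
  177) (.leaf
  880)) (.node 1 (.leaf
  899) (.node 1 (.leaf
  126) (.leaf
  401))))) (.node 5 (.node 2 (.node 1 (.leaf
  347) (.leaf
  961)) (.node 1 (.leaf
  351) (.node 1 (.leaf
  1008) (.leaf
  1007)))) (.node 2 (.node 1 (.leaf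
  968) (.leaf
  296)) (.node 1 (.leaf
  981) (.node 1 (.leaf
  890) (.leaf
  964)))))))) (.node 40 (.node 20 (.node 10 (.node 5 (.node 2 (.node 1 (.leaf
  399) (.leaf
  394)) (.node 1 (.leaf
  296) (.node 1 (.leaf
  1009) (.leaf
  1013)))) (.node 2 (.node 1 (.leaf
  209) (.leaf
  316)) (.node 1 (.leaf
  1012) (.node 1 (.leaf
  297) (.leaf
  296))))) (.node 5 (.node 2 (.node 1 (.leaf
  974) (.leaf
  970)) (.node 1 (.leaf
  887) (.node 1 (.leaf
  257) (.leaf
  992)))) (.node 2 (.node 1 (.leaf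
  338) (.leaf
  916)) (.node 1 (.leaf
  414) (.node 1 (.leaf
  161) (.leaf
  300)))))) (.node 10 (.node 5 (.node 2 (.node 1 (.leaf
  916) (.leaf
  937)) (.node 1 (.leaf
  911) (.node 1 (.leaf
  294) (.leaf
  886)))) (.node 2 (.node 1 (.leaf
  1010) (.leaf
  375)) (.node 1 (.leaf
  1015) (.node 1 (.leaf
  207) (.leaf
  921))))) (.node 5 (.node 2 (.node 1 (.leaf
  153) (.leaf
  854)) (.node 1 (.leaf
  918) (.node 1 (.leaf
  931) (.leaf
  303)))) (.node 2 (.node 1 (.leaf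
  335) (.leaf
  889)) (.node 1 (.leaf
  341) (.node 1 (.leaf
  919) (.leaf
  938))))))) (.node 20 (.node 10 (.node 5 (.node 2 (.node 1 (.leaf
  990) (.leaf
  853)) (.node 1 (.leaf
  917) (.node 1 (.leaf
  187) (.leaf
  304)))) (.node 2 (.node 1 (.leaf
  926) (.leaf
  979)) (.node 1 (.leaf
  914) (.node 1 (.leaf
  138) (.leaf
  306))))) (.node 5 (.node 2 (.node 1 (.leaf
  276) (.leaf
  896)) (.node 1 (.leaf
  898) (.node 1 (.leaf
  859) (.leaf
  858)))) (.node 2 (.node 1 (.leaf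
  863) (.leaf
  307)) (.node 1 (.leaf
  935) (.node 1 (.leaf
  953) (.leaf
  980)))))) (.node 10 (.node 5 (.node 2 (.node 1 (.leaf
  879) (.leaf
  906)) (.node 1 (.leaf
  853) (.node 1 (.leaf
  1017) (.leaf
  988)))) (.node 2 (.node 1 (.leaf
  296) (.leaf
  1018)) (.node 1 (.leaf
  399) (.node 1 (.leaf
  356) (.leaf
  325))))) (.node 5 (.node 2 (.node 1 (.leaf
  329) (.leaf
  311)) (.node 1 (.leaf
  991) (.node 1 (.leaf
  932) (.leaf
  852)))) (.node 2 (.node 1 (.leaf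
  1001) (.leaf
  359)) (.node 1 (.leaf
  311) (.node 1 (.leaf
  957) (.leaf
  910))))))))) (.node 80 (.node 40 (.node 20 (.node 10 (.node 5 (.node 2 (.node 1 (.leaf
  848) (.leaf
  1007)) (.node 1 (.leaf
  1011) (.node 1 (.leaf
  411) (.leaf
  949)))) (.node 2 (.node 1 (.leaf
  383) (.leaf
  964)) (.node 1 (.leaf
  873) (.node 1 (.leaf
  918) (.leaf
  313))))) (.node 5 (.node 2 (.node 1 (.leaf
  904) (.leaf
  400)) (.node 1 (.leaf
  906) (.node 1 (.leaf
  220) (.leaf
  881)))) (.node 2 (.node 1 (.leaf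
  925) (.leaf
  321)) (.node 1 (.leaf
  950) (.node 1 (.leaf
  917) (.leaf
  916)))))) (.node 10 (.node 5 (.node 2 (.node 1 (.leaf
  962) (.leaf
  993)) (.node 1 (.leaf
  998) (.node 1 (.leaf
  345) (.leaf
  344)))) (.node 2 (.node 1 (.leaf
  868) (.leaf
  902)) (.node 1 (.leaf
  389) (.node 1 (.leaf
  371) (.leaf
  333))))) (.node 5 (.node 2 (.node 1 (.leaf
  897) (.leaf
  867)) (.node 1 (.leaf
  965) (.node 1 (.leaf
  842) (.leaf
  334)))) (.node 2 (.node 1 (.leaf
  967) (.leaf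
  337)) (.node 1 (.leaf
  890) (.node 1 (.leaf
  1018) (.leaf
  947))))))) (.node 20 (.node 10 (.node 5 (.node 2 (.node 1 (.leaf
  303) (.leaf
  929)) (.node 1 (.leaf
  958) (.node 1 (.leaf
  404) (.leaf
  993)))) (.node 2 (.node 1 (.leaf
  363) (.leaf
  887)) (.node 1 (.leaf
  339) (.node 1 (.leaf
  25) (.leaf
  405))))) (.node 5 (.node 2 (.node 1 (.leaf
  976) (.leaf
  950)) (.node 1 (.leaf
  1017) (.node 1 (.leaf
  355) (.leaf
  869)))) (.node 2 (.node 1 (.leaf
  361) (.leaf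
  997)) (.node 1 (.leaf
  421) (.node 1 (.leaf
  342) (.leaf
  341)))))) (.node 10 (.node 5 (.node 2 (.node 1 (.leaf
  983) (.leaf
  893)) (.node 1 (.leaf
  354) (.node 1 (.leaf
  299) (.leaf
  894)))) (.node 2 (.node 1 (.leaf
  355) (.leaf
  342)) (.node 1 (.leaf
  353) (.node 1 (.leaf
  857) (.leaf
  891))))) (.node 5 (.node 2 (.node 1 (.leaf
  890) (.leaf
  982)) (.node 1 (.leaf
  967) (.node 1 (.leaf
  905) (.leaf
  904)))) (.node 2 (.node 1 (.leaf
  352) (.leaf
  346)) (.node 1 (.leaf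
  970) (.node 1 (.leaf
  1016) (.leaf
  895)))))))) (.node 40 (.node 20 (.node 10 (.node 5 (.node 2 (.node 1 (.leaf
  389) (.leaf
  380)) (.node 1 (.leaf
  868) (.node 1 (.leaf
  997) (.leaf
  349)))) (.node 2 (.node 1 (.leaf
  992) (.leaf
  912)) (.node 1 (.leaf
  350) (.node 1 (.leaf
  955) (.leaf
  998))))) (.node 5 (.node 2 (.node 1 (.leaf
  943) (.leaf
  836)) (.node 1 (.leaf
  928) (.node 1 (.leaf
  979) (.leaf
  960)))) (.node 2 (.node 1 (.leaf
  1016) (.leaf
  840)) (.node 1 (.leaf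
  963) (.node 1 (.leaf
  994) (.leaf
  883)))))) (.node 10 (.node 5 (.node 2 (.node 1 (.leaf
  951) (.leaf
  935)) (.node 1 (.leaf
  852) (.node 1 (.leaf
  869) (.leaf
  355)))) (.node 2 (.node 1 (.leaf
  1015) (.leaf
  360)) (.node 1 (.leaf
  1010) (.node 1 (.leaf
  871) (.leaf
  946))))) (.node 5 (.node 2 (.node 1 (.leaf
  913) (.leaf
  910)) (.node 1 (.leaf
  912) (.node 1 (.leaf
  882) (.leaf
  363)))) (.node 2 (.node 1 (.leaf
  842) (.leaf
  1012)) (.node 1 (.leaf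
  840) (.node 1 (.leaf
  974) (.leaf
  870))))))) (.node 20 (.node 10 (.node 5 (.node 2 (.node 1 (.leaf
  964) (.leaf
  931)) (.node 1 (.leaf
  397) (.node 1 (.leaf
  897) (.leaf
  843)))) (.node 2 (.node 1 (.leaf
  417) (.leaf
  846)) (.node 1 (.leaf
  374) (.node 1 (.leaf
  965) (.leaf
  862))))) (.node 5 (.node 2 (.node 1 (.leaf
  371) (.leaf
  856)) (.node 1 (.leaf
  857) (.node 1 (.leaf
  1004) (.leaf
  837)))) (.node 2 (.node 1 (.leaf
  946) (.leaf
  990)) (.node 1 (.leaf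
  993) (.node 1 (.leaf
  884) (.leaf
  839)))))) (.node 10 (.node 5 (.node 2 (.node 1 (.leaf
  959) (.leaf
  928)) (.node 1 (.leaf
  952) (.node 1 (.leaf
  363) (.leaf
  882)))) (.node 2 (.node 1 (.leaf
  350) (.leaf
  1008)) (.node 1 (.leaf
  992) (.node 1 (.leaf
  415) (.leaf
  388))))) (.node 5 (.node 2 (.node 1 (.leaf
  395) (.leaf
  901)) (.node 1 (.leaf
  398) (.node 1 (.leaf
  963) (.leaf
  1015)))) (.node 2 (.node 1 (.leaf
  1009) (.leaf
  838)) (.node 1 (.leaf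
  1008) (.node 1 (.leaf
  883) (.leaf
  994)))))))))) (.node 160 (.node 80 (.node 40 (.node 20 (.node 10 (.node 5 (.node 2 (.node 1 (.leaf
  1007) (.leaf
  412)) (.node 1 (.leaf
  903) (.node 1 (.leaf
  946) (.leaf
  871)))) (.node 2 (.node 1 (.leaf
  675) (.leaf
  422)) (.node 1 (.leaf
  705) (.node 1 (.leaf
  469) (.leaf
  744))))) (.node 5 (.node 2 (.node 1 (.leaf
  487) (.leaf
  778)) (.node 1 (.leaf
  692) (.node 1 (.leaf
  92) (.leaf
  658)))) (.node 2 (.node 1 (.leaf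
  669) (.leaf
  518)) (.node 1 (.leaf
  423) (.node 1 (.leaf
  565) (.leaf
  689)))))) (.node 10 (.node 5 (.node 2 (.node 1 (.leaf
  801) (.leaf
  818)) (.node 1 (.leaf
  541) (.node 1 (.leaf
  470) (.leaf
  423)))) (.node 2 (.node 1 (.leaf
  428) (.leaf
  424)) (.node 1 (.leaf
  427) (.node 1 (.leaf
  768) (.leaf
  826))))) (.node 5 (.node 2 (.node 1 (.leaf
  673) (.leaf
  831)) (.node 1 (.leaf
  531) (.node 1 (.leaf
  443) (.leaf
  617)))) (.node 2 (.node 1 (.leaf
  532) (.leaf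
  425)) (.node 1 (.leaf
  530) (.node 1 (.leaf
  753) (.leaf
  827))))))) (.node 20 (.node 10 (.node 5 (.node 2 (.node 1 (.leaf
  452) (.leaf
  819)) (.node 1 (.leaf
  823) (.node 1 (.leaf
  638) (.leaf
  664)))) (.node 2 (.node 1 (.leaf
  785) (.leaf
  426)) (.node 1 (.leaf
  622) (.node 1 (.leaf
  805) (.leaf
  758))))) (.node 5 (.node 2 (.node 1 (.leaf
  70) (.leaf
  687)) (.node 1 (.leaf
  426) (.node 1 (.leaf
  640) (.leaf
  678)))) (.node 2 (.node 1 (.leaf
  50) (.leaf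
  427)) (.node 1 (.leaf
  676) (.node 1 (.leaf
  703) (.leaf
  824)))))) (.node 10 (.node 5 (.node 2 (.node 1 (.leaf
  524) (.leaf
  765)) (.node 1 (.leaf
  522) (.node 1 (.leaf
  709) (.leaf
  708)))) (.node 2 (.node 1 (.leaf
  775) (.leaf
  672)) (.node 1 (.leaf
  773) (.node 1 (.leaf
  89) (.leaf
  751))))) (.node 5 (.node 2 (.node 1 (.leaf
  489) (.leaf
  825)) (.node 1 (.leaf
  771) (.node 1 (.leaf
  651) (.leaf
  428)))) (.node 2 (.node 1 (.leaf
  744) (.leaf
  702)) (.node 1 (.leaf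
  517) (.node 1 (.leaf
  602) (.leaf
  601)))))))) (.node 40 (.node 20 (.node 10 (.node 5 (.node 2 (.node 1 (.leaf
  656) (.leaf
  429)) (.node 1 (.leaf
  618) (.node 1 (.leaf
  740) (.leaf
  695)))) (.node 2 (.node 1 (.leaf
  652) (.leaf
  722)) (.node 1 (.leaf
  755) (.node 1 (.leaf
  787) (.leaf
  583))))) (.node 5 (.node 2 (.node 1 (.leaf
  485) (.leaf
  481)) (.node 1 (.leaf
  484) (.node 1 (.leaf
  813) (.leaf
  430)))) (.node 2 (.node 1 (.leaf
  523) (.leaf
  552)) (.node 1 (.leaf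
  754) (.node 1 (.leaf
  746) (.leaf
  608)))))) (.node 10 (.node 5 (.node 2 (.node 1 (.leaf
  821) (.leaf
  432)) (.node 1 (.leaf
  820) (.node 1 (.leaf
  540) (.leaf
  798)))) (.node 2 (.node 1 (.leaf
  660) (.leaf
  792)) (.node 1 (.leaf
  796) (.node 1 (.leaf
  541) (.leaf
  433))))) (.node 5 (.node 2 (.node 1 (.leaf
  473) (.leaf
  790)) (.node 1 (.leaf
  1020) (.node 1 (.leaf
  756) (.leaf
  434)))) (.node 2 (.node 1 (.leaf
  832) (.leaf
  436)) (.node 1 (.leaf
  701) (.node 1 (.leaf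
  798) (.leaf
  540))))))) (.node 20 (.node 10 (.node 5 (.node 2 (.node 1 (.leaf
  438) (.leaf
  826)) (.node 1 (.leaf
  436) (.node 1 (.leaf
  727) (.leaf
  514)))) (.node 2 (.node 1 (.leaf
  777) (.leaf
  710)) (.node 1 (.leaf
  826) (.node 1 (.leaf
  762) (.leaf
  761))))) (.node 5 (.node 2 (.node 1 (.leaf
  512) (.leaf
  573)) (.node 1 (.leaf
  706) (.node 1 (.leaf
  485) (.leaf
  794)))) (.node 2 (.node 1 (.leaf
  515) (.leaf
  695)) (.node 1 (.leaf
  513) (.node 1 (.leaf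
  562) (.leaf
  437)))))) (.node 10 (.node 5 (.node 2 (.node 1 (.leaf
  445) (.leaf
  438)) (.node 1 (.leaf
  759) (.node 1 (.leaf
  666) (.leaf
  620)))) (.node 2 (.node 1 (.leaf
  491) (.leaf
  538)) (.node 1 (.leaf
  1021) (.node 1 (.leaf
  456) (.leaf
  438))))) (.node 5 (.node 2 (.node 1 (.leaf
  566) (.leaf
  513)) (.node 1 (.leaf
  439) (.node 1 (.leaf
  807) (.leaf
  825)))) (.node 2 (.node 1 (.leaf
  585) (.leaf
  506)) (.node 1 (.leaf
  494) (.node 1 (.leaf
  644) (.leaf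
  659))))))))) (.node 80 (.node 40 (.node 20 (.node 10 (.node 5 (.node 2 (.node 1 (.leaf
  702) (.leaf
  634)) (.node 1 (.leaf
  700) (.node 1 (.leaf
  561) (.leaf
  439)))) (.node 2 (.node 1 (.leaf
  632) (.leaf
  440)) (.node 1 (.leaf
  537) (.node 1 (.leaf
  519) (.leaf
  600))))) (.node 5 (.node 2 (.node 1 (.leaf
  548) (.leaf
  770)) (.node 1 (.leaf
  569) (.node 1 (.leaf
  522) (.leaf
  511)))) (.node 2 (.node 1 (.leaf
  809) (.leaf
  806)) (.node 1 (.leaf
  762) (.node 1 (.leaf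
  441) (.leaf
  440)))))) (.node 10 (.node 5 (.node 2 (.node 1 (.leaf
  827) (.leaf
  575)) (.node 1 (.leaf
  816) (.node 1 (.leaf
  489) (.leaf
  677)))) (.node 2 (.node 1 (.leaf
  67) (.leaf
  676)) (.node 1 (.leaf
  758) (.node 1 (.leaf
  85) (.leaf
  810))))) (.node 5 (.node 2 (.node 1 (.leaf
  514) (.leaf
  442)) (.node 1 (.leaf
  774) (.node 1 (.leaf
  531) (.leaf
  823)))) (.node 2 (.node 1 (.leaf
  29) (.leaf
  472)) (.node 1 (.leaf
  442) (.node 1 (.leaf
  559) (.leaf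
  832))))))) (.node 20 (.node 10 (.node 5 (.node 2 (.node 1 (.leaf
  41) (.leaf
  624)) (.node 1 (.leaf
  603) (.node 1 (.leaf
  545) (.leaf
  544)))) (.node 2 (.node 1 (.leaf
  541) (.leaf
  488)) (.node 1 (.leaf
  801) (.node 1 (.leaf
  816) (.leaf
  442))))) (.node 5 (.node 2 (.node 1 (.leaf
  54) (.leaf
  705)) (.node 1 (.leaf
  472) (.node 1 (.leaf
  682) (.leaf
  737)))) (.node 2 (.node 1 (.leaf
  597) (.leaf
  653)) (.node 1 (.leaf
  443) (.node 1 (.leaf
  817) (.leaf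
  510)))))) (.node 10 (.node 5 (.node 2 (.node 1 (.leaf
  761) (.leaf
  1021)) (.node 1 (.leaf
  619) (.node 1 (.leaf
  524) (.leaf
  771)))) (.node 2 (.node 1 (.leaf
  493) (.leaf
  445)) (.node 1 (.leaf
  572) (.node 1 (.leaf
  704) (.leaf
  501))))) (.node 5 (.node 2 (.node 1 (.leaf
  759) (.leaf
  757)) (.node 1 (.leaf
  445) (.node 1 (.leaf
  526) (.leaf
  525)))) (.node 2 (.node 1 (.leaf
  706) (.leaf
  459)) (.node 1 (.leaf
  512) (.node 1 (.leaf
  801) (.leaf
  446)))))))) (.node 40 (.node 20 (.node 10 (.node 5 (.node 2 (.node 1 (.leaf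
  477) (.leaf
  781)) (.node 1 (.leaf
  571) (.node 1 (.leaf
  582) (.leaf
  581)))) (.node 2 (.node 1 (.leaf
  795) (.leaf
  590)) (.node 1 (.leaf
  447) (.node 1 (.leaf
  686) (.leaf
  802))))) (.node 5 (.node 2 (.node 1 (.leaf
  619) (.leaf
  678)) (.node 1 (.leaf
  761) (.node 1 (.leaf
  821) (.leaf
  828)))) (.node 2 (.node 1 (.leaf
  545) (.leaf
  698)) (.node 1 (.leaf
  449) (.node 1 (.leaf
  820) (.leaf
  819)))))) (.node 10 (.node 5 (.node 2 (.node 1 (.leaf
  517) (.leaf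
  478)) (.node 1 (.leaf
  744) (.node 1 (.leaf
  450) (.leaf
  449)))) (.node 2 (.node 1 (.leaf
  719) (.leaf
  1020)) (.node 1 (.leaf
  450) (.node 1 (.leaf
  688) (.leaf
  683))))) (.node 5 (.node 2 (.node 1 (.leaf
  628) (.leaf
  451)) (.node 1 (.leaf
  599) (.node 1 (.leaf
  750) (.leaf
  788)))) (.node 2 (.node 1 (.leaf
  1022) (.leaf
  809)) (.node 1 (.leaf
  786) (.node 1 (.leaf
  647) (.leaf
  604))))))) (.node 20 (.node 10 (.node 5 (.node 2 (.node 1 (.leaf
  695) (.leaf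
  487)) (.node 1 (.leaf
  637) (.node 1 (.leaf
  84) (.leaf
  452)))) (.node 2 (.node 1 (.leaf
  663) (.leaf
  791)) (.node 1 (.leaf
  592) (.node 1 (.leaf
  41) (.leaf
  453))))) (.node 5 (.node 2 (.node 1 (.leaf
  779) (.leaf
  454)) (.node 1 (.leaf
  807) (.node 1 (.leaf
  514) (.leaf
  727)))) (.node 2 (.node 1 (.leaf
  498) (.leaf
  632)) (.node 1 (.leaf
  454) (.node 1 (.leaf
  430) (.leaf
  813)))))) (.node 10 (.node 5 (.node 2 (.node 1 (.leaf
  747) (.leaf
  595)) (.node 1 (.leaf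
  745) (.node 1 (.leaf
  76) (.leaf
  674)))) (.node 2 (.node 1 (.leaf
  551) (.leaf
  812)) (.node 1 (.leaf
  549) (.node 1 (.leaf
  484) (.leaf
  554))))) (.node 5 (.node 2 (.node 1 (.leaf
  765) (.leaf
  603)) (.node 1 (.leaf
  764) (.node 1 (.leaf
  783) (.leaf
  812)))) (.node 2 (.node 1 (.leaf
  808) (.leaf
  456)) (.node 1 (.leaf
  723) (.node 1 (.leaf
  663) (.leaf
  815))))))))))) (.node 320 (.node 160 (.node 80 (.node 40 (.node 20 (.node 10 (.node 5 (.node 2 (.node 1 (.leaf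
  458) (.leaf
  794)) (.node 1 (.leaf
  456) (.node 1 (.leaf
  539) (.leaf
  730)))) (.node 2 (.node 1 (.leaf
  561) (.leaf
  508)) (.node 1 (.leaf
  704) (.node 1 (.leaf
  438) (.leaf
  456))))) (.node 5 (.node 2 (.node 1 (.leaf
  76) (.leaf
  494)) (.node 1 (.leaf
  794) (.node 1 (.leaf
  619) (.leaf
  726)))) (.node 2 (.node 1 (.leaf
  677) (.leaf
  458)) (.node 1 (.leaf
  781) (.node 1 (.leaf
  643) (.leaf
  542)))))) (.node 10 (.node 5 (.node 2 (.node 1 (.leaf
  501) (.leaf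
  497)) (.node 1 (.leaf
  500) (.node 1 (.leaf
  829) (.leaf
  772)))) (.node 2 (.node 1 (.leaf
  711) (.leaf
  830)) (.node 1 (.leaf
  681) (.node 1 (.leaf
  767) (.leaf
  458))))) (.node 5 (.node 2 (.node 1 (.leaf
  766) (.leaf
  805)) (.node 1 (.leaf
  459) (.node 1 (.leaf
  579) (.leaf
  537)))) (.node 2 (.node 1 (.leaf
  701) (.leaf
  460)) (.node 1 (.leaf
  832) (.node 1 (.leaf
  815) (.leaf
  663))))))) (.node 20 (.node 10 (.node 5 (.node 2 (.node 1 (.leaf
  691) (.leaf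
  685)) (.node 1 (.leaf
  721) (.node 1 (.leaf
  736) (.leaf
  814)))) (.node 2 (.node 1 (.leaf
  576) (.leaf
  612)) (.node 1 (.leaf
  698) (.node 1 (.leaf
  765) (.leaf
  460))))) (.node 5 (.node 2 (.node 1 (.leaf
  699) (.leaf
  796)) (.node 1 (.leaf
  802) (.node 1 (.leaf
  737) (.leaf
  682)))) (.node 2 (.node 1 (.leaf
  735) (.leaf
  592)) (.node 1 (.leaf
  770) (.node 1 (.leaf
  432) (.leaf
  462)))))) (.node 10 (.node 5 (.node 2 (.node 1 (.leaf
  780) (.leaf
  484)) (.node 1 (.leaf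
  772) (.node 1 (.leaf
  479) (.leaf
  568)))) (.node 2 (.node 1 (.leaf
  814) (.leaf
  468)) (.node 1 (.leaf
  520) (.node 1 (.leaf
  30) (.leaf
  463))))) (.node 5 (.node 2 (.node 1 (.leaf
  466) (.leaf
  822)) (.node 1 (.leaf
  464) (.node 1 (.leaf
  500) (.leaf
  799)))) (.node 2 (.node 1 (.leaf
  791) (.leaf
  605)) (.node 1 (.leaf
  788) (.node 1 (.leaf
  447) (.leaf
  700)))))))) (.node 40 (.node 20 (.node 10 (.node 5 (.node 2 (.node 1 (.leaf
  831) (.leaf
  817)) (.node 1 (.leaf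
  822) (.node 1 (.leaf
  515) (.leaf
  660)))) (.node 2 (.node 1 (.leaf
  670) (.leaf
  642)) (.node 1 (.leaf
  465) (.node 1 (.leaf
  513) (.leaf
  551))))) (.node 5 (.node 2 (.node 1 (.leaf
  556) (.leaf
  769)) (.node 1 (.leaf
  793) (.node 1 (.leaf
  635) (.leaf
  465)))) (.node 2 (.node 1 (.leaf
  469) (.leaf
  466)) (.node 1 (.leaf
  468) (.node 1 (.leaf
  578) (.leaf
  577)))))) (.node 10 (.node 5 (.node 2 (.node 1 (.leaf
  783) (.leaf
  787)) (.node 1 (.leaf
  539) (.node 1 (.leaf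
  795) (.leaf
  803)))) (.node 2 (.node 1 (.leaf
  596) (.leaf
  714)) (.node 1 (.leaf
  792) (.node 1 (.leaf
  481) (.leaf
  466))))) (.node 5 (.node 2 (.node 1 (.leaf
  798) (.leaf
  741)) (.node 1 (.leaf
  790) (.node 1 (.leaf
  81) (.leaf
  468)))) (.node 2 (.node 1 (.leaf
  598) (.leaf
  469)) (.node 1 (.leaf
  614) (.node 1 (.leaf
  695) (.leaf
  740))))))) (.node 20 (.node 10 (.node 5 (.node 2 (.node 1 (.leaf
  792) (.leaf
  470)) (.node 1 (.leaf
  596) (.node 1 (.leaf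
  102) (.leaf
  673)))) (.node 2 (.node 1 (.leaf
  533) (.leaf
  581)) (.node 1 (.leaf
  470) (.node 1 (.leaf
  1023) (.leaf
  789))))) (.node 5 (.node 2 (.node 1 (.leaf
  92) (.leaf
  534)) (.node 1 (.leaf
  565) (.node 1 (.leaf
  34) (.leaf
  529)))) (.node 2 (.node 1 (.leaf
  683) (.leaf
  779)) (.node 1 (.leaf
  471) (.node 1 (.leaf
  33) (.leaf
  512)))))) (.node 10 (.node 5 (.node 2 (.node 1 (.leaf
  553) (.leaf
  749)) (.node 1 (.leaf
  715) (.node 1 (.leaf
  576) (.leaf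
  575)))) (.node 2 (.node 1 (.leaf
  572) (.leaf
  658)) (.node 1 (.leaf
  493) (.node 1 (.leaf
  473) (.leaf
  472))))) (.node 5 (.node 2 (.node 1 (.leaf
  61) (.leaf
  473)) (.node 1 (.leaf
  602) (.node 1 (.leaf
  634) (.leaf
  696)))) (.node 2 (.node 1 (.leaf
  1020) (.leaf
  542)) (.node 1 (.leaf
  473) (.node 1 (.leaf
  656) (.leaf
  728))))))))) (.node 80 (.node 40 (.node 20 (.node 10 (.node 5 (.node 2 (.node 1 (.leaf
  763) (.leaf
  828)) (.node 1 (.leaf
  818) (.node 1 (.leaf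
  802) (.leaf
  686)))) (.node 2 (.node 1 (.leaf
  715) (.leaf
  808)) (.node 1 (.leaf
  553) (.node 1 (.leaf
  1021) (.leaf
  661))))) (.node 5 (.node 2 (.node 1 (.leaf
  571) (.leaf
  611)) (.node 1 (.leaf
  477) (.node 1 (.leaf
  491) (.leaf
  490)))) (.node 2 (.node 1 (.leaf
  819) (.leaf
  824)) (.node 1 (.leaf
  574) (.node 1 (.leaf
  660) (.leaf
  515)))))) (.node 10 (.node 5 (.node 2 (.node 1 (.leaf
  748) (.leaf
  599)) (.node 1 (.leaf
  480) (.node 1 (.leaf
  796) (.leaf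
  497)))) (.node 2 (.node 1 (.leaf
  786) (.leaf
  544)) (.node 1 (.leaf
  1022) (.node 1 (.leaf
  702) (.leaf
  553))))) (.node 5 (.node 2 (.node 1 (.leaf
  478) (.leaf
  688)) (.node 1 (.leaf
  584) (.node 1 (.leaf
  567) (.leaf
  566)))) (.node 2 (.node 1 (.leaf
  447) (.leaf
  820)) (.node 1 (.leaf
  795) (.node 1 (.leaf
  483) (.leaf
  482))))))) (.node 20 (.node 10 (.node 5 (.node 2 (.node 1 (.leaf
  542) (.leaf
  657)) (.node 1 (.leaf
  508) (.node 1 (.leaf
  752) (.leaf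
  563)))) (.node 2 (.node 1 (.leaf
  540) (.leaf
  788)) (.node 1 (.leaf
  538) (.node 1 (.leaf
  554) (.leaf
  484))))) (.node 5 (.node 2 (.node 1 (.leaf
  641) (.leaf
  485)) (.node 1 (.leaf
  662) (.node 1 (.leaf
  792) (.leaf
  791)))) (.node 2 (.node 1 (.leaf
  739) (.leaf
  546)) (.node 1 (.leaf
  738) (.node 1 (.leaf
  499) (.leaf
  498)))))) (.node 10 (.node 5 (.node 2 (.node 1 (.leaf
  612) (.leaf
  570)) (.node 1 (.leaf
  643) (.node 1 (.leaf
  794) (.leaf
  485)))) (.node 2 (.node 1 (.leaf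
  557) (.leaf
  661)) (.node 1 (.leaf
  486) (.node 1 (.leaf
  528) (.leaf
  504))))) (.node 5 (.node 2 (.node 1 (.leaf
  563) (.leaf
  560)) (.node 1 (.leaf
  562) (.node 1 (.leaf
  487) (.leaf
  486)))) (.node 2 (.node 1 (.leaf
  32) (.leaf
  528)) (.node 1 (.leaf
  488) (.node 1 (.leaf
  699) (.leaf
  698)))))))) (.node 40 (.node 20 (.node 10 (.node 5 (.node 2 (.node 1 (.leaf
  771) (.leaf
  736)) (.node 1 (.leaf
  489) (.node 1 (.leaf
  629) (.leaf
  675)))) (.node 2 (.node 1 (.leaf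
  640) (.leaf
  607)) (.node 1 (.leaf
  638) (.node 1 (.leaf
  824) (.leaf
  703))))) (.node 5 (.node 2 (.node 1 (.leaf
  109) (.leaf
  490)) (.node 1 (.leaf
  564) (.node 1 (.leaf
  828) (.leaf
  821)))) (.node 2 (.node 1 (.leaf
  482) (.leaf
  706)) (.node 1 (.leaf
  490) (.node 1 (.leaf
  825) (.leaf
  807)))))) (.node 10 (.node 5 (.node 2 (.node 1 (.leaf
  803) (.leaf
  671)) (.node 1 (.leaf
  734) (.node 1 (.leaf
  799) (.leaf
  500)))) (.node 2 (.node 1 (.leaf
  1021) (.leaf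
  525)) (.node 1 (.leaf
  491) (.node 1 (.leaf
  77) (.leaf
  800))))) (.node 5 (.node 2 (.node 1 (.leaf
  734) (.leaf
  810)) (.node 1 (.leaf
  803) (.node 1 (.leaf
  1020) (.leaf
  518)))) (.node 2 (.node 1 (.leaf
  591) (.leaf
  588)) (.node 1 (.leaf
  590) (.node 1 (.leaf
  538) (.leaf
  739))))))) (.node 20 (.node 10 (.node 5 (.node 2 (.node 1 (.leaf
  103) (.leaf
  780)) (.node 1 (.leaf
  828) (.node 1 (.leaf
  549) (.leaf
  495)))) (.node 2 (.node 1 (.leaf
  672) (.leaf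
  669)) (.node 1 (.leaf
  496) (.node 1 (.leaf
  558) (.leaf
  763))))) (.node 5 (.node 2 (.node 1 (.leaf
  527) (.leaf
  630)) (.node 1 (.leaf
  503) (.node 1 (.leaf
  550) (.leaf
  589)))) (.node 2 (.node 1 (.leaf
  686) (.leaf
  507)) (.node 1 (.leaf
  582) (.node 1 (.leaf
  434) (.leaf
  756)))))) (.node 10 (.node 5 (.node 2 (.node 1 (.leaf
  687) (.leaf
  641)) (.node 1 (.leaf
  580) (.node 1 (.leaf
  706) (.leaf
  705)))) (.node 2 (.node 1 (.leaf
  39) (.leaf
  511)) (.node 1 (.leaf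
  579) (.node 1 (.leaf
  659) (.leaf
  644))))) (.node 5 (.node 2 (.node 1 (.leaf
  723) (.leaf
  764)) (.node 1 (.leaf
  808) (.node 1 (.leaf
  747) (.leaf
  738)))) (.node 2 (.node 1 (.leaf
  733) (.leaf
  668)) (.node 1 (.leaf
  1023) (.node 1 (.leaf
  551) (.leaf
  513)))))))))) (.node 160 (.node 80 (.node 40 (.node 20 (.node 10 (.node 5 (.node 2 (.node 1 (.leaf
  774) (.leaf
  758)) (.node 1 (.leaf
  514) (.node 1 (.leaf
  464) (.leaf
  818)))) (.node 2 (.node 1 (.leaf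
  720) (.leaf
  782)) (.node 1 (.leaf
  724) (.node 1 (.leaf
  764) (.leaf
  757))))) (.node 5 (.node 2 (.node 1 (.leaf
  581) (.leaf
  551)) (.node 1 (.leaf
  575) (.node 1 (.leaf
  521) (.leaf
  520)))) (.node 2 (.node 1 (.leaf
  574) (.leaf
  521)) (.node 1 (.leaf
  819) (.node 1 (.leaf
  731) (.leaf
  654)))))) (.node 10 (.node 5 (.node 2 (.node 1 (.leaf
  510) (.leaf
  801)) (.node 1 (.leaf
  521) (.node 1 (.leaf
  812) (.leaf
  783)))) (.node 2 (.node 1 (.leaf
  769) (.leaf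
  593)) (.node 1 (.leaf
  806) (.node 1 (.leaf
  436) (.leaf
  523))))) (.node 5 (.node 2 (.node 1 (.leaf
  704) (.leaf
  738)) (.node 1 (.leaf
  561) (.node 1 (.leaf
  45) (.leaf
  586)))) (.node 2 (.node 1 (.leaf
  520) (.leaf
  530)) (.node 1 (.leaf
  814) (.node 1 (.leaf
  774) (.leaf
  1022))))))) (.node 20 (.node 10 (.node 5 (.node 2 (.node 1 (.leaf
  595) (.leaf
  646)) (.node 1 (.leaf
  589) (.node 1 (.leaf
  760) (.leaf
  543)))) (.node 2 (.node 1 (.leaf
  717) (.leaf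
  564)) (.node 1 (.leaf
  730) (.node 1 (.leaf
  823) (.leaf
  531))))) (.node 5 (.node 2 (.node 1 (.leaf
  830) (.leaf
  786)) (.node 1 (.leaf
  815) (.node 1 (.leaf
  461) (.leaf
  532)))) (.node 2 (.node 1 (.leaf
  502) (.leaf
  768)) (.node 1 (.leaf
  642) (.node 1 (.leaf
  672) (.leaf
  741)))))) (.node 10 (.node 5 (.node 2 (.node 1 (.leaf
  724) (.leaf
  620)) (.node 1 (.leaf
  720) (.node 1 (.leaf
  42) (.leaf
  618)))) (.node 2 (.node 1 (.leaf
  575) (.leaf
  629)) (.node 1 (.leaf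
  581) (.node 1 (.leaf
  628) (.leaf
  535))))) (.node 5 (.node 2 (.node 1 (.leaf
  636) (.leaf
  602)) (.node 1 (.leaf
  536) (.node 1 (.leaf
  811) (.leaf
  722)))) (.node 2 (.node 1 (.leaf
  560) (.leaf
  693)) (.node 1 (.leaf
  558) (.node 1 (.leaf
  518) (.leaf
  1020)))))))) (.node 40 (.node 20 (.node 10 (.node 5 (.node 2 (.node 1 (.leaf
  694) (.leaf
  618)) (.node 1 (.leaf
  671) (.node 1 (.leaf
  739) (.leaf
  538)))) (.node 2 (.node 1 (.leaf
  772) (.leaf
  622)) (.node 1 (.leaf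
  780) (.node 1 (.leaf
  730) (.leaf
  539))))) (.node 5 (.node 2 (.node 1 (.leaf
  698) (.leaf
  540)) (.node 1 (.leaf
  576) (.node 1 (.leaf
  728) (.leaf
  656)))) (.node 2 (.node 1 (.leaf
  536) (.leaf
  793)) (.node 1 (.leaf
  636) (.node 1 (.leaf
  734) (.leaf
  715)))))) (.node 10 (.node 5 (.node 2 (.node 1 (.leaf
  727) (.leaf
  719)) (.node 1 (.leaf
  546) (.node 1 (.leaf
  803) (.leaf
  795)))) (.node 2 (.node 1 (.leaf
  539) (.leaf
  548)) (.node 1 (.leaf
  783) (.node 1 (.leaf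
  604) (.leaf
  647))))) (.node 5 (.node 2 (.node 1 (.leaf
  85) (.leaf
  814)) (.node 1 (.leaf
  559) (.node 1 (.leaf
  495) (.leaf
  549)))) (.node 2 (.node 1 (.leaf
  750) (.leaf
  557)) (.node 1 (.leaf
  550) (.node 1 (.leaf
  763) (.leaf
  558))))))) (.node 20 (.node 10 (.node 5 (.node 2 (.node 1 (.leaf
  601) (.leaf
  720)) (.node 1 (.leaf
  605) (.node 1 (.leaf
  789) (.leaf
  1023)))) (.node 2 (.node 1 (.leaf
  649) (.leaf
  644)) (.node 1 (.leaf
  555) (.node 1 (.leaf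
  749) (.leaf
  748))))) (.node 5 (.node 2 (.node 1 (.leaf
  499) (.leaf
  572)) (.node 1 (.leaf
  752) (.node 1 (.leaf
  556) (.leaf
  555)))) (.node 2 (.node 1 (.leaf
  716) (.leaf
  761)) (.node 1 (.leaf
  746) (.node 1 (.leaf
  553) (.leaf
  702)))))) (.node 10 (.node 5 (.node 2 (.node 1 (.leaf
  696) (.leaf
  626)) (.node 1 (.leaf
  693) (.node 1 (.leaf
  497) (.leaf
  796)))) (.node 2 (.node 1 (.leaf
  450) (.leaf
  684)) (.node 1 (.leaf
  719) (.node 1 (.leaf
  832) (.leaf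
  559))))) (.node 5 (.node 2 (.node 1 (.leaf
  730) (.leaf
  827)) (.node 1 (.leaf
  717) (.node 1 (.leaf
  63) (.leaf
  560)))) (.node 2 (.node 1 (.leaf
  790) (.leaf
  1022)) (.node 1 (.leaf
  798) (.node 1 (.leaf
  437) (.leaf
  562))))))))) (.node 80 (.node 40 (.node 20 (.node 10 (.node 5 (.node 2 (.node 1 (.leaf
  703) (.leaf
  563)) (.node 1 (.leaf
  829) (.node 1 (.leaf
  742) (.leaf
  786)))) (.node 2 (.node 1 (.leaf
  816) (.leaf
  804)) (.node 1 (.leaf
  827) (.node 1 (.leaf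
  103) (.leaf
  808))))) (.node 5 (.node 2 (.node 1 (.leaf
  583) (.leaf
  567)) (.node 1 (.leaf
  726) (.node 1 (.leaf
  701) (.leaf
  831)))) (.node 2 (.node 1 (.leaf
  799) (.leaf
  613)) (.node 1 (.leaf
  567) (.node 1 (.leaf
  707) (.leaf
  754)))))) (.node 10 (.node 5 (.node 2 (.node 1 (.leaf
  818) (.leaf
  1023)) (.node 1 (.leaf
  763) (.node 1 (.leaf
  661) (.leaf
  1021)))) (.node 2 (.node 1 (.leaf
  633) (.leaf
  811)) (.node 1 (.leaf
  751) (.node 1 (.leaf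
  719) (.leaf
  569))))) (.node 5 (.node 2 (.node 1 (.leaf
  725) (.leaf
  650)) (.node 1 (.leaf
  804) (.node 1 (.leaf
  510) (.leaf
  817)))) (.node 2 (.node 1 (.leaf
  721) (.leaf
  731)) (.node 1 (.leaf
  691) (.node 1 (.leaf
  599) (.leaf
  598))))))) (.node 20 (.node 10 (.node 5 (.node 2 (.node 1 (.leaf
  685) (.leaf
  766)) (.node 1 (.leaf
  639) (.node 1 (.leaf
  622) (.leaf
  587)))) (.node 2 (.node 1 (.leaf
  806) (.leaf
  708)) (.node 1 (.leaf
  769) (.node 1 (.leaf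
  690) (.leaf
  588))))) (.node 5 (.node 2 (.node 1 (.leaf
  616) (.leaf
  740)) (.node 1 (.leaf
  593) (.node 1 (.leaf
  46) (.leaf
  655)))) (.node 2 (.node 1 (.leaf
  615) (.leaf
  743)) (.node 1 (.leaf
  668) (.node 1 (.leaf
  596) (.leaf
  595)))))) (.node 10 (.node 5 (.node 2 (.node 1 (.leaf
  609) (.leaf
  596)) (.node 1 (.leaf
  607) (.node 1 (.leaf
  785) (.leaf
  755)))) (.node 2 (.node 1 (.leaf
  606) (.leaf
  600)) (.node 1 (.leaf
  697) (.node 1 (.leaf
  671) (.leaf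
  670))))) (.node 5 (.node 2 (.node 1 (.leaf
  757) (.leaf
  744)) (.node 1 (.leaf
  756) (.node 1 (.leaf
  1022) (.leaf
  774)))) (.node 2 (.node 1 (.leaf
  671) (.leaf
  800)) (.node 1 (.leaf
  694) (.node 1 (.leaf
  830) (.leaf
  782)))))))) (.node 40 (.node 20 (.node 10 (.node 5 (.node 2 (.node 1 (.leaf
  822) (.leaf
  829)) (.node 1 (.leaf
  831) (.node 1 (.leaf
  775) (.leaf
  609)))) (.node 2 (.node 1 (.leaf
  693) (.leaf
  614)) (.node 1 (.leaf
  696) (.node 1 (.leaf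
  773) (.leaf
  729))))) (.node 5 (.node 2 (.node 1 (.leaf
  820) (.leaf
  754)) (.node 1 (.leaf
  821) (.node 1 (.leaf
  784) (.leaf
  616)))) (.node 2 (.node 1 (.leaf
  690) (.leaf
  752)) (.node 1 (.leaf
  800) (.node 1 (.leaf
  741) (.leaf
  672)))))) (.node 10 (.node 5 (.node 2 (.node 1 (.leaf
  622) (.leaf
  823)) (.node 1 (.leaf
  785) (.node 1 (.leaf
  714) (.leaf
  692)))) (.node 2 (.node 1 (.leaf
  810) (.leaf
  756)) (.node 1 (.leaf
  679) (.node 1 (.leaf
  616) (.leaf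
  784))))) (.node 5 (.node 2 (.node 1 (.leaf
  645) (.leaf
  711)) (.node 1 (.leaf
  648) (.node 1 (.leaf
  694) (.leaf
  693)))) (.node 2 (.node 1 (.leaf
  749) (.leaf
  728)) (.node 1 (.leaf
  789) (.node 1 (.leaf
  782) (.leaf
  830))))))) (.node 20 (.node 10 (.node 5 (.node 2 (.node 1 (.leaf
  1023) (.leaf
  662)) (.node 1 (.leaf
  733) (.node 1 (.leaf
  729) (.leaf
  773)))) (.node 2 (.node 1 (.leaf
  679) (.leaf
  767)) (.node 1 (.leaf
  810) (.node 1 (.leaf
  738) (.leaf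
  747))))) (.node 5 (.node 2 (.node 1 (.leaf
  106) (.leaf
  797)) (.node 1 (.leaf
  678) (.node 1 (.leaf
  458) (.leaf
  767)))) (.node 2 (.node 1 (.leaf
  88) (.leaf
  713)) (.node 1 (.leaf
  684) (.node 1 (.leaf
  757) (.leaf
  764)))))) (.node 10 (.node 5 (.node 2 (.node 1 (.leaf
  1019) (.leaf
  885)) (.node 1 (.leaf
  854) (.node 1 (.leaf
  943) (.leaf
  975)))) (.node 2 (.node 1 (.leaf
  1018) (.leaf
  876)) (.node 1 (.leaf
  861) (.node 1 (.leaf
  162) (.leaf
  996))))) (.node 5 (.node 2 (.node 1 (.leaf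
  260) (.leaf
  991)) (.node 1 (.leaf
  933) (.node 1 (.leaf
  977) (.leaf
  967)))) (.node 2 (.node 1 (.leaf
  952) (.leaf
  996)) (.node 1 (.leaf
  959) (.node 1 (.leaf
  1014) (.leaf
  984))))))))))))))

/-- Witnesses for the classes of the involutions. -/
def invWit : Tree :=
  (.node 512 (.node 256 (.node 128 (.node 64 (.node 32 (.node 16 (.node 8 (.node 4 (.node 2 (.node 1 (.leaf
  0) (.leaf
  0)) (.node 1 (.leaf
  28266) (.leaf
  674244))) (.node 2 (.node 1 (.leaf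
  0) (.leaf
  645216)) (.node 1 (.leaf
  0) (.leaf
  0)))) (.node 4 (.node 2 (.node 1 (.leaf
  2009918) (.leaf
  0)) (.node 1 (.leaf
  0) (.leaf
  0))) (.node 2 (.node 1 (.leaf
  0) (.leaf
  0)) (.node 1 (.leaf
  0) (.leaf
  646406))))) (.node 8 (.node 4 (.node 2 (.node 1 (.leaf
  0) (.leaf
  0)) (.node 1 (.leaf
  0) (.leaf
  0))) (.node 2 (.node 1 (.leaf
  0) (.leaf
  0)) (.node 1 (.leaf
  0) (.leaf
  29740)))) (.node 4 (.node 2 (.node 1 (.leaf
  0) (.leaf
  0)) (.node 1 (.leaf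
  0) (.leaf
  1935408))) (.node 2 (.node 1 (.leaf
  0) (.leaf
  0)) (.node 1 (.leaf
  2817396) (.leaf
  0)))))) (.node 16 (.node 8 (.node 4 (.node 2 (.node 1 (.leaf
  0) (.leaf
  0)) (.node 1 (.leaf
  0) (.leaf
  0))) (.node 2 (.node 1 (.leaf
  0) (.leaf
  305)) (.node 1 (.leaf
  0) (.leaf
  0)))) (.node 4 (.node 2 (.node 1 (.leaf
  0) (.leaf
  0)) (.node 1 (.leaf
  0) (.leaf
  4911980))) (.node 2 (.node 1 (.leaf
  0) (.leaf
  0)) (.node 1 (.leaf
  0) (.leaf
  0))))) (.node 8 (.node 4 (.node 2 (.node 1 (.leaf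
  0) (.leaf
  0)) (.node 1 (.leaf
  0) (.leaf
  0))) (.node 2 (.node 1 (.leaf
  0) (.leaf
  0)) (.node 1 (.leaf
  2258074) (.leaf
  0)))) (.node 4 (.node 2 (.node 1 (.leaf
  0) (.leaf
  0)) (.node 1 (.leaf
  0) (.leaf
  0))) (.node 2 (.node 1 (.leaf
  0) (.leaf
  0)) (.node 1 (.leaf
  0) (.leaf
  73104))))))) (.node 32 (.node 16 (.node 8 (.node 4 (.node 2 (.node 1 (.leaf
  0) (.leaf
  0)) (.node 1 (.leaf
  2817432) (.leaf
  0))) (.node 2 (.node 1 (.leaf
  0) (.leaf
  0)) (.node 1 (.leaf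
  0) (.leaf
  441)))) (.node 4 (.node 2 (.node 1 (.leaf
  1364808) (.leaf
  0)) (.node 1 (.leaf
  0) (.leaf
  0))) (.node 2 (.node 1 (.leaf
  0) (.leaf
  0)) (.node 1 (.leaf
  0) (.leaf
  0))))) (.node 8 (.node 4 (.node 2 (.node 1 (.leaf
  0) (.leaf
  0)) (.node 1 (.leaf
  4479492) (.leaf
  0))) (.node 2 (.node 1 (.leaf
  0) (.leaf
  0)) (.node 1 (.leaf
  0) (.leaf
  4590666)))) (.node 4 (.node 2 (.node 1 (.leaf
  0) (.leaf
  0)) (.node 1 (.leaf
  0) (.leaf
  0))) (.node 2 (.node 1 (.leaf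
  0) (.leaf
  0)) (.node 1 (.leaf
  0) (.leaf
  2009188)))))) (.node 16 (.node 8 (.node 4 (.node 2 (.node 1 (.leaf
  0) (.leaf
  0)) (.node 1 (.leaf
  0) (.leaf
  5052060))) (.node 2 (.node 1 (.leaf
  0) (.leaf
  0)) (.node 1 (.leaf
  0) (.leaf
  0)))) (.node 4 (.node 2 (.node 1 (.leaf
  0) (.leaf
  0)) (.node 1 (.leaf
  0) (.leaf
  0))) (.node 2 (.node 1 (.leaf
  0) (.leaf
  0)) (.node 1 (.leaf
  3214514) (.leaf
  0))))) (.node 8 (.node 4 (.node 2 (.node 1 (.leaf
  0) (.leaf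
  0)) (.node 1 (.leaf
  2817898) (.leaf
  0))) (.node 2 (.node 1 (.leaf
  0) (.leaf
  0)) (.node 1 (.leaf
  703804) (.leaf
  0)))) (.node 4 (.node 2 (.node 1 (.leaf
  0) (.leaf
  0)) (.node 1 (.leaf
  719654) (.leaf
  0))) (.node 2 (.node 1 (.leaf
  0) (.leaf
  0)) (.node 1 (.leaf
  0) (.leaf
  0)))))))) (.node 64 (.node 32 (.node 16 (.node 8 (.node 4 (.node 2 (.node 1 (.leaf
  0) (.leaf
  0)) (.node 1 (.leaf
  0) (.leaf
  0))) (.node 2 (.node 1 (.leaf
  0) (.leaf
  0)) (.node 1 (.leaf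
  0) (.leaf
  0)))) (.node 4 (.node 2 (.node 1 (.leaf
  0) (.leaf
  0)) (.node 1 (.leaf
  0) (.leaf
  0))) (.node 2 (.node 1 (.leaf
  395916) (.leaf
  0)) (.node 1 (.leaf
  0) (.leaf
  646422))))) (.node 8 (.node 4 (.node 2 (.node 1 (.leaf
  969346) (.leaf
  0)) (.node 1 (.leaf
  0) (.leaf
  0))) (.node 2 (.node 1 (.leaf
  513) (.leaf
  0)) (.node 1 (.leaf
  0) (.leaf
  0)))) (.node 4 (.node 2 (.node 1 (.leaf
  0) (.leaf
  0)) (.node 1 (.leaf
  0) (.leaf
  0))) (.node 2 (.node 1 (.leaf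
  4912954) (.leaf
  0)) (.node 1 (.leaf
  0) (.leaf
  73750)))))) (.node 16 (.node 8 (.node 4 (.node 2 (.node 1 (.leaf
  0) (.leaf
  0)) (.node 1 (.leaf
  0) (.leaf
  79))) (.node 2 (.node 1 (.leaf
  0) (.leaf
  0)) (.node 1 (.leaf
  1290550) (.leaf
  0)))) (.node 4 (.node 2 (.node 1 (.leaf
  2008998) (.leaf
  0)) (.node 1 (.leaf
  645698) (.leaf
  0))) (.node 2 (.node 1 (.leaf
  0) (.leaf
  0)) (.node 1 (.leaf
  0) (.leaf
  0))))) (.node 8 (.node 4 (.node 2 (.node 1 (.leaf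
  0) (.leaf
  645158)) (.node 1 (.leaf
  0) (.leaf
  0))) (.node 2 (.node 1 (.leaf
  0) (.leaf
  0)) (.node 1 (.leaf
  0) (.leaf
  0)))) (.node 4 (.node 2 (.node 1 (.leaf
  0) (.leaf
  0)) (.node 1 (.leaf
  0) (.leaf
  0))) (.node 2 (.node 1 (.leaf
  1935918) (.leaf
  0)) (.node 1 (.leaf
  0) (.leaf
  0))))))) (.node 32 (.node 16 (.node 8 (.node 4 (.node 2 (.node 1 (.leaf
  0) (.leaf
  1936984)) (.node 1 (.leaf
  0) (.leaf
  0))) (.node 2 (.node 1 (.leaf
  0) (.leaf
  28128)) (.node 1 (.leaf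
  0) (.leaf
  77)))) (.node 4 (.node 2 (.node 1 (.leaf
  760) (.leaf
  0)) (.node 1 (.leaf
  0) (.leaf
  0))) (.node 2 (.node 1 (.leaf
  0) (.leaf
  0)) (.node 1 (.leaf
  0) (.leaf
  0))))) (.node 8 (.node 4 (.node 2 (.node 1 (.leaf
  0) (.leaf
  0)) (.node 1 (.leaf
  0) (.leaf
  0))) (.node 2 (.node 1 (.leaf
  0) (.leaf
  0)) (.node 1 (.leaf
  12) (.leaf
  0)))) (.node 4 (.node 2 (.node 1 (.leaf
  1291622) (.leaf
  0)) (.node 1 (.leaf
  0) (.leaf
  2010268))) (.node 2 (.node 1 (.leaf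
  0) (.leaf
  703400)) (.node 1 (.leaf
  0) (.leaf
  0)))))) (.node 16 (.node 8 (.node 4 (.node 2 (.node 1 (.leaf
  74440) (.leaf
  0)) (.node 1 (.leaf
  0) (.leaf
  1994040))) (.node 2 (.node 1 (.leaf
  0) (.leaf
  0)) (.node 1 (.leaf
  0) (.leaf
  0)))) (.node 4 (.node 2 (.node 1 (.leaf
  0) (.leaf
  0)) (.node 1 (.leaf
  27732) (.leaf
  0))) (.node 2 (.node 1 (.leaf
  0) (.leaf
  465)) (.node 1 (.leaf
  0) (.leaf
  0))))) (.node 8 (.node 4 (.node 2 (.node 1 (.leaf
  0) (.leaf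
  0)) (.node 1 (.leaf
  0) (.leaf
  0))) (.node 2 (.node 1 (.leaf
  0) (.leaf
  0)) (.node 1 (.leaf
  0) (.leaf
  0)))) (.node 4 (.node 2 (.node 1 (.leaf
  0) (.leaf
  0)) (.node 1 (.leaf
  0) (.leaf
  0))) (.node 2 (.node 1 (.leaf
  0) (.leaf
  0)) (.node 1 (.leaf
  0) (.leaf
  4913110))))))))) (.node 128 (.node 64 (.node 32 (.node 16 (.node 8 (.node 4 (.node 2 (.node 1 (.leaf
  0) (.leaf
  0)) (.node 1 (.leaf
  0) (.leaf
  0))) (.node 2 (.node 1 (.leaf
  0) (.leaf
  1)) (.node 1 (.leaf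
  2655304) (.leaf
  0)))) (.node 4 (.node 2 (.node 1 (.leaf
  0) (.leaf
  0)) (.node 1 (.leaf
  719780) (.leaf
  0))) (.node 2 (.node 1 (.leaf
  673192) (.leaf
  673418)) (.node 1 (.leaf
  0) (.leaf
  0))))) (.node 8 (.node 4 (.node 2 (.node 1 (.leaf
  0) (.leaf
  0)) (.node 1 (.leaf
  0) (.leaf
  0))) (.node 2 (.node 1 (.leaf
  0) (.leaf
  300672)) (.node 1 (.leaf
  0) (.leaf
  0)))) (.node 4 (.node 2 (.node 1 (.leaf
  0) (.leaf
  0)) (.node 1 (.leaf
  0) (.leaf
  0))) (.node 2 (.node 1 (.leaf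
  0) (.leaf
  0)) (.node 1 (.leaf
  0) (.leaf
  73154)))))) (.node 16 (.node 8 (.node 4 (.node 2 (.node 1 (.leaf
  1364976) (.leaf
  0)) (.node 1 (.leaf
  0) (.leaf
  2008488))) (.node 2 (.node 1 (.leaf
  0) (.leaf
  0)) (.node 1 (.leaf
  0) (.leaf
  0)))) (.node 4 (.node 2 (.node 1 (.leaf
  0) (.leaf
  0)) (.node 1 (.leaf
  2331464) (.leaf
  0))) (.node 2 (.node 1 (.leaf
  0) (.leaf
  0)) (.node 1 (.leaf
  0) (.leaf
  0))))) (.node 8 (.node 4 (.node 2 (.node 1 (.leaf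
  0) (.leaf
  0)) (.node 1 (.leaf
  0) (.leaf
  0))) (.node 2 (.node 1 (.leaf
  0) (.leaf
  74354)) (.node 1 (.leaf
  0) (.leaf
  0)))) (.node 4 (.node 2 (.node 1 (.leaf
  195) (.leaf
  0)) (.node 1 (.leaf
  0) (.leaf
  0))) (.node 2 (.node 1 (.leaf
  0) (.leaf
  1364702)) (.node 1 (.leaf
  509) (.leaf
  0))))))) (.node 32 (.node 16 (.node 8 (.node 4 (.node 2 (.node 1 (.leaf
  525) (.leaf
  0)) (.node 1 (.leaf
  0) (.leaf
  0))) (.node 2 (.node 1 (.leaf
  0) (.leaf
  0)) (.node 1 (.leaf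
  0) (.leaf
  0)))) (.node 4 (.node 2 (.node 1 (.leaf
  1936842) (.leaf
  0)) (.node 1 (.leaf
  0) (.leaf
  0))) (.node 2 (.node 1 (.leaf
  0) (.leaf
  0)) (.node 1 (.leaf
  0) (.leaf
  0))))) (.node 8 (.node 4 (.node 2 (.node 1 (.leaf
  5112028) (.leaf
  0)) (.node 1 (.leaf
  0) (.leaf
  0))) (.node 2 (.node 1 (.leaf
  0) (.leaf
  95)) (.node 1 (.leaf
  1935928) (.leaf
  0)))) (.node 4 (.node 2 (.node 1 (.leaf
  0) (.leaf
  0)) (.node 1 (.leaf
  0) (.leaf
  0))) (.node 2 (.node 1 (.leaf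
  0) (.leaf
  0)) (.node 1 (.leaf
  0) (.leaf
  0)))))) (.node 16 (.node 8 (.node 4 (.node 2 (.node 1 (.leaf
  0) (.leaf
  0)) (.node 1 (.leaf
  0) (.leaf
  0))) (.node 2 (.node 1 (.leaf
  4) (.leaf
  1292256)) (.node 1 (.leaf
  0) (.leaf
  0)))) (.node 4 (.node 2 (.node 1 (.leaf
  0) (.leaf
  0)) (.node 1 (.leaf
  0) (.leaf
  0))) (.node 2 (.node 1 (.leaf
  0) (.leaf
  0)) (.node 1 (.leaf
  0) (.leaf
  0))))) (.node 8 (.node 4 (.node 2 (.node 1 (.leaf
  0) (.leaf
  0)) (.node 1 (.leaf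
  0) (.leaf
  4913334))) (.node 2 (.node 1 (.leaf
  0) (.leaf
  0)) (.node 1 (.leaf
  0) (.leaf
  0)))) (.node 4 (.node 2 (.node 1 (.leaf
  0) (.leaf
  0)) (.node 1 (.leaf
  0) (.leaf
  274))) (.node 2 (.node 1 (.leaf
  0) (.leaf
  0)) (.node 1 (.leaf
  0) (.leaf
  0)))))))) (.node 64 (.node 32 (.node 16 (.node 8 (.node 4 (.node 2 (.node 1 (.leaf
  484) (.leaf
  499)) (.node 1 (.leaf
  0) (.leaf
  1290620))) (.node 2 (.node 1 (.leaf
  0) (.leaf
  0)) (.node 1 (.leaf
  0) (.leaf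
  0)))) (.node 4 (.node 2 (.node 1 (.leaf
  0) (.leaf
  0)) (.node 1 (.leaf
  193) (.leaf
  0))) (.node 2 (.node 1 (.leaf
  0) (.leaf
  0)) (.node 1 (.leaf
  0) (.leaf
  0))))) (.node 8 (.node 4 (.node 2 (.node 1 (.leaf
  0) (.leaf
  0)) (.node 1 (.leaf
  0) (.leaf
  0))) (.node 2 (.node 1 (.leaf
  0) (.leaf
  0)) (.node 1 (.leaf
  0) (.leaf
  0)))) (.node 4 (.node 2 (.node 1 (.leaf
  0) (.leaf
  0)) (.node 1 (.leaf
  0) (.leaf
  0))) (.node 2 (.node 1 (.leaf
  0) (.leaf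
  353)) (.node 1 (.leaf
  0) (.leaf
  0)))))) (.node 16 (.node 8 (.node 4 (.node 2 (.node 1 (.leaf
  1963670) (.leaf
  0)) (.node 1 (.leaf
  0) (.leaf
  0))) (.node 2 (.node 1 (.leaf
  0) (.leaf
  0)) (.node 1 (.leaf
  0) (.leaf
  703532)))) (.node 4 (.node 2 (.node 1 (.leaf
  29556) (.leaf
  0)) (.node 1 (.leaf
  646460) (.leaf
  1364930))) (.node 2 (.node 1 (.leaf
  265) (.leaf
  0)) (.node 1 (.leaf
  0) (.leaf
  0))))) (.node 8 (.node 4 (.node 2 (.node 1 (.leaf
  0) (.leaf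
  0)) (.node 1 (.leaf
  0) (.leaf
  0))) (.node 2 (.node 1 (.leaf
  1590530) (.leaf
  0)) (.node 1 (.leaf
  0) (.leaf
  0)))) (.node 4 (.node 2 (.node 1 (.leaf
  0) (.leaf
  0)) (.node 1 (.leaf
  619) (.leaf
  2258342))) (.node 2 (.node 1 (.leaf
  0) (.leaf
  0)) (.node 1 (.leaf
  0) (.leaf
  0))))))) (.node 32 (.node 16 (.node 8 (.node 4 (.node 2 (.node 1 (.leaf
  0) (.leaf
  5575892)) (.node 1 (.leaf
  0) (.leaf
  0))) (.node 2 (.node 1 (.leaf
  0) (.leaf
  0)) (.node 1 (.leaf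
  0) (.leaf
  0)))) (.node 4 (.node 2 (.node 1 (.leaf
  0) (.leaf
  0)) (.node 1 (.leaf
  0) (.leaf
  0))) (.node 2 (.node 1 (.leaf
  0) (.leaf
  0)) (.node 1 (.leaf
  0) (.leaf
  0))))) (.node 8 (.node 4 (.node 2 (.node 1 (.leaf
  0) (.leaf
  0)) (.node 1 (.leaf
  0) (.leaf
  13))) (.node 2 (.node 1 (.leaf
  0) (.leaf
  0)) (.node 1 (.leaf
  0) (.leaf
  0)))) (.node 4 (.node 2 (.node 1 (.leaf
  0) (.leaf
  0)) (.node 1 (.leaf
  4911970) (.leaf
  1025938))) (.node 2 (.node 1 (.leaf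
  0) (.leaf
  0)) (.node 1 (.leaf
  0) (.leaf
  0)))))) (.node 16 (.node 8 (.node 4 (.node 2 (.node 1 (.leaf
  0) (.leaf
  0)) (.node 1 (.leaf
  0) (.leaf
  0))) (.node 2 (.node 1 (.leaf
  0) (.leaf
  0)) (.node 1 (.leaf
  0) (.leaf
  0)))) (.node 4 (.node 2 (.node 1 (.leaf
  0) (.leaf
  0)) (.node 1 (.leaf
  19) (.leaf
  60122))) (.node 2 (.node 1 (.leaf
  0) (.leaf
  0)) (.node 1 (.leaf
  0) (.leaf
  1937044))))) (.node 8 (.node 4 (.node 2 (.node 1 (.leaf
  0) (.leaf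
  1009)) (.node 1 (.leaf
  0) (.leaf
  0))) (.node 2 (.node 1 (.leaf
  0) (.leaf
  718700)) (.node 1 (.leaf
  0) (.leaf
  0)))) (.node 4 (.node 2 (.node 1 (.leaf
  0) (.leaf
  0)) (.node 1 (.leaf
  0) (.leaf
  0))) (.node 2 (.node 1 (.leaf
  0) (.leaf
  0)) (.node 1 (.leaf
  0) (.leaf
  0)))))))))) (.node 256 (.node 128 (.node 64 (.node 32 (.node 16 (.node 8 (.node 4 (.node 2 (.node 1 (.leaf
  0) (.leaf
  877)) (.node 1 (.leaf
  2653870) (.leaf
  1936782))) (.node 2 (.node 1 (.leaf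
  0) (.leaf
  0)) (.node 1 (.leaf
  2258230) (.leaf
  0)))) (.node 4 (.node 2 (.node 1 (.leaf
  0) (.leaf
  674862)) (.node 1 (.leaf
  0) (.leaf
  0))) (.node 2 (.node 1 (.leaf
  0) (.leaf
  0)) (.node 1 (.leaf
  0) (.leaf
  1291704))))) (.node 8 (.node 4 (.node 2 (.node 1 (.leaf
  0) (.leaf
  0)) (.node 1 (.leaf
  0) (.leaf
  0))) (.node 2 (.node 1 (.leaf
  0) (.leaf
  0)) (.node 1 (.leaf
  0) (.leaf
  0)))) (.node 4 (.node 2 (.node 1 (.leaf
  41) (.leaf
  0)) (.node 1 (.leaf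
  5433426) (.leaf
  310))) (.node 2 (.node 1 (.leaf
  615) (.leaf
  0)) (.node 1 (.leaf
  0) (.leaf
  0)))))) (.node 16 (.node 8 (.node 4 (.node 2 (.node 1 (.leaf
  0) (.leaf
  0)) (.node 1 (.leaf
  621) (.leaf
  0))) (.node 2 (.node 1 (.leaf
  704852) (.leaf
  0)) (.node 1 (.leaf
  0) (.leaf
  0)))) (.node 4 (.node 2 (.node 1 (.leaf
  0) (.leaf
  0)) (.node 1 (.leaf
  0) (.leaf
  0))) (.node 2 (.node 1 (.leaf
  0) (.leaf
  0)) (.node 1 (.leaf
  0) (.leaf
  0))))) (.node 8 (.node 4 (.node 2 (.node 1 (.leaf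
  0) (.leaf
  0)) (.node 1 (.leaf
  0) (.leaf
  0))) (.node 2 (.node 1 (.leaf
  0) (.leaf
  0)) (.node 1 (.leaf
  396106) (.leaf
  257)))) (.node 4 (.node 2 (.node 1 (.leaf
  0) (.leaf
  0)) (.node 1 (.leaf
  1935508) (.leaf
  0))) (.node 2 (.node 1 (.leaf
  0) (.leaf
  0)) (.node 1 (.leaf
  0) (.leaf
  717))))))) (.node 32 (.node 16 (.node 8 (.node 4 (.node 2 (.node 1 (.leaf
  1964726) (.leaf
  0)) (.node 1 (.leaf
  707) (.leaf
  0))) (.node 2 (.node 1 (.leaf
  0) (.leaf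
  0)) (.node 1 (.leaf
  0) (.leaf
  0)))) (.node 4 (.node 2 (.node 1 (.leaf
  0) (.leaf
  0)) (.node 1 (.leaf
  0) (.leaf
  0))) (.node 2 (.node 1 (.leaf
  0) (.leaf
  2793828)) (.node 1 (.leaf
  0) (.leaf
  0))))) (.node 8 (.node 4 (.node 2 (.node 1 (.leaf
  0) (.leaf
  0)) (.node 1 (.leaf
  0) (.leaf
  0))) (.node 2 (.node 1 (.leaf
  337) (.leaf
  0)) (.node 1 (.leaf
  0) (.leaf
  0)))) (.node 4 (.node 2 (.node 1 (.leaf
  0) (.leaf
  549)) (.node 1 (.leaf
  0) (.leaf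
  0))) (.node 2 (.node 1 (.leaf
  0) (.leaf
  0)) (.node 1 (.leaf
  0) (.leaf
  0)))))) (.node 16 (.node 8 (.node 4 (.node 2 (.node 1 (.leaf
  0) (.leaf
  0)) (.node 1 (.leaf
  0) (.leaf
  0))) (.node 2 (.node 1 (.leaf
  0) (.leaf
  0)) (.node 1 (.leaf
  0) (.leaf
  0)))) (.node 4 (.node 2 (.node 1 (.leaf
  0) (.leaf
  0)) (.node 1 (.leaf
  0) (.leaf
  0))) (.node 2 (.node 1 (.leaf
  4084196) (.leaf
  405)) (.node 1 (.leaf
  0) (.leaf
  735))))) (.node 8 (.node 4 (.node 2 (.node 1 (.leaf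
  0) (.leaf
  0)) (.node 1 (.leaf
  0) (.leaf
  0))) (.node 2 (.node 1 (.leaf
  0) (.leaf
  0)) (.node 1 (.leaf
  0) (.leaf
  0)))) (.node 4 (.node 2 (.node 1 (.leaf
  0) (.leaf
  0)) (.node 1 (.leaf
  0) (.leaf
  0))) (.node 2 (.node 1 (.leaf
  0) (.leaf
  645586)) (.node 1 (.leaf
  0) (.leaf
  0)))))))) (.node 64 (.node 32 (.node 16 (.node 8 (.node 4 (.node 2 (.node 1 (.leaf
  0) (.leaf
  645270)) (.node 1 (.leaf
  0) (.leaf
  0))) (.node 2 (.node 1 (.leaf
  5162496) (.leaf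
  0)) (.node 1 (.leaf
  0) (.leaf
  0)))) (.node 4 (.node 2 (.node 1 (.leaf
  0) (.leaf
  1364890)) (.node 1 (.leaf
  0) (.leaf
  0))) (.node 2 (.node 1 (.leaf
  0) (.leaf
  0)) (.node 1 (.leaf
  0) (.leaf
  0))))) (.node 8 (.node 4 (.node 2 (.node 1 (.leaf
  961914) (.leaf
  0)) (.node 1 (.leaf
  0) (.leaf
  73))) (.node 2 (.node 1 (.leaf
  0) (.leaf
  0)) (.node 1 (.leaf
  0) (.leaf
  0)))) (.node 4 (.node 2 (.node 1 (.leaf
  0) (.leaf
  0)) (.node 1 (.leaf
  0) (.leaf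
  0))) (.node 2 (.node 1 (.leaf
  0) (.leaf
  0)) (.node 1 (.leaf
  0) (.leaf
  0)))))) (.node 16 (.node 8 (.node 4 (.node 2 (.node 1 (.leaf
  718624) (.leaf
  0)) (.node 1 (.leaf
  0) (.leaf
  0))) (.node 2 (.node 1 (.leaf
  1935502) (.leaf
  0)) (.node 1 (.leaf
  2819064) (.leaf
  0)))) (.node 4 (.node 2 (.node 1 (.leaf
  0) (.leaf
  0)) (.node 1 (.leaf
  0) (.leaf
  0))) (.node 2 (.node 1 (.leaf
  0) (.leaf
  0)) (.node 1 (.leaf
  967990) (.leaf
  0))))) (.node 8 (.node 4 (.node 2 (.node 1 (.leaf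
  0) (.leaf
  0)) (.node 1 (.leaf
  0) (.leaf
  0))) (.node 2 (.node 1 (.leaf
  463) (.leaf
  0)) (.node 1 (.leaf
  0) (.leaf
  0)))) (.node 4 (.node 2 (.node 1 (.leaf
  0) (.leaf
  0)) (.node 1 (.leaf
  0) (.leaf
  0))) (.node 2 (.node 1 (.leaf
  4338206) (.leaf
  0)) (.node 1 (.leaf
  0) (.leaf
  0))))))) (.node 32 (.node 16 (.node 8 (.node 4 (.node 2 (.node 1 (.leaf
  433) (.leaf
  0)) (.node 1 (.leaf
  0) (.leaf
  0))) (.node 2 (.node 1 (.leaf
  0) (.leaf
  4082760)) (.node 1 (.leaf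
  0) (.leaf
  0)))) (.node 4 (.node 2 (.node 1 (.leaf
  932) (.leaf
  0)) (.node 1 (.leaf
  0) (.leaf
  0))) (.node 2 (.node 1 (.leaf
  0) (.leaf
  37)) (.node 1 (.leaf
  0) (.leaf
  0))))) (.node 8 (.node 4 (.node 2 (.node 1 (.leaf
  0) (.leaf
  0)) (.node 1 (.leaf
  0) (.leaf
  0))) (.node 2 (.node 1 (.leaf
  1935446) (.leaf
  0)) (.node 1 (.leaf
  0) (.leaf
  0)))) (.node 4 (.node 2 (.node 1 (.leaf
  0) (.leaf
  0)) (.node 1 (.leaf
  0) (.leaf
  0))) (.node 2 (.node 1 (.leaf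
  0) (.leaf
  0)) (.node 1 (.leaf
  269718) (.leaf
  0)))))) (.node 16 (.node 8 (.node 4 (.node 2 (.node 1 (.leaf
  0) (.leaf
  2008530)) (.node 1 (.leaf
  0) (.leaf
  0))) (.node 2 (.node 1 (.leaf
  11) (.leaf
  0)) (.node 1 (.leaf
  915184) (.leaf
  0)))) (.node 4 (.node 2 (.node 1 (.leaf
  0) (.leaf
  2237120)) (.node 1 (.leaf
  718714) (.leaf
  791))) (.node 2 (.node 1 (.leaf
  0) (.leaf
  0)) (.node 1 (.leaf
  333) (.leaf
  0))))) (.node 8 (.node 4 (.node 2 (.node 1 (.leaf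
  0) (.leaf
  0)) (.node 1 (.leaf
  0) (.leaf
  0))) (.node 2 (.node 1 (.leaf
  0) (.leaf
  0)) (.node 1 (.leaf
  2819104) (.leaf
  0)))) (.node 4 (.node 2 (.node 1 (.leaf
  0) (.leaf
  1021)) (.node 1 (.leaf
  0) (.leaf
  0))) (.node 2 (.node 1 (.leaf
  0) (.leaf
  0)) (.node 1 (.leaf
  0) (.leaf
  4929794))))))))) (.node 128 (.node 64 (.node 32 (.node 16 (.node 8 (.node 4 (.node 2 (.node 1 (.leaf
  0) (.leaf
  0)) (.node 1 (.leaf
  1935732) (.leaf
  0))) (.node 2 (.node 1 (.leaf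
  0) (.leaf
  0)) (.node 1 (.leaf
  0) (.leaf
  0)))) (.node 4 (.node 2 (.node 1 (.leaf
  0) (.leaf
  0)) (.node 1 (.leaf
  0) (.leaf
  0))) (.node 2 (.node 1 (.leaf
  0) (.leaf
  0)) (.node 1 (.leaf
  0) (.leaf
  0))))) (.node 8 (.node 4 (.node 2 (.node 1 (.leaf
  0) (.leaf
  0)) (.node 1 (.leaf
  0) (.leaf
  947))) (.node 2 (.node 1 (.leaf
  0) (.leaf
  0)) (.node 1 (.leaf
  0) (.leaf
  4338646)))) (.node 4 (.node 2 (.node 1 (.leaf
  0) (.leaf
  0)) (.node 1 (.leaf
  0) (.leaf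
  0))) (.node 2 (.node 1 (.leaf
  0) (.leaf
  483)) (.node 1 (.leaf
  0) (.leaf
  0)))))) (.node 16 (.node 8 (.node 4 (.node 2 (.node 1 (.leaf
  0) (.leaf
  0)) (.node 1 (.leaf
  725) (.leaf
  0))) (.node 2 (.node 1 (.leaf
  0) (.leaf
  0)) (.node 1 (.leaf
  0) (.leaf
  0)))) (.node 4 (.node 2 (.node 1 (.leaf
  0) (.leaf
  0)) (.node 1 (.leaf
  0) (.leaf
  0))) (.node 2 (.node 1 (.leaf
  3) (.leaf
  0)) (.node 1 (.leaf
  0) (.leaf
  0))))) (.node 8 (.node 4 (.node 2 (.node 1 (.leaf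
  0) (.leaf
  0)) (.node 1 (.leaf
  196) (.leaf
  0))) (.node 2 (.node 1 (.leaf
  0) (.leaf
  0)) (.node 1 (.leaf
  0) (.leaf
  0)))) (.node 4 (.node 2 (.node 1 (.leaf
  0) (.leaf
  0)) (.node 1 (.leaf
  0) (.leaf
  0))) (.node 2 (.node 1 (.leaf
  0) (.leaf
  0)) (.node 1 (.leaf
  0) (.leaf
  0))))))) (.node 32 (.node 16 (.node 8 (.node 4 (.node 2 (.node 1 (.leaf
  0) (.leaf
  0)) (.node 1 (.leaf
  0) (.leaf
  0))) (.node 2 (.node 1 (.leaf
  0) (.leaf
  0)) (.node 1 (.leaf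
  0) (.leaf
  0)))) (.node 4 (.node 2 (.node 1 (.leaf
  0) (.leaf
  0)) (.node 1 (.leaf
  0) (.leaf
  0))) (.node 2 (.node 1 (.leaf
  27724) (.leaf
  0)) (.node 1 (.leaf
  59696) (.leaf
  0))))) (.node 8 (.node 4 (.node 2 (.node 1 (.leaf
  0) (.leaf
  0)) (.node 1 (.leaf
  2258326) (.leaf
  0))) (.node 2 (.node 1 (.leaf
  0) (.leaf
  0)) (.node 1 (.leaf
  0) (.leaf
  0)))) (.node 4 (.node 2 (.node 1 (.leaf
  0) (.leaf
  0)) (.node 1 (.leaf
  0) (.leaf
  0))) (.node 2 (.node 1 (.leaf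
  309) (.leaf
  539)) (.node 1 (.leaf
  0) (.leaf
  0)))))) (.node 16 (.node 8 (.node 4 (.node 2 (.node 1 (.leaf
  0) (.leaf
  0)) (.node 1 (.leaf
  0) (.leaf
  0))) (.node 2 (.node 1 (.leaf
  0) (.leaf
  0)) (.node 1 (.leaf
  2008662) (.leaf
  0)))) (.node 4 (.node 2 (.node 1 (.leaf
  0) (.leaf
  1993422)) (.node 1 (.leaf
  0) (.leaf
  0))) (.node 2 (.node 1 (.leaf
  0) (.leaf
  0)) (.node 1 (.leaf
  673070) (.leaf
  0))))) (.node 8 (.node 4 (.node 2 (.node 1 (.leaf
  0) (.leaf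
  0)) (.node 1 (.leaf
  0) (.leaf
  0))) (.node 2 (.node 1 (.leaf
  2010458) (.leaf
  0)) (.node 1 (.leaf
  0) (.leaf
  0)))) (.node 4 (.node 2 (.node 1 (.leaf
  0) (.leaf
  0)) (.node 1 (.leaf
  0) (.leaf
  0))) (.node 2 (.node 1 (.leaf
  0) (.leaf
  0)) (.node 1 (.leaf
  0) (.leaf
  0)))))))) (.node 64 (.node 32 (.node 16 (.node 8 (.node 4 (.node 2 (.node 1 (.leaf
  0) (.leaf
  0)) (.node 1 (.leaf
  0) (.leaf
  0))) (.node 2 (.node 1 (.leaf
  0) (.leaf
  0)) (.node 1 (.leaf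
  0) (.leaf
  1026046)))) (.node 4 (.node 2 (.node 1 (.leaf
  0) (.leaf
  25)) (.node 1 (.leaf
  0) (.leaf
  0))) (.node 2 (.node 1 (.leaf
  0) (.leaf
  0)) (.node 1 (.leaf
  0) (.leaf
  0))))) (.node 8 (.node 4 (.node 2 (.node 1 (.leaf
  0) (.leaf
  0)) (.node 1 (.leaf
  0) (.leaf
  0))) (.node 2 (.node 1 (.leaf
  0) (.leaf
  1963288)) (.node 1 (.leaf
  0) (.leaf
  0)))) (.node 4 (.node 2 (.node 1 (.leaf
  1290636) (.leaf
  0)) (.node 1 (.leaf
  674138) (.leaf
  0))) (.node 2 (.node 1 (.leaf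
  0) (.leaf
  0)) (.node 1 (.leaf
  0) (.leaf
  0)))))) (.node 16 (.node 8 (.node 4 (.node 2 (.node 1 (.leaf
  0) (.leaf
  0)) (.node 1 (.leaf
  0) (.leaf
  0))) (.node 2 (.node 1 (.leaf
  995864) (.leaf
  73556)) (.node 1 (.leaf
  0) (.leaf
  0)))) (.node 4 (.node 2 (.node 1 (.leaf
  0) (.leaf
  0)) (.node 1 (.leaf
  0) (.leaf
  0))) (.node 2 (.node 1 (.leaf
  0) (.leaf
  0)) (.node 1 (.leaf
  0) (.leaf
  0))))) (.node 8 (.node 4 (.node 2 (.node 1 (.leaf
  1993528) (.leaf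
  0)) (.node 1 (.leaf
  0) (.leaf
  0))) (.node 2 (.node 1 (.leaf
  0) (.leaf
  0)) (.node 1 (.leaf
  0) (.leaf
  0)))) (.node 4 (.node 2 (.node 1 (.leaf
  0) (.leaf
  74418)) (.node 1 (.leaf
  0) (.leaf
  99))) (.node 2 (.node 1 (.leaf
  423) (.leaf
  0)) (.node 1 (.leaf
  0) (.leaf
  1935980))))))) (.node 32 (.node 16 (.node 8 (.node 4 (.node 2 (.node 1 (.leaf
  7) (.leaf
  0)) (.node 1 (.leaf
  0) (.leaf
  659))) (.node 2 (.node 1 (.leaf
  0) (.leaf
  0)) (.node 1 (.leaf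
  0) (.leaf
  0)))) (.node 4 (.node 2 (.node 1 (.leaf
  23) (.leaf
  1935578)) (.node 1 (.leaf
  0) (.leaf
  0))) (.node 2 (.node 1 (.leaf
  531) (.leaf
  0)) (.node 1 (.leaf
  0) (.leaf
  0))))) (.node 8 (.node 4 (.node 2 (.node 1 (.leaf
  669) (.leaf
  0)) (.node 1 (.leaf
  0) (.leaf
  0))) (.node 2 (.node 1 (.leaf
  408) (.leaf
  0)) (.node 1 (.leaf
  0) (.leaf
  969094)))) (.node 4 (.node 2 (.node 1 (.leaf
  0) (.leaf
  0)) (.node 1 (.leaf
  0) (.leaf
  0))) (.node 2 (.node 1 (.leaf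
  0) (.leaf
  0)) (.node 1 (.leaf
  0) (.leaf
  0)))))) (.node 16 (.node 8 (.node 4 (.node 2 (.node 1 (.leaf
  0) (.leaf
  0)) (.node 1 (.leaf
  0) (.leaf
  0))) (.node 2 (.node 1 (.leaf
  0) (.leaf
  0)) (.node 1 (.leaf
  0) (.leaf
  0)))) (.node 4 (.node 2 (.node 1 (.leaf
  0) (.leaf
  0)) (.node 1 (.leaf
  0) (.leaf
  0))) (.node 2 (.node 1 (.leaf
  0) (.leaf
  0)) (.node 1 (.leaf
  0) (.leaf
  1936912))))) (.node 8 (.node 4 (.node 2 (.node 1 (.leaf
  0) (.leaf
  1318326)) (.node 1 (.leaf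
  0) (.leaf
  0))) (.node 2 (.node 1 (.leaf
  1937086) (.leaf
  1025794)) (.node 1 (.leaf
  0) (.leaf
  646610)))) (.node 4 (.node 2 (.node 1 (.leaf
  792) (.leaf
  0)) (.node 1 (.leaf
  0) (.leaf
  0))) (.node 2 (.node 1 (.leaf
  43) (.leaf
  0)) (.node 1 (.leaf
  445) (.leaf
  0)))))))))))

/-- The centraliser of the second representative. -/
def centB : List ℕ :=
  [
  0, 630, 3780, 4410, 5040, 5670, 8820, 9450,
  90720, 91350, 94500, 95130, 95760, 96390, 99540, 100170,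
  167793, 168423, 177873, 178503, 186693, 187323, 196773, 197403,
  286233, 286863, 295053, 295683, 305133, 305763, 316473, 317103,
  328907, 329537, 337727, 338357, 349067, 349697, 357887, 358517,
  369402, 370032, 378222, 378852, 389562, 390192, 398382, 399012,
  412067, 412697, 420887, 421517, 430967, 431597, 442307, 442937,
  452562, 453192, 461382, 462012, 471462, 472092, 482802, 483432,
  483982, 484395, 484612, 485025, 487762, 488175, 488392, 488805,
  489022, 489435, 489652, 490065, 492802, 493215, 493432, 493845,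
  514107, 514737, 517887, 518517, 519147, 519777, 522927, 523557,
  616167, 616797, 617427, 618057, 621207, 621837, 622467, 623097,
  625102, 625515, 625732, 626145, 628882, 629295, 629512, 629925,
  630142, 630555, 630772, 631185, 633922, 634335, 634552, 634965,
  646915, 647545, 648175, 648805, 651955, 652585, 653215, 653845,
  717475, 718105, 718735, 719365, 722515, 723145, 723775, 724405,
  830859, 831489, 834286, 834916, 838419, 839049, 843106, 843736,
  871179, 871809, 874606, 875236, 878739, 879369, 883426, 884056,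
  911499, 912129, 916186, 916816, 919059, 919689, 922486, 923116,
  951819, 952449, 956506, 957136, 959379, 960009, 962806, 963436,
  1169307, 1169937, 1173087, 1173717, 1174347, 1174977, 1178127, 1178757,
  1199662, 1200075, 1200292, 1200705, 1203442, 1203855, 1204072, 1204485,
  1204702, 1205115, 1205332, 1205745, 1208482, 1208895, 1209112, 1209525,
  1221082, 1221495, 1221712, 1222125, 1222342, 1222755, 1222972, 1223385,
  1226122, 1226535, 1226752, 1227165, 1227382, 1227795, 1228012, 1228425,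
  1229787, 1230417, 1233567, 1234197, 1234827, 1235457, 1238607, 1239237,
  1331820, 1332450, 1334340, 1334970, 1336860, 1337490, 1339380, 1340010,
  1421280, 1421910, 1423800, 1424430, 1426320, 1426950, 1428840, 1429470,
  1458014, 1458331, 1458644, 1458961, 1474394, 1474711, 1475024, 1475341,
  1498334, 1498651, 1498964, 1499281, 1514714, 1515031, 1515344, 1515661,
  1538654, 1538971, 1539284, 1539601, 1555034, 1555351, 1555664, 1555981,
  1578974, 1579291, 1579604, 1579921, 1595354, 1595671, 1595984, 1596301,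
  1779314, 1779631, 1779944, 1780261, 1798214, 1798531, 1798844, 1799161,
  1819634, 1819951, 1820264, 1820581, 1838534, 1838851, 1839164, 1839481,
  1859954, 1860271, 1860584, 1860901, 1878854, 1879171, 1879484, 1879801,
  1900274, 1900591, 1900904, 1901221, 1919174, 1919491, 1919804, 1920121,
  1936786, 1937416, 1942179, 1942809, 1949386, 1950016, 1953519, 1954149,
  1977106, 1977736, 1982499, 1983129, 1989706, 1990336, 1993839, 1994469,
  2016166, 2016796, 2022819, 2023449, 2028766, 2029396, 2034159, 2034789,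
  2056486, 2057116, 2063139, 2063769, 2069086, 2069716, 2074479, 2075109,
  2096687, 2097317, 2108027, 2108657, 2116847, 2117477, 2128187, 2128817,
  2137182, 2137812, 2148522, 2149152, 2157342, 2157972, 2168682, 2169312,
  2179847, 2180477, 2191187, 2191817, 2201267, 2201897, 2210087, 2210717,
  2220342, 2220972, 2231682, 2232312, 2241762, 2242392, 2250582, 2251212,
  2359255, 2359885, 2361775, 2362405, 2364295, 2364925, 2366815, 2367445,
  2390755, 2391385, 2393275, 2393905, 2395795, 2396425, 2398315, 2398945,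
  2626053, 2626683, 2637393, 2638023, 2646213, 2646843, 2657553, 2658183,
  2665113, 2665743, 2675193, 2675823, 2685273, 2685903, 2695353, 2695983]

/-- Conjugators giving the class of the second representative. -/
def bConj : Tree :=
  (.node 3780 (.node 1890 (.node 945 (.node 472 (.node 236 (.node 118 (.node 59 (.node 29 (.node 14 (.node 7 (.node 3 (.node 1 (.leaf
  962563) (.node 1 (.leaf
  2287054) (.leaf
  135486))) (.node 2 (.node 1 (.leaf
  2235013) (.leaf
  1088934)) (.node 1 (.leaf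
  682430) (.leaf
  359349)))) (.node 3 (.node 1 (.leaf
  359796) (.node 1 (.leaf
  322750) (.leaf
  1128960))) (.node 2 (.node 1 (.leaf
  359944) (.leaf
  36565)) (.node 1 (.leaf
  483994) (.leaf
  2089451))))) (.node 7 (.node 3 (.node 1 (.leaf
  36694) (.node 1 (.leaf
  1375444) (.leaf
  1650530))) (.node 2 (.node 1 (.leaf
  1972571) (.leaf
  982358)) (.node 1 (.leaf
  336479) (.leaf
  337016)))) (.node 4 (.node 2 (.node 1 (.leaf
  925785) (.leaf
  675257)) (.node 1 (.leaf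
  645584) (.leaf
  1125183))) (.node 2 (.node 1 (.leaf
  352754) (.leaf
  336488)) (.node 1 (.leaf
  198052) (.leaf
  359332)))))) (.node 15 (.node 7 (.node 3 (.node 1 (.leaf
  322605) (.node 1 (.leaf
  2142651) (.leaf
  443885))) (.node 2 (.node 1 (.leaf
  2722367) (.leaf
  982362)) (.node 1 (.leaf
  322624) (.leaf
  36570)))) (.node 4 (.node 2 (.node 1 (.leaf
  981579) (.leaf
  1774219)) (.node 1 (.leaf
  14518) (.leaf
  2042328))) (.node 2 (.node 1 (.leaf
  359181) (.leaf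
  982210)) (.node 1 (.leaf
  852803) (.leaf
  1089309))))) (.node 7 (.node 3 (.node 1 (.leaf
  1650473) (.node 1 (.leaf
  1004925) (.leaf
  675178))) (.node 2 (.node 1 (.leaf
  351909) (.leaf
  1972436)) (.node 1 (.leaf
  35) (.leaf
  2041620)))) (.node 4 (.node 2 (.node 1 (.leaf
  682407) (.leaf
  682816)) (.node 1 (.leaf
  1374726) (.leaf
  2464804))) (.node 2 (.node 1 (.leaf
  1972708) (.leaf
  162018)) (.node 1 (.leaf
  1742539) (.leaf
  140))))))) (.node 29 (.node 14 (.node 7 (.node 3 (.node 1 (.leaf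
  337086) (.node 1 (.leaf
  472880) (.leaf
  2169122))) (.node 2 (.node 1 (.leaf
  14395) (.leaf
  2239680)) (.node 1 (.leaf
  484617) (.leaf
  484575)))) (.node 3 (.node 1 (.leaf
  1374782) (.node 1 (.leaf
  1649767) (.leaf
  157886))) (.node 2 (.node 1 (.leaf
  997389) (.leaf
  1088652)) (.node 1 (.leaf
  458130) (.leaf
  681728))))) (.node 7 (.node 3 (.node 1 (.leaf
  2072347) (.node 1 (.leaf
  968409) (.leaf
  1650110))) (.node 2 (.node 1 (.leaf
  322789) (.leaf
  2096860)) (.node 1 (.leaf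
  2722446) (.leaf
  1811400)))) (.node 4 (.node 2 (.node 1 (.leaf
  2041397) (.leaf
  2329981)) (.node 1 (.leaf
  659969) (.leaf
  1972846))) (.node 2 (.node 1 (.leaf
  336686) (.leaf
  645324)) (.node 1 (.leaf
  352362) (.leaf
  36641)))))) (.node 15 (.node 7 (.node 3 (.node 1 (.leaf
  982372) (.node 1 (.leaf
  2042313) (.leaf
  323448))) (.node 2 (.node 1 (.leaf
  14040) (.leaf
  1125557)) (.node 1 (.leaf
  2617222) (.leaf
  512849)))) (.node 4 (.node 2 (.node 1 (.leaf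
  351621) (.leaf
  968502)) (.node 1 (.leaf
  997477) (.leaf
  2168662))) (.node 2 (.node 1 (.leaf
  161954) (.leaf
  337252)) (.node 1 (.leaf
  645549) (.leaf
  2555482))))) (.node 7 (.node 3 (.node 1 (.leaf
  1614008) (.node 1 (.leaf
  29207) (.leaf
  1110892))) (.node 2 (.node 1 (.leaf
  967747) (.leaf
  444522)) (.node 1 (.leaf
  457775) (.leaf
  150247)))) (.node 4 (.node 2 (.node 1 (.leaf
  161984) (.leaf
  1005036)) (.node 1 (.leaf
  2716634) (.leaf
  2041561))) (.node 2 (.node 1 (.leaf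
  1128979) (.leaf
  383)) (.node 1 (.leaf
  968540) (.leaf
  29973)))))))) (.node 59 (.node 29 (.node 14 (.node 7 (.node 3 (.node 1 (.leaf
  14650) (.node 1 (.leaf
  682310) (.leaf
  2089612))) (.node 2 (.node 1 (.leaf
  681669) (.leaf
  337288)) (.node 1 (.leaf
  322915) (.leaf
  337130)))) (.node 3 (.node 1 (.leaf
  1969280) (.node 1 (.leaf
  2433892) (.leaf
  1004855))) (.node 2 (.node 1 (.leaf
  1088821) (.leaf
  645459)) (.node 1 (.leaf
  13994) (.leaf
  645866))))) (.node 7 (.node 3 (.node 1 (.leaf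
  323290) (.node 1 (.leaf
  968414) (.leaf
  351671))) (.node 2 (.node 1 (.leaf
  2716762) (.leaf
  645202)) (.node 1 (.leaf
  967970) (.leaf
  681813)))) (.node 4 (.node 2 (.node 1 (.leaf
  1811332) (.leaf
  1684682)) (.node 1 (.leaf
  2042066) (.leaf
  135183))) (.node 2 (.node 1 (.leaf
  2072273) (.leaf
  14153)) (.node 1 (.leaf
  2779358) (.leaf
  981726)))))) (.node 15 (.node 7 (.node 3 (.node 1 (.leaf
  1580067) (.node 1 (.leaf
  1972354) (.leaf
  967792))) (.node 2 (.node 1 (.leaf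
  2071801) (.leaf
  2239153)) (.node 1 (.leaf
  1408698) (.leaf
  1580699)))) (.node 4 (.node 2 (.node 1 (.leaf
  1408948) (.leaf
  796280)) (.node 1 (.leaf
  2455935) (.leaf
  2556171))) (.node 2 (.node 1 (.leaf
  659709) (.leaf
  2041849)) (.node 1 (.leaf
  766668) (.leaf
  1971907))))) (.node 7 (.node 3 (.node 1 (.leaf
  1685264) (.node 1 (.leaf
  802998) (.leaf
  83))) (.node 2 (.node 1 (.leaf
  1811399) (.leaf
  360082)) (.node 1 (.leaf
  2456600) (.leaf
  523)))) (.node 4 (.node 2 (.node 1 (.leaf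
  480859) (.leaf
  2041430)) (.node 1 (.leaf
  126) (.leaf
  1658837))) (.node 2 (.node 1 (.leaf
  2240005) (.leaf
  485)) (.node 1 (.leaf
  2072393) (.leaf
  682668))))))) (.node 29 (.node 14 (.node 7 (.node 3 (.node 1 (.leaf
  682438) (.node 1 (.leaf
  1972545) (.leaf
  14042))) (.node 2 (.node 1 (.leaf
  968911) (.leaf
  925244)) (.node 1 (.leaf
  2041490) (.leaf
  14986)))) (.node 3 (.node 1 (.leaf
  645695) (.node 1 (.leaf
  2041371) (.leaf
  924847))) (.node 2 (.node 1 (.leaf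
  2449042) (.leaf
  1972442)) (.node 1 (.leaf
  645371) (.leaf
  1409502))))) (.node 7 (.node 3 (.node 1 (.leaf
  1004869) (.node 1 (.leaf
  967875) (.leaf
  37217))) (.node 2 (.node 1 (.leaf
  37583) (.leaf
  323334)) (.node 1 (.leaf
  1408769) (.leaf
  322729)))) (.node 4 (.node 2 (.node 1 (.leaf
  2295332) (.leaf
  484981)) (.node 1 (.leaf
  1570862) (.leaf
  537743))) (.node 2 (.node 1 (.leaf
  2556013) (.leaf
  2455852)) (.node 1 (.leaf
  1129255) (.leaf
  967975)))))) (.node 15 (.node 7 (.node 3 (.node 1 (.leaf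
  493) (.node 1 (.leaf
  852027) (.leaf
  1774089))) (.node 2 (.node 1 (.leaf
  924998) (.leaf
  1698430)) (.node 1 (.leaf
  806802) (.leaf
  46543)))) (.node 4 (.node 2 (.node 1 (.leaf
  1811532) (.leaf
  2778689)) (.node 1 (.leaf
  23) (.leaf
  891706))) (.node 2 (.node 1 (.leaf
  843902) (.leaf
  2189178)) (.node 1 (.leaf
  46116) (.leaf
  443700))))) (.node 7 (.node 3 (.node 1 (.leaf
  843015) (.node 1 (.leaf
  2169227) (.leaf
  1581143))) (.node 2 (.node 1 (.leaf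
  2071115) (.leaf
  2848180)) (.node 1 (.leaf
  1451859) (.leaf
  1409795)))) (.node 4 (.node 2 (.node 1 (.leaf
  681809) (.leaf
  2778445)) (.node 1 (.leaf
  603) (.leaf
  843170))) (.node 2 (.node 1 (.leaf
  1326843) (.leaf
  61)) (.node 1 (.leaf
  967966) (.leaf
  473416))))))))) (.node 118 (.node 59 (.node 29 (.node 14 (.node 7 (.node 3 (.node 1 (.leaf
  1409436) (.node 1 (.leaf
  37272) (.leaf
  273))) (.node 2 (.node 1 (.leaf
  982531) (.leaf
  359897)) (.node 1 (.leaf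
  878940) (.leaf
  807045)))) (.node 3 (.node 1 (.leaf
  36800) (.node 1 (.leaf
  1125218) (.leaf
  2027112))) (.node 2 (.node 1 (.leaf
  323772) (.leaf
  962413)) (.node 1 (.leaf
  1810695) (.leaf
  645708))))) (.node 7 (.node 3 (.node 1 (.leaf
  1658466) (.node 1 (.leaf
  359269) (.leaf
  645316))) (.node 2 (.node 1 (.leaf
  2041395) (.leaf
  2779040)) (.node 1 (.leaf
  1972061) (.leaf
  843999)))) (.node 4 (.node 2 (.node 1 (.leaf
  484546) (.leaf
  1117806)) (.node 1 (.leaf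
  967797) (.leaf
  359455))) (.node 2 (.node 1 (.leaf
  843697) (.leaf
  2787460)) (.node 1 (.leaf
  878536) (.leaf
  2041259)))))) (.node 15 (.node 7 (.node 3 (.node 1 (.leaf
  2169181) (.node 1 (.leaf
  322780) (.leaf
  336839))) (.node 2 (.node 1 (.leaf
  968279) (.leaf
  29351)) (.node 1 (.leaf
  1290996) (.leaf
  2239732)))) (.node 4 (.node 2 (.node 1 (.leaf
  336511) (.leaf
  1685670)) (.node 1 (.leaf
  323323) (.leaf
  322642))) (.node 2 (.node 1 (.leaf
  197957) (.leaf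
  796068)) (.node 1 (.leaf
  1719551) (.leaf
  484712))))) (.node 7 (.node 3 (.node 1 (.leaf
  198690) (.node 1 (.leaf
  1810907) (.leaf
  1129602))) (.node 2 (.node 1 (.leaf
  2716694) (.leaf
  2169330)) (.node 1 (.leaf
  2071730) (.leaf
  2778819)))) (.node 4 (.node 2 (.node 1 (.leaf
  851955) (.leaf
  843809)) (.node 1 (.leaf
  37304) (.leaf
  2042346))) (.node 2 (.node 1 (.leaf
  1972825) (.leaf
  306)) (.node 1 (.leaf
  359863) (.leaf
  2717316))))))) (.node 29 (.node 14 (.node 7 (.node 3 (.node 1 (.leaf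
  1811446) (.node 1 (.leaf
  1327486) (.leaf
  645493))) (.node 2 (.node 1 (.leaf
  150313) (.leaf
  336523)) (.node 1 (.leaf
  2169116) (.leaf
  681865)))) (.node 3 (.node 1 (.leaf
  322620) (.node 1 (.leaf
  1972588) (.leaf
  351948))) (.node 2 (.node 1 (.leaf
  336733) (.leaf
  2455938)) (.node 1 (.leaf
  552305) (.leaf
  352728))))) (.node 7 (.node 3 (.node 1 (.leaf
  659568) (.node 1 (.leaf
  780528) (.leaf
  74))) (.node 2 (.node 1 (.leaf
  2303525) (.leaf
  2169018)) (.node 1 (.leaf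
  37176) (.leaf
  681706)))) (.node 4 (.node 2 (.node 1 (.leaf
  1327544) (.leaf
  336978)) (.node 1 (.leaf
  132) (.leaf
  2456170))) (.node 2 (.node 1 (.leaf
  1811330) (.leaf
  476)) (.node 1 (.leaf
  1201605) (.leaf
  1972109)))))) (.node 15 (.node 7 (.node 3 (.node 1 (.leaf
  359812) (.node 1 (.leaf
  2787775) (.leaf
  150325))) (.node 2 (.node 1 (.leaf
  359935) (.leaf
  2042155)) (.node 1 (.leaf
  2156215) (.leaf
  1613770)))) (.node 4 (.node 2 (.node 1 (.leaf
  323199) (.leaf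
  925872)) (.node 1 (.leaf
  359558) (.leaf
  852050))) (.node 2 (.node 1 (.leaf
  967889) (.leaf
  245)) (.node 1 (.leaf
  519) (.leaf
  71826))))) (.node 7 (.node 3 (.node 1 (.leaf
  14949) (.node 1 (.leaf
  1409524) (.leaf
  590))) (.node 2 (.node 1 (.leaf
  359682) (.leaf
  457840)) (.node 1 (.leaf
  807267) (.leaf
  1775049)))) (.node 4 (.node 2 (.node 1 (.leaf
  36966) (.leaf
  2042086)) (.node 1 (.leaf
  352402) (.leaf
  484035))) (.node 2 (.node 1 (.leaf
  2071276) (.leaf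
  924855)) (.node 1 (.leaf
  1972302) (.leaf
  359594)))))))) (.node 59 (.node 29 (.node 14 (.node 7 (.node 3 (.node 1 (.leaf
  1580819) (.node 1 (.leaf
  363) (.leaf
  842959))) (.node 2 (.node 1 (.leaf
  36817) (.leaf
  359300)) (.node 1 (.leaf
  1409384) (.leaf
  1409323)))) (.node 3 (.node 1 (.leaf
  1684766) (.node 1 (.leaf
  14947) (.leaf
  2787944))) (.node 2 (.node 1 (.leaf
  2042173) (.leaf
  322692)) (.node 1 (.leaf
  1811235) (.leaf
  1128978))))) (.node 7 (.node 3 (.node 1 (.leaf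
  103) (.node 1 (.leaf
  878441) (.leaf
  29256))) (.node 2 (.node 1 (.leaf
  2042149) (.leaf
  337454)) (.node 1 (.leaf
  1327649) (.leaf
  1451673)))) (.node 4 (.node 2 (.node 1 (.leaf
  14701) (.leaf
  1118529)) (.node 1 (.leaf
  1811457) (.leaf
  968067))) (.node 2 (.node 1 (.leaf
  2778497) (.leaf
  2878366)) (.node 1 (.leaf
  37478) (.leaf
  360110)))))) (.node 15 (.node 7 (.node 3 (.node 1 (.leaf
  337067) (.node 1 (.leaf
  2026394) (.leaf
  359243))) (.node 2 (.node 1 (.leaf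
  37664) (.leaf
  968594)) (.node 1 (.leaf
  359232) (.leaf
  2168571)))) (.node 4 (.node 2 (.node 1 (.leaf
  458187) (.leaf
  843097)) (.node 1 (.leaf
  359853) (.leaf
  2041341))) (.node 2 (.node 1 (.leaf
  371) (.leaf
  1290654)) (.node 1 (.leaf
  2464732) (.leaf
  807588))))) (.node 7 (.node 3 (.node 1 (.leaf
  682123) (.node 1 (.leaf
  56) (.leaf
  1685004))) (.node 2 (.node 1 (.leaf
  164) (.leaf
  795390)) (.node 1 (.leaf
  1335871) (.leaf
  484979)))) (.node 4 (.node 2 (.node 1 (.leaf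
  967739) (.leaf
  2072656)) (.node 1 (.leaf
  2464604) (.leaf
  13880))) (.node 2 (.node 1 (.leaf
  796157) (.leaf
  1580191)) (.node 1 (.leaf
  1375482) (.leaf
  336449))))))) (.node 29 (.node 14 (.node 7 (.node 3 (.node 1 (.leaf
  2287102) (.node 1 (.leaf
  497767) (.leaf
  1408801))) (.node 2 (.node 1 (.leaf
  336905) (.leaf
  780126)) (.node 1 (.leaf
  484615) (.leaf
  14069)))) (.node 3 (.node 1 (.leaf
  1326862) (.node 1 (.leaf
  59) (.leaf
  30139))) (.node 2 (.node 1 (.leaf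
  1971943) (.leaf
  1650200)) (.node 1 (.leaf
  2717395) (.leaf
  37302))))) (.node 7 (.node 3 (.node 1 (.leaf
  1810850) (.node 1 (.leaf
  76722) (.leaf
  2042032))) (.node 2 (.node 1 (.leaf
  1362421) (.leaf
  924966)) (.node 1 (.leaf
  1004516) (.leaf
  2239195)))) (.node 4 (.node 2 (.node 1 (.leaf
  2169196) (.leaf
  29640)) (.node 1 (.leaf
  2026492) (.leaf
  359176))) (.node 2 (.node 1 (.leaf
  337364) (.leaf
  675014)) (.node 1 (.leaf
  351779) (.leaf
  351808)))))) (.node 15 (.node 7 (.node 3 (.node 1 (.leaf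
  1810814) (.node 1 (.leaf
  996941) (.leaf
  2169331))) (.node 2 (.node 1 (.leaf
  14612) (.leaf
  337291)) (.node 1 (.leaf
  37288) (.leaf
  2449051)))) (.node 4 (.node 2 (.node 1 (.leaf
  1125361) (.leaf
  645994)) (.node 1 (.leaf
  997471) (.leaf
  1613317))) (.node 2 (.node 1 (.leaf
  982411) (.leaf
  968503)) (.node 1 (.leaf
  2235024) (.leaf
  2294483))))) (.node 7 (.node 3 (.node 1 (.leaf
  2464620) (.node 1 (.leaf
  675104) (.leaf
  13983))) (.node 2 (.node 1 (.leaf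
  936082) (.leaf
  1004886)) (.node 1 (.leaf
  14589) (.leaf
  1060531)))) (.node 4 (.node 2 (.node 1 (.leaf
  645900) (.leaf
  2716801)) (.node 1 (.leaf
  1004420) (.leaf
  337241))) (.node 2 (.node 1 (.leaf
  37216) (.leaf
  323475)) (.node 1 (.leaf
  513507) (.leaf
  14669)))))))))) (.node 236 (.node 118 (.node 59 (.node 29 (.node 14 (.node 7 (.node 3 (.node 1 (.leaf
  967823) (.node 1 (.leaf
  645882) (.leaf
  242))) (.node 2 (.node 1 (.leaf
  14652) (.leaf
  337326)) (.node 1 (.leaf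
  337101) (.leaf
  967920)))) (.node 3 (.node 1 (.leaf
  2041472) (.node 1 (.leaf
  1118000) (.leaf
  1774411))) (.node 2 (.node 1 (.leaf
  682312) (.leaf
  645464)) (.node 1 (.leaf
  1755719) (.leaf
  682321))))) (.node 7 (.node 3 (.node 1 (.leaf
  2239685) (.node 1 (.leaf
  1408972) (.leaf
  982353))) (.node 2 (.node 1 (.leaf
  803624) (.leaf
  585)) (.node 1 (.leaf
  682395) (.leaf
  2065543)))) (.node 4 (.node 2 (.node 1 (.leaf
  1004996) (.leaf
  513604)) (.node 1 (.leaf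
  1971992) (.leaf
  1004333))) (.node 2 (.node 1 (.leaf
  646328) (.leaf
  2042045)) (.node 1 (.leaf
  15045) (.leaf
  2042413)))))) (.node 15 (.node 7 (.node 3 (.node 1 (.leaf
  646321) (.node 1 (.leaf
  2041295) (.leaf
  1980456))) (.node 2 (.node 1 (.leaf
  2448953) (.leaf
  1972328)) (.node 1 (.leaf
  646067) (.leaf
  1409453)))) (.node 4 (.node 2 (.node 1 (.leaf
  13902) (.leaf
  135200)) (.node 1 (.leaf
  36) (.leaf
  1354871))) (.node 2 (.node 1 (.leaf
  2041882) (.leaf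
  257)) (.node 1 (.leaf
  323225) (.leaf
  1684641))))) (.node 7 (.node 3 (.node 1 (.leaf
  13973) (.node 1 (.leaf
  1810763) (.leaf
  2027018))) (.node 2 (.node 1 (.leaf
  2168736) (.leaf
  1005079)) (.node 1 (.leaf
  996825) (.leaf
  2778841)))) (.node 4 (.node 2 (.node 1 (.leaf
  1972902) (.leaf
  1580779)) (.node 1 (.leaf
  143) (.leaf
  14240))) (.node 2 (.node 1 (.leaf
  780944) (.leaf
  1768769)) (.node 1 (.leaf
  1408716) (.leaf
  1409531))))))) (.node 29 (.node 14 (.node 7 (.node 3 (.node 1 (.leaf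
  1580153) (.node 1 (.leaf
  1650399) (.leaf
  29990))) (.node 2 (.node 1 (.leaf
  659150) (.leaf
  322610)) (.node 1 (.leaf
  1408721) (.leaf
  2239556)))) (.node 3 (.node 1 (.leaf
  1972266) (.node 1 (.leaf
  682294) (.leaf
  2465303))) (.node 2 (.node 1 (.leaf
  1166151) (.leaf
  213)) (.node 1 (.leaf
  645826) (.leaf
  2258798))))) (.node 7 (.node 3 (.node 1 (.leaf
  2779005) (.node 1 (.leaf
  388) (.leaf
  37291))) (.node 2 (.node 1 (.leaf
  1488203) (.leaf
  843592)) (.node 1 (.leaf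
  981834) (.leaf
  2465336)))) (.node 4 (.node 2 (.node 1 (.leaf
  1718925) (.leaf
  1972640)) (.node 1 (.leaf
  198510) (.leaf
  2142057))) (.node 2 (.node 1 (.leaf
  2234207) (.leaf
  1774780)) (.node 1 (.leaf
  71896) (.leaf
  1685132)))))) (.node 15 (.node 7 (.node 3 (.node 1 (.leaf
  1972767) (.node 1 (.leaf
  2848062) (.leaf
  2070651))) (.node 2 (.node 1 (.leaf
  1811000) (.leaf
  323606)) (.node 1 (.leaf
  1811365) (.leaf
  1125951)))) (.node 4 (.node 2 (.node 1 (.leaf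
  1102895) (.leaf
  351991)) (.node 1 (.leaf
  2042152) (.leaf
  659443))) (.node 2 (.node 1 (.leaf
  1741605) (.leaf
  1125216)) (.node 1 (.leaf
  646322) (.leaf
  646124))))) (.node 7 (.node 3 (.node 1 (.leaf
  359291) (.node 1 (.leaf
  1685667) (.leaf
  968425))) (.node 2 (.node 1 (.leaf
  1972945) (.leaf
  2860481)) (.node 1 (.leaf
  1774746) (.leaf
  1979763)))) (.node 4 (.node 2 (.node 1 (.leaf
  2142497) (.leaf
  843262)) (.node 1 (.leaf
  1981933) (.leaf
  37313))) (.node 2 (.node 1 (.leaf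
  2788048) (.leaf
  807191)) (.node 1 (.leaf
  2787163) (.leaf
  1129170)))))))) (.node 59 (.node 29 (.node 14 (.node 7 (.node 3 (.node 1 (.leaf
  1810821) (.node 1 (.leaf
  1165688) (.leaf
  1972680))) (.node 2 (.node 1 (.leaf
  146) (.leaf
  360006)) (.node 1 (.leaf
  2716663) (.leaf
  515)))) (.node 3 (.node 1 (.leaf
  2878829) (.node 1 (.leaf
  645811) (.leaf
  2295153))) (.node 2 (.node 1 (.leaf
  29028) (.leaf
  150760)) (.node 1 (.leaf
  359938) (.leaf
  2464829))))) (.node 7 (.node 3 (.node 1 (.leaf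
  1972897) (.node 1 (.leaf
  2717262) (.leaf
  2041458))) (.node 2 (.node 1 (.leaf
  2455941) (.leaf
  14665)) (.node 1 (.leaf
  2717346) (.leaf
  674475)))) (.node 4 (.node 2 (.node 1 (.leaf
  2042041) (.leaf
  323247)) (.node 1 (.leaf
  1972444) (.leaf
  352586))) (.node 2 (.node 1 (.leaf
  323726) (.leaf
  2239436)) (.node 1 (.leaf
  302) (.leaf
  201)))))) (.node 15 (.node 7 (.node 3 (.node 1 (.leaf
  796075) (.node 1 (.leaf
  36576) (.leaf
  2456959))) (.node 2 (.node 1 (.leaf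
  472691) (.leaf
  681705)) (.node 1 (.leaf
  37755) (.leaf
  2716947)))) (.node 4 (.node 2 (.node 1 (.leaf
  2097541) (.leaf
  2779000)) (.node 1 (.leaf
  1811409) (.leaf
  1685386))) (.node 2 (.node 1 (.leaf
  1811363) (.leaf
  1972187)) (.node 1 (.leaf
  359151) (.leaf
  1166278))))) (.node 7 (.node 3 (.node 1 (.leaf
  337555) (.node 1 (.leaf
  352076) (.leaf
  659162))) (.node 2 (.node 1 (.leaf
  150950) (.leaf
  1129706)) (.node 1 (.leaf
  623) (.leaf
  116)))) (.node 4 (.node 2 (.node 1 (.leaf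
  806708) (.leaf
  1409213)) (.node 1 (.leaf
  2779366) (.leaf
  381))) (.node 2 (.node 1 (.leaf
  795875) (.leaf
  2465216)) (.node 1 (.leaf
  185) (.leaf
  967704))))))) (.node 29 (.node 14 (.node 7 (.node 3 (.node 1 (.leaf
  1409480) (.node 1 (.leaf
  360089) (.leaf
  37204))) (.node 2 (.node 1 (.leaf
  843622) (.leaf
  878234)) (.node 1 (.leaf
  682042) (.leaf
  323326)))) (.node 3 (.node 1 (.leaf
  29121) (.node 1 (.leaf
  360186) (.leaf
  645503))) (.node 2 (.node 1 (.leaf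
  981643) (.leaf
  2877124)) (.node 1 (.leaf
  968609) (.leaf
  2169141))))) (.node 7 (.node 3 (.node 1 (.leaf
  274) (.node 1 (.leaf
  36761) (.leaf
  2787592))) (.node 2 (.node 1 (.leaf
  967863) (.leaf
  359278)) (.node 1 (.leaf
  982696) (.leaf
  2041222)))) (.node 4 (.node 2 (.node 1 (.leaf
  2779442) (.leaf
  458045)) (.node 1 (.leaf
  2239707) (.leaf
  2455838))) (.node 2 (.node 1 (.leaf
  1451630) (.leaf
  115)) (.node 1 (.leaf
  484493) (.leaf
  967817)))))) (.node 15 (.node 7 (.node 3 (.node 1 (.leaf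
  2042083) (.node 1 (.leaf
  997329) (.leaf
  982431))) (.node 2 (.node 1 (.leaf
  2169111) (.leaf
  352582)) (.node 1 (.leaf
  1374803) (.leaf
  1811639)))) (.node 4 (.node 2 (.node 1 (.leaf
  359629) (.leaf
  323674)) (.node 1 (.leaf
  2860485) (.leaf
  968511))) (.node 2 (.node 1 (.leaf
  1810765) (.leaf
  1488201)) (.node 1 (.leaf
  843284) (.leaf
  2070637))))) (.node 7 (.node 3 (.node 1 (.leaf
  1291423) (.node 1 (.leaf
  322571) (.leaf
  2041657))) (.node 2 (.node 1 (.leaf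
  843085) (.leaf
  1408791)) (.node 1 (.leaf
  843099) (.leaf
  37623)))) (.node 4 (.node 2 (.node 1 (.leaf
  1971904) (.leaf
  414)) (.node 1 (.leaf
  221) (.leaf
  537826))) (.node 2 (.node 1 (.leaf
  14394) (.leaf
  1374975)) (.node 1 (.leaf
  1613232) (.leaf
  2239786))))))))) (.node 118 (.node 59 (.node 29 (.node 14 (.node 7 (.node 3 (.node 1 (.leaf
  2042058) (.node 1 (.leaf
  681997) (.leaf
  2787414))) (.node 2 (.node 1 (.leaf
  359996) (.leaf
  1408687)) (.node 1 (.leaf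
  158524) (.leaf
  37198)))) (.node 3 (.node 1 (.leaf
  891662) (.node 1 (.leaf
  14948) (.leaf
  981988))) (.node 2 (.node 1 (.leaf
  336558) (.leaf
  359195)) (.node 1 (.leaf
  2779506) (.leaf
  968515))))) (.node 7 (.node 3 (.node 1 (.leaf
  37503) (.node 1 (.leaf
  2168555) (.leaf
  1774386))) (.node 2 (.node 1 (.leaf
  1117721) (.leaf
  1972026)) (.node 1 (.leaf
  807265) (.leaf
  674380)))) (.node 4 (.node 2 (.node 1 (.leaf
  1774410) (.leaf
  457669)) (.node 1 (.leaf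
  997017) (.leaf
  967681))) (.node 2 (.node 1 (.leaf
  2580628) (.leaf
  14029)) (.node 1 (.leaf
  1005052) (.leaf
  359204)))))) (.node 15 (.node 7 (.node 3 (.node 1 (.leaf
  2042056) (.node 1 (.leaf
  337212) (.leaf
  1004759))) (.node 2 (.node 1 (.leaf
  458464) (.leaf
  359261)) (.node 1 (.leaf
  37572) (.leaf
  2026290)))) (.node 4 (.node 2 (.node 1 (.leaf
  968371) (.leaf
  2778310)) (.node 1 (.leaf
  2716642) (.leaf
  2717386))) (.node 2 (.node 1 (.leaf
  1811504) (.leaf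
  2717339)) (.node 1 (.leaf
  150747) (.leaf
  968604))))) (.node 7 (.node 3 (.node 1 (.leaf
  1481172) (.node 1 (.leaf
  1810757) (.leaf
  37339))) (.node 2 (.node 1 (.leaf
  1775067) (.leaf
  45497)) (.node 1 (.leaf
  1125365) (.leaf
  2778870)))) (.node 4 (.node 2 (.node 1 (.leaf
  968382) (.leaf
  574)) (.node 1 (.leaf
  1774141) (.leaf
  645320))) (.node 2 (.node 1 (.leaf
  1811011) (.leaf
  1811300)) (.node 1 (.leaf
  2169097) (.leaf
  50))))))) (.node 29 (.node 14 (.node 7 (.node 3 (.node 1 (.leaf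
  36590) (.node 1 (.leaf
  161475) (.leaf
  297))) (.node 2 (.node 1 (.leaf
  1613095) (.leaf
  148)) (.node 1 (.leaf
  982366) (.leaf
  2294798)))) (.node 3 (.node 1 (.leaf
  1481513) (.node 1 (.leaf
  1488920) (.leaf
  851886))) (.node 2 (.node 1 (.leaf
  843194) (.leaf
  1972100)) (.node 1 (.leaf
  1118435) (.leaf
  14334))))) (.node 7 (.node 3 (.node 1 (.leaf
  806559) (.node 1 (.leaf
  1811456) (.leaf
  2295031))) (.node 2 (.node 1 (.leaf
  543) (.leaf
  925701)) (.node 1 (.leaf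
  1488754) (.leaf
  851866)))) (.node 4 (.node 2 (.node 1 (.leaf
  2041986) (.leaf
  2041876)) (.node 1 (.leaf
  485037) (.leaf
  1166196))) (.node 2 (.node 1 (.leaf
  1125912) (.leaf
  682720)) (.node 1 (.leaf
  1685397) (.leaf
  924999)))))) (.node 15 (.node 7 (.node 3 (.node 1 (.leaf
  795635) (.node 1 (.leaf
  1972059) (.leaf
  913126))) (.node 2 (.node 1 (.leaf
  1580748) (.leaf
  158603)) (.node 1 (.leaf
  14781) (.leaf
  1811277)))) (.node 4 (.node 2 (.node 1 (.leaf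
  1580285) (.leaf
  14855)) (.node 1 (.leaf
  1374921) (.leaf
  1972033))) (.node 2 (.node 1 (.leaf
  322790) (.leaf
  645983)) (.node 1 (.leaf
  2848425) (.leaf
  1089480))))) (.node 7 (.node 3 (.node 1 (.leaf
  209) (.node 1 (.leaf
  1972148) (.leaf
  355))) (.node 2 (.node 1 (.leaf
  68) (.leaf
  1408941)) (.node 1 (.leaf
  878633) (.leaf
  1650529)))) (.node 4 (.node 2 (.node 1 (.leaf
  359374) (.leaf
  2787953)) (.node 1 (.leaf
  1685273) (.leaf
  1409107))) (.node 2 (.node 1 (.leaf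
  2848048) (.leaf
  1972950)) (.node 1 (.leaf
  157974) (.leaf
  189)))))))) (.node 59 (.node 29 (.node 14 (.node 7 (.node 3 (.node 1 (.leaf
  2168514) (.node 1 (.leaf
  2779447) (.leaf
  645126))) (.node 2 (.node 1 (.leaf
  2556004) (.leaf
  2464707)) (.node 1 (.leaf
  337228) (.leaf
  806803)))) (.node 3 (.node 1 (.leaf
  1166238) (.node 1 (.leaf
  1972924) (.leaf
  645778))) (.node 2 (.node 1 (.leaf
  2070723) (.leaf
  337058)) (.node 1 (.leaf
  198681) (.leaf
  1451625))))) (.node 7 (.node 3 (.node 1 (.leaf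
  843292) (.node 1 (.leaf
  2071397) (.leaf
  807352))) (.node 2 (.node 1 (.leaf
  1972786) (.leaf
  1972741)) (.node 1 (.leaf
  2026947) (.leaf
  2042135)))) (.node 4 (.node 2 (.node 1 (.leaf
  233771) (.leaf
  2234112)) (.node 1 (.leaf
  843021) (.leaf
  2041611))) (.node 2 (.node 1 (.leaf
  935506) (.leaf
  2847889)) (.node 1 (.leaf
  2041570) (.leaf
  1972138)))))) (.node 15 (.node 7 (.node 3 (.node 1 (.leaf
  1129890) (.node 1 (.leaf
  806714) (.leaf
  2070454))) (.node 2 (.node 1 (.leaf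
  806883) (.leaf
  458382)) (.node 1 (.leaf
  1719646) (.leaf
  843188)))) (.node 4 (.node 2 (.node 1 (.leaf
  1972235) (.leaf
  1972987)) (.node 1 (.leaf
  337373) (.leaf
  39))) (.node 2 (.node 1 (.leaf
  76487) (.leaf
  14059)) (.node 1 (.leaf
  2169234) (.leaf
  359888))))) (.node 7 (.node 3 (.node 1 (.leaf
  541) (.node 1 (.leaf
  681903) (.leaf
  645170))) (.node 2 (.node 1 (.leaf
  64) (.leaf
  14716)) (.node 1 (.leaf
  645552) (.leaf
  337403)))) (.node 4 (.node 2 (.node 1 (.leaf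
  1811541) (.leaf
  997570)) (.node 1 (.leaf
  645753) (.leaf
  645550))) (.node 2 (.node 1 (.leaf
  14747) (.leaf
  14901)) (.node 1 (.leaf
  337194) (.leaf
  323655))))))) (.node 30 (.node 15 (.node 7 (.node 3 (.node 1 (.leaf
  967690) (.node 1 (.leaf
  795307) (.leaf
  2295333))) (.node 2 (.node 1 (.leaf
  1291185) (.leaf
  1650391)) (.node 1 (.leaf
  14988) (.leaf
  322724)))) (.node 4 (.node 2 (.node 1 (.leaf
  323231) (.leaf
  2779171)) (.node 1 (.leaf
  29925) (.leaf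
  1125644))) (.node 2 (.node 1 (.leaf
  106) (.leaf
  296)) (.node 1 (.leaf
  1489018) (.leaf
  1580815))))) (.node 7 (.node 3 (.node 1 (.leaf
  1972606) (.node 1 (.leaf
  1979828) (.leaf
  982709))) (.node 2 (.node 1 (.leaf
  46305) (.leaf
  1811499)) (.node 1 (.leaf
  352429) (.leaf
  2778548)))) (.node 4 (.node 2 (.node 1 (.leaf
  359633) (.leaf
  1971973)) (.node 1 (.leaf
  2097359) (.leaf
  359786))) (.node 2 (.node 1 (.leaf
  323091) (.leaf
  337372)) (.node 1 (.leaf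
  645861) (.leaf
  1972985)))))) (.node 15 (.node 7 (.node 3 (.node 1 (.leaf
  646167) (.node 1 (.leaf
  1374717) (.leaf
  71))) (.node 2 (.node 1 (.leaf
  1972287) (.leaf
  207)) (.node 1 (.leaf
  359326) (.leaf
  337224)))) (.node 4 (.node 2 (.node 1 (.leaf
  161494) (.leaf
  2716627)) (.node 1 (.leaf
  795897) (.leaf
  150663))) (.node 2 (.node 1 (.leaf
  2555454) (.leaf
  1004404)) (.node 1 (.leaf
  843263) (.leaf
  1125875))))) (.node 7 (.node 3 (.node 1 (.leaf
  1972785) (.node 1 (.leaf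
  2456252) (.leaf
  681803))) (.node 2 (.node 1 (.leaf
  2787196) (.leaf
  2071811)) (.node 1 (.leaf
  2779445) (.leaf
  1972032)))) (.node 4 (.node 2 (.node 1 (.leaf
  1684624) (.leaf
  2847880)) (.node 1 (.leaf
  2071282) (.leaf
  1684860))) (.node 2 (.node 1 (.leaf
  60) (.leaf
  646372)) (.node 1 (.leaf
  645766) (.leaf
  14654))))))))))) (.node 472 (.node 236 (.node 118 (.node 59 (.node 29 (.node 14 (.node 7 (.node 3 (.node 1 (.leaf
  1451767) (.node 1 (.leaf
  578768) (.leaf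
  161986))) (.node 2 (.node 1 (.leaf
  967793) (.leaf
  2464755)) (.node 1 (.leaf
  2239259) (.leaf
  968317)))) (.node 3 (.node 1 (.leaf
  2456544) (.node 1 (.leaf
  1004412) (.leaf
  645142))) (.node 2 (.node 1 (.leaf
  2097444) (.leaf
  2779170)) (.node 1 (.leaf
  513677) (.leaf
  150218))))) (.node 7 (.node 3 (.node 1 (.leaf
  352581) (.node 1 (.leaf
  1811361) (.leaf
  2716764))) (.node 2 (.node 1 (.leaf
  13900) (.leaf
  968180)) (.node 1 (.leaf
  316) (.leaf
  14717)))) (.node 4 (.node 2 (.node 1 (.leaf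
  681724) (.leaf
  385734)) (.node 1 (.leaf
  2717219) (.leaf
  36720))) (.node 2 (.node 1 (.leaf
  359904) (.leaf
  2041344)) (.node 1 (.leaf
  1650109) (.leaf
  37728)))))) (.node 15 (.node 7 (.node 3 (.node 1 (.leaf
  290) (.node 1 (.leaf
  322964) (.leaf
  1580197))) (.node 2 (.node 1 (.leaf
  323353) (.leaf
  2089925)) (.node 1 (.leaf
  162061) (.leaf
  323092)))) (.node 4 (.node 2 (.node 1 (.leaf
  2042168) (.leaf
  2041859)) (.node 1 (.leaf
  135193) (.leaf
  162021))) (.node 2 (.node 1 (.leaf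
  2042194) (.leaf
  13867)) (.node 1 (.leaf
  1005064) (.leaf
  982284))))) (.node 7 (.node 3 (.node 1 (.leaf
  1335794) (.node 1 (.leaf
  1327481) (.leaf
  1649993))) (.node 2 (.node 1 (.leaf
  2526281) (.leaf
  659713)) (.node 1 (.leaf
  352407) (.leaf
  1165778)))) (.node 4 (.node 2 (.node 1 (.leaf
  645296) (.leaf
  68926)) (.node 1 (.leaf
  924914) (.leaf
  37340))) (.node 2 (.node 1 (.leaf
  2041953) (.leaf
  1613630)) (.node 1 (.leaf
  2142484) (.leaf
  457686))))))) (.node 29 (.node 14 (.node 7 (.node 3 (.node 1 (.leaf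
  14765) (.node 1 (.leaf
  807525) (.leaf
  1981714))) (.node 2 (.node 1 (.leaf
  2041886) (.leaf
  645145)) (.node 1 (.leaf
  806608) (.leaf
  2722259)))) (.node 3 (.node 1 (.leaf
  1811190) (.node 1 (.leaf
  1451715) (.leaf
  843359))) (.node 2 (.node 1 (.leaf
  645149) (.leaf
  645824)) (.node 1 (.leaf
  1397081) (.leaf
  2787901))))) (.node 7 (.node 3 (.node 1 (.leaf
  646263) (.node 1 (.leaf
  645135) (.leaf
  2455934))) (.node 2 (.node 1 (.leaf
  37525) (.leaf
  2071711)) (.node 1 (.leaf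
  1374830) (.leaf
  2071202)))) (.node 4 (.node 2 (.node 1 (.leaf
  1004595) (.leaf
  2287606)) (.node 1 (.leaf
  287) (.leaf
  1354823))) (.node 2 (.node 1 (.leaf
  2168586) (.leaf
  359985)) (.node 1 (.leaf
  1580083) (.leaf
  681815)))))) (.node 15 (.node 7 (.node 3 (.node 1 (.leaf
  1972126) (.node 1 (.leaf
  484713) (.leaf
  1971916))) (.node 2 (.node 1 (.leaf
  2787862) (.leaf
  1972171)) (.node 1 (.leaf
  2295509) (.leaf
  1374792)))) (.node 4 (.node 2 (.node 1 (.leaf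
  1408768) (.leaf
  878307)) (.node 1 (.leaf
  1971932) (.leaf
  1650569))) (.node 2 (.node 1 (.leaf
  1972637) (.leaf
  359414)) (.node 1 (.leaf
  359494) (.leaf
  843171))))) (.node 7 (.node 3 (.node 1 (.leaf
  403) (.node 1 (.leaf
  86) (.leaf
  135405))) (.node 2 (.node 1 (.leaf
  843499) (.leaf
  29875)) (.node 1 (.leaf
  337325) (.leaf
  803838)))) (.node 4 (.node 2 (.node 1 (.leaf
  843593) (.leaf
  843077)) (.node 1 (.leaf
  1005439) (.leaf
  322876))) (.node 2 (.node 1 (.leaf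
  1125909) (.leaf
  1327000)) (.node 1 (.leaf
  1581059) (.leaf
  1972677)))))))) (.node 59 (.node 29 (.node 14 (.node 7 (.node 3 (.node 1 (.leaf
  2778591) (.node 1 (.leaf
  322613) (.leaf
  2041547))) (.node 2 (.node 1 (.leaf
  337034) (.leaf
  1650390)) (.node 1 (.leaf
  795361) (.leaf
  1972612)))) (.node 3 (.node 1 (.leaf
  1649988) (.node 1 (.leaf
  512973) (.leaf
  1649572))) (.node 2 (.node 1 (.leaf
  2721703) (.leaf
  2077349)) (.node 1 (.leaf
  2169093) (.leaf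
  322694))))) (.node 7 (.node 3 (.node 1 (.leaf
  2778369) (.node 1 (.leaf
  1811493) (.leaf
  2455983))) (.node 2 (.node 1 (.leaf
  295) (.leaf
  135728)) (.node 1 (.leaf
  2717382) (.leaf
  1452456)))) (.node 4 (.node 2 (.node 1 (.leaf
  1374689) (.leaf
  14256)) (.node 1 (.leaf
  682416) (.leaf
  807285))) (.node 2 (.node 1 (.leaf
  1118528) (.leaf
  1125816)) (.node 1 (.leaf
  982003) (.leaf
  37427)))))) (.node 15 (.node 7 (.node 3 (.node 1 (.leaf
  14329) (.node 1 (.leaf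
  2070481) (.leaf
  879042))) (.node 2 (.node 1 (.leaf
  337098) (.leaf
  359148)) (.node 1 (.leaf
  795355) (.leaf
  490)))) (.node 4 (.node 2 (.node 1 (.leaf
  645752) (.leaf
  1649902)) (.node 1 (.leaf
  1409455) (.leaf
  2168776))) (.node 2 (.node 1 (.leaf
  968773) (.leaf
  2722383)) (.node 1 (.leaf
  457845) (.leaf
  240))))) (.node 7 (.node 3 (.node 1 (.leaf
  150121) (.node 1 (.leaf
  37295) (.leaf
  645858))) (.node 2 (.node 1 (.leaf
  14904) (.leaf
  1118850)) (.node 1 (.leaf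
  14729) (.leaf
  1397169)))) (.node 4 (.node 2 (.node 1 (.leaf
  323258) (.leaf
  2788049)) (.node 1 (.leaf
  13) (.leaf
  36733))) (.node 2 (.node 1 (.leaf
  484898) (.leaf
  2778324)) (.node 1 (.leaf
  336774) (.leaf
  682666))))))) (.node 29 (.node 14 (.node 7 (.node 3 (.node 1 (.leaf
  967877) (.node 1 (.leaf
  1336336) (.leaf
  2716757))) (.node 2 (.node 1 (.leaf
  2787462) (.leaf
  1327824)) (.node 1 (.leaf
  352034) (.leaf
  646128)))) (.node 3 (.node 1 (.leaf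
  380) (.node 1 (.leaf
  37396) (.leaf
  2465258))) (.node 2 (.node 1 (.leaf
  37667) (.leaf
  646177)) (.node 1 (.leaf
  968346) (.leaf
  682302))))) (.node 7 (.node 3 (.node 1 (.leaf
  336972) (.node 1 (.leaf
  2778869) (.leaf
  14680))) (.node 2 (.node 1 (.leaf
  1327548) (.leaf
  1810867)) (.node 1 (.leaf
  925702) (.leaf
  645759)))) (.node 4 (.node 2 (.node 1 (.leaf
  967729) (.leaf
  14493)) (.node 1 (.leaf
  244) (.leaf
  322914))) (.node 2 (.node 1 (.leaf
  457464) (.leaf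
  2169252)) (.node 1 (.leaf
  852480) (.leaf
  162203)))))) (.node 15 (.node 7 (.node 3 (.node 1 (.leaf
  2295330) (.node 1 (.leaf
  113) (.leaf
  2779229))) (.node 2 (.node 1 (.leaf
  878487) (.leaf
  71845)) (.node 1 (.leaf
  1980546) (.leaf
  14070)))) (.node 4 (.node 2 (.node 1 (.leaf
  531) (.leaf
  2295022)) (.node 1 (.leaf
  458133) (.leaf
  1981617))) (.node 2 (.node 1 (.leaf
  1972095) (.leaf
  579210)) (.node 1 (.leaf
  646028) (.leaf
  322581))))) (.node 7 (.node 3 (.node 1 (.leaf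
  337663) (.node 1 (.leaf
  6) (.leaf
  30196))) (.node 2 (.node 1 (.leaf
  71849) (.leaf
  359657)) (.node 1 (.leaf
  1004290) (.leaf
  1166159)))) (.node 4 (.node 2 (.node 1 (.leaf
  681862) (.leaf
  1972147)) (.node 1 (.leaf
  1166174) (.leaf
  1488206))) (.node 2 (.node 1 (.leaf
  843093) (.leaf
  1972990)) (.node 1 (.leaf
  2168956) (.leaf
  1658209))))))))) (.node 118 (.node 59 (.node 29 (.node 14 (.node 7 (.node 3 (.node 1 (.leaf
  1755465) (.node 1 (.leaf
  1980364) (.leaf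
  2097327))) (.node 2 (.node 1 (.leaf
  878773) (.leaf
  2142016)) (.node 1 (.leaf
  2878672) (.leaf
  645259)))) (.node 3 (.node 1 (.leaf
  458105) (.node 1 (.leaf
  359630) (.leaf
  1731686))) (.node 2 (.node 1 (.leaf
  2433274) (.leaf
  1811329)) (.node 1 (.leaf
  1972207) (.leaf
  1452253))))) (.node 7 (.node 3 (.node 1 (.leaf
  2465235) (.node 1 (.leaf
  803084) (.leaf
  36769))) (.node 2 (.node 1 (.leaf
  1580332) (.leaf
  1973124)) (.node 1 (.leaf
  2555891) (.leaf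
  925392)))) (.node 4 (.node 2 (.node 1 (.leaf
  30146) (.leaf
  2042275)) (.node 1 (.leaf
  2169163) (.leaf
  2239241))) (.node 2 (.node 1 (.leaf
  2239163) (.leaf
  14787)) (.node 1 (.leaf
  13906) (.leaf
  457)))))) (.node 15 (.node 7 (.node 3 (.node 1 (.leaf
  2779124) (.node 1 (.leaf
  780123) (.leaf
  682403))) (.node 2 (.node 1 (.leaf
  2787896) (.leaf
  1981879)) (.node 1 (.leaf
  1811465) (.leaf
  150131)))) (.node 4 (.node 2 (.node 1 (.leaf
  681671) (.leaf
  360052)) (.node 1 (.leaf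
  645234) (.leaf
  1126184))) (.node 2 (.node 1 (.leaf
  134858) (.leaf
  135538)) (.node 1 (.leaf
  1409190) (.leaf
  2168574))))) (.node 7 (.node 3 (.node 1 (.leaf
  352324) (.node 1 (.leaf
  337204) (.leaf
  480591))) (.node 2 (.node 1 (.leaf
  30094) (.leaf
  1811404)) (.node 1 (.leaf
  1774710) (.leaf
  2778371)))) (.node 4 (.node 2 (.node 1 (.leaf
  645193) (.leaf
  1684760)) (.node 1 (.leaf
  766360) (.leaf
  359631))) (.node 2 (.node 1 (.leaf
  473582) (.leaf
  795601)) (.node 1 (.leaf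
  968007) (.leaf
  2778955))))))) (.node 29 (.node 14 (.node 7 (.node 3 (.node 1 (.leaf
  323690) (.node 1 (.leaf
  392) (.leaf
  982258))) (.node 2 (.node 1 (.leaf
  359632) (.leaf
  359367)) (.node 1 (.leaf
  967959) (.leaf
  322651)))) (.node 3 (.node 1 (.leaf
  337143) (.node 1 (.leaf
  323465) (.leaf
  2168495))) (.node 2 (.node 1 (.leaf
  2778543) (.leaf
  351950)) (.node 1 (.leaf
  14224) (.leaf
  337465))))) (.node 7 (.node 3 (.node 1 (.leaf
  1685275) (.node 1 (.leaf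
  1649361) (.leaf
  604))) (.node 2 (.node 1 (.leaf
  1811680) (.leaf
  336508)) (.node 1 (.leaf
  68563) (.leaf
  2455759)))) (.node 4 (.node 2 (.node 1 (.leaf
  2329763) (.leaf
  645773)) (.node 1 (.leaf
  967880) (.leaf
  14037))) (.node 2 (.node 1 (.leaf
  14606) (.leaf
  307)) (.node 1 (.leaf
  14517) (.leaf
  162110)))))) (.node 15 (.node 7 (.node 3 (.node 1 (.leaf
  681670) (.node 1 (.leaf
  1129613) (.leaf
  2716760))) (.node 2 (.node 1 (.leaf
  2090074) (.leaf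
  795176)) (.node 1 (.leaf
  352380) (.leaf
  150686)))) (.node 4 (.node 2 (.node 1 (.leaf
  967757) (.leaf
  2041514)) (.node 1 (.leaf
  968513) (.leaf
  2456570))) (.node 2 (.node 1 (.leaf
  2456318) (.leaf
  1327433)) (.node 1 (.leaf
  681687) (.leaf
  996845))))) (.node 7 (.node 3 (.node 1 (.leaf
  336971) (.node 1 (.leaf
  36660) (.leaf
  36638))) (.node 2 (.node 1 (.leaf
  843265) (.leaf
  2042202)) (.node 1 (.leaf
  36543) (.leaf
  843172)))) (.node 4 (.node 2 (.node 1 (.leaf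
  1004609) (.leaf
  1581012)) (.node 1 (.leaf
  13987) (.leaf
  37437))) (.node 2 (.node 1 (.leaf
  968373) (.leaf
  359882)) (.node 1 (.leaf
  1972934) (.leaf
  968552)))))))) (.node 59 (.node 29 (.node 14 (.node 7 (.node 3 (.node 1 (.leaf
  796262) (.node 1 (.leaf
  337515) (.leaf
  1580339))) (.node 2 (.node 1 (.leaf
  682390) (.leaf
  967781)) (.node 1 (.leaf
  2465259) (.leaf
  1613864)))) (.node 3 (.node 1 (.leaf
  1408818) (.node 1 (.leaf
  33) (.leaf
  1810997))) (.node 2 (.node 1 (.leaf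
  1613474) (.leaf
  843094)) (.node 1 (.leaf
  36941) (.leaf
  645632))))) (.node 7 (.node 3 (.node 1 (.leaf
  1972553) (.node 1 (.leaf
  1649941) (.leaf
  796281))) (.node 2 (.node 1 (.leaf
  161) (.leaf
  359757)) (.node 1 (.leaf
  1103438) (.leaf
  2456393)))) (.node 4 (.node 2 (.node 1 (.leaf
  360038) (.leaf
  807171)) (.node 1 (.leaf
  1165597) (.leaf
  2072224))) (.node 2 (.node 1 (.leaf
  878584) (.leaf
  967867)) (.node 1 (.leaf
  1125997) (.leaf
  645501)))))) (.node 15 (.node 7 (.node 3 (.node 1 (.leaf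
  2787412) (.node 1 (.leaf
  645191) (.leaf
  1166273))) (.node 2 (.node 1 (.leaf
  2456524) (.leaf
  2456521)) (.node 1 (.leaf
  1452300) (.leaf
  968512)))) (.node 4 (.node 2 (.node 1 (.leaf
  157601) (.leaf
  337261)) (.node 1 (.leaf
  233302) (.leaf
  1810714))) (.node 2 (.node 1 (.leaf
  1972376) (.leaf
  275)) (.node 1 (.leaf
  2456066) (.leaf
  1811450))))) (.node 7 (.node 3 (.node 1 (.leaf
  1613014) (.node 1 (.leaf
  359889) (.leaf
  322578))) (.node 2 (.node 1 (.leaf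
  27) (.leaf
  197886)) (.node 1 (.leaf
  1811765) (.leaf
  1327434)))) (.node 4 (.node 2 (.node 1 (.leaf
  122) (.leaf
  359922)) (.node 1 (.leaf
  323804) (.leaf
  2042259))) (.node 2 (.node 1 (.leaf
  2041590) (.leaf
  766617)) (.node 1 (.leaf
  878634) (.leaf
  1004958))))))) (.node 29 (.node 14 (.node 7 (.node 3 (.node 1 (.leaf
  76090) (.node 1 (.leaf
  2169329) (.leaf
  2877054))) (.node 2 (.node 1 (.leaf
  336956) (.leaf
  37705)) (.node 1 (.leaf
  323118) (.leaf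
  806525)))) (.node 3 (.node 1 (.leaf
  968455) (.node 1 (.leaf
  1972445) (.leaf
  1165622))) (.node 2 (.node 1 (.leaf
  2455886) (.leaf
  2464672)) (.node 1 (.leaf
  2239147) (.leaf
  359105))))) (.node 7 (.node 3 (.node 1 (.leaf
  645802) (.node 1 (.leaf
  335) (.leaf
  2168873))) (.node 2 (.node 1 (.leaf
  2041420) (.leaf
  968315)) (.node 1 (.leaf
  645132) (.leaf
  36662)))) (.node 4 (.node 2 (.node 1 (.leaf
  14955) (.leaf
  2717490)) (.node 1 (.leaf
  337532) (.leaf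
  968499))) (.node 2 (.node 1 (.leaf
  1103416) (.leaf
  646184)) (.node 1 (.leaf
  2717295) (.leaf
  795310)))))) (.node 15 (.node 7 (.node 3 (.node 1 (.leaf
  12) (.node 1 (.leaf
  14520) (.leaf
  13946))) (.node 2 (.node 1 (.leaf
  843812) (.leaf
  36648)) (.node 1 (.leaf
  14644) (.leaf
  780849)))) (.node 4 (.node 2 (.node 1 (.leaf
  351990) (.leaf
  1408680)) (.node 1 (.leaf
  31) (.leaf
  158040))) (.node 2 (.node 1 (.leaf
  1088687) (.leaf
  2787225)) (.node 1 (.leaf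
  2294787) (.leaf
  36667))))) (.node 7 (.node 3 (.node 1 (.leaf
  1355485) (.node 1 (.leaf
  1972385) (.leaf
  337382))) (.node 2 (.node 1 (.leaf
  681944) (.leaf
  2169348)) (.node 1 (.leaf
  1613048) (.leaf
  359988)))) (.node 4 (.node 2 (.node 1 (.leaf
  659244) (.leaf
  323523)) (.node 1 (.leaf
  1774310) (.leaf
  2041950))) (.node 2 (.node 1 (.leaf
  766659) (.leaf
  645820)) (.node 1 (.leaf
  996760) (.leaf
  1005040)))))))))) (.node 236 (.node 118 (.node 59 (.node 29 (.node 14 (.node 7 (.node 3 (.node 1 (.leaf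
  997248) (.node 1 (.leaf
  1810728) (.leaf
  925243))) (.node 2 (.node 1 (.leaf
  336599) (.leaf
  925154)) (.node 1 (.leaf
  2778595) (.leaf
  2026197)))) (.node 3 (.node 1 (.leaf
  513078) (.node 1 (.leaf
  2071893) (.leaf
  1972583))) (.node 2 (.node 1 (.leaf
  323592) (.leaf
  351)) (.node 1 (.leaf
  1811010) (.leaf
  157883))))) (.node 7 (.node 3 (.node 1 (.leaf
  968056) (.node 1 (.leaf
  17) (.leaf
  37756))) (.node 2 (.node 1 (.leaf
  29964) (.leaf
  2041302)) (.node 1 (.leaf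
  1004341) (.leaf
  645160)))) (.node 4 (.node 2 (.node 1 (.leaf
  351733) (.leaf
  162151)) (.node 1 (.leaf
  36935) (.leaf
  29269))) (.node 2 (.node 1 (.leaf
  2465280) (.leaf
  147)) (.node 1 (.leaf
  14987) (.leaf
  1166362)))))) (.node 15 (.node 7 (.node 3 (.node 1 (.leaf
  1326840) (.node 1 (.leaf
  1811793) (.leaf
  1125463))) (.node 2 (.node 1 (.leaf
  293) (.leaf
  767084)) (.node 1 (.leaf
  2456116) (.leaf
  14605)))) (.node 4 (.node 2 (.node 1 (.leaf
  2787818) (.leaf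
  967982)) (.node 1 (.leaf
  1972540) (.leaf
  878889))) (.node 2 (.node 1 (.leaf
  912497) (.leaf
  2041207)) (.node 1 (.leaf
  41) (.leaf
  1684680))))) (.node 7 (.node 3 (.node 1 (.leaf
  2142888) (.node 1 (.leaf
  2848422) (.leaf
  925496))) (.node 2 (.node 1 (.leaf
  2716669) (.leaf
  223)) (.node 1 (.leaf
  796254) (.leaf
  2717435)))) (.node 4 (.node 2 (.node 1 (.leaf
  1129029) (.leaf
  162297)) (.node 1 (.leaf
  2455973) (.leaf
  924862))) (.node 2 (.node 1 (.leaf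
  681911) (.leaf
  2717343)) (.node 1 (.leaf
  1971940) (.leaf
  646096))))))) (.node 29 (.node 14 (.node 7 (.node 3 (.node 1 (.leaf
  345) (.node 1 (.leaf
  1811584) (.leaf
  1089478))) (.node 2 (.node 1 (.leaf
  2456615) (.leaf
  252)) (.node 1 (.leaf
  2169264) (.leaf
  852675)))) (.node 3 (.node 1 (.leaf
  2142076) (.node 1 (.leaf
  2169166) (.leaf
  2779502))) (.node 2 (.node 1 (.leaf
  537203) (.leaf
  842957)) (.node 1 (.leaf
  968321) (.leaf
  1129631))))) (.node 7 (.node 3 (.node 1 (.leaf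
  1811326) (.node 1 (.leaf
  150042) (.leaf
  36580))) (.node 2 (.node 1 (.leaf
  37235) (.leaf
  484763)) (.node 1 (.leaf
  967887) (.leaf
  2778450)))) (.node 4 (.node 2 (.node 1 (.leaf
  1774216) (.leaf
  2778592)) (.node 1 (.leaf
  1129898) (.leaf
  308))) (.node 2 (.node 1 (.leaf
  1129971) (.leaf
  1129626)) (.node 1 (.leaf
  1774831) (.leaf
  843076)))))) (.node 15 (.node 7 (.node 3 (.node 1 (.leaf
  1613817) (.node 1 (.leaf
  153) (.leaf
  2168505))) (.node 2 (.node 1 (.leaf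
  807364) (.leaf
  852447)) (.node 1 (.leaf
  1488300) (.leaf
  1973003)))) (.node 4 (.node 2 (.node 1 (.leaf
  2787320) (.leaf
  843807)) (.node 1 (.leaf
  1129640) (.leaf
  1810729))) (.node 2 (.node 1 (.leaf
  2041497) (.leaf
  2721878)) (.node 1 (.leaf
  135487) (.leaf
  1166200))))) (.node 7 (.node 3 (.node 1 (.leaf
  891660) (.node 1 (.leaf
  2041536) (.leaf
  1980395))) (.node 2 (.node 1 (.leaf
  1684692) (.leaf
  484664)) (.node 1 (.leaf
  2304488) (.leaf
  1972205)))) (.node 4 (.node 2 (.node 1 (.leaf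
  484408) (.leaf
  2041437)) (.node 1 (.leaf
  1580238) (.leaf
  2041947))) (.node 2 (.node 1 (.leaf
  1811496) (.leaf
  1580112)) (.node 1 (.leaf
  545) (.leaf
  157969)))))))) (.node 59 (.node 29 (.node 14 (.node 7 (.node 3 (.node 1 (.leaf
  2041272) (.node 1 (.leaf
  1972452) (.leaf
  807456))) (.node 2 (.node 1 (.leaf
  843972) (.leaf
  843903)) (.node 1 (.leaf
  806656) (.leaf
  891231)))) (.node 3 (.node 1 (.leaf
  806542) (.node 1 (.leaf
  2041610) (.leaf
  1968704))) (.node 2 (.node 1 (.leaf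
  1774164) (.leaf
  925707)) (.node 1 (.leaf
  1774501) (.leaf
  2234771))))) (.node 7 (.node 3 (.node 1 (.leaf
  2041359) (.node 1 (.leaf
  2040932) (.leaf
  843166))) (.node 2 (.node 1 (.leaf
  1972749) (.leaf
  1774953)) (.node 1 (.leaf
  2070574) (.leaf
  1129789)))) (.node 4 (.node 2 (.node 1 (.leaf
  843352) (.leaf
  1290724)) (.node 1 (.leaf
  1972852) (.leaf
  2071266))) (.node 2 (.node 1 (.leaf
  1396203) (.leaf
  645323)) (.node 1 (.leaf
  513020) (.leaf
  1810916)))))) (.node 15 (.node 7 (.node 3 (.node 1 (.leaf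
  997121) (.node 1 (.leaf
  37175) (.leaf
  512893))) (.node 2 (.node 1 (.leaf
  1327493) (.leaf
  967692)) (.node 1 (.leaf
  161386) (.leaf
  645764)))) (.node 4 (.node 2 (.node 1 (.leaf
  352485) (.leaf
  645214)) (.node 1 (.leaf
  37) (.leaf
  14749))) (.node 2 (.node 1 (.leaf
  968006) (.leaf
  14718)) (.node 1 (.leaf
  14073) (.leaf
  646181))))) (.node 7 (.node 3 (.node 1 (.leaf
  13943) (.node 1 (.leaf
  968592) (.leaf
  645182))) (.node 2 (.node 1 (.leaf
  2419430) (.leaf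
  2304158)) (.node 1 (.leaf
  458190) (.leaf
  1650469)))) (.node 4 (.node 2 (.node 1 (.leaf
  322562) (.leaf
  472601)) (.node 1 (.leaf
  359543) (.leaf
  2042414))) (.node 2 (.node 1 (.leaf
  37309) (.leaf
  1811319)) (.node 1 (.leaf
  1580109) (.leaf
  2455893))))))) (.node 29 (.node 14 (.node 7 (.node 3 (.node 1 (.leaf
  36865) (.node 1 (.leaf
  1972443) (.leaf
  351720))) (.node 2 (.node 1 (.leaf
  2142227) (.leaf
  1810949)) (.node 1 (.leaf
  351767) (.leaf
  645711)))) (.node 3 (.node 1 (.leaf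
  359306) (.node 1 (.leaf
  925551) (.leaf
  359653))) (.node 2 (.node 1 (.leaf
  484806) (.leaf
  16)) (.node 1 (.leaf
  1972704) (.leaf
  323562))))) (.node 7 (.node 3 (.node 1 (.leaf
  659358) (.node 1 (.leaf
  37550) (.leaf
  1004270))) (.node 2 (.node 1 (.leaf
  645804) (.leaf
  2234037)) (.node 1 (.leaf
  36846) (.leaf
  645241)))) (.node 4 (.node 2 (.node 1 (.leaf
  2294961) (.leaf
  484899)) (.node 1 (.leaf
  427) (.leaf
  474))) (.node 2 (.node 1 (.leaf
  2294597) (.leaf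
  36594)) (.node 1 (.leaf
  352445) (.leaf
  682353)))))) (.node 15 (.node 7 (.node 3 (.node 1 (.leaf
  1374786) (.node 1 (.leaf
  1088756) (.leaf
  37534))) (.node 2 (.node 1 (.leaf
  337453) (.leaf
  2168502)) (.node 1 (.leaf
  337078) (.leaf
  452)))) (.node 4 (.node 2 (.node 1 (.leaf
  912402) (.leaf
  359194)) (.node 1 (.leaf
  1650199) (.leaf
  37330))) (.node 2 (.node 1 (.leaf
  1580968) (.leaf
  494)) (.node 1 (.leaf
  1355036) (.leaf
  2787594))))) (.node 7 (.node 3 (.node 1 (.leaf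
  2026146) (.node 1 (.leaf
  2169236) (.leaf
  323274))) (.node 2 (.node 1 (.leaf
  852648) (.leaf
  161934)) (.node 1 (.leaf
  323143) (.leaf
  285)))) (.node 4 (.node 2 (.node 1 (.leaf
  352154) (.leaf
  2556092)) (.node 1 (.leaf
  1004402) (.leaf
  967827))) (.node 2 (.node 1 (.leaf
  1129433) (.leaf
  458318)) (.node 1 (.leaf
  1972639) (.leaf
  645865))))))))) (.node 118 (.node 59 (.node 29 (.node 14 (.node 7 (.node 3 (.node 1 (.leaf
  2041476) (.node 1 (.leaf
  352289) (.leaf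
  198596))) (.node 2 (.node 1 (.leaf
  458485) (.leaf
  1981082)) (.node 1 (.leaf
  1326848) (.leaf
  336641)))) (.node 3 (.node 1 (.leaf
  2042023) (.node 1 (.leaf
  1612909) (.leaf
  1126272))) (.node 2 (.node 1 (.leaf
  36575) (.leaf
  844122)) (.node 1 (.leaf
  924845) (.leaf
  14760))))) (.node 7 (.node 3 (.node 1 (.leaf
  2239158) (.node 1 (.leaf
  322986) (.leaf
  1488394))) (.node 2 (.node 1 (.leaf
  997108) (.leaf
  1089379)) (.node 1 (.leaf
  843803) (.leaf
  2778735)))) (.node 4 (.node 2 (.node 1 (.leaf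
  645755) (.leaf
  336527)) (.node 1 (.leaf
  29248) (.leaf
  1005131))) (.node 2 (.node 1 (.leaf
  1374754) (.leaf
  1972234)) (.node 1 (.leaf
  336790) (.leaf
  2779224)))))) (.node 15 (.node 7 (.node 3 (.node 1 (.leaf
  645177) (.node 1 (.leaf
  323518) (.leaf
  2168863))) (.node 2 (.node 1 (.leaf
  15034) (.leaf
  645863)) (.node 1 (.leaf
  323317) (.leaf
  14884)))) (.node 4 (.node 2 (.node 1 (.leaf
  351943) (.leaf
  2449091)) (.node 1 (.leaf
  1408734) (.leaf
  71877))) (.node 2 (.node 1 (.leaf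
  878385) (.leaf
  682100)) (.node 1 (.leaf
  1125201) (.leaf
  967748))))) (.node 7 (.node 3 (.node 1 (.leaf
  197956) (.node 1 (.leaf
  2041898) (.leaf
  1972899))) (.node 2 (.node 1 (.leaf
  359822) (.leaf
  1118597)) (.node 1 (.leaf
  2779507) (.leaf
  323242)))) (.node 4 (.node 2 (.node 1 (.leaf
  323516) (.leaf
  2779132)) (.node 1 (.leaf
  2779223) (.leaf
  14))) (.node 2 (.node 1 (.leaf
  982631) (.leaf
  2168996)) (.node 1 (.leaf
  646126) (.leaf
  2169119))))))) (.node 29 (.node 14 (.node 7 (.node 3 (.node 1 (.leaf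
  37727) (.node 1 (.leaf
  2071619) (.leaf
  1685810))) (.node 2 (.node 1 (.leaf
  1004500) (.leaf
  1972367)) (.node 1 (.leaf
  411) (.leaf
  458276)))) (.node 3 (.node 1 (.leaf
  2778645) (.node 1 (.leaf
  2239578) (.leaf
  150144))) (.node 2 (.node 1 (.leaf
  304) (.leaf
  645507)) (.node 1 (.leaf
  359133) (.leaf
  891845))))) (.node 7 (.node 3 (.node 1 (.leaf
  1650304) (.node 1 (.leaf
  337636) (.leaf
  360098))) (.node 2 (.node 1 (.leaf
  645791) (.leaf
  14798)) (.node 1 (.leaf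
  2465432) (.leaf
  1810693)))) (.node 4 (.node 2 (.node 1 (.leaf
  2169160) (.leaf
  2716780)) (.node 1 (.leaf
  1649483) (.leaf
  2722324))) (.node 2 (.node 1 (.leaf
  2076641) (.leaf
  149951)) (.node 1 (.leaf
  323332) (.leaf
  806648)))))) (.node 15 (.node 7 (.node 3 (.node 1 (.leaf
  472) (.node 1 (.leaf
  2456510) (.leaf
  2456480))) (.node 2 (.node 1 (.leaf
  2304206) (.leaf
  1972613)) (.node 1 (.leaf
  323256) (.leaf
  645750)))) (.node 4 (.node 2 (.node 1 (.leaf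
  1649846) (.leaf
  1972515)) (.node 1 (.leaf
  1004257) (.leaf
  36768))) (.node 2 (.node 1 (.leaf
  682083) (.leaf
  1396357)) (.node 1 (.leaf
  2287678) (.leaf
  682360))))) (.node 7 (.node 3 (.node 1 (.leaf
  1374842) (.node 1 (.leaf
  681726) (.leaf
  843905))) (.node 2 (.node 1 (.leaf
  1004505) (.leaf
  2042072)) (.node 1 (.leaf
  1972765) (.leaf
  2848418)))) (.node 4 (.node 2 (.node 1 (.leaf
  37540) (.leaf
  386338)) (.node 1 (.leaf
  2465338) (.leaf
  384))) (.node 2 (.node 1 (.leaf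
  94) (.leaf
  2168470)) (.node 1 (.leaf
  433) (.leaf
  322933)))))))) (.node 59 (.node 29 (.node 14 (.node 7 (.node 3 (.node 1 (.leaf
  352628) (.node 1 (.leaf
  484513) (.leaf
  36755))) (.node 2 (.node 1 (.leaf
  2788219) (.leaf
  968590)) (.node 1 (.leaf
  322797) (.leaf
  29206)))) (.node 3 (.node 1 (.leaf
  843450) (.node 1 (.leaf
  351829) (.leaf
  2168944))) (.node 2 (.node 1 (.leaf
  28) (.leaf
  36828)) (.node 1 (.leaf
  1971944) (.leaf
  2787710))))) (.node 7 (.node 3 (.node 1 (.leaf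
  337534) (.node 1 (.leaf
  645996) (.leaf
  458468))) (.node 2 (.node 1 (.leaf
  967826) (.leaf
  1004962)) (.node 1 (.leaf
  795342) (.leaf
  2097193)))) (.node 4 (.node 2 (.node 1 (.leaf
  645948) (.leaf
  364)) (.node 1 (.leaf
  645781) (.leaf
  336675))) (.node 2 (.node 1 (.leaf
  13923) (.leaf
  2778411)) (.node 1 (.leaf
  336688) (.leaf
  1290274)))))) (.node 15 (.node 7 (.node 3 (.node 1 (.leaf
  2456557) (.node 1 (.leaf
  141) (.leaf
  681694))) (.node 2 (.node 1 (.leaf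
  14320) (.leaf
  2779361)) (.node 1 (.leaf
  336446) (.leaf
  795973)))) (.node 4 (.node 2 (.node 1 (.leaf
  1811578) (.leaf
  351845)) (.node 1 (.leaf
  1612994) (.leaf
  968023))) (.node 2 (.node 1 (.leaf
  135481) (.leaf
  36681)) (.node 1 (.leaf
  1973004) (.leaf
  925630))))) (.node 7 (.node 3 (.node 1 (.leaf
  2848511) (.node 1 (.leaf
  2169152) (.leaf
  1327483))) (.node 2 (.node 1 (.leaf
  337187) (.leaf
  1291109)) (.node 1 (.leaf
  359741) (.leaf
  675269)))) (.node 4 (.node 2 (.node 1 (.leaf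
  47) (.leaf
  2169156)) (.node 1 (.leaf
  37038) (.leaf
  2716862))) (.node 2 (.node 1 (.leaf
  497) (.leaf
  404)) (.node 1 (.leaf
  682754) (.leaf
  1980985))))))) (.node 30 (.node 15 (.node 7 (.node 3 (.node 1 (.leaf
  359810) (.node 1 (.leaf
  2465295) (.leaf
  1810963))) (.node 2 (.node 1 (.leaf
  13936) (.leaf
  1125838)) (.node 1 (.leaf
  1972285) (.leaf
  1972642)))) (.node 4 (.node 2 (.node 1 (.leaf
  1774858) (.leaf
  1973063)) (.node 1 (.leaf
  359787) (.leaf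
  681766))) (.node 2 (.node 1 (.leaf
  925601) (.leaf
  2456909)) (.node 1 (.leaf
  1972909) (.leaf
  2847960))))) (.node 7 (.node 3 (.node 1 (.leaf
  645336) (.node 1 (.leaf
  1291090) (.leaf
  2090000))) (.node 2 (.node 1 (.leaf
  37296) (.leaf
  878717)) (.node 1 (.leaf
  46043) (.leaf
  1981134)))) (.node 4 (.node 2 (.node 1 (.leaf
  1731600) (.leaf
  1374857)) (.node 1 (.leaf
  1810760) (.leaf
  472689))) (.node 2 (.node 1 (.leaf
  2456887) (.leaf
  1488925)) (.node 1 (.leaf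
  2464636) (.leaf
  1810766)))))) (.node 15 (.node 7 (.node 3 (.node 1 (.leaf
  2041639) (.node 1 (.leaf
  359714) (.leaf
  2041787))) (.node 2 (.node 1 (.leaf
  674638) (.leaf
  2041904)) (.node 1 (.leaf
  336439) (.leaf
  150223)))) (.node 4 (.node 2 (.node 1 (.leaf
  69024) (.leaf
  2239776)) (.node 1 (.leaf
  2168687) (.leaf
  1811372))) (.node 2 (.node 1 (.leaf
  2169102) (.leaf
  852564)) (.node 1 (.leaf
  2258439) (.leaf
  198059))))) (.node 7 (.node 3 (.node 1 (.leaf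
  2239667) (.node 1 (.leaf
  413) (.leaf
  1118533))) (.node 2 (.node 1 (.leaf
  996943) (.leaf
  645359)) (.node 1 (.leaf
  2169120) (.leaf
  2240022)))) (.node 4 (.node 2 (.node 1 (.leaf
  843886) (.leaf
  645419)) (.node 1 (.leaf
  682464) (.leaf
  14933))) (.node 2 (.node 1 (.leaf
  1732396) (.leaf
  681673)) (.node 1 (.leaf
  322974) (.leaf
  390)))))))))))) (.node 945 (.node 472 (.node 236 (.node 118 (.node 59 (.node 29 (.node 14 (.node 7 (.node 3 (.node 1 (.leaf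
  301) (.node 1 (.leaf
  1684850) (.leaf
  1810852))) (.node 2 (.node 1 (.leaf
  1291225) (.leaf
  351912)) (.node 1 (.leaf
  1774083) (.leaf
  1649487)))) (.node 3 (.node 1 (.leaf
  2239344) (.node 1 (.leaf
  2556449) (.leaf
  2555561))) (.node 2 (.node 1 (.leaf
  2169265) (.leaf
  429)) (.node 1 (.leaf
  439) (.leaf
  1650031))))) (.node 7 (.node 3 (.node 1 (.leaf
  2778953) (.node 1 (.leaf
  878282) (.leaf
  968217))) (.node 2 (.node 1 (.leaf
  472669) (.leaf
  1685320)) (.node 1 (.leaf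
  1649402) (.leaf
  968873)))) (.node 4 (.node 2 (.node 1 (.leaf
  1488389) (.leaf
  1004318)) (.node 1 (.leaf
  322828) (.leaf
  1118433))) (.node 2 (.node 1 (.leaf
  593) (.leaf
  2041613)) (.node 1 (.leaf
  352484) (.leaf
  1658865)))))) (.node 15 (.node 7 (.node 3 (.node 1 (.leaf
  337218) (.node 1 (.leaf
  14522) (.leaf
  2456430))) (.node 2 (.node 1 (.leaf
  2041217) (.leaf
  337110)) (.node 1 (.leaf
  968370) (.leaf
  2041871)))) (.node 4 (.node 2 (.node 1 (.leaf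
  359495) (.leaf
  968518)) (.node 1 (.leaf
  2169150) (.leaf
  498474))) (.node 2 (.node 1 (.leaf
  681692) (.leaf
  913224)) (.node 1 (.leaf
  37457) (.leaf
  1102708))))) (.node 7 (.node 3 (.node 1 (.leaf
  2717398) (.node 1 (.leaf
  682708) (.leaf
  161953))) (.node 2 (.node 1 (.leaf
  1129661) (.leaf
  1755556)) (.node 1 (.leaf
  2465430) (.leaf
  13886)))) (.node 4 (.node 2 (.node 1 (.leaf
  337126) (.leaf
  681686)) (.node 1 (.leaf
  458218) (.leaf
  2042245))) (.node 2 (.node 1 (.leaf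
  967868) (.leaf
  2041654)) (.node 1 (.leaf
  36646) (.leaf
  843355))))))) (.node 29 (.node 14 (.node 7 (.node 3 (.node 1 (.leaf
  682569) (.node 1 (.leaf
  484081) (.leaf
  49))) (.node 2 (.node 1 (.leaf
  157) (.leaf
  2846814)) (.node 1 (.leaf
  76785) (.leaf
  2717297)))) (.node 3 (.node 1 (.leaf
  1004875) (.node 1 (.leaf
  1649852) (.leaf
  645147))) (.node 2 (.node 1 (.leaf
  1685751) (.leaf
  36635)) (.node 1 (.leaf
  359451) (.leaf
  14002))))) (.node 7 (.node 3 (.node 1 (.leaf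
  795976) (.node 1 (.leaf
  968417) (.leaf
  2))) (.node 2 (.node 1 (.leaf
  1613949) (.leaf
  158418)) (.node 1 (.leaf
  1811870) (.leaf
  1612912)))) (.node 4 (.node 2 (.node 1 (.leaf
  1972255) (.leaf
  1612997)) (.node 1 (.leaf
  646264) (.leaf
  359402))) (.node 2 (.node 1 (.leaf
  2169237) (.leaf
  1650534)) (.node 1 (.leaf
  843020) (.leaf
  1650213)))))) (.node 15 (.node 7 (.node 3 (.node 1 (.leaf
  359987) (.node 1 (.leaf
  1972006) (.leaf
  1972823))) (.node 2 (.node 1 (.leaf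
  645276) (.leaf
  1103436)) (.node 1 (.leaf
  645188) (.leaf
  996747)))) (.node 4 (.node 2 (.node 1 (.leaf
  2070653) (.leaf
  1810915)) (.node 1 (.leaf
  2455743) (.leaf
  2847976))) (.node 2 (.node 1 (.leaf
  336677) (.leaf
  2142869)) (.node 1 (.leaf
  1613732) (.leaf
  682530))))) (.node 7 (.node 3 (.node 1 (.leaf
  359406) (.node 1 (.leaf
  1972252) (.leaf
  2848352))) (.node 2 (.node 1 (.leaf
  997668) (.leaf
  1408699)) (.node 1 (.leaf
  1004259) (.leaf
  2142241)))) (.node 4 (.node 2 (.node 1 (.leaf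
  133) (.leaf
  2258892)) (.node 1 (.leaf
  470) (.leaf
  1972727))) (.node 2 (.node 1 (.leaf
  323210) (.leaf
  645317)) (.node 1 (.leaf
  2070374) (.leaf
  37312)))))))) (.node 59 (.node 29 (.node 14 (.node 7 (.node 3 (.node 1 (.leaf
  2556098) (.node 1 (.leaf
  10) (.leaf
  198513))) (.node 2 (.node 1 (.leaf
  2778772) (.leaf
  925340)) (.node 1 (.leaf
  2239479) (.leaf
  968899)))) (.node 3 (.node 1 (.leaf
  30195) (.node 1 (.leaf
  323146) (.leaf
  674688))) (.node 2 (.node 1 (.leaf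
  842996) (.leaf
  967958)) (.node 1 (.leaf
  1488200) (.leaf
  2787664))))) (.node 7 (.node 3 (.node 1 (.leaf
  878704) (.node 1 (.leaf
  336708) (.leaf
  1972044))) (.node 2 (.node 1 (.leaf
  1396925) (.leaf
  843908)) (.node 1 (.leaf
  1972998) (.leaf
  780318)))) (.node 4 (.node 2 (.node 1 (.leaf
  157880) (.leaf
  1408952)) (.node 1 (.leaf
  967892) (.leaf
  645784))) (.node 2 (.node 1 (.leaf
  36644) (.leaf
  1979731)) (.node 1 (.leaf
  359779) (.leaf
  645140)))))) (.node 15 (.node 7 (.node 3 (.node 1 (.leaf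
  1004269) (.node 1 (.leaf
  122042) (.leaf
  37190))) (.node 2 (.node 1 (.leaf
  968553) (.leaf
  351752)) (.node 1 (.leaf
  968385) (.leaf
  337052)))) (.node 4 (.node 2 (.node 1 (.leaf
  2042154) (.leaf
  2169600)) (.node 1 (.leaf
  968353) (.leaf
  2455764))) (.node 2 (.node 1 (.leaf
  645690) (.leaf
  2465528)) (.node 1 (.leaf
  161329) (.leaf
  151039))))) (.node 7 (.node 3 (.node 1 (.leaf
  2239078) (.node 1 (.leaf
  1408681) (.leaf
  2525488))) (.node 2 (.node 1 (.leaf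
  351751) (.leaf
  1118012)) (.node 1 (.leaf
  2097542) (.leaf
  37446)))) (.node 4 (.node 2 (.node 1 (.leaf
  76198) (.leaf
  2787760)) (.node 1 (.leaf
  14004) (.leaf
  2456025))) (.node 2 (.node 1 (.leaf
  1613580) (.leaf
  52)) (.node 1 (.leaf
  1580384) (.leaf
  2717422))))))) (.node 29 (.node 14 (.node 7 (.node 3 (.node 1 (.leaf
  336749) (.node 1 (.leaf
  337547) (.leaf
  37354))) (.node 2 (.node 1 (.leaf
  337093) (.leaf
  1972644)) (.node 1 (.leaf
  352627) (.leaf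
  29246)))) (.node 3 (.node 1 (.leaf
  2778810) (.node 1 (.leaf
  2042199) (.leaf
  2041391))) (.node 2 (.node 1 (.leaf
  936086) (.leaf
  36684)) (.node 1 (.leaf
  2556267) (.leaf
  1774409))))) (.node 7 (.node 3 (.node 1 (.leaf
  445) (.node 1 (.leaf
  352313) (.leaf
  324))) (.node 2 (.node 1 (.leaf
  1742413) (.leaf
  967709)) (.node 1 (.leaf
  458102) (.leaf
  2041894)))) (.node 4 (.node 2 (.node 1 (.leaf
  93) (.leaf
  322924)) (.node 1 (.leaf
  37000) (.leaf
  2041878))) (.node 2 (.node 1 (.leaf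
  1408922) (.leaf
  1971977)) (.node 1 (.leaf
  37445) (.leaf
  1488444)))))) (.node 15 (.node 7 (.node 3 (.node 1 (.leaf
  967680) (.node 1 (.leaf
  337265) (.leaf
  294))) (.node 2 (.node 1 (.leaf
  682339) (.leaf
  1005140)) (.node 1 (.leaf
  645838) (.leaf
  29141)))) (.node 4 (.node 2 (.node 1 (.leaf
  982351) (.leaf
  2779504)) (.node 1 (.leaf
  338) (.leaf
  2169244))) (.node 2 (.node 1 (.leaf
  352075) (.leaf
  472778)) (.node 1 (.leaf
  646047) (.leaf
  2169445))))) (.node 7 (.node 3 (.node 1 (.leaf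
  2239296) (.node 1 (.leaf
  924859) (.leaf
  2041834))) (.node 2 (.node 1 (.leaf
  2042068) (.leaf
  14133)) (.node 1 (.leaf
  78) (.leaf
  14252)))) (.node 4 (.node 2 (.node 1 (.leaf
  2142791) (.leaf
  968606)) (.node 1 (.leaf
  322699) (.leaf
  878947))) (.node 2 (.node 1 (.leaf
  1396190) (.leaf
  2456078)) (.node 1 (.leaf
  842999) (.leaf
  924840))))))))) (.node 118 (.node 59 (.node 29 (.node 14 (.node 7 (.node 3 (.node 1 (.leaf
  968740) (.node 1 (.leaf
  1811420) (.leaf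
  2042196))) (.node 2 (.node 1 (.leaf
  1684691) (.leaf
  1089552)) (.node 1 (.leaf
  2465707) (.leaf
  1118643)))) (.node 3 (.node 1 (.leaf
  2717301) (.node 1 (.leaf
  1005285) (.leaf
  1972543))) (.node 2 (.node 1 (.leaf
  14604) (.leaf
  1613506)) (.node 1 (.leaf
  513706) (.leaf
  537645))))) (.node 7 (.node 3 (.node 1 (.leaf
  2716759) (.node 1 (.leaf
  2070547) (.leaf
  682380))) (.node 2 (.node 1 (.leaf
  1774133) (.leaf
  878535)) (.node 1 (.leaf
  2716856) (.leaf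
  2042089)))) (.node 4 (.node 2 (.node 1 (.leaf
  842998) (.leaf
  968448)) (.node 1 (.leaf
  161353) (.leaf
  674341))) (.node 2 (.node 1 (.leaf
  2257995) (.leaf
  2042197)) (.node 1 (.leaf
  2464990) (.leaf
  780148)))))) (.node 15 (.node 7 (.node 3 (.node 1 (.leaf
  150104) (.node 1 (.leaf
  645260) (.leaf
  2041258))) (.node 2 (.node 1 (.leaf
  2041260) (.leaf
  29898)) (.node 1 (.leaf
  29877) (.leaf
  510)))) (.node 4 (.node 2 (.node 1 (.leaf
  337276) (.leaf
  37500)) (.node 1 (.leaf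
  843439) (.leaf
  925490))) (.node 2 (.node 1 (.leaf
  1327631) (.leaf
  1612849)) (.node 1 (.leaf
  323418) (.leaf
  2778973))))) (.node 7 (.node 3 (.node 1 (.leaf
  88) (.node 1 (.leaf
  303) (.leaf
  323360))) (.node 2 (.node 1 (.leaf
  2169115) (.leaf
  158518)) (.node 1 (.leaf
  1649575) (.leaf
  2168593)))) (.node 4 (.node 2 (.node 1 (.leaf
  322979) (.leaf
  645731)) (.node 1 (.leaf
  336977) (.leaf
  322618))) (.node 2 (.node 1 (.leaf
  14813) (.leaf
  645589)) (.node 1 (.leaf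
  681940) (.leaf
  968496))))))) (.node 29 (.node 14 (.node 7 (.node 3 (.node 1 (.leaf
  14500) (.node 1 (.leaf
  322751) (.leaf
  14797))) (.node 2 (.node 1 (.leaf
  967699) (.leaf
  645124)) (.node 1 (.leaf
  1117904) (.leaf
  1326839)))) (.node 3 (.node 1 (.leaf
  2303985) (.node 1 (.leaf
  2779268) (.leaf
  14312))) (.node 2 (.node 1 (.leaf
  852406) (.leaf
  2295159)) (.node 1 (.leaf
  37702) (.leaf
  291))))) (.node 7 (.node 3 (.node 1 (.leaf
  682827) (.node 1 (.leaf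
  1004950) (.leaf
  1117923))) (.node 2 (.node 1 (.leaf
  359511) (.leaf
  1810914)) (.node 1 (.leaf
  337154) (.leaf
  2778545)))) (.node 4 (.node 2 (.node 1 (.leaf
  1658313) (.leaf
  659426)) (.node 1 (.leaf
  1613674) (.leaf
  807058))) (.node 2 (.node 1 (.leaf
  1811438) (.leaf
  36562)) (.node 1 (.leaf
  2717306) (.leaf
  645509)))))) (.node 15 (.node 7 (.node 3 (.node 1 (.leaf
  1811547) (.node 1 (.leaf
  967895) (.leaf
  645230))) (.node 2 (.node 1 (.leaf
  2779129) (.leaf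
  498391)) (.node 1 (.leaf
  1774773) (.leaf
  54)))) (.node 4 (.node 2 (.node 1 (.leaf
  1102788) (.leaf
  1811398)) (.node 1 (.leaf
  1128970) (.leaf
  2168573))) (.node 2 (.node 1 (.leaf
  1811670) (.leaf
  2295319)) (.node 1 (.leaf
  1811461) (.leaf
  1129426))))) (.node 7 (.node 3 (.node 1 (.leaf
  484980) (.node 1 (.leaf
  1810648) (.leaf
  150962))) (.node 2 (.node 1 (.leaf
  2142137) (.leaf
  852484)) (.node 1 (.leaf
  1481424) (.leaf
  2169153)))) (.node 4 (.node 2 (.node 1 (.leaf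
  1117902) (.leaf
  1125821)) (.node 1 (.leaf
  981822) (.leaf
  968348))) (.node 2 (.node 1 (.leaf
  842997) (.leaf
  1613315)) (.node 1 (.leaf
  843360) (.leaf
  2096788)))))))) (.node 59 (.node 29 (.node 14 (.node 7 (.node 3 (.node 1 (.leaf
  323403) (.node 1 (.leaf
  1685385) (.leaf
  1327183))) (.node 2 (.node 1 (.leaf
  30013) (.leaf
  322884)) (.node 1 (.leaf
  2234219) (.leaf
  337177)))) (.node 3 (.node 1 (.leaf
  352035) (.node 1 (.leaf
  322686) (.leaf
  2716769))) (.node 2 (.node 1 (.leaf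
  997240) (.leaf
  2041245)) (.node 1 (.leaf
  2847813) (.leaf
  2041305))))) (.node 7 (.node 3 (.node 1 (.leaf
  77) (.node 1 (.leaf
  2716855) (.leaf
  674221))) (.node 2 (.node 1 (.leaf
  337289) (.leaf
  806447)) (.node 1 (.leaf
  2848138) (.leaf
  645942)))) (.node 4 (.node 2 (.node 1 (.leaf
  982004) (.leaf
  2456376)) (.node 1 (.leaf
  925094) (.leaf
  2042139))) (.node 2 (.node 1 (.leaf
  682308) (.leaf
  150333)) (.node 1 (.leaf
  14447) (.leaf
  2246872)))))) (.node 15 (.node 7 (.node 3 (.node 1 (.leaf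
  2027193) (.node 1 (.leaf
  1972103) (.leaf
  91))) (.node 2 (.node 1 (.leaf
  2455819) (.leaf
  1980984)) (.node 1 (.leaf
  1355626) (.leaf
  322921)))) (.node 4 (.node 2 (.node 1 (.leaf
  852075) (.leaf
  498559)) (.node 1 (.leaf
  458) (.leaf
  2168554))) (.node 2 (.node 1 (.leaf
  2042167) (.leaf
  1613144)) (.node 1 (.leaf
  1972544) (.leaf
  359396))))) (.node 7 (.node 3 (.node 1 (.leaf
  157893) (.node 1 (.leaf
  1004998) (.leaf
  1326802))) (.node 2 (.node 1 (.leaf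
  2070353) (.leaf
  645255)) (.node 1 (.leaf
  359843) (.leaf
  1658863)))) (.node 4 (.node 2 (.node 1 (.leaf
  135009) (.leaf
  2330432)) (.node 1 (.leaf
  323213) (.leaf
  675311))) (.node 2 (.node 1 (.leaf
  912564) (.leaf
  967871)) (.node 1 (.leaf
  1004851) (.leaf
  2779401))))))) (.node 29 (.node 14 (.node 7 (.node 3 (.node 1 (.leaf
  1973000) (.node 1 (.leaf
  337003) (.leaf
  2721661))) (.node 2 (.node 1 (.leaf
  1005224) (.leaf
  891754)) (.node 1 (.leaf
  1290927) (.leaf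
  645583)))) (.node 3 (.node 1 (.leaf
  844050) (.node 1 (.leaf
  2877173) (.leaf
  2041515))) (.node 2 (.node 1 (.leaf
  1089732) (.leaf
  37191)) (.node 1 (.leaf
  996945) (.leaf
  2455853))))) (.node 7 (.node 3 (.node 1 (.leaf
  1004415) (.node 1 (.leaf
  36849) (.leaf
  645852))) (.node 2 (.node 1 (.leaf
  30224) (.leaf
  645868)) (.node 1 (.leaf
  135) (.leaf
  682411)))) (.node 4 (.node 2 (.node 1 (.leaf
  104) (.leaf
  29712)) (.node 1 (.leaf
  1166251) (.leaf
  14019))) (.node 2 (.node 1 (.leaf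
  2456651) (.leaf
  1409371)) (.node 1 (.leaf
  2778971) (.leaf
  336612)))))) (.node 15 (.node 7 (.node 3 (.node 1 (.leaf
  2041697) (.node 1 (.leaf
  1290361) (.leaf
  681758))) (.node 2 (.node 1 (.leaf
  29731) (.leaf
  1811844)) (.node 1 (.leaf
  134922) (.leaf
  1165635)))) (.node 4 (.node 2 (.node 1 (.leaf
  498465) (.leaf
  878352)) (.node 1 (.leaf
  645468) (.leaf
  1336404))) (.node 2 (.node 1 (.leaf
  913427) (.leaf
  1981577)) (.node 1 (.leaf
  878236) (.leaf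
  852419))))) (.node 7 (.node 3 (.node 1 (.leaf
  2040524) (.node 1 (.leaf
  1650041) (.leaf
  1774109))) (.node 2 (.node 1 (.leaf
  1971949) (.leaf
  1488127)) (.node 1 (.leaf
  659967) (.leaf
  2071436)))) (.node 4 (.node 2 (.node 1 (.leaf
  36897) (.leaf
  1451549)) (.node 1 (.leaf
  795444) (.leaf
  472789))) (.node 2 (.node 1 (.leaf
  2041380) (.leaf
  1580872)) (.node 1 (.leaf
  323462) (.leaf
  1810636)))))))))) (.node 236 (.node 118 (.node 59 (.node 29 (.node 14 (.node 7 (.node 3 (.node 1 (.leaf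
  2041392) (.node 1 (.leaf
  1650576) (.leaf
  2787321))) (.node 2 (.node 1 (.leaf
  37293) (.leaf
  843713)) (.node 1 (.leaf
  1004681) (.leaf
  458595)))) (.node 3 (.node 1 (.leaf
  336433) (.node 1 (.leaf
  1811592) (.leaf
  1004282))) (.node 2 (.node 1 (.leaf
  1972806) (.leaf
  1102783)) (.node 1 (.leaf
  14775) (.leaf
  1409355))))) (.node 7 (.node 3 (.node 1 (.leaf
  2878216) (.node 1 (.leaf
  2287014) (.leaf
  37592))) (.node 2 (.node 1 (.leaf
  1409096) (.leaf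
  36715)) (.node 1 (.leaf
  36772) (.leaf
  968611)))) (.node 4 (.node 2 (.node 1 (.leaf
  14844) (.leaf
  1774159)) (.node 1 (.leaf
  2041545) (.leaf
  766618))) (.node 2 (.node 1 (.leaf
  925078) (.leaf
  13941)) (.node 1 (.leaf
  513) (.leaf
  803348)))))) (.node 15 (.node 7 (.node 3 (.node 1 (.leaf
  1326837) (.node 1 (.leaf
  2168477) (.leaf
  2041966))) (.node 2 (.node 1 (.leaf
  29112) (.leaf
  14722)) (.node 1 (.leaf
  1004853) (.leaf
  2097593)))) (.node 4 (.node 2 (.node 1 (.leaf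
  2239973) (.leaf
  2042096)) (.node 1 (.leaf
  322753) (.leaf
  458462))) (.node 2 (.node 1 (.leaf
  351817) (.leaf
  337502)) (.node 1 (.leaf
  1684684) (.leaf
  14646))))) (.node 7 (.node 3 (.node 1 (.leaf
  1128992) (.node 1 (.leaf
  14562) (.leaf
  211))) (.node 2 (.node 1 (.leaf
  2295508) (.leaf
  2555960)) (.node 1 (.leaf
  351797) (.leaf
  843786)))) (.node 4 (.node 2 (.node 1 (.leaf
  2234200) (.leaf
  14038)) (.node 1 (.leaf
  14396) (.leaf
  359193))) (.node 2 (.node 1 (.leaf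
  2169658) (.leaf
  2071765)) (.node 1 (.leaf
  1128985) (.leaf
  1980482))))))) (.node 29 (.node 14 (.node 7 (.node 3 (.node 1 (.leaf
  2455772) (.node 1 (.leaf
  2848841) (.leaf
  2041612))) (.node 2 (.node 1 (.leaf
  645387) (.leaf
  967828)) (.node 1 (.leaf
  2456395) (.leaf
  843718)))) (.node 3 (.node 1 (.leaf
  359983) (.node 1 (.leaf
  2042210) (.leaf
  2042246))) (.node 2 (.node 1 (.leaf
  323457) (.leaf
  37629)) (.node 1 (.leaf
  1981077) (.leaf
  2455890))))) (.node 7 (.node 3 (.node 1 (.leaf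
  130) (.node 1 (.leaf
  766989) (.leaf
  1004243))) (.node 2 (.node 1 (.leaf
  1129251) (.leaf
  2787856)) (.node 1 (.leaf
  337203) (.leaf
  645874)))) (.node 4 (.node 2 (.node 1 (.leaf
  351944) (.leaf
  996763)) (.node 1 (.leaf
  935291) (.leaf
  996944))) (.node 2 (.node 1 (.leaf
  1089645) (.leaf
  322975)) (.node 1 (.leaf
  322663) (.leaf
  1125849)))))) (.node 15 (.node 7 (.node 3 (.node 1 (.leaf
  1811008) (.node 1 (.leaf
  2071572) (.leaf
  659797))) (.node 2 (.node 1 (.leaf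
  1811355) (.leaf
  36588)) (.node 1 (.leaf
  359826) (.leaf
  2778687)))) (.node 4 (.node 2 (.node 1 (.leaf
  1004498) (.leaf
  1374781)) (.node 1 (.leaf
  1129072) (.leaf
  675342))) (.node 2 (.node 1 (.leaf
  13963) (.leaf
  645304)) (.node 1 (.leaf
  682581) (.leaf
  646035))))) (.node 7 (.node 3 (.node 1 (.leaf
  1446253) (.node 1 (.leaf
  2042085) (.leaf
  337374))) (.node 2 (.node 1 (.leaf
  2041658) (.leaf
  2042366)) (.node 1 (.leaf
  1118641) (.leaf
  968727)))) (.node 4 (.node 2 (.node 1 (.leaf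
  2848819) (.leaf
  322727)) (.node 1 (.leaf
  1612907) (.leaf
  1129636))) (.node 2 (.node 1 (.leaf
  149986) (.leaf
  14567)) (.node 1 (.leaf
  14276) (.leaf
  1972062)))))))) (.node 59 (.node 29 (.node 14 (.node 7 (.node 3 (.node 1 (.leaf
  272) (.node 1 (.leaf
  924997) (.leaf
  2042033))) (.node 2 (.node 1 (.leaf
  484808) (.leaf
  1291142)) (.node 1 (.leaf
  197841) (.leaf
  162017)))) (.node 3 (.node 1 (.leaf
  1362163) (.node 1 (.leaf
  796154) (.leaf
  645854))) (.node 2 (.node 1 (.leaf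
  2847703) (.leaf
  2239672)) (.node 1 (.leaf
  1409083) (.leaf
  682349))))) (.node 7 (.node 3 (.node 1 (.leaf
  360214) (.node 1 (.leaf
  682791) (.leaf
  1165600))) (.node 2 (.node 1 (.leaf
  120) (.leaf
  29705)) (.node 1 (.leaf
  981824) (.leaf
  1685226)))) (.node 4 (.node 2 (.node 1 (.leaf
  137) (.leaf
  1375843)) (.node 1 (.leaf
  1126000) (.leaf
  674917))) (.node 2 (.node 1 (.leaf
  1972601) (.leaf
  1125462)) (.node 1 (.leaf
  443980) (.leaf
  161935)))))) (.node 15 (.node 7 (.node 3 (.node 1 (.leaf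
  359310) (.node 1 (.leaf
  227) (.leaf
  29974))) (.node 2 (.node 1 (.leaf
  1972192) (.leaf
  1972554)) (.node 1 (.leaf
  127) (.leaf
  359560)))) (.node 4 (.node 2 (.node 1 (.leaf
  337264) (.leaf
  37723)) (.node 1 (.leaf
  2722444) (.leaf
  2041626))) (.node 2 (.node 1 (.leaf
  150125) (.leaf
  645813)) (.node 1 (.leaf
  2295151) (.leaf
  645305))))) (.node 7 (.node 3 (.node 1 (.leaf
  63) (.node 1 (.leaf
  796063) (.leaf
  373))) (.node 2 (.node 1 (.leaf
  336590) (.leaf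
  682351)) (.node 1 (.leaf
  14045) (.leaf
  682429)))) (.node 4 (.node 2 (.node 1 (.leaf
  13898) (.leaf
  681697)) (.node 1 (.leaf
  337106) (.leaf
  13874))) (.node 2 (.node 1 (.leaf
  36602) (.leaf
  197968)) (.node 1 (.leaf
  925882) (.leaf
  796297))))))) (.node 29 (.node 14 (.node 7 (.node 3 (.node 1 (.leaf
  1408743) (.node 1 (.leaf
  13897) (.leaf
  337202))) (.node 2 (.node 1 (.leaf
  1481599) (.leaf
  1375144)) (.node 1 (.leaf
  1972072) (.leaf
  1409505)))) (.node 3 (.node 1 (.leaf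
  1408851) (.node 1 (.leaf
  2779226) (.leaf
  1972209))) (.node 2 (.node 1 (.leaf
  878346) (.leaf
  516)) (.node 1 (.leaf
  2465233) (.leaf
  681701))))) (.node 7 (.node 3 (.node 1 (.leaf
  2779501) (.node 1 (.leaf
  1375645) (.leaf
  996849))) (.node 2 (.node 1 (.leaf
  1409625) (.leaf
  982274)) (.node 1 (.leaf
  2168945) (.leaf
  645834)))) (.node 4 (.node 2 (.node 1 (.leaf
  352349) (.leaf
  14679)) (.node 1 (.leaf
  43) (.leaf
  322739))) (.node 2 (.node 1 (.leaf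
  1489027) (.leaf
  1409896)) (.node 1 (.leaf
  1375246) (.leaf
  2716638)))))) (.node 15 (.node 7 (.node 3 (.node 1 (.leaf
  2041539) (.node 1 (.leaf
  997472) (.leaf
  1409443))) (.node 2 (.node 1 (.leaf
  1972586) (.leaf
  568)) (.node 1 (.leaf
  1972594) (.leaf
  681830)))) (.node 4 (.node 2 (.node 1 (.leaf
  2717294) (.leaf
  483988)) (.node 1 (.leaf
  1362860) (.leaf
  75856))) (.node 2 (.node 1 (.leaf
  681953) (.leaf
  337210)) (.node 1 (.leaf
  1088741) (.leaf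
  1613454))))) (.node 7 (.node 3 (.node 1 (.leaf
  360315) (.node 1 (.leaf
  843639) (.leaf
  323315))) (.node 2 (.node 1 (.leaf
  108) (.leaf
  352753)) (.node 1 (.leaf
  2294786) (.leaf
  13911)))) (.node 4 (.node 2 (.node 1 (.leaf
  121780) (.leaf
  352330)) (.node 1 (.leaf
  646086) (.leaf
  377))) (.node 2 (.node 1 (.leaf
  2041857) (.leaf
  1375548)) (.node 1 (.leaf
  365) (.leaf
  13884))))))))) (.node 118 (.node 59 (.node 29 (.node 14 (.node 7 (.node 3 (.node 1 (.leaf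
  645768) (.node 1 (.leaf
  925886) (.leaf
  443977))) (.node 2 (.node 1 (.leaf
  645155) (.leaf
  1649992)) (.node 1 (.leaf
  2089616) (.leaf
  891295)))) (.node 3 (.node 1 (.leaf
  1981133) (.node 1 (.leaf
  1580119) (.leaf
  807087))) (.node 2 (.node 1 (.leaf
  36707) (.leaf
  1973064)) (.node 1 (.leaf
  925613) (.leaf
  675192))))) (.node 7 (.node 3 (.node 1 (.leaf
  2464667) (.node 1 (.leaf
  1981542) (.leaf
  924842))) (.node 2 (.node 1 (.leaf
  1810677) (.leaf
  359745)) (.node 1 (.leaf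
  2026924) (.leaf
  337533)))) (.node 4 (.node 2 (.node 1 (.leaf
  1649957) (.leaf
  2041449)) (.node 1 (.leaf
  2168572) (.leaf
  878591))) (.node 2 (.node 1 (.leaf
  472596) (.leaf
  1972724)) (.node 1 (.leaf
  646330) (.leaf
  1452174)))))) (.node 15 (.node 7 (.node 3 (.node 1 (.leaf
  428) (.node 1 (.leaf
  982449) (.leaf
  682444))) (.node 2 (.node 1 (.leaf
  2041202) (.leaf
  1973156)) (.node 1 (.leaf
  186) (.leaf
  1685269)))) (.node 4 (.node 2 (.node 1 (.leaf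
  1971974) (.leaf
  843788)) (.node 1 (.leaf
  359795) (.leaf
  2239745))) (.node 2 (.node 1 (.leaf
  1972303) (.leaf
  233212)) (.node 1 (.leaf
  795400) (.leaf
  1327417))))) (.node 7 (.node 3 (.node 1 (.leaf
  2847510) (.node 1 (.leaf
  352302) (.leaf
  1375822))) (.node 2 (.node 1 (.leaf
  2717384) (.leaf
  67)) (.node 1 (.leaf
  2465261) (.leaf
  37273)))) (.node 4 (.node 2 (.node 1 (.leaf
  646251) (.leaf
  1972926)) (.node 1 (.leaf
  646125) (.leaf
  457657))) (.node 2 (.node 1 (.leaf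
  1774857) (.leaf
  352000)) (.node 1 (.leaf
  1335690) (.leaf
  1684855))))))) (.node 29 (.node 14 (.node 7 (.node 3 (.node 1 (.leaf
  174) (.node 1 (.leaf
  2090163) (.leaf
  807374))) (.node 2 (.node 1 (.leaf
  2239663) (.leaf
  45592)) (.node 1 (.leaf
  1973001) (.leaf
  682756)))) (.node 3 (.node 1 (.leaf
  2455849) (.node 1 (.leaf
  359636) (.leaf
  1972580))) (.node 2 (.node 1 (.leaf
  1811280) (.leaf
  359658)) (.node 1 (.leaf
  1446403) (.leaf
  37386))))) (.node 7 (.node 3 (.node 1 (.leaf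
  1362417) (.node 1 (.leaf
  2070714) (.leaf
  1451763))) (.node 2 (.node 1 (.leaf
  806735) (.leaf
  2142414)) (.node 1 (.leaf
  682638) (.leaf
  2042053)))) (.node 4 (.node 2 (.node 1 (.leaf
  1374763) (.leaf
  2787265)) (.node 1 (.leaf
  14878) (.leaf
  1129835))) (.node 2 (.node 1 (.leaf
  2716763) (.leaf
  645365)) (.node 1 (.leaf
  2041937) (.leaf
  2258795)))))) (.node 15 (.node 7 (.node 3 (.node 1 (.leaf
  1972675) (.node 1 (.leaf
  513695) (.leaf
  1481275))) (.node 2 (.node 1 (.leaf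
  2717267) (.leaf
  2026922)) (.node 1 (.leaf
  14736) (.leaf
  385)))) (.node 4 (.node 2 (.node 1 (.leaf
  1612843) (.leaf
  2456941)) (.node 1 (.leaf
  579306) (.leaf
  646135))) (.node 2 (.node 1 (.leaf
  1650115) (.leaf
  2026100)) (.node 1 (.leaf
  1684640) (.leaf
  1972173))))) (.node 7 (.node 3 (.node 1 (.leaf
  1451671) (.node 1 (.leaf
  796127) (.leaf
  1409600))) (.node 2 (.node 1 (.leaf
  646000) (.leaf
  1409392)) (.node 1 (.leaf
  2779508) (.leaf
  323232)))) (.node 4 (.node 2 (.node 1 (.leaf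
  13931) (.leaf
  1972253)) (.node 1 (.leaf
  968728) (.leaf
  1685759))) (.node 2 (.node 1 (.leaf
  1972530) (.leaf
  322659)) (.node 1 (.leaf
  1103408) (.leaf
  352293)))))))) (.node 59 (.node 29 (.node 14 (.node 7 (.node 3 (.node 1 (.leaf
  852396) (.node 1 (.leaf
  36872) (.leaf
  806953))) (.node 2 (.node 1 (.leaf
  968268) (.leaf
  2716712)) (.node 1 (.leaf
  1088757) (.leaf
  2169304)))) (.node 3 (.node 1 (.leaf
  852313) (.node 1 (.leaf
  1409377) (.leaf
  645217))) (.node 2 (.node 1 (.leaf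
  2071107) (.leaf
  1972555)) (.node 1 (.leaf
  322607) (.leaf
  322683))))) (.node 7 (.node 3 (.node 1 (.leaf
  2778342) (.node 1 (.leaf
  1810958) (.leaf
  981627))) (.node 2 (.node 1 (.leaf
  511) (.leaf
  681771)) (.node 1 (.leaf
  457685) (.leaf
  1972577)))) (.node 4 (.node 2 (.node 1 (.leaf
  1972875) (.leaf
  1125847)) (.node 1 (.leaf
  2455811) (.leaf
  14935))) (.node 2 (.node 1 (.leaf
  29099) (.leaf
  2168832)) (.node 1 (.leaf
  1972038) (.leaf
  681842)))))) (.node 15 (.node 7 (.node 3 (.node 1 (.leaf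
  1650481) (.node 1 (.leaf
  645246) (.leaf
  2303799))) (.node 2 (.node 1 (.leaf
  150671) (.leaf
  14609)) (.node 1 (.leaf
  2169164) (.leaf
  645139)))) (.node 4 (.node 2 (.node 1 (.leaf
  682166) (.leaf
  2778452)) (.node 1 (.leaf
  29103) (.leaf
  1811131))) (.node 2 (.node 1 (.leaf
  996830) (.leaf
  2295228)) (.node 1 (.leaf
  2448839) (.leaf
  806480))))) (.node 7 (.node 3 (.node 1 (.leaf
  1117926) (.node 1 (.leaf
  484) (.leaf
  2072231))) (.node 2 (.node 1 (.leaf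
  1408882) (.leaf
  1375492)) (.node 1 (.leaf
  645936) (.leaf
  878434)))) (.node 4 (.node 2 (.node 1 (.leaf
  2787415) (.leaf
  37654)) (.node 1 (.leaf
  843808) (.leaf
  457748))) (.node 2 (.node 1 (.leaf
  1810691) (.leaf
  337327)) (.node 1 (.leaf
  37460) (.leaf
  2787822))))))) (.node 30 (.node 15 (.node 7 (.node 3 (.node 1 (.leaf
  807112) (.node 1 (.leaf
  2455848) (.leaf
  968376))) (.node 2 (.node 1 (.leaf
  1409336) (.leaf
  1290936)) (.node 1 (.leaf
  1125869) (.leaf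
  1327963)))) (.node 4 (.node 2 (.node 1 (.leaf
  1004319) (.leaf
  2778774)) (.node 1 (.leaf
  337476) (.leaf
  807385))) (.node 2 (.node 1 (.leaf
  1774220) (.leaf
  2097424)) (.node 1 (.leaf
  1409770) (.leaf
  1290334))))) (.node 7 (.node 3 (.node 1 (.leaf
  458103) (.node 1 (.leaf
  150739) (.leaf
  1685357))) (.node 2 (.node 1 (.leaf
  2778454) (.leaf
  1290798)) (.node 1 (.leaf
  2788218) (.leaf
  322755)))) (.node 4 (.node 2 (.node 1 (.leaf
  36901) (.leaf
  967829)) (.node 1 (.leaf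
  14623) (.leaf
  337184))) (.node 2 (.node 1 (.leaf
  2779179) (.leaf
  2041656)) (.node 1 (.leaf
  444602) (.leaf
  1004909)))))) (.node 15 (.node 7 (.node 3 (.node 1 (.leaf
  13926) (.node 1 (.leaf
  37573) (.leaf
  2041378))) (.node 2 (.node 1 (.leaf
  2258660) (.leaf
  458466)) (.node 1 (.leaf
  1811453) (.leaf
  1810817)))) (.node 4 (.node 2 (.node 1 (.leaf
  1811279) (.leaf
  2258701)) (.node 1 (.leaf
  1117719) (.leaf
  843101))) (.node 2 (.node 1 (.leaf
  1488756) (.leaf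
  1580818)) (.node 1 (.leaf
  2294530) (.leaf
  1684768))))) (.node 7 (.node 3 (.node 1 (.leaf
  2041250) (.node 1 (.leaf
  352626) (.leaf
  968072))) (.node 2 (.node 1 (.leaf
  2717493) (.leaf
  1118014)) (.node 1 (.leaf
  2041978) (.leaf
  2041991)))) (.node 4 (.node 2 (.node 1 (.leaf
  150858) (.leaf
  925607)) (.node 1 (.leaf
  2169161) (.leaf
  2041984))) (.node 2 (.node 1 (.leaf
  891664) (.leaf
  233836)) (.node 1 (.leaf
  36699) (.leaf
  967786))))))))))) (.node 472 (.node 236 (.node 118 (.node 59 (.node 29 (.node 14 (.node 7 (.node 3 (.node 1 (.leaf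
  1004401) (.node 1 (.leaf
  807165) (.leaf
  1811559))) (.node 2 (.node 1 (.leaf
  1129256) (.leaf
  319)) (.node 1 (.leaf
  645314) (.leaf
  2778875)))) (.node 3 (.node 1 (.leaf
  337195) (.node 1 (.leaf
  483953) (.leaf
  1810669))) (.node 2 (.node 1 (.leaf
  1396194) (.leaf
  645895)) (.node 1 (.leaf
  1089281) (.leaf
  1488301))))) (.node 7 (.node 3 (.node 1 (.leaf
  58) (.node 1 (.leaf
  2717247) (.leaf
  646178))) (.node 2 (.node 1 (.leaf
  2848494) (.leaf
  2295331)) (.node 1 (.leaf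
  968591) (.leaf
  1125994)))) (.node 4 (.node 2 (.node 1 (.leaf
  968073) (.leaf
  2778373)) (.node 1 (.leaf
  1613108) (.leaf
  1613045))) (.node 2 (.node 1 (.leaf
  197963) (.leaf
  2456081)) (.node 1 (.leaf
  212) (.leaf
  1972911)))))) (.node 15 (.node 7 (.node 3 (.node 1 (.leaf
  1166271) (.node 1 (.leaf
  806752) (.leaf
  2287141))) (.node 2 (.node 1 (.leaf
  1811629) (.leaf
  968508)) (.node 1 (.leaf
  1409369) (.leaf
  1980047)))) (.node 4 (.node 2 (.node 1 (.leaf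
  337085) (.leaf
  14526)) (.node 1 (.leaf
  336465) (.leaf
  2465481))) (.node 2 (.node 1 (.leaf
  1774366) (.leaf
  1103320)) (.node 1 (.leaf
  1409394) (.leaf
  90))))) (.node 7 (.node 3 (.node 1 (.leaf
  852346) (.node 1 (.leaf
  806521) (.leaf
  322598))) (.node 2 (.node 1 (.leaf
  337059) (.leaf
  323358)) (.node 1 (.leaf
  967980) (.leaf
  96)))) (.node 4 (.node 2 (.node 1 (.leaf
  1005039) (.leaf
  2239741)) (.node 1 (.leaf
  682493) (.leaf
  1613375))) (.node 2 (.node 1 (.leaf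
  2455785) (.leaf
  2169263)) (.node 1 (.leaf
  2041973) (.leaf
  14862))))))) (.node 29 (.node 14 (.node 7 (.node 3 (.node 1 (.leaf
  2778910) (.node 1 (.leaf
  1972620) (.leaf
  646289))) (.node 2 (.node 1 (.leaf
  578767) (.leaf
  968009)) (.node 1 (.leaf
  220) (.leaf
  512968)))) (.node 3 (.node 1 (.leaf
  13952) (.node 1 (.leaf
  2787503) (.leaf
  135635))) (.node 2 (.node 1 (.leaf
  2071853) (.leaf
  1326783)) (.node 1 (.leaf
  322621) (.leaf
  173))))) (.node 7 (.node 3 (.node 1 (.leaf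
  2142146) (.node 1 (.leaf
  480956) (.leaf
  2304252))) (.node 2 (.node 1 (.leaf
  1489063) (.leaf
  1684623)) (.node 1 (.leaf
  458129) (.leaf
  323372)))) (.node 4 (.node 2 (.node 1 (.leaf
  1684862) (.leaf
  1004339)) (.node 1 (.leaf
  645413) (.leaf
  457837))) (.node 2 (.node 1 (.leaf
  646197) (.leaf
  37183)) (.node 1 (.leaf
  645623) (.leaf
  1375749)))))) (.node 15 (.node 7 (.node 3 (.node 1 (.leaf
  191) (.node 1 (.leaf
  967830) (.leaf
  472873))) (.node 2 (.node 1 (.leaf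
  1445440) (.leaf
  806845)) (.node 1 (.leaf
  2070647) (.leaf
  2465702)))) (.node 4 (.node 2 (.node 1 (.leaf
  1408919) (.leaf
  1972558)) (.node 1 (.leaf
  14494) (.leaf
  843995))) (.node 2 (.node 1 (.leaf
  1004562) (.leaf
  1408802)) (.node 1 (.leaf
  645727) (.leaf
  322749))))) (.node 7 (.node 3 (.node 1 (.leaf
  2779133) (.node 1 (.leaf
  852887) (.leaf
  1409414))) (.node 2 (.node 1 (.leaf
  645915) (.leaf
  135554)) (.node 1 (.leaf
  645635) (.leaf
  1972131)))) (.node 4 (.node 2 (.node 1 (.leaf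
  359845) (.leaf
  323229)) (.node 1 (.leaf
  323479) (.leaf
  156))) (.node 2 (.node 1 (.leaf
  1810957) (.leaf
  851781)) (.node 1 (.leaf
  2846810) (.leaf
  1972799)))))))) (.node 59 (.node 29 (.node 14 (.node 7 (.node 3 (.node 1 (.leaf
  682482) (.node 1 (.leaf
  2456515) (.leaf
  29219))) (.node 2 (.node 1 (.leaf
  843437) (.leaf
  337548)) (.node 1 (.leaf
  1118559) (.leaf
  2716703)))) (.node 3 (.node 1 (.leaf
  1972762) (.node 1 (.leaf
  2779176) (.leaf
  878452))) (.node 2 (.node 1 (.leaf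
  681769) (.leaf
  2419335)) (.node 1 (.leaf
  843019) (.leaf
  158588))))) (.node 7 (.node 3 (.node 1 (.leaf
  967989) (.node 1 (.leaf
  806884) (.leaf
  323304))) (.node 2 (.node 1 (.leaf
  968539) (.leaf
  795573)) (.node 1 (.leaf
  359769) (.leaf
  14081)))) (.node 4 (.node 2 (.node 1 (.leaf
  2787586) (.leaf
  646127)) (.node 1 (.leaf
  322786) (.leaf
  337183))) (.node 2 (.node 1 (.leaf
  14058) (.leaf
  314)) (.node 1 (.leaf
  852424) (.leaf
  645899)))))) (.node 15 (.node 7 (.node 3 (.node 1 (.leaf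
  967750) (.node 1 (.leaf
  14063) (.leaf
  37267))) (.node 2 (.node 1 (.leaf
  967865) (.leaf
  981986)) (.node 1 (.leaf
  2239733) (.leaf
  2848334)))) (.node 4 (.node 2 (.node 1 (.leaf
  458018) (.leaf
  1326809)) (.node 1 (.leaf
  1774243) (.leaf
  2848589))) (.node 2 (.node 1 (.leaf
  1409353) (.leaf
  1981711)) (.node 1 (.leaf
  2847885) (.leaf
  1451668))))) (.node 7 (.node 3 (.node 1 (.leaf
  2041203) (.node 1 (.leaf
  1374892) (.leaf
  1408853))) (.node 2 (.node 1 (.leaf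
  852555) (.leaf
  1719733)) (.node 1 (.leaf
  879032) (.leaf
  2041263)))) (.node 4 (.node 2 (.node 1 (.leaf
  2156273) (.leaf
  1774262)) (.node 1 (.leaf
  1768061) (.leaf
  2070548))) (.node 2 (.node 1 (.leaf
  851952) (.leaf
  1981640)) (.node 1 (.leaf
  2861206) (.leaf
  2070549))))))) (.node 29 (.node 14 (.node 7 (.node 3 (.node 1 (.leaf
  2239199) (.node 1 (.leaf
  337385) (.leaf
  996761))) (.node 2 (.node 1 (.leaf
  13861) (.leaf
  1481423)) (.node 1 (.leaf
  484672) (.leaf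
  2142232)))) (.node 3 (.node 1 (.leaf
  336951) (.node 1 (.leaf
  766527) (.leaf
  389))) (.node 2 (.node 1 (.leaf
  182) (.leaf
  323202)) (.node 1 (.leaf
  29868) (.leaf
  997199))))) (.node 7 (.node 3 (.node 1 (.leaf
  645814) (.node 1 (.leaf
  337211) (.leaf
  1374983))) (.node 2 (.node 1 (.leaf
  323309) (.leaf
  1165682)) (.node 1 (.leaf
  2072290) (.leaf
  645587)))) (.node 4 (.node 2 (.node 1 (.leaf
  968420) (.leaf
  150246)) (.node 1 (.leaf
  1409492) (.leaf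
  1004926))) (.node 2 (.node 1 (.leaf
  675310) (.leaf
  351863)) (.node 1 (.leaf
  2042026) (.leaf
  645382)))))) (.node 15 (.node 7 (.node 3 (.node 1 (.leaf
  359338) (.node 1 (.leaf
  2042361) (.leaf
  2041786))) (.node 2 (.node 1 (.leaf
  2455982) (.leaf
  2027045)) (.node 1 (.leaf
  968141) (.leaf
  843014)))) (.node 4 (.node 2 (.node 1 (.leaf
  15047) (.leaf
  925815)) (.node 1 (.leaf
  408) (.leaf
  36853))) (.node 2 (.node 1 (.leaf
  29943) (.leaf
  645462)) (.node 1 (.leaf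
  1811324) (.leaf
  935808))))) (.node 7 (.node 3 (.node 1 (.leaf
  198469) (.node 1 (.leaf
  161579) (.leaf
  359282))) (.node 2 (.node 1 (.leaf
  878806) (.leaf
  323277)) (.node 1 (.leaf
  1129788) (.leaf
  2169109)))) (.node 4 (.node 2 (.node 1 (.leaf
  14116) (.leaf
  360184)) (.node 1 (.leaf
  1089101) (.leaf
  645797))) (.node 2 (.node 1 (.leaf
  2239034) (.leaf
  1811517)) (.node 1 (.leaf
  645410) (.leaf
  2464630))))))))) (.node 118 (.node 59 (.node 29 (.node 14 (.node 7 (.node 3 (.node 1 (.leaf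
  1408920) (.node 1 (.leaf
  1570765) (.leaf
  30))) (.node 2 (.node 1 (.leaf
  675011) (.leaf
  239)) (.node 1 (.leaf
  359493) (.leaf
  1580510)))) (.node 3 (.node 1 (.leaf
  2156418) (.node 1 (.leaf
  981725) (.leaf
  483913))) (.node 2 (.node 1 (.leaf
  1972191) (.leaf
  266)) (.node 1 (.leaf
  2169165) (.leaf
  360227))))) (.node 7 (.node 3 (.node 1 (.leaf
  2235107) (.node 1 (.leaf
  2169238) (.leaf
  198585))) (.node 2 (.node 1 (.leaf
  29825) (.leaf
  323253)) (.node 1 (.leaf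
  359454) (.leaf
  36799)))) (.node 4 (.node 2 (.node 1 (.leaf
  29714) (.leaf
  912685)) (.node 1 (.leaf
  2097767) (.leaf
  1125244))) (.node 2 (.node 1 (.leaf
  190) (.leaf
  2465214)) (.node 1 (.leaf
  967706) (.leaf
  336684)))))) (.node 15 (.node 7 (.node 3 (.node 1 (.leaf
  323476) (.node 1 (.leaf
  2169114) (.leaf
  1117906))) (.node 2 (.node 1 (.leaf
  322586) (.leaf
  337050)) (.node 1 (.leaf
  14555) (.leaf
  13948)))) (.node 4 (.node 2 (.node 1 (.leaf
  1005136) (.leaf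
  337074)) (.node 1 (.leaf
  2455766) (.leaf
  157690))) (.node 2 (.node 1 (.leaf
  1004220) (.leaf
  1004316)) (.node 1 (.leaf
  1129427) (.leaf
  386604))))) (.node 7 (.node 3 (.node 1 (.leaf
  2239046) (.node 1 (.leaf
  2097295) (.leaf
  1980624))) (.node 2 (.node 1 (.leaf
  2097423) (.leaf
  1649911)) (.node 1 (.leaf
  2042285) (.leaf
  2240110)))) (.node 4 (.node 2 (.node 1 (.leaf
  135621) (.leaf
  2295161)) (.node 1 (.leaf
  359147) (.leaf
  2294520))) (.node 2 (.node 1 (.leaf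
  981807) (.leaf
  2556490)) (.node 1 (.leaf
  30106) (.leaf
  352474))))))) (.node 29 (.node 14 (.node 7 (.node 3 (.node 1 (.leaf
  2787946) (.node 1 (.leaf
  1541482) (.leaf
  807036))) (.node 2 (.node 1 (.leaf
  1452364) (.leaf
  844053)) (.node 1 (.leaf
  1004371) (.leaf
  645990)))) (.node 3 (.node 1 (.leaf
  29800) (.node 1 (.leaf
  14585) (.leaf
  351766))) (.node 2 (.node 1 (.leaf
  645774) (.leaf
  1979733)) (.node 1 (.leaf
  37581) (.leaf
  69081))))) (.node 7 (.node 3 (.node 1 (.leaf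
  681779) (.node 1 (.leaf
  645153) (.leaf
  2240203))) (.node 2 (.node 1 (.leaf
  150779) (.leaf
  1981800)) (.node 1 (.leaf
  2788089) (.leaf
  1774086)))) (.node 4 (.node 2 (.node 1 (.leaf
  2142553) (.leaf
  1118504)) (.node 1 (.leaf
  14757) (.leaf
  360183))) (.node 2 (.node 1 (.leaf
  323291) (.leaf
  14858)) (.node 1 (.leaf
  1129259) (.leaf
  1088923)))))) (.node 15 (.node 7 (.node 3 (.node 1 (.leaf
  2787190) (.node 1 (.leaf
  645446) (.leaf
  337091))) (.node 2 (.node 1 (.leaf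
  150317) (.leaf
  924978)) (.node 1 (.leaf
  14336) (.leaf
  968388)))) (.node 4 (.node 2 (.node 1 (.leaf
  1649410) (.leaf
  843640)) (.node 1 (.leaf
  359928) (.leaf
  1811320))) (.node 2 (.node 1 (.leaf
  2787794) (.leaf
  2716758)) (.node 1 (.leaf
  1118454) (.leaf
  997550))))) (.node 7 (.node 3 (.node 1 (.leaf
  2465624) (.node 1 (.leaf
  2455851) (.leaf
  924923))) (.node 2 (.node 1 (.leaf
  1409471) (.leaf
  1612825)) (.node 1 (.leaf
  2465388) (.leaf
  360093)))) (.node 4 (.node 2 (.node 1 (.leaf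
  982267) (.leaf
  1972836)) (.node 1 (.leaf
  967753) (.leaf
  968199))) (.node 2 (.node 1 (.leaf
  646256) (.leaf
  1972618)) (.node 1 (.leaf
  2239052) (.leaf
  1685316)))))))) (.node 59 (.node 29 (.node 14 (.node 7 (.node 3 (.node 1 (.leaf
  1125810) (.node 1 (.leaf
  681666) (.leaf
  2721795))) (.node 2 (.node 1 (.leaf
  385636) (.leaf
  645207)) (.node 1 (.leaf
  2071265) (.leaf
  2778449)))) (.node 3 (.node 1 (.leaf
  807161) (.node 1 (.leaf
  2788050) (.leaf
  360144))) (.node 2 (.node 1 (.leaf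
  2090065) (.leaf
  135614)) (.node 1 (.leaf
  337464) (.leaf
  73))))) (.node 7 (.node 3 (.node 1 (.leaf
  29789) (.node 1 (.leaf
  2168875) (.leaf
  162107))) (.node 2 (.node 1 (.leaf
  796111) (.leaf
  2071425)) (.node 1 (.leaf
  19) (.leaf
  336546)))) (.node 4 (.node 2 (.node 1 (.leaf
  968491) (.leaf
  472879)) (.node 1 (.leaf
  1326934) (.leaf
  1327651))) (.node 2 (.node 1 (.leaf
  194) (.leaf
  1649580)) (.node 1 (.leaf
  14777) (.leaf
  878496)))))) (.node 15 (.node 7 (.node 3 (.node 1 (.leaf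
  1811594) (.node 1 (.leaf
  2071403) (.leaf
  796232))) (.node 2 (.node 1 (.leaf
  851999) (.leaf
  1972015)) (.node 1 (.leaf
  843714) (.leaf
  2455761)))) (.node 4 (.node 2 (.node 1 (.leaf
  1810864) (.leaf
  645411)) (.node 1 (.leaf
  1375531) (.leaf
  337209))) (.node 2 (.node 1 (.leaf
  337168) (.leaf
  30075)) (.node 1 (.leaf
  1972254) (.leaf
  645326))))) (.node 7 (.node 3 (.node 1 (.leaf
  2779077) (.node 1 (.leaf
  1810659) (.leaf
  2778770))) (.node 2 (.node 1 (.leaf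
  674927) (.leaf
  1408827)) (.node 1 (.leaf
  968595) (.leaf
  1452349)))) (.node 4 (.node 2 (.node 1 (.leaf
  1612913) (.leaf
  843016)) (.node 1 (.leaf
  150335) (.leaf
  2169322))) (.node 2 (.node 1 (.leaf
  1613638) (.leaf
  982546)) (.node 1 (.leaf
  1971968) (.leaf
  1580331))))))) (.node 29 (.node 14 (.node 7 (.node 3 (.node 1 (.leaf
  359297) (.node 1 (.leaf
  2456374) (.leaf
  2456476))) (.node 2 (.node 1 (.leaf
  2716847) (.leaf
  1972541)) (.node 1 (.leaf
  681893) (.leaf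
  682365)))) (.node 3 (.node 1 (.leaf
  1973002) (.node 1 (.leaf
  2142696) (.leaf
  431))) (.node 2 (.node 1 (.leaf
  2287053) (.leaf
  76581)) (.node 1 (.leaf
  337090) (.leaf
  1118787))))) (.node 7 (.node 3 (.node 1 (.leaf
  843711) (.node 1 (.leaf
  2455887) (.leaf
  982707))) (.node 2 (.node 1 (.leaf
  2169094) (.leaf
  336486)) (.node 1 (.leaf
  1117801) (.leaf
  323569)))) (.node 4 (.node 2 (.node 1 (.leaf
  1748179) (.leaf
  682551)) (.node 1 (.leaf
  645186) (.leaf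
  796204))) (.node 2 (.node 1 (.leaf
  1488480) (.leaf
  2072309)) (.node 1 (.leaf
  675015) (.leaf
  1580145)))))) (.node 15 (.node 7 (.node 3 (.node 1 (.leaf
  1972771) (.node 1 (.leaf
  498551) (.leaf
  1408833))) (.node 2 (.node 1 (.leaf
  1089366) (.leaf
  2097684)) (.node 1 (.leaf
  2788223) (.leaf
  852512)))) (.node 4 (.node 2 (.node 1 (.leaf
  807190) (.leaf
  1488128)) (.node 1 (.leaf
  1972043) (.leaf
  323220))) (.node 2 (.node 1 (.leaf
  150603) (.leaf
  796227)) (.node 1 (.leaf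
  14780) (.leaf
  1362882))))) (.node 7 (.node 3 (.node 1 (.leaf
  1409447) (.node 1 (.leaf
  472690) (.leaf
  1327429))) (.node 2 (.node 1 (.leaf
  968384) (.leaf
  968057)) (.node 1 (.leaf
  795791) (.leaf
  1980802)))) (.node 4 (.node 2 (.node 1 (.leaf
  2788138) (.leaf
  807111)) (.node 1 (.leaf
  359596) (.leaf
  2089968))) (.node 2 (.node 1 (.leaf
  2077033) (.leaf
  2041309)) (.node 1 (.leaf
  536918) (.leaf
  2041362)))))))))) (.node 236 (.node 118 (.node 59 (.node 29 (.node 14 (.node 7 (.node 3 (.node 1 (.leaf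
  1774245) (.node 1 (.leaf
  1650029) (.leaf
  925595))) (.node 2 (.node 1 (.leaf
  968379) (.leaf
  336831)) (.node 1 (.leaf
  323020) (.leaf
  351905)))) (.node 3 (.node 1 (.leaf
  1396912) (.node 1 (.leaf
  660147) (.leaf
  1129743))) (.node 2 (.node 1 (.leaf
  44) (.leaf
  645758)) (.node 1 (.leaf
  681707) (.leaf
  444107))))) (.node 7 (.node 3 (.node 1 (.leaf
  2240053) (.node 1 (.leaf
  2042116) (.leaf
  1607267))) (.node 2 (.node 1 (.leaf
  37404) (.leaf
  1972149)) (.node 1 (.leaf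
  659265) (.leaf
  645693)))) (.node 4 (.node 2 (.node 1 (.leaf
  1972104) (.leaf
  1972036)) (.node 1 (.leaf
  1408834) (.leaf
  2778818))) (.node 2 (.node 1 (.leaf
  645458) (.leaf
  1408731)) (.node 1 (.leaf
  14490) (.leaf
  567)))))) (.node 15 (.node 7 (.node 3 (.node 1 (.leaf
  14843) (.node 1 (.leaf
  1650212) (.leaf
  2448998))) (.node 2 (.node 1 (.leaf
  29675) (.leaf
  323227)) (.node 1 (.leaf
  1581141) (.leaf
  2071008)))) (.node 4 (.node 2 (.node 1 (.leaf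
  879011) (.leaf
  1408702)) (.node 1 (.leaf
  659177) (.leaf
  681702))) (.node 2 (.node 1 (.leaf
  1972986) (.leaf
  1488196)) (.node 1 (.leaf
  682377) (.leaf
  843356))))) (.node 7 (.node 3 (.node 1 (.leaf
  359276) (.node 1 (.leaf
  436) (.leaf
  553))) (.node 2 (.node 1 (.leaf
  135011) (.leaf
  2778413)) (.node 1 (.leaf
  852926) (.leaf
  198062)))) (.node 4 (.node 2 (.node 1 (.leaf
  2168657) (.leaf
  537009)) (.node 1 (.leaf
  323244) (.leaf
  843078))) (.node 2 (.node 1 (.leaf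
  150759) (.leaf
  2778598)) (.node 1 (.leaf
  458298) (.leaf
  2778637))))))) (.node 29 (.node 14 (.node 7 (.node 3 (.node 1 (.leaf
  322885) (.node 1 (.leaf
  1811274) (.leaf
  2779037))) (.node 2 (.node 1 (.leaf
  151155) (.leaf
  1972750)) (.node 1 (.leaf
  15023) (.leaf
  359415)))) (.node 3 (.node 1 (.leaf
  226) (.node 1 (.leaf
  842940) (.leaf
  1166155))) (.node 2 (.node 1 (.leaf
  150748) (.leaf
  2846881)) (.node 1 (.leaf
  36955) (.leaf
  796278))))) (.node 7 (.node 3 (.node 1 (.leaf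
  1613736) (.node 1 (.leaf
  925705) (.leaf
  682239))) (.node 2 (.node 1 (.leaf
  457684) (.leaf
  336657)) (.node 1 (.leaf
  1613583) (.leaf
  967707)))) (.node 4 (.node 2 (.node 1 (.leaf
  2456805) (.leaf
  2717217)) (.node 1 (.leaf
  1972657) (.leaf
  878447))) (.node 2 (.node 1 (.leaf
  968115) (.leaf
  1810625)) (.node 1 (.leaf
  2455802) (.leaf
  646008)))))) (.node 15 (.node 7 (.node 3 (.node 1 (.leaf
  925597) (.node 1 (.leaf
  795406) (.leaf
  682334))) (.node 2 (.node 1 (.leaf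
  336821) (.leaf
  150844)) (.node 1 (.leaf
  36775) (.leaf
  282)))) (.node 4 (.node 2 (.node 1 (.leaf
  2465299) (.leaf
  14134)) (.node 1 (.leaf
  158334) (.leaf
  2168468))) (.node 2 (.node 1 (.leaf
  337253) (.leaf
  646078)) (.node 1 (.leaf
  1972788) (.leaf
  1129764))))) (.node 7 (.node 3 (.node 1 (.leaf
  842955) (.node 1 (.leaf
  2071014) (.leaf
  807443))) (.node 2 (.node 1 (.leaf
  69164) (.leaf
  844123)) (.node 1 (.leaf
  458544) (.leaf
  1972647)))) (.node 4 (.node 2 (.node 1 (.leaf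
  1613235) (.leaf
  843805)) (.node 1 (.leaf
  807288) (.leaf
  1971952))) (.node 2 (.node 1 (.leaf
  1811646) (.leaf
  1612998)) (.node 1 (.leaf
  1363304) (.leaf
  913128)))))))) (.node 59 (.node 29 (.node 14 (.node 7 (.node 3 (.node 1 (.leaf
  2329809) (.node 1 (.leaf
  443976) (.leaf
  2239297))) (.node 2 (.node 1 (.leaf
  2041233) (.leaf
  807035)) (.node 1 (.leaf
  807257) (.leaf
  1362510)))) (.node 3 (.node 1 (.leaf
  37226) (.node 1 (.leaf
  2042314) (.leaf
  336477))) (.node 2 (.node 1 (.leaf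
  1613094) (.leaf
  968554)) (.node 1 (.leaf
  336660) (.leaf
  14616))))) (.node 7 (.node 3 (.node 1 (.leaf
  968598) (.node 1 (.leaf
  541937) (.leaf
  1396452))) (.node 2 (.node 1 (.leaf
  14165) (.leaf
  336483)) (.node 1 (.leaf
  2168503) (.leaf
  996846)))) (.node 4 (.node 2 (.node 1 (.leaf
  2169426) (.leaf
  322917)) (.node 1 (.leaf
  192) (.leaf
  681892))) (.node 2 (.node 1 (.leaf
  878270) (.leaf
  645938)) (.node 1 (.leaf
  443786) (.leaf
  2456399)))))) (.node 15 (.node 7 (.node 3 (.node 1 (.leaf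
  36812) (.node 1 (.leaf
  351731) (.leaf
  968492))) (.node 2 (.node 1 (.leaf
  1811596) (.leaf
  336494)) (.node 1 (.leaf
  1117998) (.leaf
  1811459)))) (.node 4 (.node 2 (.node 1 (.leaf
  1129077) (.leaf
  843074)) (.node 1 (.leaf
  843012) (.leaf
  2779551))) (.node 2 (.node 1 (.leaf
  178) (.leaf
  982352)) (.node 1 (.leaf
  1972102) (.leaf
  2716610))))) (.node 7 (.node 3 (.node 1 (.leaf
  1613547) (.node 1 (.leaf
  2716697) (.leaf
  645822))) (.node 2 (.node 1 (.leaf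
  1488242) (.leaf
  1612995)) (.node 1 (.leaf
  682520) (.leaf
  37348)))) (.node 4 (.node 2 (.node 1 (.leaf
  1774722) (.leaf
  2169228)) (.node 1 (.leaf
  645414) (.leaf
  336662))) (.node 2 (.node 1 (.leaf
  2142220) (.leaf
  1972824)) (.node 1 (.leaf
  645588) (.leaf
  198588))))))) (.node 29 (.node 14 (.node 7 (.node 3 (.node 1 (.leaf
  1613579) (.node 1 (.leaf
  82) (.leaf
  2716859))) (.node 2 (.node 1 (.leaf
  2294796) (.leaf
  1489067)) (.node 1 (.leaf
  1971969) (.leaf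
  843996)))) (.node 3 (.node 1 (.leaf
  1125822) (.node 1 (.leaf
  2142323) (.leaf
  1981882))) (.node 2 (.node 1 (.leaf
  806952) (.leaf
  925719)) (.node 1 (.leaf
  1685680) (.leaf
  2070656))))) (.node 7 (.node 3 (.node 1 (.leaf
  2070476) (.node 1 (.leaf
  2848139) (.leaf
  2142778))) (.node 2 (.node 1 (.leaf
  1811501) (.leaf
  2556105)) (.node 1 (.leaf
  981653) (.leaf
  322748)))) (.node 4 (.node 2 (.node 1 (.leaf
  645281) (.leaf
  1742530)) (.node 1 (.leaf
  681698) (.leaf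
  681674))) (.node 2 (.node 1 (.leaf
  2097346) (.leaf
  197890)) (.node 1 (.leaf
  2071894) (.leaf
  2090296)))))) (.node 15 (.node 7 (.node 3 (.node 1 (.leaf
  1129650) (.node 1 (.leaf
  1059808) (.leaf
  936003))) (.node 2 (.node 1 (.leaf
  37222) (.leaf
  878934)) (.node 1 (.leaf
  92) (.leaf
  2717578)))) (.node 4 (.node 2 (.node 1 (.leaf
  843544) (.leaf
  843000)) (.node 1 (.leaf
  1481237) (.leaf
  197845))) (.node 2 (.node 1 (.leaf
  1811296) (.leaf
  1810641)) (.node 1 (.leaf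
  198049) (.leaf
  851809))))) (.node 7 (.node 3 (.node 1 (.leaf
  162056) (.node 1 (.leaf
  243) (.leaf
  968350))) (.node 2 (.node 1 (.leaf
  967967) (.leaf
  1129639)) (.node 1 (.leaf
  2295321) (.leaf
  1166179)))) (.node 4 (.node 2 (.node 1 (.leaf
  1488291) (.leaf
  1811762)) (.node 1 (.leaf
  1811552) (.leaf
  150238))) (.node 2 (.node 1 (.leaf
  2779318) (.leaf
  968729)) (.node 1 (.leaf
  1128984) (.leaf
  1125220))))))))) (.node 118 (.node 59 (.node 29 (.node 14 (.node 7 (.node 3 (.node 1 (.leaf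
  20) (.node 1 (.leaf
  843900) (.leaf
  25))) (.node 2 (.node 1 (.leaf
  542) (.leaf
  1811645)) (.node 1 (.leaf
  806421) (.leaf
  1118538)))) (.node 3 (.node 1 (.leaf
  842964) (.node 1 (.leaf
  968361) (.leaf
  843072))) (.node 2 (.node 1 (.leaf
  1409724) (.leaf
  1972098)) (.node 1 (.leaf
  458174) (.leaf
  2071079))))) (.node 7 (.node 3 (.node 1 (.leaf
  925796) (.node 1 (.leaf
  151045) (.leaf
  37653))) (.node 2 (.node 1 (.leaf
  682751) (.leaf
  2239504)) (.node 1 (.leaf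
  842966) (.leaf
  1972722)))) (.node 4 (.node 2 (.node 1 (.leaf
  807260) (.leaf
  337045)) (.node 1 (.leaf
  843268) (.leaf
  2071081))) (.node 2 (.node 1 (.leaf
  496) (.leaf
  14782)) (.node 1 (.leaf
  2070475) (.leaf
  55)))))) (.node 15 (.node 7 (.node 3 (.node 1 (.leaf
  323743) (.node 1 (.leaf
  1811683) (.leaf
  2779470))) (.node 2 (.node 1 (.leaf
  323593) (.leaf
  484809)) (.node 1 (.leaf
  1374927) (.leaf
  2778636)))) (.node 4 (.node 2 (.node 1 (.leaf
  2042360) (.leaf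
  925169)) (.node 1 (.leaf
  1409062) (.leaf
  267))) (.node 2 (.node 1 (.leaf
  135904) (.leaf
  967886)) (.node 1 (.leaf
  14066) (.leaf
  337053))))) (.node 7 (.node 3 (.node 1 (.leaf
  2142659) (.node 1 (.leaf
  1649404) (.leaf
  598))) (.node 2 (.node 1 (.leaf
  2097286) (.leaf
  2239882)) (.node 1 (.leaf
  968509) (.leaf
  29692)))) (.node 4 (.node 2 (.node 1 (.leaf
  322589) (.leaf
  851799)) (.node 1 (.leaf
  322573) (.leaf
  2042005))) (.node 2 (.node 1 (.leaf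
  682870) (.leaf
  1005428)) (.node 1 (.leaf
  15048) (.leaf
  458096))))))) (.node 29 (.node 14 (.node 7 (.node 3 (.node 1 (.leaf
  2879081) (.node 1 (.leaf
  807094) (.leaf
  1089469))) (.node 2 (.node 1 (.leaf
  237) (.leaf
  322646)) (.node 1 (.leaf
  323207) (.leaf
  1327479)))) (.node 3 (.node 1 (.leaf
  1972020) (.node 1 (.leaf
  2464709) (.leaf
  645902))) (.node 2 (.node 1 (.leaf
  2071795) (.leaf
  540)) (.node 1 (.leaf
  337121) (.leaf
  682427))))) (.node 7 (.node 3 (.node 1 (.leaf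
  852551) (.node 1 (.leaf
  2448892) (.leaf
  2456573))) (.node 2 (.node 1 (.leaf
  544) (.leaf
  1649679)) (.node 1 (.leaf
  843971) (.leaf
  1004947)))) (.node 4 (.node 2 (.node 1 (.leaf
  1811347) (.leaf
  2778809)) (.node 1 (.leaf
  996757) (.leaf
  36753))) (.node 2 (.node 1 (.leaf
  157794) (.leaf
  1972557)) (.node 1 (.leaf
  1649678) (.leaf
  456)))))) (.node 15 (.node 7 (.node 3 (.node 1 (.leaf
  2456440) (.node 1 (.leaf
  1166136) (.leaf
  1613635))) (.node 2 (.node 1 (.leaf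
  1004229) (.leaf
  579573)) (.node 1 (.leaf
  1613002) (.leaf
  807167)))) (.node 4 (.node 2 (.node 1 (.leaf
  359144) (.leaf
  1129505)) (.node 1 (.leaf
  2455740) (.leaf
  1005228))) (.node 2 (.node 1 (.leaf
  1396913) (.leaf
  1129162)) (.node 1 (.leaf
  645412) (.leaf
  1580798))))) (.node 7 (.node 3 (.node 1 (.leaf
  360121) (.node 1 (.leaf
  36673) (.leaf
  2464714))) (.node 2 (.node 1 (.leaf
  1980874) (.leaf
  2779131)) (.node 1 (.leaf
  2168518) (.leaf
  30193)))) (.node 4 (.node 2 (.node 1 (.leaf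
  2717305) (.leaf
  1684644)) (.node 1 (.leaf
  1580190) (.leaf
  843623))) (.node 2 (.node 1 (.leaf
  36804) (.leaf
  807524)) (.node 1 (.leaf
  2076795) (.leaf
  24)))))))) (.node 59 (.node 29 (.node 14 (.node 7 (.node 3 (.node 1 (.leaf
  1685447) (.node 1 (.leaf
  682368) (.leaf
  2448246))) (.node 2 (.node 1 (.leaf
  1972215) (.leaf
  843267)) (.node 1 (.leaf
  352) (.leaf
  1354914)))) (.node 3 (.node 1 (.leaf
  796121) (.node 1 (.leaf
  681717) (.leaf
  385801))) (.node 2 (.node 1 (.leaf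
  682387) (.leaf
  1375366)) (.node 1 (.leaf
  1004564) (.leaf
  675009))))) (.node 7 (.node 3 (.node 1 (.leaf
  323449) (.node 1 (.leaf
  498396) (.leaf
  1327436))) (.node 2 (.node 1 (.leaf
  14671) (.leaf
  1971993)) (.node 1 (.leaf
  1972828) (.leaf
  1973122)))) (.node 4 (.node 2 (.node 1 (.leaf
  36721) (.leaf
  2330430)) (.node 1 (.leaf
  968871) (.leaf
  2617803))) (.node 2 (.node 1 (.leaf
  343) (.leaf
  125)) (.node 1 (.leaf
  2778998) (.leaf
  2778377)))))) (.node 15 (.node 7 (.node 3 (.node 1 (.leaf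
  150933) (.node 1 (.leaf
  796064) (.leaf
  14128))) (.node 2 (.node 1 (.leaf
  646211) (.leaf
  968848)) (.node 1 (.leaf
  645399) (.leaf
  1658270)))) (.node 4 (.node 2 (.node 1 (.leaf
  323454) (.leaf
  2779320)) (.node 1 (.leaf
  1685395) (.leaf
  352540))) (.node 2 (.node 1 (.leaf
  135001) (.leaf
  645856)) (.node 1 (.leaf
  1650298) (.leaf
  645225))))) (.node 7 (.node 3 (.node 1 (.leaf
  646339) (.node 1 (.leaf
  2778500) (.leaf
  14174))) (.node 2 (.node 1 (.leaf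
  682717) (.leaf
  852213)) (.node 1 (.leaf
  36607) (.leaf
  2097497)))) (.node 4 (.node 2 (.node 1 (.leaf
  352525) (.leaf
  352252)) (.node 1 (.leaf
  1129149) (.leaf
  498457))) (.node 2 (.node 1 (.leaf
  2787144) (.leaf
  2860382)) (.node 1 (.leaf
  2717344) (.leaf
  444427))))))) (.node 30 (.node 15 (.node 7 (.node 3 (.node 1 (.leaf
  37359) (.node 1 (.leaf
  1335814) (.leaf
  967834))) (.node 2 (.node 1 (.leaf
  2787161) (.leaf
  1375510)) (.node 1 (.leaf
  352446) (.leaf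
  843071)))) (.node 4 (.node 2 (.node 1 (.leaf
  359280) (.leaf
  29753)) (.node 1 (.leaf
  967890) (.leaf
  843100))) (.node 2 (.node 1 (.leaf
  2156118) (.leaf
  1125193)) (.node 1 (.leaf
  2169195) (.leaf
  1129790))))) (.node 7 (.node 3 (.node 1 (.leaf
  1165512) (.node 1 (.leaf
  2717241) (.leaf
  150))) (.node 2 (.node 1 (.leaf
  1810928) (.leaf
  70)) (.node 1 (.leaf
  233800) (.leaf
  852490)))) (.node 4 (.node 2 (.node 1 (.leaf
  843002) (.leaf
  1811212)) (.node 1 (.leaf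
  968323) (.leaf
  842945))) (.node 2 (.node 1 (.leaf
  36552) (.leaf
  2848353)) (.node 1 (.leaf
  967985) (.leaf
  1118584)))))) (.node 15 (.node 7 (.node 3 (.node 1 (.leaf
  1129594) (.node 1 (.leaf
  2778643) (.leaf
  1166191))) (.node 2 (.node 1 (.leaf
  1129972) (.leaf
  552215)) (.node 1 (.leaf
  150656) (.leaf
  37256)))) (.node 4 (.node 2 (.node 1 (.leaf
  36554) (.leaf
  4)) (.node 1 (.leaf
  36913) (.leaf
  250))) (.node 2 (.node 1 (.leaf
  878871) (.leaf
  1810682)) (.node 1 (.leaf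
  1811492) (.leaf
  1129701))))) (.node 7 (.node 3 (.node 1 (.leaf
  1810868) (.node 1 (.leaf
  807358) (.leaf
  161980))) (.node 2 (.node 1 (.leaf
  878705) (.leaf
  1972396)) (.node 1 (.leaf
  171) (.leaf
  1581010)))) (.node 4 (.node 2 (.node 1 (.leaf
  1684957) (.leaf
  2041934)) (.node 1 (.leaf
  682815) (.leaf
  645416))) (.node 2 (.node 1 (.leaf
  578677) (.leaf
  2041200)) (.node 1 (.leaf
  796158) (.leaf
  322654))))))))))))) (.node 1890 (.node 945 (.node 472 (.node 236 (.node 118 (.node 59 (.node 29 (.node 14 (.node 7 (.node 3 (.node 1 (.leaf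
  484666) (.node 1 (.leaf
  2717379) (.leaf
  1451593))) (.node 2 (.node 1 (.leaf
  97) (.leaf
  1810865)) (.node 1 (.leaf
  2041379) (.leaf
  852886)))) (.node 3 (.node 1 (.leaf
  1326925) (.node 1 (.leaf
  2097465) (.leaf
  36567))) (.node 2 (.node 1 (.leaf
  29538) (.leaf
  924994)) (.node 1 (.leaf
  336676) (.leaf
  1972610))))) (.node 7 (.node 3 (.node 1 (.leaf
  162064) (.node 1 (.leaf
  468) (.leaf
  1732134))) (.node 2 (.node 1 (.leaf
  2041915) (.leaf
  1650201)) (.node 1 (.leaf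
  1980360) (.leaf
  14702)))) (.node 4 (.node 2 (.node 1 (.leaf
  1973117) (.leaf
  323197)) (.node 1 (.leaf
  780876) (.leaf
  2071583))) (.node 2 (.node 1 (.leaf
  1166243) (.leaf
  1649671)) (.node 1 (.leaf
  843269) (.leaf
  807109)))))) (.node 15 (.node 7 (.node 3 (.node 1 (.leaf
  843264) (.node 1 (.leaf
  2464896) (.leaf
  681681))) (.node 2 (.node 1 (.leaf
  2722287) (.leaf
  2070565)) (.node 1 (.leaf
  2169159) (.leaf
  1649973)))) (.node 4 (.node 2 (.node 1 (.leaf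
  322799) (.leaf
  29802)) (.node 1 (.leaf
  2456380) (.leaf
  645137))) (.node 2 (.node 1 (.leaf
  645560) (.leaf
  1004407)) (.node 1 (.leaf
  2779076) (.leaf
  352425))))) (.node 7 (.node 3 (.node 1 (.leaf
  1409313) (.node 1 (.leaf
  2072394) (.leaf
  45381))) (.node 2 (.node 1 (.leaf
  2070772) (.leaf
  2449095)) (.node 1 (.leaf
  1971929) (.leaf
  1972611)))) (.node 4 (.node 2 (.node 1 (.leaf
  681729) (.leaf
  1810624)) (.node 1 (.leaf
  851863) (.leaf
  323212))) (.node 2 (.node 1 (.leaf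
  682802) (.leaf
  37492)) (.node 1 (.leaf
  359623) (.leaf
  1117777))))))) (.node 29 (.node 14 (.node 7 (.node 3 (.node 1 (.leaf
  1570134) (.node 1 (.leaf
  1650470) (.leaf
  1327553))) (.node 2 (.node 1 (.leaf
  323351) (.leaf
  682478)) (.node 1 (.leaf
  968181) (.leaf
  359197)))) (.node 3 (.node 1 (.leaf
  157616) (.node 1 (.leaf
  2779497) (.leaf
  38))) (.node 2 (.node 1 (.leaf
  199) (.leaf
  42)) (.node 1 (.leaf
  359453) (.leaf
  2239391))))) (.node 7 (.node 3 (.node 1 (.leaf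
  351682) (.node 1 (.leaf
  162058) (.leaf
  29173))) (.node 2 (.node 1 (.leaf
  2169172) (.leaf
  352092)) (.node 1 (.leaf
  322700) (.leaf
  337583)))) (.node 4 (.node 2 (.node 1 (.leaf
  924894) (.leaf
  36728)) (.node 1 (.leaf
  2041477) (.leaf
  1088676))) (.node 2 (.node 1 (.leaf
  323238) (.leaf
  925954)) (.node 1 (.leaf
  1375505) (.leaf
  150326)))))) (.node 15 (.node 7 (.node 3 (.node 1 (.leaf
  2847714) (.node 1 (.leaf
  2041316) (.leaf
  71836))) (.node 2 (.node 1 (.leaf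
  1004953) (.leaf
  29)) (.node 1 (.leaf
  458403) (.leaf
  967977)))) (.node 4 (.node 2 (.node 1 (.leaf
  1741931) (.leaf
  2076964)) (.node 1 (.leaf
  968426) (.leaf
  238))) (.node 2 (.node 1 (.leaf
  645248) (.leaf
  878390)) (.node 1 (.leaf
  1290269) (.leaf
  14458))))) (.node 7 (.node 3 (.node 1 (.leaf
  13895) (.node 1 (.leaf
  2556080) (.leaf
  843092))) (.node 2 (.node 1 (.leaf
  646091) (.leaf
  925547)) (.node 1 (.leaf
  536) (.leaf
  322591)))) (.node 4 (.node 2 (.node 1 (.leaf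
  2041534) (.leaf
  1129804)) (.node 1 (.leaf
  323720) (.leaf
  29218))) (.node 2 (.node 1 (.leaf
  157887) (.leaf
  322596)) (.node 1 (.leaf
  352534) (.leaf
  2041887)))))))) (.node 59 (.node 29 (.node 14 (.node 7 (.node 3 (.node 1 (.leaf
  1972805) (.node 1 (.leaf
  336481) (.leaf
  659168))) (.node 2 (.node 1 (.leaf
  2168474) (.leaf
  1327184)) (.node 1 (.leaf
  351778) (.leaf
  1980777)))) (.node 3 (.node 1 (.leaf
  2465232) (.node 1 (.leaf
  473311) (.leaf
  968689))) (.node 2 (.node 1 (.leaf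
  968314) (.leaf
  1327546)) (.node 1 (.leaf
  2041377) (.leaf
  968683))))) (.node 7 (.node 3 (.node 1 (.leaf
  968685) (.node 1 (.leaf
  2722294) (.leaf
  2787364))) (.node 2 (.node 1 (.leaf
  852605) (.leaf
  843712)) (.node 1 (.leaf
  36944) (.leaf
  337530)))) (.node 4 (.node 2 (.node 1 (.leaf
  323145) (.leaf
  1088825)) (.node 1 (.leaf
  2076977) (.leaf
  925699))) (.node 2 (.node 1 (.leaf
  2848423) (.leaf
  1971942)) (.node 1 (.leaf
  29303) (.leaf
  1129108)))))) (.node 15 (.node 7 (.node 3 (.node 1 (.leaf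
  323649) (.node 1 (.leaf
  645751) (.leaf
  925337))) (.node 2 (.node 1 (.leaf
  2464649) (.leaf
  443890)) (.node 1 (.leaf
  150878) (.leaf
  2042037)))) (.node 4 (.node 2 (.node 1 (.leaf
  2041441) (.leaf
  36604)) (.node 1 (.leaf
  158031) (.leaf
  2027262))) (.node 2 (.node 1 (.leaf
  359172) (.leaf
  1335795)) (.node 1 (.leaf
  2042295) (.leaf
  2456158))))) (.node 7 (.node 3 (.node 1 (.leaf
  337221) (.node 1 (.leaf
  1117855) (.leaf
  277))) (.node 2 (.node 1 (.leaf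
  1981803) (.leaf
  1972853)) (.node 1 (.leaf
  2787810) (.leaf
  1129798)))) (.node 4 (.node 2 (.node 1 (.leaf
  1658998) (.leaf
  149)) (.node 1 (.leaf
  80) (.leaf
  681661))) (.node 2 (.node 1 (.leaf
  36737) (.leaf
  14628)) (.node 1 (.leaf
  351865) (.leaf
  1355688))))))) (.node 29 (.node 14 (.node 7 (.node 3 (.node 1 (.leaf
  1811293) (.node 1 (.leaf
  925690) (.leaf
  645340))) (.node 2 (.node 1 (.leaf
  997901) (.leaf
  645862)) (.node 1 (.leaf
  645315) (.leaf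
  359457)))) (.node 3 (.node 1 (.leaf
  2464757) (.node 1 (.leaf
  925614) (.leaf
  1129109))) (.node 2 (.node 1 (.leaf
  2455812) (.leaf
  37701)) (.node 1 (.leaf
  2007400) (.leaf
  337340))))) (.node 7 (.node 3 (.node 1 (.leaf
  2041330) (.node 1 (.leaf
  2239811) (.leaf
  1408715))) (.node 2 (.node 1 (.leaf
  802803) (.leaf
  14113)) (.node 1 (.leaf
  2787754) (.leaf
  2168920)))) (.node 4 (.node 2 (.node 1 (.leaf
  458545) (.leaf
  154)) (.node 1 (.leaf
  2456554) (.leaf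
  37390))) (.node 2 (.node 1 (.leaf
  2787591) (.leaf
  2042105)) (.node 1 (.leaf
  1774313) (.leaf
  1980996)))))) (.node 15 (.node 7 (.node 3 (.node 1 (.leaf
  1451828) (.node 1 (.leaf
  351761) (.leaf
  36874))) (.node 2 (.node 1 (.leaf
  14710) (.leaf
  14812)) (.node 1 (.leaf
  1117827) (.leaf
  37221)))) (.node 4 (.node 2 (.node 1 (.leaf
  359892) (.leaf
  1004504)) (.node 1 (.leaf
  843358) (.leaf
  925612))) (.node 2 (.node 1 (.leaf
  37675) (.leaf
  22)) (.node 1 (.leaf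
  1004871) (.leaf
  2041431))))) (.node 7 (.node 3 (.node 1 (.leaf
  2455782) (.node 1 (.leaf
  843973) (.leaf
  457913))) (.node 2 (.node 1 (.leaf
  1971966) (.leaf
  591)) (.node 1 (.leaf
  1291007) (.leaf
  14597)))) (.node 4 (.node 2 (.node 1 (.leaf
  1613142) (.leaf
  2456259)) (.node 1 (.leaf
  843635) (.leaf
  2847961))) (.node 2 (.node 1 (.leaf
  121) (.leaf
  968392)) (.node 1 (.leaf
  300) (.leaf
  967815))))))))) (.node 118 (.node 59 (.node 29 (.node 14 (.node 7 (.node 3 (.node 1 (.leaf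
  1129711) (.node 1 (.leaf
  135640) (.leaf
  1810965))) (.node 2 (.node 1 (.leaf
  1118551) (.leaf
  1811368)) (.node 1 (.leaf
  1125819) (.leaf
  45534)))) (.node 3 (.node 1 (.leaf
  2778360) (.node 1 (.leaf
  1129252) (.leaf
  1774206))) (.node 2 (.node 1 (.leaf
  14238) (.leaf
  843442)) (.node 1 (.leaf
  1774729) (.leaf
  169))))) (.node 7 (.node 3 (.node 1 (.leaf
  150058) (.node 1 (.leaf
  967721) (.leaf
  1129005))) (.node 2 (.node 1 (.leaf
  1481598) (.leaf
  2717335)) (.node 1 (.leaf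
  806553) (.leaf
  1488825)))) (.node 4 (.node 2 (.node 1 (.leaf
  2779398) (.leaf
  967876)) (.node 1 (.leaf
  161433) (.leaf
  806526))) (.node 2 (.node 1 (.leaf
  198603) (.leaf
  1166206)) (.node 1 (.leaf
  1613861) (.leaf
  351798)))))) (.node 15 (.node 7 (.node 3 (.node 1 (.leaf
  337503) (.node 1 (.leaf
  2042051) (.leaf
  2041614))) (.node 2 (.node 1 (.leaf
  2778906) (.leaf
  359150)) (.node 1 (.leaf
  891028) (.leaf
  2042070)))) (.node 4 (.node 2 (.node 1 (.leaf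
  645979) (.leaf
  351856)) (.node 1 (.leaf
  76641) (.leaf
  795873))) (.node 2 (.node 1 (.leaf
  144) (.leaf
  968328)) (.node 1 (.leaf
  1971926) (.leaf
  1811536))))) (.node 7 (.node 3 (.node 1 (.leaf
  935094) (.node 1 (.leaf
  14226) (.leaf
  1811688))) (.node 2 (.node 1 (.leaf
  1408737) (.leaf
  158438)) (.node 1 (.leaf
  682362) (.leaf
  645406)))) (.node 4 (.node 2 (.node 1 (.leaf
  842958) (.leaf
  359217)) (.node 1 (.leaf
  1327412) (.leaf
  498027))) (.node 2 (.node 1 (.leaf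
  982544) (.leaf
  852804)) (.node 1 (.leaf
  359187) (.leaf
  844075))))))) (.node 29 (.node 14 (.node 7 (.node 3 (.node 1 (.leaf
  2089986) (.node 1 (.leaf
  337580) (.leaf
  2717214))) (.node 2 (.node 1 (.leaf
  36730) (.leaf
  37203)) (.node 1 (.leaf
  1326854) (.leaf
  2169226)))) (.node 3 (.node 1 (.leaf
  1613821) (.node 1 (.leaf
  682879) (.leaf
  1409393))) (.node 2 (.node 1 (.leaf
  29732) (.leaf
  2239794)) (.node 1 (.leaf
  2779357) (.leaf
  286))))) (.node 7 (.node 3 (.node 1 (.leaf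
  323393) (.node 1 (.leaf
  26) (.leaf
  2779363))) (.node 2 (.node 1 (.leaf
  359312) (.leaf
  681767)) (.node 1 (.leaf
  162) (.leaf
  682902)))) (.node 4 (.node 2 (.node 1 (.leaf
  1089389) (.leaf
  161355)) (.node 1 (.leaf
  159) (.leaf
  336955))) (.node 2 (.node 1 (.leaf
  160) (.leaf
  336651)) (.node 1 (.leaf
  1004757) (.leaf
  323249)))))) (.node 15 (.node 7 (.node 3 (.node 1 (.leaf
  322787) (.node 1 (.leaf
  37373) (.leaf
  1409016))) (.node 2 (.node 1 (.leaf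
  1972107) (.leaf
  646296)) (.node 1 (.leaf
  1971935) (.leaf
  1004593)))) (.node 4 (.node 2 (.node 1 (.leaf
  2239695) (.leaf
  681676)) (.node 1 (.leaf
  1375427) (.leaf
  2721713))) (.node 2 (.node 1 (.leaf
  645789) (.leaf
  843789)) (.node 1 (.leaf
  2787900) (.leaf
  359472))))) (.node 7 (.node 3 (.node 1 (.leaf
  852666) (.node 1 (.leaf
  1684757) (.leaf
  2456202))) (.node 2 (.node 1 (.leaf
  1166332) (.leaf
  997197)) (.node 1 (.leaf
  1326917) (.leaf
  497843)))) (.node 4 (.node 2 (.node 1 (.leaf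
  2465531) (.leaf
  1972751)) (.node 1 (.leaf
  645663) (.leaf
  2168476))) (.node 2 (.node 1 (.leaf
  200) (.leaf
  1451727)) (.node 1 (.leaf
  997019) (.leaf
  457591)))))))) (.node 59 (.node 29 (.node 14 (.node 7 (.node 3 (.node 1 (.leaf
  101) (.node 1 (.leaf
  2189423) (.leaf
  136))) (.node 2 (.node 1 (.leaf
  2465194) (.leaf
  843169)) (.node 1 (.leaf
  796159) (.leaf
  2456407)))) (.node 3 (.node 1 (.leaf
  967884) (.node 1 (.leaf
  29027) (.leaf
  681962))) (.node 2 (.node 1 (.leaf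
  925965) (.leaf
  1005033)) (.node 1 (.leaf
  1004860) (.leaf
  1775083))))) (.node 7 (.node 3 (.node 1 (.leaf
  336452) (.node 1 (.leaf
  36664) (.leaf
  1005035))) (.node 2 (.node 1 (.leaf
  322648) (.leaf
  968428)) (.node 1 (.leaf
  336525) (.leaf
  37481)))) (.node 4 (.node 2 (.node 1 (.leaf
  18) (.leaf
  2860789)) (.node 1 (.leaf
  323191) (.leaf
  2455845))) (.node 2 (.node 1 (.leaf
  337219) (.leaf
  513061)) (.node 1 (.leaf
  1614040) (.leaf
  968408)))))) (.node 15 (.node 7 (.node 3 (.node 1 (.leaf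
  645955) (.node 1 (.leaf
  2779004) (.leaf
  1650106))) (.node 2 (.node 1 (.leaf
  135086) (.leaf
  1005226)) (.node 1 (.leaf
  68485) (.leaf
  473216)))) (.node 4 (.node 2 (.node 1 (.leaf
  1649488) (.leaf
  337414)) (.node 1 (.leaf
  359365) (.leaf
  2287103))) (.node 2 (.node 1 (.leaf
  878916) (.leaf
  1451720)) (.node 1 (.leaf
  807240) (.leaf
  2072554))))) (.node 7 (.node 3 (.node 1 (.leaf
  843008) (.node 1 (.leaf
  803787) (.leaf
  135272))) (.node 2 (.node 1 (.leaf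
  843277) (.leaf
  1117736)) (.node 1 (.leaf
  323042) (.leaf
  682534)))) (.node 4 (.node 2 (.node 1 (.leaf
  659984) (.leaf
  2787857)) (.node 1 (.leaf
  37533) (.leaf
  336949))) (.node 2 (.node 1 (.leaf
  351623) (.leaf
  1336351)) (.node 1 (.leaf
  2027194) (.leaf
  912499))))))) (.node 29 (.node 14 (.node 7 (.node 3 (.node 1 (.leaf
  2779537) (.node 1 (.leaf
  1327638) (.leaf
  1327464))) (.node 2 (.node 1 (.leaf
  289) (.leaf
  1659038)) (.node 1 (.leaf
  682631) (.leaf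
  682051)))) (.node 3 (.node 1 (.leaf
  997753) (.node 1 (.leaf
  233925) (.leaf
  128))) (.node 2 (.node 1 (.leaf
  682364) (.leaf
  236)) (.node 1 (.leaf
  323209) (.leaf
  1004293))))) (.node 7 (.node 3 (.node 1 (.leaf
  2239235) (.node 1 (.leaf
  360034) (.leaf
  2041858))) (.node 2 (.node 1 (.leaf
  1409458) (.leaf
  1811623)) (.node 1 (.leaf
  1409404) (.leaf
  165)))) (.node 4 (.node 2 (.node 1 (.leaf
  359381) (.leaf
  1972975)) (.node 1 (.leaf
  2169285) (.leaf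
  2070269))) (.node 2 (.node 1 (.leaf
  852745) (.leaf
  158508)) (.node 1 (.leaf
  336874) (.leaf
  968704)))))) (.node 15 (.node 7 (.node 3 (.node 1 (.leaf
  315) (.node 1 (.leaf
  852244) (.leaf
  891569))) (.node 2 (.node 1 (.leaf
  1580150) (.leaf
  1166194)) (.node 1 (.leaf
  1374710) (.leaf
  924901)))) (.node 4 (.node 2 (.node 1 (.leaf
  2787230) (.leaf
  843013)) (.node 1 (.leaf
  1613540) (.leaf
  681858))) (.node 2 (.node 1 (.leaf
  2041311) (.leaf
  1810730)) (.node 1 (.leaf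
  498550) (.leaf
  1581051))))) (.node 7 (.node 3 (.node 1 (.leaf
  1451589) (.node 1 (.leaf
  14243) (.leaf
  1972366))) (.node 2 (.node 1 (.leaf
  2847436) (.leaf
  2778766)) (.node 1 (.leaf
  135732) (.leaf
  2041972)))) (.node 4 (.node 2 (.node 1 (.leaf
  1685311) (.leaf
  795443)) (.node 1 (.leaf
  645362) (.leaf
  2041205))) (.node 2 (.node 1 (.leaf
  1981517) (.leaf
  925552)) (.node 1 (.leaf
  2455984) (.leaf
  924973)))))))))) (.node 236 (.node 118 (.node 59 (.node 29 (.node 14 (.node 7 (.node 3 (.node 1 (.leaf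
  996710) (.node 1 (.leaf
  151022) (.leaf
  645887))) (.node 2 (.node 1 (.leaf
  2465265) (.leaf
  30062)) (.node 1 (.leaf
  322792) (.leaf
  1810892)))) (.node 3 (.node 1 (.leaf
  2330438) (.node 1 (.leaf
  1165731) (.leaf
  337080))) (.node 2 (.node 1 (.leaf
  681744) (.leaf
  337277)) (.node 1 (.leaf
  2778408) (.leaf
  247))))) (.node 7 (.node 3 (.node 1 (.leaf
  1685131) (.node 1 (.leaf
  878357) (.leaf
  484544))) (.node 2 (.node 1 (.leaf
  935275) (.leaf
  645242)) (.node 1 (.leaf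
  347) (.leaf
  1981304)))) (.node 4 (.node 2 (.node 1 (.leaf
  2042183) (.leaf
  1972458)) (.node 1 (.leaf
  2041473) (.leaf
  1129069))) (.node 2 (.node 1 (.leaf
  150864) (.leaf
  2041734)) (.node 1 (.leaf
  982120) (.leaf
  323045)))))) (.node 15 (.node 7 (.node 3 (.node 1 (.leaf
  1684851) (.node 1 (.leaf
  2189663) (.leaf
  1354959))) (.node 2 (.node 1 (.leaf
  843909) (.leaf
  1118552)) (.node 1 (.leaf
  982340) (.leaf
  2169361)))) (.node 4 (.node 2 (.node 1 (.leaf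
  1613185) (.leaf
  2717263)) (.node 1 (.leaf
  968386) (.leaf
  1972096))) (.node 2 (.node 1 (.leaf
  71895) (.leaf
  843017)) (.node 1 (.leaf
  852522) (.leaf
  2455815))))) (.node 7 (.node 3 (.node 1 (.leaf
  967783) (.node 1 (.leaf
  1973123) (.leaf
  1570155))) (.node 2 (.node 1 (.leaf
  2847890) (.leaf
  1451641)) (.node 1 (.leaf
  646087) (.leaf
  1129066)))) (.node 4 (.node 2 (.node 1 (.leaf
  1166212) (.leaf
  645504)) (.node 1 (.leaf
  37252) (.leaf
  968251))) (.node 2 (.node 1 (.leaf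
  682425) (.leaf
  1125558)) (.node 1 (.leaf
  2626081) (.leaf
  2295520))))))) (.node 29 (.node 14 (.node 7 (.node 3 (.node 1 (.leaf
  806612) (.node 1 (.leaf
  1972146) (.leaf
  1810856))) (.node 2 (.node 1 (.leaf
  150481) (.leaf
  1089319)) (.node 1 (.leaf
  1972867) (.leaf
  1004952)))) (.node 3 (.node 1 (.leaf
  807162) (.node 1 (.leaf
  1613536) (.leaf
  1488197))) (.node 2 (.node 1 (.leaf
  968494) (.leaf
  150480)) (.node 1 (.leaf
  2456706) (.leaf
  513611))))) (.node 7 (.node 3 (.node 1 (.leaf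
  1613901) (.node 1 (.leaf
  1613010) (.leaf
  157782))) (.node 2 (.node 1 (.leaf
  151035) (.leaf
  2779274)) (.node 1 (.leaf
  1613538) (.leaf
  851980)))) (.node 4 (.node 2 (.node 1 (.leaf
  1972101) (.leaf
  2247046)) (.node 1 (.leaf
  1811408) (.leaf
  37381))) (.node 2 (.node 1 (.leaf
  843276) (.leaf
  843969)) (.node 1 (.leaf
  1129030) (.leaf
  2287643)))))) (.node 15 (.node 7 (.node 3 (.node 1 (.leaf
  1089275) (.node 1 (.leaf
  1774341) (.leaf
  982527))) (.node 2 (.node 1 (.leaf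
  645859) (.leaf
  645189)) (.node 1 (.leaf
  1972283) (.leaf
  2716677)))) (.node 4 (.node 2 (.node 1 (.leaf
  981640) (.leaf
  2455942)) (.node 1 (.leaf
  682426) (.leaf
  2716842))) (.node 2 (.node 1 (.leaf
  359932) (.leaf
  1972490)) (.node 1 (.leaf
  1004231) (.leaf
  843790))))) (.node 7 (.node 3 (.node 1 (.leaf
  2295236) (.node 1 (.leaf
  336865) (.leaf
  233878))) (.node 2 (.node 1 (.leaf
  967921) (.leaf
  682519)) (.node 1 (.leaf
  924980) (.leaf
  803145)))) (.node 4 (.node 2 (.node 1 (.leaf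
  1580743) (.leaf
  2455928)) (.node 1 (.leaf
  337135) (.leaf
  150939))) (.node 2 (.node 1 (.leaf
  2787268) (.leaf
  21)) (.node 1 (.leaf
  1291406) (.leaf
  391)))))))) (.node 59 (.node 29 (.node 14 (.node 7 (.node 3 (.node 1 (.leaf
  323350) (.node 1 (.leaf
  337462) (.leaf
  215))) (.node 2 (.node 1 (.leaf
  935196) (.leaf
  337191)) (.node 1 (.leaf
  2168957) (.leaf
  2041831)))) (.node 3 (.node 1 (.leaf
  322825) (.node 1 (.leaf
  2096693) (.leaf
  2041659))) (.node 2 (.node 1 (.leaf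
  682437) (.leaf
  1291085)) (.node 1 (.leaf
  1972826) (.leaf
  14175))))) (.node 7 (.node 3 (.node 1 (.leaf
  852578) (.node 1 (.leaf
  2717312) (.leaf
  443732))) (.node 2 (.node 1 (.leaf
  1811356) (.leaf
  2188987)) (.node 1 (.leaf
  2787635) (.leaf
  1327196)))) (.node 4 (.node 2 (.node 1 (.leaf
  1649486) (.leaf
  968618)) (.node 1 (.leaf
  2142773) (.leaf
  1650296))) (.node 2 (.node 1 (.leaf
  323325) (.leaf
  1650307)) (.node 1 (.leaf
  878341) (.leaf
  1291084)))))) (.node 15 (.node 7 (.node 3 (.node 1 (.leaf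
  807587) (.node 1 (.leaf
  336552) (.leaf
  322631))) (.node 2 (.node 1 (.leaf
  646227) (.leaf
  1972550)) (.node 1 (.leaf
  360316) (.leaf
  187)))) (.node 4 (.node 2 (.node 1 (.leaf
  682871) (.leaf
  323719)) (.node 1 (.leaf
  592) (.leaf
  14592))) (.node 2 (.node 1 (.leaf
  457760) (.leaf
  1409538)) (.node 1 (.leaf
  982373) (.leaf
  458222))))) (.node 7 (.node 3 (.node 1 (.leaf
  2464763) (.node 1 (.leaf
  2329886) (.leaf
  807086))) (.node 2 (.node 1 (.leaf
  2042031) (.leaf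
  2026201)) (.node 1 (.leaf
  337) (.leaf
  681775)))) (.node 4 (.node 2 (.node 1 (.leaf
  8) (.leaf
  878756)) (.node 1 (.leaf
  473396) (.leaf
  967700))) (.node 2 (.node 1 (.leaf
  1580097) (.leaf
  1580425)) (.node 1 (.leaf
  2433181) (.leaf
  13908))))))) (.node 29 (.node 14 (.node 7 (.node 3 (.node 1 (.leaf
  2456477) (.node 1 (.leaf
  1409387) (.leaf
  2072485))) (.node 2 (.node 1 (.leaf
  681684) (.leaf
  1408748)) (.node 1 (.leaf
  645173) (.leaf
  645223)))) (.node 3 (.node 1 (.leaf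
  386343) (.node 1 (.leaf
  1748849) (.leaf
  351702))) (.node 2 (.node 1 (.leaf
  2778453) (.leaf
  76674)) (.node 1 (.leaf
  1126094) (.leaf
  645342))))) (.node 7 (.node 3 (.node 1 (.leaf
  497826) (.node 1 (.leaf
  322722) (.leaf
  674286))) (.node 2 (.node 1 (.leaf
  322566) (.leaf
  645593)) (.node 1 (.leaf
  579479) (.leaf
  2169243)))) (.node 4 (.node 2 (.node 1 (.leaf
  206) (.leaf
  1580335)) (.node 1 (.leaf
  1488824) (.leaf
  1972394))) (.node 2 (.node 1 (.leaf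
  843636) (.leaf
  1451677)) (.node 1 (.leaf
  645661) (.leaf
  2070471)))))) (.node 15 (.node 7 (.node 3 (.node 1 (.leaf
  1971909) (.node 1 (.leaf
  37584) (.leaf
  161753))) (.node 2 (.node 1 (.leaf
  2286977) (.leaf
  806427)) (.node 1 (.leaf
  1972784) (.leaf
  2041337)))) (.node 4 (.node 2 (.node 1 (.leaf
  1408807) (.leaf
  646136)) (.node 1 (.leaf
  1972532) (.leaf
  795338))) (.node 2 (.node 1 (.leaf
  1685268) (.leaf
  968297)) (.node 1 (.leaf
  135718) (.leaf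
  497837))))) (.node 7 (.node 3 (.node 1 (.leaf
  807383) (.node 1 (.leaf
  878277) (.leaf
  2779002))) (.node 2 (.node 1 (.leaf
  1972077) (.leaf
  968282)) (.node 1 (.leaf
  2070295) (.leaf
  682393)))) (.node 4 (.node 2 (.node 1 (.leaf
  2716687) (.leaf
  359301)) (.node 1 (.leaf
  483993) (.leaf
  14400))) (.node 2 (.node 1 (.leaf
  359361) (.leaf
  1375826)) (.node 1 (.leaf
  1326857) (.leaf
  924976))))))))) (.node 118 (.node 59 (.node 29 (.node 14 (.node 7 (.node 3 (.node 1 (.leaf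
  1409044) (.node 1 (.leaf
  483917) (.leaf
  1396540))) (.node 2 (.node 1 (.leaf
  645786) (.leaf
  351812)) (.node 1 (.leaf
  337073) (.leaf
  72)))) (.node 3 (.node 1 (.leaf
  659259) (.node 1 (.leaf
  1972829) (.leaf
  1409233))) (.node 2 (.node 1 (.leaf
  537110) (.leaf
  1409490)) (.node 1 (.leaf
  968242) (.leaf
  1811294))))) (.node 7 (.node 3 (.node 1 (.leaf
  1979917) (.node 1 (.leaf
  337068) (.leaf
  14507))) (.node 2 (.node 1 (.leaf
  37199) (.leaf
  879024)) (.node 1 (.leaf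
  37219) (.leaf
  13893)))) (.node 4 (.node 2 (.node 1 (.leaf
  682616) (.leaf
  337115)) (.node 1 (.leaf
  37334) (.leaf
  336489))) (.node 2 (.node 1 (.leaf
  395) (.leaf
  1580910)) (.node 1 (.leaf
  157787) (.leaf
  1810773)))))) (.node 15 (.node 7 (.node 3 (.node 1 (.leaf
  913281) (.node 1 (.leaf
  646356) (.leaf
  1581137))) (.node 2 (.node 1 (.leaf
  807441) (.leaf
  2097562)) (.node 1 (.leaf
  1972311) (.leaf
  682350)))) (.node 4 (.node 2 (.node 1 (.leaf
  1129742) (.leaf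
  36735)) (.node 1 (.leaf
  2008125) (.leaf
  483951))) (.node 2 (.node 1 (.leaf
  681660) (.leaf
  157783)) (.node 1 (.leaf
  30012) (.leaf
  682504))))) (.node 7 (.node 3 (.node 1 (.leaf
  14352) (.node 1 (.leaf
  843641) (.leaf
  30141))) (.node 2 (.node 1 (.leaf
  2717341) (.leaf
  1810799)) (.node 1 (.leaf
  323344) (.leaf
  1684946)))) (.node 4 (.node 2 (.node 1 (.leaf
  322923) (.leaf
  659166)) (.node 1 (.leaf
  151101) (.leaf
  806715))) (.node 2 (.node 1 (.leaf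
  924920) (.leaf
  150308)) (.node 1 (.leaf
  352756) (.leaf
  2189116))))))) (.node 29 (.node 14 (.node 7 (.node 3 (.node 1 (.leaf
  359764) (.node 1 (.leaf
  2258846) (.leaf
  359221))) (.node 2 (.node 1 (.leaf
  2847975) (.leaf
  2239027)) (.node 1 (.leaf
  351890) (.leaf
  14169)))) (.node 3 (.node 1 (.leaf
  2239134) (.node 1 (.leaf
  660189) (.leaf
  2042306))) (.node 2 (.node 1 (.leaf
  1129663) (.leaf
  2041757)) (.node 1 (.leaf
  339) (.leaf
  322977))))) (.node 7 (.node 3 (.node 1 (.leaf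
  340) (.node 1 (.leaf
  29255) (.leaf
  1981482))) (.node 2 (.node 1 (.leaf
  2168639) (.leaf
  37524)) (.node 1 (.leaf
  2329810) (.leaf
  323222)))) (.node 4 (.node 2 (.node 1 (.leaf
  457856) (.leaf
  843804)) (.node 1 (.leaf
  2070720) (.leaf
  150482))) (.node 2 (.node 1 (.leaf
  2240146) (.leaf
  967874)) (.node 1 (.leaf
  1125198) (.leaf
  1972807)))))) (.node 15 (.node 7 (.node 3 (.node 1 (.leaf
  878879) (.node 1 (.leaf
  2072484) (.leaf
  150871))) (.node 2 (.node 1 (.leaf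
  2168831) (.leaf
  336747)) (.node 1 (.leaf
  336775) (.leaf
  2041975)))) (.node 4 (.node 2 (.node 1 (.leaf
  323466) (.leaf
  935379)) (.node 1 (.leaf
  1613184) (.leaf
  2026220))) (.node 2 (.node 1 (.leaf
  1409312) (.leaf
  879205)) (.node 1 (.leaf
  795969) (.leaf
  36542))))) (.node 7 (.node 3 (.node 1 (.leaf
  878932) (.node 1 (.leaf
  376463) (.leaf
  1165603))) (.node 2 (.node 1 (.leaf
  14056) (.leaf
  2169305)) (.node 1 (.leaf
  256) (.leaf
  2787317)))) (.node 4 (.node 2 (.node 1 (.leaf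
  492) (.leaf
  2779441)) (.node 1 (.leaf
  181) (.leaf
  1004359))) (.node 2 (.node 1 (.leaf
  359945) (.leaf
  360002)) (.node 1 (.leaf
  646034) (.leaf
  2041521)))))))) (.node 59 (.node 29 (.node 14 (.node 7 (.node 3 (.node 1 (.leaf
  1408874) (.node 1 (.leaf
  352033) (.leaf
  14861))) (.node 2 (.node 1 (.leaf
  674288) (.leaf
  458186)) (.node 1 (.leaf
  1775130) (.leaf
  967728)))) (.node 3 (.node 1 (.leaf
  14499) (.node 1 (.leaf
  1004956) (.leaf
  1741846))) (.node 2 (.node 1 (.leaf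
  360094) (.leaf
  454)) (.node 1 (.leaf
  2169362) (.leaf
  2026852))))) (.node 7 (.node 3 (.node 1 (.leaf
  359750) (.node 1 (.leaf
  37406) (.leaf
  674563))) (.node 2 (.node 1 (.leaf
  2787995) (.leaf
  968144)) (.node 1 (.leaf
  1375703) (.leaf
  323477)))) (.node 4 (.node 2 (.node 1 (.leaf
  1125200) (.leaf
  2168592)) (.node 1 (.leaf
  1774309) (.leaf
  1374863))) (.node 2 (.node 1 (.leaf
  1354997) (.leaf
  981727)) (.node 1 (.leaf
  1972912) (.leaf
  495)))))) (.node 15 (.node 7 (.node 3 (.node 1 (.leaf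
  1291241) (.node 1 (.leaf
  197881) (.leaf
  323405))) (.node 2 (.node 1 (.leaf
  1129665) (.leaf
  924975)) (.node 1 (.leaf
  29252) (.leaf
  36864)))) (.node 4 (.node 2 (.node 1 (.leaf
  1972333) (.leaf
  457682)) (.node 1 (.leaf
  891213) (.leaf
  925706))) (.node 2 (.node 1 (.leaf
  1972168) (.leaf
  806636)) (.node 1 (.leaf
  843992) (.leaf
  962325))))) (.node 7 (.node 3 (.node 1 (.leaf
  2247592) (.node 1 (.leaf
  555) (.leaf
  2070987))) (.node 2 (.node 1 (.leaf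
  1973028) (.leaf
  843881)) (.node 1 (.leaf
  1972766) (.leaf
  803081)))) (.node 4 (.node 2 (.node 1 (.leaf
  2041604) (.leaf
  1972018)) (.node 1 (.leaf
  1972854) (.leaf
  843974))) (.node 2 (.node 1 (.leaf
  1981217) (.leaf
  2169151)) (.node 1 (.leaf
  843023) (.leaf
  458223))))))) (.node 30 (.node 15 (.node 7 (.node 3 (.node 1 (.leaf
  151040) (.node 1 (.leaf
  1811407) (.leaf
  69225))) (.node 2 (.node 1 (.leaf
  1810697) (.leaf
  1612951)) (.node 1 (.leaf
  71952) (.leaf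
  967925)))) (.node 4 (.node 2 (.node 1 (.leaf
  2041271) (.leaf
  36557)) (.node 1 (.leaf
  1326912) (.leaf
  1118711))) (.node 2 (.node 1 (.leaf
  1409339) (.leaf
  2465343)) (.node 1 (.leaf
  161572) (.leaf
  1117907))))) (.node 7 (.node 3 (.node 1 (.leaf
  352384) (.node 1 (.leaf
  967776) (.leaf
  497836))) (.node 2 (.node 1 (.leaf
  645169) (.leaf
  645815)) (.node 1 (.leaf
  968431) (.leaf
  322801)))) (.node 4 (.node 2 (.node 1 (.leaf
  161482) (.leaf
  2188891)) (.node 1 (.leaf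
  2042201) (.leaf
  2717311))) (.node 2 (.node 1 (.leaf
  13992) (.leaf
  14053)) (.node 1 (.leaf
  2717338) (.leaf
  1612873)))))) (.node 15 (.node 7 (.node 3 (.node 1 (.leaf
  1971991) (.node 1 (.leaf
  323687) (.leaf
  150235))) (.node 2 (.node 1 (.leaf
  402) (.leaf
  852948)) (.node 1 (.leaf
  1117870) (.leaf
  37310)))) (.node 4 (.node 2 (.node 1 (.leaf
  161390) (.leaf
  2525620)) (.node 1 (.leaf
  2026144) (.leaf
  674547))) (.node 2 (.node 1 (.leaf
  843696) (.leaf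
  1580869)) (.node 1 (.leaf
  1972942) (.leaf
  36572))))) (.node 7 (.node 3 (.node 1 (.leaf
  352538) (.node 1 (.leaf
  29439) (.leaf
  795871))) (.node 2 (.node 1 (.leaf
  682400) (.leaf
  135643)) (.node 1 (.leaf
  336615) (.leaf
  14075)))) (.node 4 (.node 2 (.node 1 (.leaf
  646045) (.leaf
  337192)) (.node 1 (.leaf
  2465222) (.leaf
  925793))) (.node 2 (.node 1 (.leaf
  69268) (.leaf
  645763)) (.node 1 (.leaf
  1650033) (.leaf
  2041454))))))))))) (.node 472 (.node 236 (.node 118 (.node 59 (.node 29 (.node 14 (.node 7 (.node 3 (.node 1 (.leaf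
  1980890) (.node 1 (.leaf
  2239083) (.leaf
  1811257))) (.node 2 (.node 1 (.leaf
  1409368) (.leaf
  512896)) (.node 1 (.leaf
  2456411) (.leaf
  336531)))) (.node 3 (.node 1 (.leaf
  682531) (.node 1 (.leaf
  379) (.leaf
  2303433))) (.node 2 (.node 1 (.leaf
  76) (.leaf
  681736)) (.node 1 (.leaf
  359218) (.leaf
  2042000))))) (.node 7 (.node 3 (.node 1 (.leaf
  925602) (.node 1 (.leaf
  967963) (.leaf
  2717308))) (.node 2 (.node 1 (.leaf
  1118459) (.leaf
  2456712)) (.node 1 (.leaf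
  1408756) (.leaf
  2294608)))) (.node 4 (.node 2 (.node 1 (.leaf
  1129036) (.leaf
  14687)) (.node 1 (.leaf
  967832) (.leaf
  682487))) (.node 2 (.node 1 (.leaf
  30060) (.leaf
  2026395)) (.node 1 (.leaf
  1774730) (.leaf
  935192)))))) (.node 15 (.node 7 (.node 3 (.node 1 (.leaf
  1129793) (.node 1 (.leaf
  150961) (.leaf
  121878))) (.node 2 (.node 1 (.leaf
  2041223) (.leaf
  2717487)) (.node 1 (.leaf
  842942) (.leaf
  2240065)))) (.node 4 (.node 2 (.node 1 (.leaf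
  288) (.leaf
  359260)) (.node 1 (.leaf
  323409) (.leaf
  2042124))) (.node 2 (.node 1 (.leaf
  659341) (.leaf
  982129)) (.node 1 (.leaf
  2455889) (.leaf
  2716606))))) (.node 7 (.node 3 (.node 1 (.leaf
  878778) (.node 1 (.leaf
  682297) (.leaf
  682571))) (.node 2 (.node 1 (.leaf
  681847) (.leaf
  2848693)) (.node 1 (.leaf
  842968) (.leaf
  1446334)))) (.node 4 (.node 2 (.node 1 (.leaf
  2778412) (.leaf
  2779125)) (.node 1 (.leaf
  352373) (.leaf
  924867))) (.node 2 (.node 1 (.leaf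
  2027113) (.leaf
  14344)) (.node 1 (.leaf
  323355) (.leaf
  337452))))))) (.node 29 (.node 14 (.node 7 (.node 3 (.node 1 (.leaf
  2027136) (.node 1 (.leaf
  2042365) (.leaf
  359203))) (.node 2 (.node 1 (.leaf
  681805) (.leaf
  2456470)) (.node 1 (.leaf
  480881) (.leaf
  1117828)))) (.node 3 (.node 1 (.leaf
  967780) (.node 1 (.leaf
  1811551) (.leaf
  36777))) (.node 2 (.node 1 (.leaf
  322680) (.leaf
  2041231)) (.node 1 (.leaf
  2071993) (.leaf
  5))))) (.node 7 (.node 3 (.node 1 (.leaf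
  2778814) (.node 1 (.leaf
  1004519) (.leaf
  2042290))) (.node 2 (.node 1 (.leaf
  336530) (.leaf
  1005133)) (.node 1 (.leaf
  2168504) (.leaf
  352437)))) (.node 4 (.node 2 (.node 1 (.leaf
  1004862) (.leaf
  645836)) (.node 1 (.leaf
  1004330) (.leaf
  682340))) (.node 2 (.node 1 (.leaf
  967800) (.leaf
  968646)) (.node 1 (.leaf
  1005129) (.leaf
  305)))))) (.node 15 (.node 7 (.node 3 (.node 1 (.leaf
  1972073) (.node 1 (.leaf
  1327642) (.leaf
  2779399))) (.node 2 (.node 1 (.leaf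
  2169113) (.leaf
  843501)) (.node 1 (.leaf
  359998) (.leaf
  180)))) (.node 4 (.node 2 (.node 1 (.leaf
  646287) (.leaf
  1125228)) (.node 1 (.leaf
  2168587) (.leaf
  1685048))) (.node 2 (.node 1 (.leaf
  387) (.leaf
  246)) (.node 1 (.leaf
  30142) (.leaf
  1327265))))) (.node 7 (.node 3 (.node 1 (.leaf
  2168876) (.node 1 (.leaf
  457654) (.leaf
  337545))) (.node 2 (.node 1 (.leaf
  150116) (.leaf
  682198)) (.node 1 (.leaf
  1659179) (.leaf
  1971963)))) (.node 4 (.node 2 (.node 1 (.leaf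
  645502) (.leaf
  924898)) (.node 1 (.leaf
  444684) (.leaf
  228))) (.node 2 (.node 1 (.leaf
  2071198) (.leaf
  150213)) (.node 1 (.leaf
  360182) (.leaf
  1118868)))))))) (.node 59 (.node 29 (.node 14 (.node 7 (.node 3 (.node 1 (.leaf
  1327105) (.node 1 (.leaf
  1971995) (.leaf
  2778684))) (.node 2 (.node 1 (.leaf
  323742) (.leaf
  1811401)) (.node 1 (.leaf
  1972827) (.leaf
  1811635)))) (.node 3 (.node 1 (.leaf
  925529) (.node 1 (.leaf
  2041957) (.leaf
  1774759))) (.node 2 (.node 1 (.leaf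
  843624) (.leaf
  352703)) (.node 1 (.leaf
  2071176) (.leaf
  1980814))))) (.node 7 (.node 3 (.node 1 (.leaf
  843637) (.node 1 (.leaf
  2041870) (.leaf
  225))) (.node 2 (.node 1 (.leaf
  134989) (.leaf
  852617)) (.node 1 (.leaf
  325) (.leaf
  513893)))) (.node 4 (.node 2 (.node 1 (.leaf
  1488120) (.leaf
  1580193)) (.node 1 (.leaf
  1685668) (.leaf
  1613677))) (.node 2 (.node 1 (.leaf
  2070982) (.leaf
  675256)) (.node 1 (.leaf
  681966) (.leaf
  795159)))))) (.node 15 (.node 7 (.node 3 (.node 1 (.leaf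
  2042146) (.node 1 (.leaf
  968375) (.leaf
  1327427))) (.node 2 (.node 1 (.leaf
  1004890) (.leaf
  890867)) (.node 1 (.leaf
  645660) (.leaf
  14540)))) (.node 4 (.node 2 (.node 1 (.leaf
  359295) (.leaf
  2168568)) (.node 1 (.leaf
  480525) (.leaf
  323468))) (.node 2 (.node 1 (.leaf
  351684) (.leaf
  646276)) (.node 1 (.leaf
  458098) (.leaf
  1972787))))) (.node 7 (.node 3 (.node 1 (.leaf
  2041280) (.node 1 (.leaf
  37188) (.leaf
  1972869))) (.node 2 (.node 1 (.leaf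
  843449) (.leaf
  912595)) (.node 1 (.leaf
  1375074) (.leaf
  336952)))) (.node 4 (.node 2 (.node 1 (.leaf
  157799) (.leaf
  337230)) (.node 1 (.leaf
  1396191) (.leaf
  795886))) (.node 2 (.node 1 (.leaf
  323266) (.leaf
  68297)) (.node 1 (.leaf
  645586) (.leaf
  682271))))))) (.node 29 (.node 14 (.node 7 (.node 3 (.node 1 (.leaf
  1408803) (.node 1 (.leaf
  118) (.leaf
  2717328))) (.node 2 (.node 1 (.leaf
  352702) (.leaf
  37448)) (.node 1 (.leaf
  114) (.leaf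
  1004758)))) (.node 3 (.node 1 (.leaf
  2779316) (.node 1 (.leaf
  123) (.leaf
  14601))) (.node 2 (.node 1 (.leaf
  659263) (.leaf
  968381)) (.node 1 (.leaf
  1811193) (.leaf
  322627))))) (.node 7 (.node 3 (.node 1 (.leaf
  14012) (.node 1 (.leaf
  322798) (.leaf
  322625))) (.node 2 (.node 1 (.leaf
  337422) (.leaf
  807147)) (.node 1 (.leaf
  1451596) (.leaf
  2097464)))) (.node 4 (.node 2 (.node 1 (.leaf
  659221) (.leaf
  645220)) (.node 1 (.leaf
  37022) (.leaf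
  795974))) (.node 2 (.node 1 (.leaf
  2142053) (.leaf
  2787662)) (.node 1 (.leaf
  65) (.leaf
  1103591)))))) (.node 15 (.node 7 (.node 3 (.node 1 (.leaf
  336836) (.node 1 (.leaf
  1005038) (.leaf
  646329))) (.node 2 (.node 1 (.leaf
  2779036) (.leaf
  2778640)) (.node 1 (.leaf
  796076) (.leaf
  1612905)))) (.node 4 (.node 2 (.node 1 (.leaf
  322796) (.leaf
  283)) (.node 1 (.leaf
  1650387) (.leaf
  552))) (.node 2 (.node 1 (.leaf
  14956) (.leaf
  14345)) (.node 1 (.leaf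
  443888) (.leaf
  2455989))))) (.node 7 (.node 3 (.node 1 (.leaf
  1980545) (.node 1 (.leaf
  1981709) (.leaf
  780404))) (.node 2 (.node 1 (.leaf
  336791) (.leaf
  359311)) (.node 1 (.leaf
  2848343) (.leaf
  925484)))) (.node 4 (.node 2 (.node 1 (.leaf
  645274) (.leaf
  2168688)) (.node 1 (.leaf
  659444) (.leaf
  2778934))) (.node 2 (.node 1 (.leaf
  645929) (.leaf
  1129111)) (.node 1 (.leaf
  1981306) (.leaf
  1129161))))))))) (.node 118 (.node 59 (.node 29 (.node 14 (.node 7 (.node 3 (.node 1 (.leaf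
  682326) (.node 1 (.leaf
  14051) (.leaf
  997664))) (.node 2 (.node 1 (.leaf
  925535) (.leaf
  2456666)) (.node 1 (.leaf
  1685681) (.leaf
  253)))) (.node 3 (.node 1 (.leaf
  925953) (.node 1 (.leaf
  878624) (.leaf
  248))) (.node 2 (.node 1 (.leaf
  981571) (.leaf
  803608)) (.node 1 (.leaf
  967816) (.leaf
  2042180))))) (.node 7 (.node 3 (.node 1 (.leaf
  37136) (.node 1 (.leaf
  37666) (.leaf
  352541))) (.node 2 (.node 1 (.leaf
  1684849) (.leaf
  557)) (.node 1 (.leaf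
  37091) (.leaf
  219)))) (.node 4 (.node 2 (.node 1 (.leaf
  1541541) (.leaf
  982781)) (.node 1 (.leaf
  659163) (.leaf
  162023))) (.node 2 (.node 1 (.leaf
  2847439) (.leaf
  2041881)) (.node 1 (.leaf
  682122) (.leaf
  2581171)))))) (.node 15 (.node 7 (.node 3 (.node 1 (.leaf
  2779311) (.node 1 (.leaf
  14036) (.leaf
  1650039))) (.node 2 (.node 1 (.leaf
  36603) (.leaf
  1972106)) (.node 1 (.leaf
  2089539) (.leaf
  469)))) (.node 4 (.node 2 (.node 1 (.leaf
  2042097) (.leaf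
  36551)) (.node 1 (.leaf
  645951) (.leaf
  2294972))) (.node 2 (.node 1 (.leaf
  336) (.leaf
  660148)) (.node 1 (.leaf
  1732227) (.leaf
  2041862))))) (.node 7 (.node 3 (.node 1 (.leaf
  2071191) (.node 1 (.leaf
  2070562) (.leaf
  100))) (.node 2 (.node 1 (.leaf
  925499) (.leaf
  967719)) (.node 1 (.leaf
  336563) (.leaf
  1973025)))) (.node 4 (.node 2 (.node 1 (.leaf
  924857) (.leaf
  1650111)) (.node 1 (.leaf
  2465262) (.leaf
  645849))) (.node 2 (.node 1 (.leaf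
  968355) (.leaf
  2041608)) (.node 1 (.leaf
  2168663) (.leaf
  372))))))) (.node 29 (.node 14 (.node 7 (.node 3 (.node 1 (.leaf
  81) (.node 1 (.leaf
  360020) (.leaf
  2041961))) (.node 2 (.node 1 (.leaf
  352023) (.leaf
  646033)) (.node 1 (.leaf
  14957) (.leaf
  879108)))) (.node 3 (.node 1 (.leaf
  2071632) (.node 1 (.leaf
  1774315) (.leaf
  2787269))) (.node 2 (.node 1 (.leaf
  29151) (.leaf
  1291366)) (.node 1 (.leaf
  360091) (.leaf
  806654))))) (.node 7 (.node 3 (.node 1 (.leaf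
  2097683) (.node 1 (.leaf
  1741696) (.leaf
  2041912))) (.node 2 (.node 1 (.leaf
  2303392) (.leaf
  967782)) (.node 1 (.leaf
  968429) (.leaf
  2041555)))) (.node 4 (.node 2 (.node 1 (.leaf
  37185) (.leaf
  2026757)) (.node 1 (.leaf
  336833) (.leaf
  354))) (.node 2 (.node 1 (.leaf
  795521) (.leaf
  2041844)) (.node 1 (.leaf
  1129772) (.leaf
  14591)))))) (.node 15 (.node 7 (.node 3 (.node 1 (.leaf
  1089648) (.node 1 (.leaf
  1614007) (.leaf
  359303))) (.node 2 (.node 1 (.leaf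
  1290293) (.leaf
  852674)) (.node 1 (.leaf
  2847784) (.leaf
  1811337)))) (.node 4 (.node 2 (.node 1 (.leaf
  2878751) (.leaf
  1684662)) (.node 1 (.leaf
  879140) (.leaf
  2041848))) (.node 2 (.node 1 (.leaf
  1774183) (.leaf
  2072337)) (.node 1 (.leaf
  1732229) (.leaf
  2041325))))) (.node 7 (.node 3 (.node 1 (.leaf
  1972042) (.node 1 (.leaf
  1409334) (.leaf
  2878830))) (.node 2 (.node 1 (.leaf
  385714) (.leaf
  851847)) (.node 1 (.leaf
  2040391) (.leaf
  878953)))) (.node 4 (.node 2 (.node 1 (.leaf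
  1375063) (.leaf
  2861018)) (.node 1 (.leaf
  2007441) (.leaf
  1972214))) (.node 2 (.node 1 (.leaf
  852124) (.leaf
  323241)) (.node 1 (.leaf
  681683) (.leaf
  134)))))))) (.node 59 (.node 29 (.node 14 (.node 7 (.node 3 (.node 1 (.leaf
  1004910) (.node 1 (.leaf
  322894) (.leaf
  254))) (.node 2 (.node 1 (.leaf
  76045) (.leaf
  2169213)) (.node 1 (.leaf
  472602) (.leaf
  2419261)))) (.node 3 (.node 1 (.leaf
  14264) (.node 1 (.leaf
  2778890) (.leaf
  2168753))) (.node 2 (.node 1 (.leaf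
  323) (.leaf
  573)) (.node 1 (.leaf
  29192) (.leaf
  336648))))) (.node 7 (.node 3 (.node 1 (.leaf
  851813) (.node 1 (.leaf
  36912) (.leaf
  843075))) (.node 2 (.node 1 (.leaf
  336540) (.leaf
  646220)) (.node 1 (.leaf
  2555640) (.leaf
  891571)))) (.node 4 (.node 2 (.node 1 (.leaf
  14121) (.leaf
  2456420)) (.node 1 (.leaf
  336617) (.leaf
  99))) (.node 2 (.node 1 (.leaf
  2464734) (.leaf
  142)) (.node 1 (.leaf
  336470) (.leaf
  337238)))))) (.node 15 (.node 7 (.node 3 (.node 1 (.leaf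
  967730) (.node 1 (.leaf
  2072530) (.leaf
  158))) (.node 2 (.node 1 (.leaf
  2026633) (.leaf
  962230)) (.node 1 (.leaf
  682456) (.leaf
  1811597)))) (.node 4 (.node 2 (.node 1 (.leaf
  1004417) (.leaf
  2778908)) (.node 1 (.leaf
  682398) (.leaf
  337322))) (.node 2 (.node 1 (.leaf
  158315) (.leaf
  29100)) (.node 1 (.leaf
  513173) (.leaf
  2169332))))) (.node 7 (.node 3 (.node 1 (.leaf
  2169140) (.node 1 (.leaf
  878440) (.leaf
  1972624))) (.node 2 (.node 1 (.leaf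
  645525) (.leaf
  2041752)) (.node 1 (.leaf
  878273) (.leaf
  1719229)))) (.node 4 (.node 2 (.node 1 (.leaf
  851826) (.leaf
  2303353)) (.node 1 (.leaf
  1971912) (.leaf
  359462))) (.node 2 (.node 1 (.leaf
  982435) (.leaf
  2041468)) (.node 1 (.leaf
  1607196) (.leaf
  1774146))))))) (.node 29 (.node 14 (.node 7 (.node 3 (.node 1 (.leaf
  2556174) (.node 1 (.leaf
  878274) (.leaf
  1451806))) (.node 2 (.node 1 (.leaf
  457771) (.leaf
  982530)) (.node 1 (.leaf
  2239812) (.leaf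
  803529)))) (.node 3 (.node 1 (.leaf
  1811250) (.node 1 (.leaf
  1748867) (.leaf
  2041952))) (.node 2 (.node 1 (.leaf
  843091) (.leaf
  1291273)) (.node 1 (.leaf
  1685578) (.leaf
  29533))))) (.node 7 (.node 3 (.node 1 (.leaf
  1972564) (.node 1 (.leaf
  1972874) (.leaf
  2142154))) (.node 2 (.node 1 (.leaf
  1810752) (.leaf
  1756273)) (.node 1 (.leaf
  37025) (.leaf
  36758)))) (.node 4 (.node 2 (.node 1 (.leaf
  352037) (.leaf
  806449)) (.node 1 (.leaf
  359364) (.leaf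
  2239658))) (.node 2 (.node 1 (.leaf
  1810959) (.leaf
  2042214)) (.node 1 (.leaf
  2456416) (.leaf
  2097828)))))) (.node 15 (.node 7 (.node 3 (.node 1 (.leaf
  1972021) (.node 1 (.leaf
  46474) (.leaf
  843195))) (.node 2 (.node 1 (.leaf
  1973013) (.leaf
  2070567)) (.node 1 (.leaf
  158430) (.leaf
  1972139)))) (.node 4 (.node 2 (.node 1 (.leaf
  1488257) (.leaf
  37451)) (.node 1 (.leaf
  1810686) (.leaf
  1685326))) (.node 2 (.node 1 (.leaf
  925709) (.leaf
  968556)) (.node 1 (.leaf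
  2716806) (.leaf
  2295653))))) (.node 7 (.node 3 (.node 1 (.leaf
  2169103) (.node 1 (.leaf
  981804) (.leaf
  2846722))) (.node 2 (.node 1 (.leaf
  14253) (.leaf
  2026319)) (.node 1 (.leaf
  806639) (.leaf
  1580911)))) (.node 4 (.node 2 (.node 1 (.leaf
  2419892) (.leaf
  2041303)) (.node 1 (.leaf
  2169167) (.leaf
  2787361))) (.node 2 (.node 1 (.leaf
  150857) (.leaf
  351859)) (.node 1 (.leaf
  352521) (.leaf
  2294607)))))))))) (.node 236 (.node 118 (.node 59 (.node 29 (.node 14 (.node 7 (.node 3 (.node 1 (.leaf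
  806540) (.node 1 (.leaf
  497931) (.leaf
  1409635))) (.node 2 (.node 1 (.leaf
  646030) (.leaf
  2041224)) (.node 1 (.leaf
  681902) (.leaf
  322848)))) (.node 3 (.node 1 (.leaf
  1649770) (.node 1 (.leaf
  645591) (.leaf
  682664))) (.node 2 (.node 1 (.leaf
  14223) (.leaf
  843354)) (.node 1 (.leaf
  645810) (.leaf
  359918))))) (.node 7 (.node 3 (.node 1 (.leaf
  268) (.node 1 (.leaf
  45450) (.leaf
  646259))) (.node 2 (.node 1 (.leaf
  967722) (.leaf
  351699)) (.node 1 (.leaf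
  780224) (.leaf
  465)))) (.node 4 (.node 2 (.node 1 (.leaf
  36540) (.leaf
  1451570)) (.node 1 (.leaf
  480645) (.leaf
  322563))) (.node 2 (.node 1 (.leaf
  150949) (.leaf
  925691)) (.node 1 (.leaf
  852662) (.leaf
  150147)))))) (.node 15 (.node 7 (.node 3 (.node 1 (.leaf
  1488922) (.node 1 (.leaf
  336639) (.leaf
  337163))) (.node 2 (.node 1 (.leaf
  645949) (.leaf
  14766)) (.node 1 (.leaf
  925498) (.leaf
  1005313)))) (.node 4 (.node 2 (.node 1 (.leaf
  2239336) (.leaf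
  682412)) (.node 1 (.leaf
  645761) (.leaf
  444685))) (.node 2 (.node 1 (.leaf
  2295158) (.leaf
  660072)) (.node 1 (.leaf
  2041446) (.leaf
  1731688))))) (.node 7 (.node 3 (.node 1 (.leaf
  924903) (.node 1 (.leaf
  359683) (.leaf
  1580914))) (.node 2 (.node 1 (.leaf
  37529) (.leaf
  843591)) (.node 1 (.leaf
  807442) (.leaf
  645327)))) (.node 4 (.node 2 (.node 1 (.leaf
  322980) (.leaf
  14242)) (.node 1 (.leaf
  1774101) (.leaf
  1126348))) (.node 2 (.node 1 (.leaf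
  2294789) (.leaf
  323200)) (.node 1 (.leaf
  646331) (.leaf
  351759))))))) (.node 29 (.node 14 (.node 7 (.node 3 (.node 1 (.leaf
  2041230) (.node 1 (.leaf
  1118040) (.leaf
  645450))) (.node 2 (.node 1 (.leaf
  1409542) (.leaf
  15013)) (.node 1 (.leaf
  806475) (.leaf
  14841)))) (.node 3 (.node 1 (.leaf
  2787195) (.node 1 (.leaf
  513171) (.leaf
  158311))) (.node 2 (.node 1 (.leaf
  968021) (.leaf
  968601)) (.node 1 (.leaf
  150242) (.leaf
  336845))))) (.node 7 (.node 3 (.node 1 (.leaf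
  76123) (.node 1 (.leaf
  2072192) (.leaf
  2169235))) (.node 2 (.node 1 (.leaf
  1971975) (.leaf
  796193)) (.node 1 (.leaf
  2456031) (.leaf
  780242)))) (.node 4 (.node 2 (.node 1 (.leaf
  68530) (.leaf
  1409525)) (.node 1 (.leaf
  1613505) (.leaf
  2778641))) (.node 2 (.node 1 (.leaf
  195) (.leaf
  1972288)) (.node 1 (.leaf
  29142) (.leaf
  619)))))) (.node 15 (.node 7 (.node 3 (.node 1 (.leaf
  646090) (.node 1 (.leaf
  1408710) (.leaf
  1004288))) (.node 2 (.node 1 (.leaf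
  968182) (.leaf
  1972609)) (.node 1 (.leaf
  795983) (.leaf
  1408883)))) (.node 4 (.node 2 (.node 1 (.leaf
  323311) (.leaf
  351661)) (.node 1 (.leaf
  13940) (.leaf
  342))) (.node 2 (.node 1 (.leaf
  1972060) (.leaf
  795530)) (.node 1 (.leaf
  682329) (.leaf
  843438))))) (.node 7 (.node 3 (.node 1 (.leaf
  1972536) (.node 1 (.leaf
  681772) (.leaf
  1375372))) (.node 2 (.node 1 (.leaf
  323288) (.leaf
  1972035)) (.node 1 (.leaf
  879089) (.leaf
  2787697)))) (.node 4 (.node 2 (.node 1 (.leaf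
  1408720) (.leaf
  135107)) (.node 1 (.leaf
  1811318) (.leaf
  2090268))) (.node 2 (.node 1 (.leaf
  2169212) (.leaf
  36965)) (.node 1 (.leaf
  2778409) (.leaf
  2722365)))))))) (.node 59 (.node 29 (.node 14 (.node 7 (.node 3 (.node 1 (.leaf
  982758) (.node 1 (.leaf
  37650) (.leaf
  2847815))) (.node 2 (.node 1 (.leaf
  806452) (.leaf
  1972040)) (.node 1 (.leaf
  1972271) (.leaf
  807527)))) (.node 3 (.node 1 (.leaf
  2239424) (.node 1 (.leaf
  1971946) (.leaf
  1613771))) (.node 2 (.node 1 (.leaf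
  1811557) (.leaf
  806557)) (.node 1 (.leaf
  14579) (.leaf
  925631))))) (.node 7 (.node 3 (.node 1 (.leaf
  480512) (.node 1 (.leaf
  1972745) (.leaf
  2041286))) (.node 2 (.node 1 (.leaf
  1973014) (.leaf
  2070272)) (.node 1 (.leaf
  1613726) (.leaf
  659591)))) (.node 4 (.node 2 (.node 1 (.leaf
  2042069) (.leaf
  843590)) (.node 1 (.leaf
  659428) (.leaf
  843885))) (.node 2 (.node 1 (.leaf
  170) (.leaf
  2026494)) (.node 1 (.leaf
  2717481) (.leaf
  967928)))))) (.node 15 (.node 7 (.node 3 (.node 1 (.leaf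
  996843) (.node 1 (.leaf
  843189) (.leaf
  645830))) (.node 2 (.node 1 (.leaf
  2041907) (.leaf
  322821)) (.node 1 (.leaf
  2168864) (.leaf
  337132)))) (.node 4 (.node 2 (.node 1 (.leaf
  359872) (.leaf
  1118440)) (.node 1 (.leaf
  2239152) (.leaf
  2455816))) (.node 2 (.node 1 (.leaf
  162055) (.leaf
  2722306)) (.node 1 (.leaf
  2239804) (.leaf
  13978))))) (.node 7 (.node 3 (.node 1 (.leaf
  162104) (.node 1 (.leaf
  37251) (.leaf
  851881))) (.node 2 (.node 1 (.leaf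
  878399) (.leaf
  14633)) (.node 1 (.leaf
  1684961) (.leaf
  1972326)))) (.node 4 (.node 2 (.node 1 (.leaf
  1452297) (.leaf
  878752)) (.node 1 (.leaf
  1981250) (.leaf
  46393))) (.node 2 (.node 1 (.leaf
  843435) (.leaf
  924919)) (.node 1 (.leaf
  1129652) (.leaf
  233883))))))) (.node 29 (.node 14 (.node 7 (.node 3 (.node 1 (.leaf
  681700) (.node 1 (.leaf
  682293) (.leaf
  36677))) (.node 2 (.node 1 (.leaf
  2097345) (.leaf
  2879050)) (.node 1 (.leaf
  2555393) (.leaf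
  322841)))) (.node 3 (.node 1 (.leaf
  359253) (.node 1 (.leaf
  996862) (.leaf
  2072023))) (.node 2 (.node 1 (.leaf
  2433213) (.leaf
  1291102)) (.node 1 (.leaf
  1755769) (.leaf
  233123))))) (.node 7 (.node 3 (.node 1 (.leaf
  2294962) (.node 1 (.leaf
  34) (.leaf
  843584))) (.node 2 (.node 1 (.leaf
  878480) (.leaf
  197843)) (.node 1 (.leaf
  594) (.leaf
  1811256)))) (.node 4 (.node 2 (.node 1 (.leaf
  2877188) (.leaf
  204)) (.node 1 (.leaf
  1129065) (.leaf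
  36657))) (.node 2 (.node 1 (.leaf
  1811055) (.leaf
  509)) (.node 1 (.leaf
  1129034) (.leaf
  1129070)))))) (.node 15 (.node 7 (.node 3 (.node 1 (.leaf
  1166192) (.node 1 (.leaf
  2142062) (.leaf
  9))) (.node 2 (.node 1 (.leaf
  435) (.leaf
  807336)) (.node 1 (.leaf
  117) (.leaf
  196)))) (.node 4 (.node 2 (.node 1 (.leaf
  878232) (.leaf
  36725)) (.node 1 (.leaf
  967791) (.leaf
  1811448))) (.node 2 (.node 1 (.leaf
  1811500) (.leaf
  1118557)) (.node 1 (.leaf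
  1488926) (.leaf
  1129599))))) (.node 7 (.node 3 (.node 1 (.leaf
  150768) (.node 1 (.leaf
  1811556) (.leaf
  842946))) (.node 2 (.node 1 (.leaf
  1810919) (.leaf
  36656)) (.node 1 (.leaf
  2168570) (.leaf
  806620)))) (.node 4 (.node 2 (.node 1 (.leaf
  375974) (.leaf
  323280)) (.node 1 (.leaf
  2041399) (.leaf
  1971972))) (.node 2 (.node 1 (.leaf
  444608) (.leaf
  150146)) (.node 1 (.leaf
  1972022) (.leaf
  843090))))))))) (.node 118 (.node 59 (.node 29 (.node 14 (.node 7 (.node 3 (.node 1 (.leaf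
  675319) (.node 1 (.leaf
  466) (.leaf
  843181))) (.node 2 (.node 1 (.leaf
  1972533) (.leaf
  459)) (.node 1 (.leaf
  14176) (.leaf
  1327468)))) (.node 3 (.node 1 (.leaf
  1165550) (.node 1 (.leaf
  359470) (.leaf
  360142))) (.node 2 (.node 1 (.leaf
  1972760) (.leaf
  32)) (.node 1 (.leaf
  359635) (.leaf
  2787363))))) (.node 7 (.node 3 (.node 1 (.leaf
  2778542) (.node 1 (.leaf
  1375469) (.leaf
  2778767))) (.node 2 (.node 1 (.leaf
  14275) (.leaf
  484577)) (.node 1 (.leaf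
  1972316) (.leaf
  37223)))) (.node 4 (.node 2 (.node 1 (.leaf
  925527) (.leaf
  967726)) (.node 1 (.leaf
  2042218) (.leaf
  2042158))) (.node 2 (.node 1 (.leaf
  37301) (.leaf
  1375786)) (.node 1 (.leaf
  968698) (.leaf
  2041226)))))) (.node 15 (.node 7 (.node 3 (.node 1 (.leaf
  13871) (.node 1 (.leaf
  45426) (.leaf
  1650105))) (.node 2 (.node 1 (.leaf
  682829) (.leaf
  2042095)) (.node 1 (.leaf
  646270) (.leaf
  2041814)))) (.node 4 (.node 2 (.node 1 (.leaf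
  842967) (.leaf
  2722296)) (.node 1 (.leaf
  322673) (.leaf
  359202))) (.node 2 (.node 1 (.leaf
  1326833) (.leaf
  968407)) (.node 1 (.leaf
  852487) (.leaf
  323292))))) (.node 7 (.node 3 (.node 1 (.leaf
  2072603) (.node 1 (.leaf
  780961) (.leaf
  1972112))) (.node 2 (.node 1 (.leaf
  323198) (.leaf
  162113)) (.node 1 (.leaf
  645933) (.leaf
  2071102)))) (.node 4 (.node 2 (.node 1 (.leaf
  359856) (.leaf
  341)) (.node 1 (.leaf
  2189522) (.leaf
  967742))) (.node 2 (.node 1 (.leaf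
  2077337) (.leaf
  109)) (.node 1 (.leaf
  2716688) (.leaf
  1684689))))))) (.node 29 (.node 14 (.node 7 (.node 3 (.node 1 (.leaf
  2304345) (.node 1 (.leaf
  682319) (.leaf
  2722432))) (.node 2 (.node 1 (.leaf
  682455) (.leaf
  352024)) (.node 1 (.leaf
  1088649) (.leaf
  150836)))) (.node 3 (.node 1 (.leaf
  457749) (.node 1 (.leaf
  645829) (.leaf
  337413))) (.node 2 (.node 1 (.leaf
  2239292) (.leaf
  2716755)) (.node 1 (.leaf
  457590) (.leaf
  336430))))) (.node 7 (.node 3 (.node 1 (.leaf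
  1823730) (.node 1 (.leaf
  36631) (.leaf
  807046))) (.node 2 (.node 1 (.leaf
  1972358) (.leaf
  2072442)) (.node 1 (.leaf
  2042062) (.leaf
  1685313)))) (.node 4 (.node 2 (.node 1 (.leaf
  2448947) (.leaf
  2778496)) (.node 1 (.leaf
  1972069) (.leaf
  1335982))) (.node 2 (.node 1 (.leaf
  14498) (.leaf
  484852)) (.node 1 (.leaf
  62) (.leaf
  2787411)))))) (.node 15 (.node 7 (.node 3 (.node 1 (.leaf
  2860663) (.node 1 (.leaf
  2716674) (.leaf
  359222))) (.node 2 (.node 1 (.leaf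
  37485) (.leaf
  351673)) (.node 1 (.leaf
  497939) (.leaf
  337286)))) (.node 4 (.node 2 (.node 1 (.leaf
  29114) (.leaf
  385832)) (.node 1 (.leaf
  29201) (.leaf
  214))) (.node 2 (.node 1 (.leaf
  1129976) (.leaf
  2787861)) (.node 1 (.leaf
  2860303) (.leaf
  2234933))))) (.node 7 (.node 3 (.node 1 (.leaf
  1126088) (.node 1 (.leaf
  968424) (.leaf
  806619))) (.node 2 (.node 1 (.leaf
  359327) (.leaf
  1374899)) (.node 1 (.leaf
  322757) (.leaf
  1004284)))) (.node 4 (.node 2 (.node 1 (.leaf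
  806638) (.leaf
  968500)) (.node 1 (.leaf
  1165575) (.leaf
  107))) (.node 2 (.node 1 (.leaf
  150954) (.leaf
  1811590)) (.node 1 (.leaf
  2716618) (.leaf
  205)))))))) (.node 59 (.node 29 (.node 14 (.node 7 (.node 3 (.node 1 (.leaf
  2778816) (.node 1 (.leaf
  37378) (.leaf
  806420))) (.node 2 (.node 1 (.leaf
  1810828) (.leaf
  208)) (.node 1 (.leaf
  2142705) (.leaf
  2860934)))) (.node 3 (.node 1 (.leaf
  2716640) (.node 1 (.leaf
  2168462) (.leaf
  2169180))) (.node 2 (.node 1 (.leaf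
  2097360) (.leaf
  46)) (.node 1 (.leaf
  161392) (.leaf
  1481514))))) (.node 7 (.node 3 (.node 1 (.leaf
  36549) (.node 1 (.leaf
  1129680) (.leaf
  967836))) (.node 2 (.node 1 (.leaf
  2169427) (.leaf
  1129616)) (.node 1 (.leaf
  569) (.leaf
  161525)))) (.node 4 (.node 2 (.node 1 (.leaf
  467) (.leaf
  843187)) (.node 1 (.leaf
  1811275) (.leaf
  1811490))) (.node 2 (.node 1 (.leaf
  2778326) (.leaf
  982360)) (.node 1 (.leaf
  878856) (.leaf
  1129633)))))) (.node 15 (.node 7 (.node 3 (.node 1 (.leaf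
  2778683) (.node 1 (.leaf
  2072152) (.leaf
  1650388))) (.node 2 (.node 1 (.leaf
  1125185) (.leaf
  2721782)) (.node 1 (.leaf
  1972228) (.leaf
  150222)))) (.node 4 (.node 2 (.node 1 (.leaf
  1649359) (.leaf
  359943)) (.node 1 (.leaf
  322708) (.leaf
  645757))) (.node 2 (.node 1 (.leaf
  2455741) (.leaf
  646236)) (.node 1 (.leaf
  843710) (.leaf
  843168))))) (.node 7 (.node 3 (.node 1 (.leaf
  795264) (.node 1 (.leaf
  681713) (.leaf
  37069))) (.node 2 (.node 1 (.leaf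
  2142636) (.leaf
  359373)) (.node 1 (.leaf
  394) (.leaf
  2787945)))) (.node 4 (.node 2 (.node 1 (.leaf
  1451818) (.leaf
  1972898)) (.node 1 (.leaf
  14250) (.leaf
  197873))) (.node 2 (.node 1 (.leaf
  337263) (.leaf
  1409319)) (.node 1 (.leaf
  1374821) (.leaf
  2779078))))))) (.node 30 (.node 15 (.node 7 (.node 3 (.node 1 (.leaf
  2295320) (.node 1 (.leaf
  2716742) (.leaf
  453))) (.node 2 (.node 1 (.leaf
  1580966) (.leaf
  852572)) (.node 1 (.leaf
  359849) (.leaf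
  1165692)))) (.node 4 (.node 2 (.node 1 (.leaf
  360019) (.leaf
  457571)) (.node 1 (.leaf
  14682) (.leaf
  659802))) (.node 2 (.node 1 (.leaf
  2779315) (.leaf
  1125996)) (.node 1 (.leaf
  646327) (.leaf
  1408703))))) (.node 7 (.node 3 (.node 1 (.leaf
  37428) (.node 1 (.leaf
  981641) (.leaf
  767171))) (.node 2 (.node 1 (.leaf
  14446) (.leaf
  645795)) (.node 1 (.leaf
  29061) (.leaf
  3)))) (.node 4 (.node 2 (.node 1 (.leaf
  69) (.leaf
  79)) (.node 1 (.leaf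
  645952) (.leaf
  337634))) (.node 2 (.node 1 (.leaf
  484673) (.leaf
  2041470)) (.node 1 (.leaf
  1375403) (.leaf
  14900)))))) (.node 15 (.node 7 (.node 3 (.node 1 (.leaf
  322600) (.node 1 (.leaf
  1810710) (.leaf
  352074))) (.node 2 (.node 1 (.leaf
  1375580) (.leaf
  843717)) (.node 1 (.leaf
  968613) (.leaf
  2072054)))) (.node 4 (.node 2 (.node 1 (.leaf
  2077524) (.leaf
  193)) (.node 1 (.leaf
  967789) (.leaf
  645828))) (.node 2 (.node 1 (.leaf
  2042019) (.leaf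
  2168513)) (.node 1 (.leaf
  36796) (.leaf
  119))))) (.node 7 (.node 3 (.node 1 (.leaf
  1650038) (.node 1 (.leaf
  1612996) (.leaf
  659871))) (.node 2 (.node 1 (.leaf
  69021) (.leaf
  925325)) (.node 1 (.leaf
  878481) (.leaf
  322645)))) (.node 4 (.node 2 (.node 1 (.leaf
  337175) (.leaf
  2027105)) (.node 1 (.leaf
  1981705) (.leaf
  645631))) (.node 2 (.node 1 (.leaf
  37722) (.leaf
  29743)) (.node 1 (.leaf
  2026206) (.leaf
  323014)))))))))))) (.node 945 (.node 472 (.node 236 (.node 118 (.node 59 (.node 29 (.node 14 (.node 7 (.node 3 (.node 1 (.leaf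
  14748) (.node 1 (.leaf
  1580694) (.leaf
  323195))) (.node 2 (.node 1 (.leaf
  1650297) (.leaf
  807384)) (.node 1 (.leaf
  14599) (.leaf
  1409714)))) (.node 3 (.node 1 (.leaf
  484616) (.node 1 (.leaf
  2041596) (.leaf
  1972013))) (.node 2 (.node 1 (.leaf
  2042325) (.leaf
  322)) (.node 1 (.leaf
  359557) (.leaf
  1981171))))) (.node 7 (.node 3 (.node 1 (.leaf
  925488) (.node 1 (.leaf
  1129977) (.leaf
  2258355))) (.node 2 (.node 1 (.leaf
  337315) (.leaf
  2456618)) (.node 1 (.leaf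
  2071856) (.leaf
  352036)))) (.node 4 (.node 2 (.node 1 (.leaf
  645893) (.leaf
  309)) (.node 1 (.leaf
  351814) (.leaf
  105))) (.node 2 (.node 1 (.leaf
  682582) (.leaf
  45)) (.node 1 (.leaf
  37706) (.leaf
  1612921)))))) (.node 15 (.node 7 (.node 3 (.node 1 (.leaf
  681943) (.node 1 (.leaf
  681668) (.leaf
  161401))) (.node 2 (.node 1 (.leaf
  471) (.leaf
  336916)) (.node 1 (.leaf
  2456397) (.leaf
  14350)))) (.node 4 (.node 2 (.node 1 (.leaf
  803533) (.leaf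
  2007419)) (.node 1 (.leaf
  1362954) (.leaf
  1128987))) (.node 2 (.node 1 (.leaf
  14033) (.leaf
  29823)) (.node 1 (.leaf
  2041314) (.leaf
  2234106))))) (.node 7 (.node 3 (.node 1 (.leaf
  1408697) (.node 1 (.leaf
  322734) (.leaf
  336595))) (.node 2 (.node 1 (.leaf
  2097402) (.leaf
  2787590)) (.node 1 (.leaf
  2042193) (.leaf
  2787165)))) (.node 4 (.node 2 (.node 1 (.leaf
  1118838) (.leaf
  1327907)) (.node 1 (.leaf
  359356) (.leaf
  968542))) (.node 2 (.node 1 (.leaf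
  351806) (.leaf
  336543)) (.node 1 (.leaf
  2041568) (.leaf
  2778600))))))) (.node 29 (.node 14 (.node 7 (.node 3 (.node 1 (.leaf
  1128963) (.node 1 (.leaf
  609) (.leaf
  2779006))) (.node 2 (.node 1 (.leaf
  102) (.leaf
  659968)) (.node 1 (.leaf
  997666) (.leaf
  14184)))) (.node 3 (.node 1 (.leaf
  2294595) (.node 1 (.leaf
  37362) (.leaf
  37409))) (.node 2 (.node 1 (.leaf
  2878303) (.leaf
  1811637)) (.node 1 (.leaf
  807353) (.leaf
  1291367))))) (.node 7 (.node 3 (.node 1 (.leaf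
  1685446) (.node 1 (.leaf
  1103315) (.leaf
  457653))) (.node 2 (.node 1 (.leaf
  1004911) (.leaf
  337402)) (.node 1 (.leaf
  2142783) (.leaf
  967686)))) (.node 4 (.node 2 (.node 1 (.leaf
  2455814) (.leaf
  981918)) (.node 1 (.leaf
  158425) (.leaf
  1658459))) (.node 2 (.node 1 (.leaf
  936046) (.leaf
  2041732)) (.node 1 (.leaf
  1375504) (.leaf
  645307)))))) (.node 15 (.node 7 (.node 3 (.node 1 (.leaf
  802807) (.node 1 (.leaf
  1972681) (.leaf
  1810732))) (.node 2 (.node 1 (.leaf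
  2788132) (.leaf
  37408)) (.node 1 (.leaf
  14944) (.leaf
  14535)))) (.node 4 (.node 2 (.node 1 (.leaf
  1290322) (.leaf
  352533)) (.node 1 (.leaf
  2861022) (.leaf
  337081))) (.node 2 (.node 1 (.leaf
  2716692) (.leaf
  843073)) (.node 1 (.leaf
  14685) (.leaf
  37266))))) (.node 7 (.node 3 (.node 1 (.leaf
  803788) (.node 1 (.leaf
  37186) (.leaf
  322731))) (.node 2 (.node 1 (.leaf
  2041839) (.leaf
  1126398)) (.node 1 (.leaf
  2239717) (.leaf
  2041962)))) (.node 4 (.node 2 (.node 1 (.leaf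
  76673) (.leaf
  982304)) (.node 1 (.leaf
  2041709) (.leaf
  76157))) (.node 2 (.node 1 (.leaf
  1125910) (.leaf
  337197)) (.node 1 (.leaf
  1972005) (.leaf
  1649573)))))))) (.node 59 (.node 29 (.node 14 (.node 7 (.node 3 (.node 1 (.leaf
  2071284) (.node 1 (.leaf
  852440) (.leaf
  803436))) (.node 2 (.node 1 (.leaf
  323013) (.leaf
  1972435)) (.node 1 (.leaf
  646032) (.leaf
  967814)))) (.node 3 (.node 1 (.leaf
  645543) (.node 1 (.leaf
  843695) (.leaf
  925167))) (.node 2 (.node 1 (.leaf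
  2041896) (.leaf
  2556499)) (.node 1 (.leaf
  968730) (.leaf
  1811449))))) (.node 7 (.node 3 (.node 1 (.leaf
  2464801) (.node 1 (.leaf
  336427) (.leaf
  198691))) (.node 2 (.node 1 (.leaf
  1409587) (.leaf
  323365)) (.node 1 (.leaf
  2071998) (.leaf
  15)))) (.node 4 (.node 2 (.node 1 (.leaf
  2041872) (.leaf
  996939)) (.node 1 (.leaf
  352623) (.leaf
  2070356))) (.node 2 (.node 1 (.leaf
  1327440) (.leaf
  29830)) (.node 1 (.leaf
  69023) (.leaf
  1580865)))))) (.node 15 (.node 7 (.node 3 (.node 1 (.leaf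
  1580920) (.node 1 (.leaf
  14046) (.leaf
  1756005))) (.node 2 (.node 1 (.leaf
  337072) (.leaf
  1103231)) (.node 1 (.leaf
  1408794) (.leaf
  37123)))) (.node 4 (.node 2 (.node 1 (.leaf
  1685302) (.leaf
  843003)) (.node 1 (.leaf
  359576) (.leaf
  681991))) (.node 2 (.node 1 (.leaf
  1580825) (.leaf
  37432)) (.node 1 (.leaf
  844121) (.leaf
  807059))))) (.node 7 (.node 3 (.node 1 (.leaf
  352331) (.node 1 (.leaf
  2071404) (.leaf
  1972597))) (.node 2 (.node 1 (.leaf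
  2779081) (.leaf
  1452193)) (.node 1 (.leaf
  1971961) (.leaf
  645771)))) (.node 4 (.node 2 (.node 1 (.leaf
  2722378) (.leaf
  645290)) (.node 1 (.leaf
  1650540) (.leaf
  1971901))) (.node 2 (.node 1 (.leaf
  2169251) (.leaf
  645275)) (.node 1 (.leaf
  2717303) (.leaf
  337339))))))) (.node 29 (.node 14 (.node 7 (.node 3 (.node 1 (.leaf
  29824) (.node 1 (.leaf
  359138) (.leaf
  2779128))) (.node 2 (.node 1 (.leaf
  1125281) (.leaf
  2097124)) (.node 1 (.leaf
  843634) (.leaf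
  2717391)))) (.node 3 (.node 1 (.leaf
  1125832) (.node 1 (.leaf
  1972292) (.leaf
  646360))) (.node 2 (.node 1 (.leaf
  925162) (.leaf
  13865)) (.node 1 (.leaf
  2042003) (.leaf
  981577))))) (.node 7 (.node 3 (.node 1 (.leaf
  1201516) (.node 1 (.leaf
  2716670) (.leaf
  53))) (.node 2 (.node 1 (.leaf
  37208) (.leaf
  14772)) (.node 1 (.leaf
  337064) (.leaf
  197882)))) (.node 4 (.node 2 (.node 1 (.leaf
  13873) (.leaf
  2455808)) (.node 1 (.leaf
  37264) (.leaf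
  241))) (.node 2 (.node 1 (.leaf
  1580187) (.leaf
  393)) (.node 1 (.leaf
  2042232) (.leaf
  645637)))))) (.node 15 (.node 7 (.node 3 (.node 1 (.leaf
  2258498) (.node 1 (.leaf
  1972270) (.leaf
  844052))) (.node 2 (.node 1 (.leaf
  14869) (.leaf
  458372)) (.node 1 (.leaf
  981624) (.leaf
  344)))) (.node 4 (.node 2 (.node 1 (.leaf
  1129662) (.leaf
  2465462)) (.node 1 (.leaf
  925786) (.leaf
  150243))) (.node 2 (.node 1 (.leaf
  336879) (.leaf
  1117928)) (.node 1 (.leaf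
  682292) (.leaf
  2716629))))) (.node 7 (.node 3 (.node 1 (.leaf
  14903) (.node 1 (.leaf
  2239022) (.leaf
  682284))) (.node 2 (.node 1 (.leaf
  352629) (.leaf
  2848756)) (.node 1 (.leaf
  359388) (.leaf
  1685579)))) (.node 4 (.node 2 (.node 1 (.leaf
  323370) (.leaf
  323312)) (.node 1 (.leaf
  2847351) (.leaf
  2787233))) (.node 2 (.node 1 (.leaf
  2168785) (.leaf
  682436)) (.node 1 (.leaf
  843167) (.leaf
  1980296))))))))) (.node 118 (.node 59 (.node 29 (.node 14 (.node 7 (.node 3 (.node 1 (.leaf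
  842970) (.node 1 (.leaf
  2847650) (.leaf
  2556182))) (.node 2 (.node 1 (.leaf
  359758) (.leaf
  1981886)) (.node 1 (.leaf
  480348) (.leaf
  2042386)))) (.node 3 (.node 1 (.leaf
  968541) (.node 1 (.leaf
  925266) (.leaf
  150139))) (.node 2 (.node 1 (.leaf
  767235) (.leaf
  843285)) (.node 1 (.leaf
  2041279) (.leaf
  2071716))))) (.node 7 (.node 3 (.node 1 (.leaf
  1408688) (.node 1 (.leaf
  37335) (.leaf
  2042326))) (.node 2 (.node 1 (.leaf
  352423) (.leaf
  878993)) (.node 1 (.leaf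
  29031) (.leaf
  359909)))) (.node 4 (.node 2 (.node 1 (.leaf
  2258122) (.leaf
  1811722)) (.node 1 (.leaf
  1004355) (.leaf
  323328))) (.node 2 (.node 1 (.leaf
  135109) (.leaf
  351862)) (.node 1 (.leaf
  1327537) (.leaf
  2041554)))))) (.node 15 (.node 7 (.node 3 (.node 1 (.leaf
  1971921) (.node 1 (.leaf
  1972128) (.leaf
  2778813))) (.node 2 (.node 1 (.leaf
  2169131) (.leaf
  968614)) (.node 1 (.leaf
  359183) (.leaf
  323273)))) (.node 4 (.node 2 (.node 1 (.leaf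
  2041335) (.leaf
  1775038)) (.node 1 (.leaf
  359321) (.leaf
  483))) (.node 2 (.node 1 (.leaf
  37436) (.leaf
  2041911)) (.node 1 (.leaf
  2169382) (.leaf
  1004224))))) (.node 7 (.node 3 (.node 1 (.leaf
  2072599) (.node 1 (.leaf
  481070) (.leaf
  197))) (.node 2 (.node 1 (.leaf
  323287) (.leaf
  135815)) (.node 1 (.leaf
  2465231) (.leaf
  337002)))) (.node 4 (.node 2 (.node 1 (.leaf
  2787660) (.leaf
  968335)) (.node 1 (.leaf
  1774407) (.leaf
  460))) (.node 2 (.node 1 (.leaf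
  1166327) (.leaf
  299)) (.node 1 (.leaf
  659264) (.leaf
  1126089))))))) (.node 29 (.node 14 (.node 7 (.node 3 (.node 1 (.leaf
  150778) (.node 1 (.leaf
  2787360) (.leaf
  484580))) (.node 2 (.node 1 (.leaf
  37331) (.leaf
  1088737)) (.node 1 (.leaf
  352093) (.leaf
  802995)))) (.node 3 (.node 1 (.leaf
  30063) (.node 1 (.leaf
  1327476) (.leaf
  1972590))) (.node 2 (.node 1 (.leaf
  1972290) (.leaf
  2041988)) (.node 1 (.leaf
  1972710) (.leaf
  843098))))) (.node 7 (.node 3 (.node 1 (.leaf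
  807425) (.node 1 (.leaf
  2042133) (.leaf
  1129634))) (.node 2 (.node 1 (.leaf
  1972655) (.leaf
  1290290)) (.node 1 (.leaf
  1972686) (.leaf
  359684)))) (.node 4 (.node 2 (.node 1 (.leaf
  1972225) (.leaf
  150049)) (.node 1 (.leaf
  843102) (.leaf
  1326941))) (.node 2 (.node 1 (.leaf
  556) (.leaf
  806519)) (.node 1 (.leaf
  2070483) (.leaf
  2239433)))))) (.node 15 (.node 7 (.node 3 (.node 1 (.leaf
  158034) (.node 1 (.leaf
  410) (.leaf
  534))) (.node 2 (.node 1 (.leaf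
  843180) (.leaf
  925165)) (.node 1 (.leaf
  1811485) (.leaf
  458188)))) (.node 4 (.node 2 (.node 1 (.leaf
  2168737) (.leaf
  14163)) (.node 1 (.leaf
  37431) (.leaf
  1613502))) (.node 2 (.node 1 (.leaf
  198040) (.leaf
  968701)) (.node 1 (.leaf
  2168680) (.leaf
  2169517))))) (.node 7 (.node 3 (.node 1 (.leaf
  2168567) (.node 1 (.leaf
  1409360) (.leaf
  13954))) (.node 2 (.node 1 (.leaf
  352505) (.leaf
  681742)) (.node 1 (.leaf
  981917) (.leaf
  996848)))) (.node 4 (.node 2 (.node 1 (.leaf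
  968060) (.leaf
  2455830)) (.node 1 (.leaf
  29122) (.leaf
  231))) (.node 2 (.node 1 (.leaf
  351718) (.leaf
  2722356)) (.node 1 (.leaf
  891863) (.leaf
  337270)))))))) (.node 59 (.node 29 (.node 14 (.node 7 (.node 3 (.node 1 (.leaf
  1408775) (.node 1 (.leaf
  513022) (.leaf
  1004951))) (.node 2 (.node 1 (.leaf
  352523) (.leaf
  967703)) (.node 1 (.leaf
  458406) (.leaf
  161825)))) (.node 3 (.node 1 (.leaf
  967788) (.node 1 (.leaf
  2168656) (.leaf
  2717484))) (.node 2 (.node 1 (.leaf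
  1004502) (.leaf
  1409423)) (.node 1 (.leaf
  210) (.leaf
  1684746))))) (.node 7 (.node 3 (.node 1 (.leaf
  322697) (.node 1 (.leaf
  2041924) (.leaf
  443794))) (.node 2 (.node 1 (.leaf
  2419337) (.leaf
  2581247)) (.node 1 (.leaf
  1004357) (.leaf
  29847)))) (.node 4 (.node 2 (.node 1 (.leaf
  968617) (.leaf
  2042057)) (.node 1 (.leaf
  1129114) (.leaf
  1290498))) (.node 2 (.node 1 (.leaf
  1129703) (.leaf
  843086)) (.node 1 (.leaf
  1774724) (.leaf
  150662)))))) (.node 15 (.node 7 (.node 3 (.node 1 (.leaf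
  473031) (.node 1 (.leaf
  2456567) (.leaf
  14064))) (.node 2 (.node 1 (.leaf
  968746) (.leaf
  352584)) (.node 1 (.leaf
  2455892) (.leaf
  443)))) (.node 4 (.node 2 (.node 1 (.leaf
  359360) (.leaf
  806465)) (.node 1 (.leaf
  37505) (.leaf
  191148))) (.node 2 (.node 1 (.leaf
  925622) (.leaf
  968192)) (.node 1 (.leaf
  138) (.leaf
  258))))) (.node 7 (.node 3 (.node 1 (.leaf
  1972075) (.node 1 (.leaf
  682671) (.leaf
  36956))) (.node 2 (.node 1 (.leaf
  2071976) (.leaf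
  682295)) (.node 1 (.leaf
  682019) (.leaf
  14728)))) (.node 4 (.node 2 (.node 1 (.leaf
  878673) (.leaf
  1362872)) (.node 1 (.leaf
  14137) (.leaf
  322820))) (.node 2 (.node 1 (.leaf
  2042415) (.leaf
  352701)) (.node 1 (.leaf
  14790) (.leaf
  2041552))))))) (.node 29 (.node 14 (.node 7 (.node 3 (.node 1 (.leaf
  2042153) (.node 1 (.leaf
  2239701) (.leaf
  1408814))) (.node 2 (.node 1 (.leaf
  2041208) (.leaf
  323294)) (.node 1 (.leaf
  1) (.leaf
  2072567)))) (.node 3 (.node 1 (.leaf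
  37382) (.node 1 (.leaf
  2456610) (.leaf
  203))) (.node 2 (.node 1 (.leaf
  1129687) (.leaf
  2042363)) (.node 1 (.leaf
  1004508) (.leaf
  2779535))))) (.node 7 (.node 3 (.node 1 (.leaf
  645166) (.node 1 (.leaf
  645309) (.leaf
  967708))) (.node 2 (.node 1 (.leaf
  682384) (.leaf
  337145)) (.node 1 (.leaf
  1166266) (.leaf
  336534)))) (.node 4 (.node 2 (.node 1 (.leaf
  29668) (.leaf
  135551)) (.node 1 (.leaf
  645158) (.leaf
  336729))) (.node 2 (.node 1 (.leaf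
  925254) (.leaf
  1980457)) (.node 1 (.leaf
  370) (.leaf
  1972229)))))) (.node 15 (.node 7 (.node 3 (.node 1 (.leaf
  842947) (.node 1 (.leaf
  322883) (.leaf
  498))) (.node 2 (.node 1 (.leaf
  76094) (.leaf
  1972071)) (.node 1 (.leaf
  29477) (.leaf
  1972552)))) (.node 4 (.node 2 (.node 1 (.leaf
  1972682) (.leaf
  843440)) (.node 1 (.leaf
  1165539) (.leaf
  1980842))) (.node 2 (.node 1 (.leaf
  843508) (.leaf
  386)) (.node 1 (.leaf
  336731) (.leaf
  1408855))))) (.node 7 (.node 3 (.node 1 (.leaf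
  1811262) (.node 1 (.leaf
  177) (.leaf
  368))) (.node 2 (.node 1 (.leaf
  2041213) (.leaf
  175)) (.node 1 (.leaf
  75) (.leaf
  843709)))) (.node 4 (.node 2 (.node 1 (.leaf
  997106) (.leaf
  1972313)) (.node 1 (.leaf
  134904) (.leaf
  2778903))) (.node 2 (.node 1 (.leaf
  323271) (.leaf
  1326924)) (.node 1 (.leaf
  255) (.leaf
  1650306)))))))))) (.node 236 (.node 118 (.node 59 (.node 29 (.node 14 (.node 7 (.node 3 (.node 1 (.leaf
  336632) (.node 1 (.leaf
  2294605) (.leaf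
  645130))) (.node 2 (.node 1 (.leaf
  359759) (.leaf
  161979)) (.node 1 (.leaf
  2788182) (.leaf
  40)))) (.node 3 (.node 1 (.leaf
  2168784) (.node 1 (.leaf
  14445) (.leaf
  646288))) (.node 2 (.node 1 (.leaf
  1650300) (.leaf
  533)) (.node 1 (.leaf
  682248) (.leaf
  2042077))))) (.node 7 (.node 3 (.node 1 (.leaf
  51) (.node 1 (.leaf
  14392) (.leaf
  359874))) (.node 2 (.node 1 (.leaf
  2026929) (.leaf
  278)) (.node 1 (.leaf
  2041457) (.leaf
  135738)))) (.node 4 (.node 2 (.node 1 (.leaf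
  412) (.leaf
  2071804)) (.node 1 (.leaf
  2071655) (.leaf
  843904))) (.node 2 (.node 1 (.leaf
  322637) (.leaf
  2041443)) (.node 1 (.leaf
  352614) (.leaf
  1767968)))))) (.node 15 (.node 7 (.node 3 (.node 1 (.leaf
  767172) (.node 1 (.leaf
  75953) (.leaf
  2072342))) (.node 2 (.node 1 (.leaf
  1774867) (.leaf
  2787417)) (.node 1 (.leaf
  2556269) (.leaf
  359471)))) (.node 4 (.node 2 (.node 1 (.leaf
  2169284) (.leaf
  1004240)) (.node 1 (.leaf
  1327096) (.leaf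
  351861))) (.node 2 (.node 1 (.leaf
  1811642) (.leaf
  1408712)) (.node 1 (.leaf
  87) (.leaf
  323411))))) (.node 7 (.node 3 (.node 1 (.leaf
  2041220) (.node 1 (.leaf
  37622) (.leaf
  336424))) (.node 2 (.node 1 (.leaf
  2555477) (.leaf
  2456611)) (.node 1 (.leaf
  1613944) (.leaf
  37352)))) (.node 4 (.node 2 (.node 1 (.leaf
  157952) (.leaf
  322703)) (.node 1 (.leaf
  2041884) (.leaf
  14229))) (.node 2 (.node 1 (.leaf
  359634) (.leaf
  1685677)) (.node 1 (.leaf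
  2878918) (.leaf
  337449))))))) (.node 29 (.node 14 (.node 7 (.node 3 (.node 1 (.leaf
  843357) (.node 1 (.leaf
  322973) (.leaf
  276))) (.node 2 (.node 1 (.leaf
  968772) (.leaf
  359950)) (.node 1 (.leaf
  2041990) (.leaf
  2007664)))) (.node 3 (.node 1 (.leaf
  2041425) (.node 1 (.leaf
  2787859) (.leaf
  2239223))) (.node 2 (.node 1 (.leaf
  36702) (.leaf
  359513)) (.node 1 (.leaf
  36750) (.leaf
  2026829))))) (.node 7 (.node 3 (.node 1 (.leaf
  1980881) (.node 1 (.leaf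
  1118439) (.leaf
  14778))) (.node 2 (.node 1 (.leaf
  1774497) (.leaf
  1408816)) (.node 1 (.leaf
  967724) (.leaf
  2877154)))) (.node 4 (.node 2 (.node 1 (.leaf
  36678) (.leaf
  1972667)) (.node 1 (.leaf
  458404) (.leaf
  1326928))) (.node 2 (.node 1 (.leaf
  1810918) (.leaf
  337208)) (.node 1 (.leaf
  1362646) (.leaf
  1811634)))))) (.node 15 (.node 7 (.node 3 (.node 1 (.leaf
  1125993) (.node 1 (.leaf
  2721721) (.leaf
  646171))) (.node 2 (.node 1 (.leaf
  198135) (.leaf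
  352727)) (.node 1 (.leaf
  336777) (.leaf
  322576)))) (.node 4 (.node 2 (.node 1 (.leaf
  458179) (.leaf
  2779044)) (.node 1 (.leaf
  2239721) (.leaf
  1972048))) (.node 2 (.node 1 (.leaf
  1972641) (.leaf
  2096955)) (.node 1 (.leaf
  259) (.leaf
  1488751))))) (.node 7 (.node 3 (.node 1 (.leaf
  1126185) (.node 1 (.leaf
  803067) (.leaf
  1451566))) (.node 2 (.node 1 (.leaf
  1774845) (.leaf
  1103503)) (.node 1 (.leaf
  925537) (.leaf
  14660)))) (.node 4 (.node 2 (.node 1 (.leaf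
  337284) (.leaf
  1291002)) (.node 1 (.leaf
  968054) (.leaf
  532))) (.node 2 (.node 1 (.leaf
  1452267) (.leaf
  681945)) (.node 1 (.leaf
  323673) (.leaf
  2042101)))))))) (.node 59 (.node 29 (.node 14 (.node 7 (.node 3 (.node 1 (.leaf
  842956) (.node 1 (.leaf
  645867) (.leaf
  935777))) (.node 2 (.node 1 (.leaf
  2787555) (.leaf
  1125276)) (.node 1 (.leaf
  2041841) (.leaf
  1972023)))) (.node 3 (.node 1 (.leaf
  925697) (.node 1 (.leaf
  968461) (.leaf
  2169233))) (.node 2 (.node 1 (.leaf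
  396) (.leaf
  1128989)) (.node 1 (.leaf
  337317) (.leaf
  376553))))) (.node 7 (.node 3 (.node 1 (.leaf
  473715) (.node 1 (.leaf
  1811350) (.leaf
  2234533))) (.node 2 (.node 1 (.leaf
  968433) (.leaf
  1409379)) (.node 1 (.leaf
  925257) (.leaf
  1326847)))) (.node 4 (.node 2 (.node 1 (.leaf
  337213) (.leaf
  322940)) (.node 1 (.leaf
  2096710) (.leaf
  1409216))) (.node 2 (.node 1 (.leaf
  803082) (.leaf
  1810772)) (.node 1 (.leaf
  1004879) (.leaf
  1488828)))))) (.node 15 (.node 7 (.node 3 (.node 1 (.leaf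
  359270) (.node 1 (.leaf
  2304020) (.leaf
  682094))) (.node 2 (.node 1 (.leaf
  1972201) (.leaf
  2089403)) (.node 1 (.leaf
  1973027) (.leaf
  935243)))) (.node 4 (.node 2 (.node 1 (.leaf
  1451915) (.leaf
  150229)) (.node 1 (.leaf
  1774312) (.leaf
  2072568))) (.node 2 (.node 1 (.leaf
  2455888) (.leaf
  1774144)) (.node 1 (.leaf
  578908) (.leaf
  2041948))))) (.node 7 (.node 3 (.node 1 (.leaf
  2041374) (.node 1 (.leaf
  878543) (.leaf
  197946))) (.node 2 (.node 1 (.leaf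
  322826) (.leaf
  1649400)) (.node 1 (.leaf
  36598) (.leaf
  1981043)))) (.node 4 (.node 2 (.node 1 (.leaf
  1290256) (.leaf
  767085)) (.node 1 (.leaf
  29239) (.leaf
  659985))) (.node 2 (.node 1 (.leaf
  14246) (.leaf
  350)) (.node 1 (.leaf
  645475) (.leaf
  996924))))))) (.node 29 (.node 14 (.node 7 (.node 3 (.node 1 (.leaf
  337365) (.node 1 (.leaf
  14391) (.leaf
  806614))) (.node 2 (.node 1 (.leaf
  2168494) (.leaf
  37541)) (.node 1 (.leaf
  37263) (.leaf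
  432)))) (.node 3 (.node 1 (.leaf
  1129784) (.node 1 (.leaf
  578907) (.leaf
  645286))) (.node 2 (.node 1 (.leaf
  2041352) (.leaf
  323803)) (.node 1 (.leaf
  2716636) (.leaf
  1375661))))) (.node 7 (.node 3 (.node 1 (.leaf
  646292) (.node 1 (.leaf
  1971931) (.leaf
  1811550))) (.node 2 (.node 1 (.leaf
  14691) (.leaf
  681856)) (.node 1 (.leaf
  46210) (.leaf
  645363)))) (.node 4 (.node 2 (.node 1 (.leaf
  852651) (.leaf
  2041215)) (.node 1 (.leaf
  645368) (.leaf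
  1336319))) (.node 2 (.node 1 (.leaf
  2716766) (.leaf
  1409420)) (.node 1 (.leaf
  1089653) (.leaf
  843694)))))) (.node 15 (.node 7 (.node 3 (.node 1 (.leaf
  2456431) (.node 1 (.leaf
  1774733) (.leaf
  2456174))) (.node 2 (.node 1 (.leaf
  925522) (.leaf
  1774119)) (.node 1 (.leaf
  2258750) (.leaf
  2041419)))) (.node 4 (.node 2 (.node 1 (.leaf
  1980267) (.leaf
  111)) (.node 1 (.leaf
  512930) (.leaf
  645227))) (.node 2 (.node 1 (.leaf
  14154) (.leaf
  807526)) (.node 1 (.leaf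
  968559) (.leaf
  851903))))) (.node 7 (.node 3 (.node 1 (.leaf
  2169139) (.node 1 (.leaf
  2779521) (.leaf
  2090206))) (.node 2 (.node 1 (.leaf
  2041267) (.leaf
  336638)) (.node 1 (.leaf
  336871) (.leaf
  1684958)))) (.node 4 (.node 2 (.node 1 (.leaf
  57) (.leaf
  1327410)) (.node 1 (.leaf
  14684) (.leaf
  334))) (.node 2 (.node 1 (.leaf
  1811091) (.leaf
  2464585)) (.node 1 (.leaf
  337251) (.leaf
  1972595))))))))) (.node 118 (.node 59 (.node 29 (.node 14 (.node 7 (.node 3 (.node 1 (.leaf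
  2464705) (.node 1 (.leaf
  981818) (.leaf
  795600))) (.node 2 (.node 1 (.leaf
  1409681) (.leaf
  646187)) (.node 1 (.leaf
  674459) (.leaf
  151)))) (.node 3 (.node 1 (.leaf
  359503) (.node 1 (.leaf
  1005003) (.leaf
  1451864))) (.node 2 (.node 1 (.leaf
  197974) (.leaf
  472664)) (.node 1 (.leaf
  997474) (.leaf
  2041983))))) (.node 7 (.node 3 (.node 1 (.leaf
  645682) (.node 1 (.leaf
  645582) (.leaf
  29171))) (.node 2 (.node 1 (.leaf
  271) (.leaf
  1811679)) (.node 1 (.leaf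
  1451909) (.leaf
  1580379)))) (.node 4 (.node 2 (.node 1 (.leaf
  2448328) (.leaf
  2071354)) (.node 1 (.leaf
  2042263) (.leaf
  2041507))) (.node 2 (.node 1 (.leaf
  1130130) (.leaf
  1166333)) (.node 1 (.leaf
  151160) (.leaf
  925168)))))) (.node 15 (.node 7 (.node 3 (.node 1 (.leaf
  645710) (.node 1 (.leaf
  1685049) (.leaf
  2788293))) (.node 2 (.node 1 (.leaf
  1613819) (.leaf
  2787510)) (.node 1 (.leaf
  1972289) (.leaf
  2026945)))) (.node 4 (.node 2 (.node 1 (.leaf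
  2778729) (.leaf
  2846884)) (.node 1 (.leaf
  1980566) (.leaf
  2787509))) (.node 2 (.node 1 (.leaf
  2779474) (.leaf
  1685119)) (.node 1 (.leaf
  36867) (.leaf
  645793))))) (.node 7 (.node 3 (.node 1 (.leaf
  150856) (.node 1 (.leaf
  14313) (.leaf
  336602))) (.node 2 (.node 1 (.leaf
  2721829) (.leaf
  646048)) (.node 1 (.leaf
  852569) (.leaf
  2042266)))) (.node 4 (.node 2 (.node 1 (.leaf
  807256) (.leaf
  2097766)) (.node 1 (.leaf
  2247591) (.leaf
  360180))) (.node 2 (.node 1 (.leaf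
  322564) (.leaf
  2294596)) (.node 1 (.leaf
  1118627) (.leaf
  645851))))))) (.node 29 (.node 14 (.node 7 (.node 3 (.node 1 (.leaf
  645334) (.node 1 (.leaf
  645809) (.leaf
  925068))) (.node 2 (.node 1 (.leaf
  68597) (.leaf
  659890)) (.node 1 (.leaf
  351765) (.leaf
  323686)))) (.node 3 (.node 1 (.leaf
  925611) (.node 1 (.leaf
  925541) (.leaf
  1811432))) (.node 2 (.node 1 (.leaf
  2239975) (.leaf
  660191)) (.node 1 (.leaf
  2169112) (.leaf
  337181))))) (.node 7 (.node 3 (.node 1 (.leaf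
  135983) (.node 1 (.leaf
  645355) (.leaf
  444735))) (.node 2 (.node 1 (.leaf
  2041672) (.leaf
  842965)) (.node 1 (.leaf
  14583) (.leaf
  1981524)))) (.node 4 (.node 2 (.node 1 (.leaf
  1810794) (.leaf
  37257)) (.node 1 (.leaf
  659877) (.leaf
  337108))) (.node 2 (.node 1 (.leaf
  1409370) (.leaf
  1811367)) (.node 1 (.leaf
  1451592) (.leaf
  352613)))))) (.node 15 (.node 7 (.node 3 (.node 1 (.leaf
  646051) (.node 1 (.leaf
  1290563) (.leaf
  795259))) (.node 2 (.node 1 (.leaf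
  2847797) (.leaf
  1362957)) (.node 1 (.leaf
  878679) (.leaf
  852761)))) (.node 4 (.node 2 (.node 1 (.leaf
  1480697) (.leaf
  2041276)) (.node 1 (.leaf
  458541) (.leaf
  615))) (.node 2 (.node 1 (.leaf
  997650) (.leaf
  2239773)) (.node 1 (.leaf
  2071196) (.leaf
  1972159))))) (.node 7 (.node 3 (.node 1 (.leaf
  352069) (.node 1 (.leaf
  37171) (.leaf
  2169211))) (.node 2 (.node 1 (.leaf
  2071668) (.leaf
  2072385)) (.node 1 (.leaf
  135351) (.leaf
  852713)))) (.node 4 (.node 2 (.node 1 (.leaf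
  323404) (.leaf
  1658311)) (.node 1 (.leaf
  337117) (.leaf
  1125277))) (.node 2 (.node 1 (.leaf
  1972002) (.leaf
  359409)) (.node 1 (.leaf
  961864) (.leaf
  323190)))))))) (.node 59 (.node 29 (.node 14 (.node 7 (.node 3 (.node 1 (.leaf
  2847437) (.node 1 (.leaf
  2070770) (.leaf
  1811454))) (.node 2 (.node 1 (.leaf
  1129591) (.leaf
  996781)) (.node 1 (.leaf
  2008213) (.leaf
  1004468)))) (.node 3 (.node 1 (.leaf
  982206) (.node 1 (.leaf
  150055) (.leaf
  457585))) (.node 2 (.node 1 (.leaf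
  675106) (.leaf
  323723)) (.node 1 (.leaf
  2456443) (.leaf
  1972684))))) (.node 7 (.node 3 (.node 1 (.leaf
  659505) (.node 1 (.leaf
  1452358) (.leaf
  151037))) (.node 2 (.node 1 (.leaf
  1409489) (.leaf
  198147)) (.node 1 (.leaf
  780223) (.leaf
  198)))) (.node 4 (.node 2 (.node 1 (.leaf
  323505) (.leaf
  586)) (.node 1 (.leaf
  443698) (.leaf
  843540))) (.node 2 (.node 1 (.leaf
  179) (.leaf
  13901)) (.node 1 (.leaf
  2168874) (.leaf
  14568)))))) (.node 15 (.node 7 (.node 3 (.node 1 (.leaf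
  359861) (.node 1 (.leaf
  1613195) (.leaf
  323204))) (.node 2 (.node 1 (.leaf
  1409626) (.leaf
  36547)) (.node 1 (.leaf
  1409401) (.leaf
  359850)))) (.node 4 (.node 2 (.node 1 (.leaf
  1972944) (.leaf
  2041333)) (.node 1 (.leaf
  925604) (.leaf
  336914))) (.node 2 (.node 1 (.leaf
  37484) (.leaf
  2026318)) (.node 1 (.leaf
  359271) (.leaf
  458540))))) (.node 7 (.node 3 (.node 1 (.leaf
  1326933) (.node 1 (.leaf
  2041895) (.leaf
  2007306))) (.node 2 (.node 1 (.leaf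
  968415) (.leaf
  336497)) (.node 1 (.leaf
  1774580) (.leaf
  675191)))) (.node 4 (.node 2 (.node 1 (.leaf
  2239824) (.leaf
  2847356)) (.node 1 (.leaf
  29270) (.leaf
  14131))) (.node 2 (.node 1 (.leaf
  382) (.leaf
  337552)) (.node 1 (.leaf
  36856) (.leaf
  967689))))))) (.node 30 (.node 15 (.node 7 (.node 3 (.node 1 (.leaf
  968688) (.node 1 (.leaf
  1103311) (.leaf
  982367))) (.node 2 (.node 1 (.leaf
  843507) (.leaf
  2878104)) (.node 1 (.leaf
  29971) (.leaf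
  1201792)))) (.node 4 (.node 2 (.node 1 (.leaf
  1649581) (.leaf
  1004238)) (.node 1 (.leaf
  458181) (.leaf
  2787792))) (.node 2 (.node 1 (.leaf
  37582) (.leaf
  336679)) (.node 1 (.leaf
  806453) (.leaf
  484444))))) (.node 7 (.node 3 (.node 1 (.leaf
  29140) (.node 1 (.leaf
  415) (.leaf
  14548))) (.node 2 (.node 1 (.leaf
  2240148) (.leaf
  444053)) (.node 1 (.leaf
  337092) (.leaf
  2041868)))) (.node 4 (.node 2 (.node 1 (.leaf
  71902) (.leaf
  967986)) (.node 1 (.leaf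
  1811406) (.leaf
  645825))) (.node 2 (.node 1 (.leaf
  1290362) (.leaf
  2041627)) (.node 1 (.leaf
  1685491) (.leaf
  1166371)))))) (.node 15 (.node 7 (.node 3 (.node 1 (.leaf
  157699) (.node 1 (.leaf
  2041498) (.leaf
  443889))) (.node 2 (.node 1 (.leaf
  795876) (.leaf
  1972723)) (.node 1 (.leaf
  336781) (.leaf
  2847865)))) (.node 4 (.node 2 (.node 1 (.leaf
  968340) (.leaf
  2464666)) (.node 1 (.leaf
  337134) (.leaf
  1409177))) (.node 2 (.node 1 (.leaf
  198525) (.leaf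
  1291329)) (.node 1 (.leaf
  484900) (.leaf
  14678))))) (.node 7 (.node 3 (.node 1 (.leaf
  135459) (.node 1 (.leaf
  1972359) (.leaf
  161476))) (.node 2 (.node 1 (.leaf
  852472) (.leaf
  2847560)) (.node 1 (.leaf
  2097443) (.leaf
  458057)))) (.node 4 (.node 2 (.node 1 (.leaf
  2787897) (.leaf
  2779269)) (.node 1 (.leaf
  852849) (.leaf
  2041964))) (.node 2 (.node 1 (.leaf
  14581) (.leaf
  336785)) (.node 1 (.leaf
  498562) (.leaf
  110))))))))))) (.node 472 (.node 236 (.node 118 (.node 59 (.node 29 (.node 14 (.node 7 (.node 3 (.node 1 (.leaf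
  360095) (.node 1 (.leaf
  359565) (.leaf
  1005369))) (.node 2 (.node 1 (.leaf
  2071280) (.leaf
  968313)) (.node 1 (.leaf
  29785) (.leaf
  359842)))) (.node 3 (.node 1 (.leaf
  2070453) (.node 1 (.leaf
  2778893) (.leaf
  473595))) (.node 2 (.node 1 (.leaf
  1004888) (.leaf
  795249)) (.node 1 (.leaf
  1650479) (.leaf
  1409003))))) (.node 7 (.node 3 (.node 1 (.leaf
  1684852) (.node 1 (.leaf
  646275) (.leaf
  646314))) (.node 2 (.node 1 (.leaf
  337172) (.leaf
  1327424)) (.node 1 (.leaf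
  352390) (.leaf
  843883)))) (.node 4 (.node 2 (.node 1 (.leaf
  843791) (.leaf
  2787318)) (.node 1 (.leaf
  37349) (.leaf
  1126271))) (.node 2 (.node 1 (.leaf
  337635) (.leaf
  457413)) (.node 1 (.leaf
  645712) (.leaf
  2041474)))))) (.node 15 (.node 7 (.node 3 (.node 1 (.leaf
  29924) (.node 1 (.leaf
  2041413) (.leaf
  323467))) (.node 2 (.node 1 (.leaf
  981823) (.leaf
  2787903)) (.node 1 (.leaf
  29063) (.leaf
  2008363)))) (.node 4 (.node 2 (.node 1 (.leaf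
  2465298) (.leaf
  336669)) (.node 1 (.leaf
  1775036) (.leaf
  1613729))) (.node 2 (.node 1 (.leaf
  1409314) (.leaf
  2526029)) (.node 1 (.leaf
  2071890) (.leaf
  2169090))))) (.node 7 (.node 3 (.node 1 (.leaf
  1408785) (.node 1 (.leaf
  1658504) (.leaf
  2071698))) (.node 2 (.node 1 (.leaf
  36640) (.leaf
  352290)) (.node 1 (.leaf
  968521) (.leaf
  484762)))) (.node 4 (.node 2 (.node 1 (.leaf
  2042383) (.leaf
  359884)) (.node 1 (.leaf
  359377) (.leaf
  1971951))) (.node 2 (.node 1 (.leaf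
  1004891) (.leaf
  337446)) (.node 1 (.leaf
  1810812) (.leaf
  2787228))))))) (.node 29 (.node 14 (.node 7 (.node 3 (.node 1 (.leaf
  337282) (.node 1 (.leaf
  1979633) (.leaf
  2239142))) (.node 2 (.node 1 (.leaf
  2779312) (.leaf
  29394)) (.node 1 (.leaf
  2239830) (.leaf
  681756)))) (.node 3 (.node 1 (.leaf
  660222) (.node 1 (.leaf
  2042324) (.leaf
  2294522))) (.node 2 (.node 1 (.leaf
  322622) (.leaf
  161385)) (.node 1 (.leaf
  443788) (.leaf
  2778975))))) (.node 7 (.node 3 (.node 1 (.leaf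
  781031) (.node 1 (.leaf
  134916) (.leaf
  925805))) (.node 2 (.node 1 (.leaf
  645801) (.leaf
  660071)) (.node 1 (.leaf
  2778405) (.leaf
  682369)))) (.node 4 (.node 2 (.node 1 (.leaf
  14962) (.leaf
  1774728)) (.node 1 (.leaf
  150060) (.leaf
  1972683))) (.node 2 (.node 1 (.leaf
  967833) (.leaf
  1581213)) (.node 1 (.leaf
  1125908) (.leaf
  352583)))))) (.node 15 (.node 7 (.node 3 (.node 1 (.leaf
  1658907) (.node 1 (.leaf
  360225) (.leaf
  1981334))) (.node 2 (.node 1 (.leaf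
  587) (.leaf
  72047)) (.node 1 (.leaf
  1980923) (.leaf
  2847803)))) (.node 4 (.node 2 (.node 1 (.leaf
  36548) (.leaf
  359895)) (.node 1 (.leaf
  336474) (.leaf
  981705))) (.node 2 (.node 1 (.leaf
  579480) (.leaf
  157689)) (.node 1 (.leaf
  2071936) (.leaf
  1811460))))) (.node 7 (.node 3 (.node 1 (.leaf
  14126) (.node 1 (.leaf
  659261) (.leaf
  457745))) (.node 2 (.node 1 (.leaf
  2090123) (.leaf
  2787322)) (.node 1 (.leaf
  1004465) (.leaf
  2304110)))) (.node 4 (.node 2 (.node 1 (.leaf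
  1129155) (.leaf
  14794)) (.node 1 (.leaf
  1451633) (.leaf
  480979))) (.node 2 (.node 1 (.leaf
  1327894) (.leaf
  1452398)) (.node 1 (.leaf
  1811366) (.leaf
  2304112)))))))) (.node 59 (.node 29 (.node 14 (.node 7 (.node 3 (.node 1 (.leaf
  852577) (.node 1 (.leaf
  682315) (.leaf
  803434))) (.node 2 (.node 1 (.leaf
  37227) (.leaf
  925889)) (.node 1 (.leaf
  997504) (.leaf
  14815)))) (.node 3 (.node 1 (.leaf
  646109) (.node 1 (.leaf
  14946) (.leaf
  13919))) (.node 2 (.node 1 (.leaf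
  1810822) (.leaf
  2235094)) (.node 1 (.leaf
  444734) (.leaf
  2787819))))) (.node 7 (.node 3 (.node 1 (.leaf
  37628) (.node 1 (.leaf
  1291097) (.leaf
  95))) (.node 2 (.node 1 (.leaf
  807181) (.leaf
  337386)) (.node 1 (.leaf
  967894) (.leaf
  2456414)))) (.node 4 (.node 2 (.node 1 (.leaf
  1005227) (.leaf
  2142025)) (.node 1 (.leaf
  1088948) (.leaf
  443795))) (.node 2 (.node 1 (.leaf
  14557) (.leaf
  1409381)) (.node 1 (.leaf
  1972453) (.leaf
  2041293)))))) (.node 15 (.node 7 (.node 3 (.node 1 (.leaf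
  337510) (.node 1 (.leaf
  29867) (.leaf
  981639))) (.node 2 (.node 1 (.leaf
  2456020) (.leaf
  806543)) (.node 1 (.leaf
  1684867) (.leaf
  795295)))) (.node 4 (.node 2 (.node 1 (.leaf
  473493) (.leaf
  660057)) (.node 1 (.leaf
  2716603) (.leaf
  1972457))) (.node 2 (.node 1 (.leaf
  1811553) (.leaf
  14779)) (.node 1 (.leaf
  646147) (.leaf
  1607256))))) (.node 7 (.node 3 (.node 1 (.leaf
  36559) (.node 1 (.leaf
  912653) (.leaf
  1004264))) (.node 2 (.node 1 (.leaf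
  2330389) (.leaf
  1125857)) (.node 1 (.leaf
  29149) (.leaf
  36620)))) (.node 4 (.node 2 (.node 1 (.leaf
  925534) (.leaf
  1327007)) (.node 1 (.leaf
  1126090) (.leaf
  1972575))) (.node 2 (.node 1 (.leaf
  1650299) (.leaf
  681996)) (.node 1 (.leaf
  2070450) (.leaf
  29124))))))) (.node 29 (.node 14 (.node 7 (.node 3 (.node 1 (.leaf
  682107) (.node 1 (.leaf
  36630) (.leaf
  235))) (.node 2 (.node 1 (.leaf
  1658992) (.leaf
  1451599)) (.node 1 (.leaf
  1981908) (.leaf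
  843573)))) (.node 3 (.node 1 (.leaf
  1580287) (.node 1 (.leaf
  352025) (.leaf
  7))) (.node 2 (.node 1 (.leaf
  2239278) (.leaf
  681703)) (.node 1 (.leaf
  352122) (.leaf
  321))))) (.node 7 (.node 3 (.node 1 (.leaf
  2072297) (.node 1 (.leaf
  2287097) (.leaf
  659080))) (.node 2 (.node 1 (.leaf
  37209) (.leaf
  997816)) (.node 1 (.leaf
  135490) (.leaf
  1971948)))) (.node 4 (.node 2 (.node 1 (.leaf
  645991) (.leaf
  352700)) (.node 1 (.leaf
  322656) (.leaf
  852163))) (.node 2 (.node 1 (.leaf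
  1685586) (.leaf
  2168919)) (.node 1 (.leaf
  13980) (.leaf
  1452449)))))) (.node 15 (.node 7 (.node 3 (.node 1 (.leaf
  890937) (.node 1 (.leaf
  1128999) (.leaf
  484037))) (.node 2 (.node 1 (.leaf
  37283) (.leaf
  1810825)) (.node 1 (.leaf
  458461) (.leaf
  645277)))) (.node 4 (.node 2 (.node 1 (.leaf
  1971919) (.leaf
  842944)) (.node 1 (.leaf
  323774) (.leaf
  29160))) (.node 2 (.node 1 (.leaf
  484459) (.leaf
  843001)) (.node 1 (.leaf
  2239097) (.leaf
  1117993))))) (.node 7 (.node 3 (.node 1 (.leaf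
  360005) (.node 1 (.leaf
  37665) (.leaf
  2239870))) (.node 2 (.node 1 (.leaf
  2779177) (.leaf
  1981809)) (.node 1 (.leaf
  359405) (.leaf
  843813)))) (.node 4 (.node 2 (.node 1 (.leaf
  1409442) (.leaf
  1166267)) (.node 1 (.leaf
  2041210) (.leaf
  1972802))) (.node 2 (.node 1 (.leaf
  1971989) (.leaf
  1126347)) (.node 1 (.leaf
  1972284) (.leaf
  37389))))))))) (.node 118 (.node 59 (.node 29 (.node 14 (.node 7 (.node 3 (.node 1 (.leaf
  2787773) (.node 1 (.leaf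
  2168783) (.leaf
  369))) (.node 2 (.node 1 (.leaf
  879122) (.leaf
  682800)) (.node 1 (.leaf
  232) (.leaf
  1607362)))) (.node 3 (.node 1 (.leaf
  351830) (.node 1 (.leaf
  323688) (.leaf
  1326796))) (.node 2 (.node 1 (.leaf
  2779174) (.leaf
  925689)) (.node 1 (.leaf
  14845) (.leaf
  2041489))))) (.node 7 (.node 3 (.node 1 (.leaf
  323012) (.node 1 (.leaf
  891756) (.leaf
  968357))) (.node 2 (.node 1 (.leaf
  878435) (.leaf
  1612999)) (.node 1 (.leaf
  473418) (.leaf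
  2041261)))) (.node 4 (.node 2 (.node 1 (.leaf
  484584) (.leaf
  14572)) (.node 1 (.leaf
  968390) (.leaf
  457964))) (.node 2 (.node 1 (.leaf
  1775129) (.leaf
  1408690)) (.node 1 (.leaf
  351901) (.leaf
  1768228)))))) (.node 15 (.node 7 (.node 3 (.node 1 (.leaf
  149978) (.node 1 (.leaf
  1972004) (.leaf
  359844))) (.node 2 (.node 1 (.leaf
  913428) (.leaf
  360053)) (.node 1 (.leaf
  485073) (.leaf
  1004226)))) (.node 4 (.node 2 (.node 1 (.leaf
  14574) (.leaf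
  458380)) (.node 1 (.leaf
  1451636) (.leaf
  0))) (.node 2 (.node 1 (.leaf
  1005091) (.leaf
  13914)) (.node 1 (.leaf
  2879059) (.leaf
  1004897))))) (.node 7 (.node 3 (.node 1 (.leaf
  443883) (.node 1 (.leaf
  535) (.leaf
  2042388))) (.node 2 (.node 1 (.leaf
  1129656) (.leaf
  1972743)) (.node 1 (.leaf
  2026386) (.leaf
  36577)))) (.node 4 (.node 2 (.node 1 (.leaf
  1980935) (.leaf
  2464583)) (.node 1 (.leaf
  29844) (.leaf
  1972286))) (.node 2 (.node 1 (.leaf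
  2465384) (.leaf
  323011)) (.node 1 (.leaf
  1658902) (.leaf
  967717))))))) (.node 29 (.node 14 (.node 7 (.node 3 (.node 1 (.leaf
  1375654) (.node 1 (.leaf
  498015) (.leaf
  1810643))) (.node 2 (.node 1 (.leaf
  2787416) (.leaf
  2097043)) (.node 1 (.leaf
  2169179) (.leaf
  1327543)))) (.node 3 (.node 1 (.leaf
  14785) (.node 1 (.leaf
  795217) (.leaf
  2041326))) (.node 2 (.node 1 (.leaf
  2717378) (.leaf
  36623)) (.node 1 (.leaf
  1580864) (.leaf
  645792))))) (.node 7 (.node 3 (.node 1 (.leaf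
  485097) (.node 1 (.leaf
  1810809) (.leaf
  659970))) (.node 2 (.node 1 (.leaf
  1409530) (.leaf
  1408873)) (.node 1 (.leaf
  1972170) (.leaf
  1971905)))) (.node 4 (.node 2 (.node 1 (.leaf
  1810741) (.leaf
  2878379)) (.node 1 (.leaf
  2861369) (.leaf
  2042165))) (.node 2 (.node 1 (.leaf
  2848281) (.leaf
  1742489)) (.node 1 (.leaf
  2071699) (.leaf
  795358)))))) (.node 15 (.node 7 (.node 3 (.node 1 (.leaf
  878314) (.node 1 (.leaf
  1408746) (.leaf
  878342))) (.node 2 (.node 1 (.leaf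
  2026958) (.leaf
  1719809)) (.node 1 (.leaf
  360099) (.leaf
  852402)))) (.node 4 (.node 2 (.node 1 (.leaf
  1972560) (.leaf
  1980899)) (.node 1 (.leaf
  2026159) (.leaf
  2041529))) (.node 2 (.node 1 (.leaf
  1774358) (.leaf
  925095)) (.node 1 (.leaf
  2787457) (.leaf
  1685821))))) (.node 7 (.node 3 (.node 1 (.leaf
  1452339) (.node 1 (.leaf
  1580427) (.leaf
  2042117))) (.node 2 (.node 1 (.leaf
  233805) (.leaf
  292)) (.node 1 (.leaf
  158597) (.leaf
  1811599)))) (.node 4 (.node 2 (.node 1 (.leaf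
  2779364) (.leaf
  1650471)) (.node 1 (.leaf
  1972099) (.leaf
  1089316))) (.node 2 (.node 1 (.leaf
  1972688) (.leaf
  843806)) (.node 1 (.leaf
  968280) (.leaf
  2042082)))))))) (.node 59 (.node 29 (.node 14 (.node 7 (.node 3 (.node 1 (.leaf
  2788137) (.node 1 (.leaf
  14241) (.leaf
  14453))) (.node 2 (.node 1 (.leaf
  1810861) (.leaf
  323519)) (.node 1 (.leaf
  2169158) (.leaf
  351942)))) (.node 3 (.node 1 (.leaf
  925473) (.node 1 (.leaf
  780477) (.leaf
  1774142))) (.node 2 (.node 1 (.leaf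
  2555728) (.leaf
  29965)) (.node 1 (.leaf
  537103) (.leaf
  645267))))) (.node 7 (.node 3 (.node 1 (.leaf
  14132) (.node 1 (.leaf
  45632) (.leaf
  843884))) (.node 2 (.node 1 (.leaf
  2787949) (.leaf
  359559)) (.node 1 (.leaf
  149988) (.leaf
  14031)))) (.node 4 (.node 2 (.node 1 (.leaf
  1375848) (.leaf
  645798)) (.node 1 (.leaf
  2464651) (.leaf
  69162))) (.node 2 (.node 1 (.leaf
  2239505) (.leaf
  322741)) (.node 1 (.leaf
  1118629) (.leaf
  2294479)))))) (.node 15 (.node 7 (.node 3 (.node 1 (.leaf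
  322634) (.node 1 (.leaf
  645980) (.leaf
  29638))) (.node 2 (.node 1 (.leaf
  675267) (.leaf
  2042036)) (.node 1 (.leaf
  1810723) (.leaf
  660136)))) (.node 4 (.node 2 (.node 1 (.leaf
  925260) (.leaf
  2239517)) (.node 1 (.leaf
  807092) (.leaf
  2239909))) (.node 2 (.node 1 (.leaf
  2464710) (.leaf
  1981091)) (.node 1 (.leaf
  968018) (.leaf
  646081))))) (.node 7 (.node 3 (.node 1 (.leaf
  844166) (.node 1 (.leaf
  1971954) (.leaf
  1129063))) (.node 2 (.node 1 (.leaf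
  336503) (.leaf
  2097376)) (.node 1 (.leaf
  337430) (.leaf
  13891)))) (.node 4 (.node 2 (.node 1 (.leaf
  2042233) (.leaf
  682035)) (.node 1 (.leaf
  878254) (.leaf
  336514))) (.node 2 (.node 1 (.leaf
  1409551) (.leaf
  188)) (.node 1 (.leaf
  967702) (.leaf
  1166284))))))) (.node 29 (.node 14 (.node 7 (.node 3 (.node 1 (.leaf
  1658360) (.node 1 (.leaf
  458285) (.leaf
  1649576))) (.node 2 (.node 1 (.leaf
  2142315) (.leaf
  322794)) (.node 1 (.leaf
  2788131) (.leaf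
  352385)))) (.node 3 (.node 1 (.leaf
  924906) (.node 1 (.leaf
  2071355) (.leaf
  674679))) (.node 2 (.node 1 (.leaf
  1824417) (.leaf
  997879)) (.node 1 (.leaf
  48) (.leaf
  803534))))) (.node 7 (.node 3 (.node 1 (.leaf
  681749) (.node 1 (.leaf
  176) (.leaf
  498468))) (.node 2 (.node 1 (.leaf
  430) (.leaf
  659794)) (.node 1 (.leaf
  36675) (.leaf
  1972738)))) (.node 4 (.node 2 (.node 1 (.leaf
  968928) (.leaf
  2778730)) (.node 1 (.leaf
  968870) (.leaf
  537642))) (.node 2 (.node 1 (.leaf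
  1409586) (.leaf
  1972830)) (.node 1 (.leaf
  1118624) (.leaf
  1658281)))))) (.node 15 (.node 7 (.node 3 (.node 1 (.leaf
  2041998) (.node 1 (.leaf
  1408694) (.leaf
  2448556))) (.node 2 (.node 1 (.leaf
  1397246) (.leaf
  1375157)) (.node 1 (.leaf
  2041968) (.leaf
  2168958)))) (.node 4 (.node 2 (.node 1 (.leaf
  645302) (.leaf
  359264)) (.node 1 (.leaf
  1971957) (.leaf
  2041243))) (.node 2 (.node 1 (.leaf
  1972031) (.leaf
  36616)) (.node 1 (.leaf
  1972671) (.leaf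
  982529))))) (.node 7 (.node 3 (.node 1 (.leaf
  2788094) (.node 1 (.leaf
  645284) (.leaf
  645266))) (.node 2 (.node 1 (.leaf
  1972140) (.leaf
  472787)) (.node 1 (.leaf
  484710) (.leaf
  1326784)))) (.node 4 (.node 2 (.node 1 (.leaf
  336568) (.leaf
  626)) (.node 1 (.leaf
  1488968) (.leaf
  1972547))) (.node 2 (.node 1 (.leaf
  1972706) (.leaf
  2555726)) (.node 1 (.leaf
  1409577) (.leaf
  1409454)))))))))) (.node 236 (.node 118 (.node 59 (.node 29 (.node 14 (.node 7 (.node 3 (.node 1 (.leaf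
  36714) (.node 1 (.leaf
  2071972) (.leaf
  2041100))) (.node 2 (.node 1 (.leaf
  1580913) (.leaf
  2072600)) (.node 1 (.leaf
  1810834) (.leaf
  1972127)))) (.node 3 (.node 1 (.leaf
  878269) (.node 1 (.leaf
  444) (.leaf
  659872))) (.node 2 (.node 1 (.leaf
  852292) (.leaf
  2026965)) (.node 1 (.leaf
  1810654) (.leaf
  36990))))) (.node 7 (.node 3 (.node 1 (.leaf
  2303431) (.node 1 (.leaf
  1408783) (.leaf
  851974))) (.node 2 (.node 1 (.leaf
  2778597) (.leaf
  36822)) (.node 1 (.leaf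
  1811165) (.leaf
  112)))) (.node 4 (.node 2 (.node 1 (.leaf
  1972016) (.leaf
  1980992)) (.node 1 (.leaf
  1972873) (.leaf
  2168640))) (.node 2 (.node 1 (.leaf
  968869) (.leaf
  646269)) (.node 1 (.leaf
  2722369) (.leaf
  1408907)))))) (.node 15 (.node 7 (.node 3 (.node 1 (.leaf
  322594) (.node 1 (.leaf
  1684728) (.leaf
  359277))) (.node 2 (.node 1 (.leaf
  14639) (.leaf
  981549)) (.node 1 (.leaf
  1972174) (.leaf
  2070386)))) (.node 4 (.node 2 (.node 1 (.leaf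
  2788341) (.leaf
  878347)) (.node 1 (.leaf
  2041921) (.leaf
  645846))) (.node 2 (.node 1 (.leaf
  2449399) (.leaf
  682485)) (.node 1 (.leaf
  1408711) (.leaf
  1374887))))) (.node 7 (.node 3 (.node 1 (.leaf
  2169013) (.node 1 (.leaf
  2456908) (.leaf
  645381))) (.node 2 (.node 1 (.leaf
  484539) (.leaf
  2464570)) (.node 1 (.leaf
  1973070) (.leaf
  353)))) (.node 4 (.node 2 (.node 1 (.leaf
  997572) (.leaf
  458127)) (.node 1 (.leaf
  14564) (.leaf
  336556))) (.node 2 (.node 1 (.leaf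
  851930) (.leaf
  2026132)) (.node 1 (.leaf
  968008) (.leaf
  2142132))))))) (.node 29 (.node 14 (.node 7 (.node 3 (.node 1 (.leaf
  645997) (.node 1 (.leaf
  1409017) (.leaf
  1580746))) (.node 2 (.node 1 (.leaf
  89) (.leaf
  1971933)) (.node 1 (.leaf
  2717413) (.leaf
  2330515)))) (.node 3 (.node 1 (.leaf
  1774177) (.node 1 (.leaf
  2846632) (.leaf
  1408951))) (.node 2 (.node 1 (.leaf
  1408753) (.leaf
  2258623)) (.node 1 (.leaf
  1774140) (.leaf
  925526))))) (.node 7 (.node 3 (.node 1 (.leaf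
  322791) (.node 1 (.leaf
  512971) (.leaf
  681810))) (.node 2 (.node 1 (.leaf
  152) (.leaf
  2239074)) (.node 1 (.leaf
  1488878) (.leaf
  337383)))) (.node 4 (.node 2 (.node 1 (.leaf
  352426) (.leaf
  351994)) (.node 1 (.leaf
  2239114) (.leaf
  645271))) (.node 2 (.node 1 (.leaf
  645335) (.leaf
  161576)) (.node 1 (.leaf
  2042224) (.leaf
  323561)))))) (.node 15 (.node 7 (.node 3 (.node 1 (.leaf
  249) (.node 1 (.leaf
  2169096) (.leaf
  660190))) (.node 2 (.node 1 (.leaf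
  681731) (.leaf
  2787823)) (.node 1 (.leaf
  1774769) (.leaf
  2169157)))) (.node 4 (.node 2 (.node 1 (.leaf
  360027) (.leaf
  512902)) (.node 1 (.leaf
  2041693) (.leaf
  481053))) (.node 2 (.node 1 (.leaf
  336457) (.leaf
  1118714)) (.node 1 (.leaf
  359146) (.leaf
  2234925))))) (.node 7 (.node 3 (.node 1 (.leaf
  155) (.node 1 (.leaf
  2239248) (.leaf
  2168775))) (.node 2 (.node 1 (.leaf
  558) (.leaf
  844055)) (.node 1 (.leaf
  1731851) (.leaf
  2142126)))) (.node 4 (.node 2 (.node 1 (.leaf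
  682484) (.leaf
  351768)) (.node 1 (.leaf
  1685190) (.leaf
  844054))) (.node 2 (.node 1 (.leaf
  458373) (.leaf
  842969)) (.node 1 (.leaf
  682628) (.leaf
  1810692)))))))) (.node 59 (.node 29 (.node 14 (.node 7 (.node 3 (.node 1 (.leaf
  150845) (.node 1 (.leaf
  1650107) (.leaf
  2455783))) (.node 2 (.node 1 (.leaf
  1685493) (.leaf
  2041288)) (.node 1 (.leaf
  1451730) (.leaf
  134919)))) (.node 3 (.node 1 (.leaf
  158433) (.node 1 (.leaf
  802900) (.leaf
  2258032))) (.node 2 (.node 1 (.leaf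
  2042222) (.leaf
  878577)) (.node 1 (.leaf
  1972167) (.leaf
  681759))))) (.node 7 (.node 3 (.node 1 (.leaf
  2465392) (.node 1 (.leaf
  197891) (.leaf
  2041685))) (.node 2 (.node 1 (.leaf
  1128966) (.leaf
  15043)) (.node 1 (.leaf
  681922) (.leaf
  323447)))) (.node 4 (.node 2 (.node 1 (.leaf
  14651) (.leaf
  444050)) (.node 1 (.leaf
  36749) (.leaf
  426))) (.node 2 (.node 1 (.leaf
  935478) (.leaf
  37384)) (.node 1 (.leaf
  336878) (.leaf
  1290401)))))) (.node 15 (.node 7 (.node 3 (.node 1 (.leaf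
  14533) (.node 1 (.leaf
  69114) (.leaf
  458319))) (.node 2 (.node 1 (.leaf
  1774970) (.leaf
  1685303)) (.node 1 (.leaf
  1290419) (.leaf
  2096766)))) (.node 4 (.node 2 (.node 1 (.leaf
  2041500) (.leaf
  2239965)) (.node 1 (.leaf
  2041283) (.leaf
  443974))) (.node 2 (.node 1 (.leaf
  1811445) (.leaf
  14984)) (.node 1 (.leaf
  14595) (.leaf
  458278))))) (.node 7 (.node 3 (.node 1 (.leaf
  968219) (.node 1 (.leaf
  131) (.leaf
  645401))) (.node 2 (.node 1 (.leaf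
  682476) (.leaf
  158339)) (.node 1 (.leaf
  475) (.leaf
  457967)))) (.node 4 (.node 2 (.node 1 (.leaf
  968652) (.leaf
  337152)) (.node 1 (.leaf
  935417) (.leaf
  1810767))) (.node 2 (.node 1 (.leaf
  1004286) (.leaf
  2456382)) (.node 1 (.leaf
  45422) (.leaf
  681679))))))) (.node 29 (.node 14 (.node 7 (.node 3 (.node 1 (.leaf
  2716590) (.node 1 (.leaf
  2169349) (.leaf
  1685589))) (.node 2 (.node 1 (.leaf
  2041999) (.leaf
  66)) (.node 1 (.leaf
  1004808) (.leaf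
  323480)))) (.node 3 (.node 1 (.leaf
  843022) (.node 1 (.leaf
  1811678) (.leaf
  2071352))) (.node 2 (.node 1 (.leaf
  1580468) (.leaf
  1110843)) (.node 1 (.leaf
  1089290) (.leaf
  843368))))) (.node 7 (.node 3 (.node 1 (.leaf
  2788178) (.node 1 (.leaf
  2788134) (.leaf
  2778732))) (.node 2 (.node 1 (.leaf
  2847512) (.leaf
  2787505)) (.node 1 (.leaf
  1481671) (.leaf
  1649768)))) (.node 4 (.node 2 (.node 1 (.leaf
  2042209) (.leaf
  1613098)) (.node 1 (.leaf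
  2041357) (.leaf
  1580472))) (.node 2 (.node 1 (.leaf
  925192) (.leaf
  2787661)) (.node 1 (.leaf
  2042258) (.leaf
  2787997)))))) (.node 15 (.node 7 (.node 3 (.node 1 (.leaf
  2779472) (.node 1 (.leaf
  1488488) (.leaf
  1811052))) (.node 2 (.node 1 (.leaf
  1811819) (.leaf
  660199)) (.node 1 (.leaf
  336973) (.leaf
  336681)))) (.node 4 (.node 2 (.node 1 (.leaf
  359816) (.leaf
  2168517)) (.node 1 (.leaf
  1088667) (.leaf
  645538))) (.node 2 (.node 1 (.leaf
  1972638) (.leaf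
  996921)) (.node 1 (.leaf
  1326906) (.leaf
  579574))))) (.node 7 (.node 3 (.node 1 (.leaf
  1774941) (.node 1 (.leaf
  323504) (.leaf
  484897))) (.node 2 (.node 1 (.leaf
  323517) (.leaf
  37397)) (.node 1 (.leaf
  2455809) (.leaf
  36773)))) (.node 4 (.node 2 (.node 1 (.leaf
  14492) (.leaf
  2142403)) (.node 1 (.leaf
  935963) (.leaf
  2329877))) (.node 2 (.node 1 (.leaf
  14934) (.leaf
  1327733)) (.node 1 (.leaf
  578959) (.leaf
  2239247))))))))) (.node 118 (.node 59 (.node 29 (.node 14 (.node 7 (.node 3 (.node 1 (.leaf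
  416) (.node 1 (.leaf
  11) (.leaf
  13889))) (.node 2 (.node 1 (.leaf
  682473) (.leaf
  2072654)) (.node 1 (.leaf
  1004411) (.leaf
  37289)))) (.node 3 (.node 1 (.leaf
  37214) (.node 1 (.leaf
  807287) (.leaf
  2295322))) (.node 2 (.node 1 (.leaf
  681868) (.leaf
  2041435)) (.node 1 (.leaf
  1810680) (.leaf
  2788217))))) (.node 7 (.node 3 (.node 1 (.leaf
  352096) (.node 1 (.leaf
  1375566) (.leaf
  1811502))) (.node 2 (.node 1 (.leaf
  37493) (.leaf
  75954)) (.node 1 (.leaf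
  2041269) (.leaf
  84)))) (.node 4 (.node 2 (.node 1 (.leaf
  1291044) (.leaf
  796067)) (.node 1 (.leaf
  2041943) (.leaf
  1972143))) (.node 2 (.node 1 (.leaf
  322925) (.leaf
  69113)) (.node 1 (.leaf
  2464803) (.leaf
  1409484)))))) (.node 15 (.node 7 (.node 3 (.node 1 (.leaf
  322701) (.node 1 (.leaf
  1650389) (.leaf
  981825))) (.node 2 (.node 1 (.leaf
  682222) (.leaf
  352622)) (.node 1 (.leaf
  1089308) (.leaf
  336493)))) (.node 4 (.node 2 (.node 1 (.leaf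
  14594) (.leaf
  322795)) (.node 1 (.leaf
  968179) (.leaf
  674625))) (.node 2 (.node 1 (.leaf
  1125811) (.leaf
  14860)) (.node 1 (.leaf
  322772) (.leaf
  337051))))) (.node 7 (.node 3 (.node 1 (.leaf
  645268) (.node 1 (.leaf
  1409164) (.leaf
  843367))) (.node 2 (.node 1 (.leaf
  359545) (.leaf
  2169091)) (.node 1 (.leaf
  2456507) (.leaf
  2330518)))) (.node 4 (.node 2 (.node 1 (.leaf
  37459) (.leaf
  359293)) (.node 1 (.leaf
  473168) (.leaf
  298))) (.node 2 (.node 1 (.leaf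
  484807) (.leaf
  1004892)) (.node 1 (.leaf
  1685544) (.leaf
  2041340))))))) (.node 29 (.node 14 (.node 7 (.node 3 (.node 1 (.leaf
  1581056) (.node 1 (.leaf
  578967) (.leaf
  2788269))) (.node 2 (.node 1 (.leaf
  2042039) (.leaf
  1480782)) (.node 1 (.leaf
  1979854) (.leaf
  925070)))) (.node 3 (.node 1 (.leaf
  1580918) (.node 1 (.leaf
  1129727) (.leaf
  2717256))) (.node 2 (.node 1 (.leaf
  2142700) (.leaf
  1972203)) (.node 1 (.leaf
  807188) (.leaf
  1811093))))) (.node 7 (.node 3 (.node 1 (.leaf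
  843266) (.node 1 (.leaf
  646359) (.leaf
  1649763))) (.node 2 (.node 1 (.leaf
  1335892) (.leaf
  2788136)) (.node 1 (.leaf
  2041350) (.leaf
  2787368)))) (.node 4 (.node 2 (.node 1 (.leaf
  891758) (.leaf
  1129611)) (.node 1 (.leaf
  359839) (.leaf
  359112))) (.node 2 (.node 1 (.leaf
  197967) (.leaf
  37236)) (.node 1 (.leaf
  36771) (.leaf
  2071899)))))) (.node 15 (.node 7 (.node 3 (.node 1 (.leaf
  352127) (.node 1 (.leaf
  351662) (.leaf
  2142712))) (.node 2 (.node 1 (.leaf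
  645931) (.leaf
  2239434)) (.node 1 (.leaf
  323525) (.leaf
  2465131)))) (.node 4 (.node 2 (.node 1 (.leaf
  1125187) (.leaf
  484538)) (.node 1 (.leaf
  323218) (.leaf
  2721650))) (.node 2 (.node 1 (.leaf
  645352) (.leaf
  674724)) (.node 1 (.leaf
  1088641) (.leaf
  681722))))) (.node 7 (.node 3 (.node 1 (.leaf
  1980459) (.node 1 (.leaf
  1291013) (.leaf
  1362321))) (.node 2 (.node 1 (.leaf
  981711) (.leaf
  1972687)) (.node 1 (.leaf
  2076883) (.leaf
  795354)))) (.node 4 (.node 2 (.node 1 (.leaf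
  1580870) (.leaf
  1774221)) (.node 1 (.leaf
  2169173) (.leaf
  1451547))) (.node 2 (.node 1 (.leaf
  2042020) (.leaf
  359687)) (.node 1 (.leaf
  2041464) (.leaf
  443971)))))))) (.node 59 (.node 29 (.node 14 (.node 7 (.node 3 (.node 1 (.leaf
  1811855) (.node 1 (.leaf
  1774217) (.leaf
  37154))) (.node 2 (.node 1 (.leaf
  2456436) (.leaf
  457411)) (.node 1 (.leaf
  360205) (.leaf
  981821)))) (.node 3 (.node 1 (.leaf
  1810646) (.node 1 (.leaf
  323285) (.leaf
  878623))) (.node 2 (.node 1 (.leaf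
  360181) (.leaf
  1811405)) (.node 1 (.leaf
  484540) (.leaf
  202))))) (.node 7 (.node 3 (.node 1 (.leaf
  359881) (.node 1 (.leaf
  795580) (.leaf
  444051))) (.node 2 (.node 1 (.leaf
  925393) (.leaf
  645157)) (.node 1 (.leaf
  1166242) (.leaf
  1088712)))) (.node 4 (.node 2 (.node 1 (.leaf
  878716) (.leaf
  14074)) (.node 1 (.leaf
  674314) (.leaf
  483911))) (.node 2 (.node 1 (.leaf
  37229) (.leaf
  674711)) (.node 1 (.leaf
  29677) (.leaf
  45503)))))) (.node 15 (.node 7 (.node 3 (.node 1 (.leaf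
  323301) (.node 1 (.leaf
  645164) (.leaf
  1374808))) (.node 2 (.node 1 (.leaf
  925696) (.leaf
  1005314)) (.node 1 (.leaf
  935914) (.leaf
  807444)))) (.node 4 (.node 2 (.node 1 (.leaf
  806466) (.leaf
  513746)) (.node 1 (.leaf
  2168681) (.leaf
  473))) (.node 2 (.node 1 (.leaf
  1649406) (.leaf
  1327095)) (.node 1 (.leaf
  1684688) (.leaf
  1103319))))) (.node 7 (.node 3 (.node 1 (.leaf
  2041865) (.node 1 (.leaf
  1972709) (.leaf
  1811328))) (.node 2 (.node 1 (.leaf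
  352755) (.leaf
  681844)) (.node 1 (.leaf
  337243) (.leaf
  352383)))) (.node 4 (.node 2 (.node 1 (.leaf
  1291146) (.leaf
  577)) (.node 1 (.leaf
  157809) (.leaf
  935334))) (.node 2 (.node 1 (.leaf
  1685400) (.leaf
  1166276)) (.node 1 (.leaf
  925174) (.leaf
  2847698))))))) (.node 30 (.node 15 (.node 7 (.node 3 (.node 1 (.leaf
  13882) (.node 1 (.leaf
  912738) (.leaf
  13917))) (.node 2 (.node 1 (.leaf
  197896) (.leaf
  968432)) (.node 1 (.leaf
  968331) (.leaf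
  803199)))) (.node 4 (.node 2 (.node 1 (.leaf
  924870) (.leaf
  37361)) (.node 1 (.leaf
  1004682) (.leaf
  681733))) (.node 2 (.node 1 (.leaf
  457573) (.leaf
  1290653)) (.node 1 (.leaf
  30023) (.leaf
  2041347))))) (.node 7 (.node 3 (.node 1 (.leaf
  659986) (.node 1 (.leaf
  336745) (.leaf
  2847802))) (.node 2 (.node 1 (.leaf
  1451722) (.leaf
  1451629)) (.node 1 (.leaf
  645848) (.leaf
  352524)))) (.node 4 (.node 2 (.node 1 (.leaf
  2787413) (.leaf
  2778344)) (.node 1 (.leaf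
  134906) (.leaf
  261))) (.node 2 (.node 1 (.leaf
  1355543) (.leaf
  660149)) (.node 1 (.leaf
  37569) (.leaf
  1810727)))))) (.node 15 (.node 7 (.node 3 (.node 1 (.leaf
  1481326) (.node 1 (.leaf
  1088829) (.leaf
  121955))) (.node 2 (.node 1 (.leaf
  1971908) (.leaf
  485039)) (.node 1 (.leaf
  2779272) (.leaf
  1375443)))) (.node 4 (.node 2 (.node 1 (.leaf
  14263) (.leaf
  1981846)) (.node 1 (.leaf
  1165653) (.leaf
  336736))) (.node 2 (.node 1 (.leaf
  14773) (.leaf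
  336501)) (.node 1 (.leaf
  645776) (.leaf
  645555))))) (.node 7 (.node 3 (.node 1 (.leaf
  1089177) (.node 1 (.leaf
  151161) (.leaf
  645903))) (.node 2 (.node 1 (.leaf
  150036) (.leaf
  2258073)) (.node 1 (.leaf
  323382) (.leaf
  13956)))) (.node 4 (.node 2 (.node 1 (.leaf
  359496) (.leaf
  13878)) (.node 1 (.leaf
  145) (.leaf
  483864))) (.node 2 (.node 1 (.leaf
  1327428) (.leaf
  336678)) (.node 1 (.leaf
  359339) (.leaf
  14034))))))))))))))

/-- Their inverses. -/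
def bConjInv : Tree :=
  (.node 3780 (.node 1890 (.node 945 (.node 472 (.node 236 (.node 118 (.node 59 (.node 29 (.node 14 (.node 7 (.node 3 (.node 1 (.leaf
  2037614) (.node 1 (.leaf
  1118297) (.leaf
  2247432))) (.node 2 (.node 1 (.leaf
  2110687) (.leaf
  457970)) (.node 1 (.leaf
  2847794) (.leaf
  351772)))) (.node 3 (.node 1 (.leaf
  351601) (.node 1 (.leaf
  520522) (.leaf
  1201410))) (.node 2 (.node 1 (.leaf
  1972094) (.leaf
  197881)) (.node 1 (.leaf
  336676) (.leaf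
  72592))))) (.node 7 (.node 3 (.node 1 (.leaf
  198682) (.node 1 (.leaf
  1363019) (.leaf
  1126238))) (.node 2 (.node 1 (.leaf
  359943) (.leaf
  37292)) (.node 1 (.leaf
  997503) (.leaf
  365159)))) (.node 4 (.node 2 (.node 1 (.leaf
  1978083) (.leaf
  1175092)) (.node 1 (.leaf
  483867) (.leaf
  1103133))) (.node 2 (.node 1 (.leaf
  375544) (.leaf
  351797)) (.node 1 (.leaf
  37324) (.leaf
  162121)))))) (.node 15 (.node 7 (.node 3 (.node 1 (.leaf
  1005107) (.node 1 (.leaf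
  36850) (.leaf
  2343074))) (.node 2 (.node 1 (.leaf
  359642) (.leaf
  645774)) (.node 1 (.leaf
  359181) (.leaf
  37331)))) (.node 4 (.node 2 (.node 1 (.leaf
  645904) (.leaf
  2096704)) (.node 1 (.leaf
  996741) (.leaf
  560407))) (.node 2 (.node 1 (.leaf
  322624) (.leaf
  1810661)) (.node 1 (.leaf
  2133261) (.leaf
  1362394))))) (.node 7 (.node 3 (.node 1 (.leaf
  634982) (.node 1 (.leaf
  483949) (.leaf
  1816172))) (.node 2 (.node 1 (.leaf
  399389) (.leaf
  150762)) (.node 1 (.leaf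
  35) (.leaf
  1545216)))) (.node 4 (.node 2 (.node 1 (.leaf
  191268) (.leaf
  398389)) (.node 1 (.leaf
  2072314) (.leaf
  2711137))) (.node 2 (.node 1 (.leaf
  2133951) (.leaf
  37359)) (.node 1 (.leaf
  2899547) (.leaf
  161983))))))) (.node 29 (.node 14 (.node 7 (.node 3 (.node 1 (.leaf
  13878) (.node 1 (.leaf
  2201481) (.leaf
  31))) (.node 2 (.node 1 (.leaf
  2742665) (.leaf
  835844)) (.node 1 (.leaf
  323257) (.leaf
  968685)))) (.node 3 (.node 1 (.leaf
  359392) (.node 1 (.leaf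
  906418) (.leaf
  883024))) (.node 2 (.node 1 (.leaf
  359876) (.leaf
  2072324)) (.node 1 (.leaf
  1396756) (.leaf
  484507))))) (.node 7 (.node 3 (.node 1 (.leaf
  2133729) (.node 1 (.leaf
  968409) (.leaf
  37014))) (.node 2 (.node 1 (.leaf
  1972943) (.leaf
  2716801)) (.node 1 (.leaf
  2549692) (.leaf
  1166151)))) (.node 4 (.node 2 (.node 1 (.leaf
  105734) (.leaf
  2742644)) (.node 1 (.leaf
  1451600) (.leaf
  1129257))) (.node 2 (.node 1 (.leaf
  852614) (.leaf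
  879074)) (.node 1 (.leaf
  29892) (.leaf
  484584)))))) (.node 15 (.node 7 (.node 3 (.node 1 (.leaf
  352401) (.node 1 (.leaf
  1175038) (.leaf
  682426))) (.node 2 (.node 1 (.leaf
  2142169) (.leaf
  843302)) (.node 1 (.leaf
  2771632) (.leaf
  659308)))) (.node 4 (.node 2 (.node 1 (.leaf
  337129) (.leaf
  968372)) (.node 1 (.leaf
  484582) (.leaf
  150844))) (.node 2 (.node 1 (.leaf
  37448) (.leaf
  981781)) (.node 1 (.leaf
  2142990) (.leaf
  2142850))))) (.node 7 (.node 3 (.node 1 (.leaf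
  1174584) (.node 1 (.leaf
  942299) (.leaf
  72759))) (.node 2 (.node 1 (.leaf
  968377) (.leaf
  1910058)) (.node 1 (.leaf
  2771466) (.leaf
  2778396)))) (.node 4 (.node 2 (.node 1 (.leaf
  336613) (.leaf
  360119)) (.node 1 (.leaf
  879015) (.leaf
  2258759))) (.node 2 (.node 1 (.leaf
  1819454) (.leaf
  843742)) (.node 1 (.leaf
  968382) (.leaf
  1949574)))))))) (.node 59 (.node 29 (.node 14 (.node 7 (.node 3 (.node 1 (.leaf
  1004458) (.node 1 (.leaf
  483975) (.leaf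
  787611))) (.node 2 (.node 1 (.leaf
  521170) (.leaf
  498349)) (.node 1 (.leaf
  2142178) (.leaf
  982213)))) (.node 3 (.node 1 (.leaf
  1175264) (.node 1 (.leaf
  1166262) (.leaf
  982252))) (.node 2 (.node 1 (.leaf
  1355485) (.leaf
  967938)) (.node 1 (.leaf
  337439) (.leaf
  674399))))) (.node 7 (.node 3 (.node 1 (.leaf
  1004964) (.node 1 (.leaf
  968448) (.leaf
  911435))) (.node 2 (.node 1 (.leaf
  2847862) (.leaf
  484476)) (.node 1 (.leaf
  396) (.leaf
  337478)))) (.node 4 (.node 2 (.node 1 (.leaf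
  1811332) (.leaf
  2201943)) (.node 1 (.leaf
  1238514) (.leaf
  360169))) (.node 2 (.node 1 (.leaf
  2097590) (.leaf
  136066)) (.node 1 (.leaf
  2779102) (.leaf
  336678)))))) (.node 15 (.node 7 (.node 3 (.node 1 (.leaf
  2549444) (.node 1 (.leaf
  1774407) (.leaf
  36749))) (.node 2 (.node 1 (.leaf
  1129845) (.leaf
  1978085)) (.node 1 (.leaf
  1971909) (.leaf
  1642371)))) (.node 4 (.node 2 (.node 1 (.leaf
  1102714) (.leaf
  135561)) (.node 1 (.leaf
  36795) (.leaf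
  928366))) (.node 2 (.node 1 (.leaf
  29080) (.leaf
  1381120)) (.node 1 (.leaf
  398224) (.leaf
  1488713))))) (.node 7 (.node 3 (.node 1 (.leaf
  1480509) (.node 1 (.leaf
  2196544) (.leaf
  36605))) (.node 2 (.node 1 (.leaf
  807092) (.leaf
  996943)) (.node 1 (.leaf
  296522) (.leaf
  1125278)))) (.node 4 (.node 2 (.node 1 (.leaf
  1774108) (.leaf
  2569562)) (.node 1 (.leaf
  757) (.leaf
  2611860))) (.node 2 (.node 1 (.leaf
  399289) (.leaf
  1005028)) (.node 1 (.leaf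
  1320924) (.leaf
  513075))))))) (.node 29 (.node 14 (.node 7 (.node 3 (.node 1 (.leaf
  484769) (.node 1 (.leaf
  1936470) (.leaf
  197934))) (.node 2 (.node 1 (.leaf
  2639939) (.leaf
  390987)) (.node 1 (.leaf
  390981) (.leaf
  2257985)))) (.node 3 (.node 1 (.leaf
  2377017) (.node 1 (.leaf
  2258805) (.leaf
  2272570))) (.node 2 (.node 1 (.leaf
  1125857) (.leaf
  2258724)) (.node 1 (.leaf
  1810907) (.leaf
  1102593))))) (.node 7 (.node 3 (.node 1 (.leaf
  483876) (.node 1 (.leaf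
  2169357) (.leaf
  668))) (.node 2 (.node 1 (.leaf
  806467) (.leaf
  483909)) (.node 1 (.leaf
  398367) (.leaf
  135177)))) (.node 4 (.node 2 (.node 1 (.leaf
  957363) (.leaf
  2742452)) (.node 1 (.leaf
  2392830) (.leaf
  1649389))) (.node 2 (.node 1 (.leaf
  1166367) (.leaf
  2169216)) (.node 1 (.leaf
  2860334) (.leaf
  941490)))))) (.node 15 (.node 7 (.node 3 (.node 1 (.leaf
  498036) (.node 1 (.leaf
  1570727) (.leaf
  498111))) (.node 2 (.node 1 (.leaf
  2461797) (.leaf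
  2003549)) (.node 1 (.leaf
  645155) (.leaf
  982474)))) (.node 4 (.node 2 (.node 1 (.leaf
  311611) (.leaf
  968713)) (.node 1 (.leaf
  19) (.leaf
  423097))) (.node 2 (.node 1 (.leaf
  2168616) (.leaf
  2037802)) (.node 1 (.leaf
  646045) (.leaf
  1536007))))) (.node 7 (.node 3 (.node 1 (.leaf
  37421) (.node 1 (.leaf
  2168598) (.leaf
  2555088))) (.node 2 (.node 1 (.leaf
  1166348) (.leaf
  162386)) (.node 1 (.leaf
  520470) (.leaf
  135571)))) (.node 4 (.node 2 (.node 1 (.leaf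
  105266) (.leaf
  218)) (.node 1 (.leaf
  2294540) (.leaf
  2169162))) (.node 2 (.node 1 (.leaf
  2142721) (.leaf
  709)) (.node 1 (.leaf
  967966) (.leaf
  2379971))))))))) (.node 118 (.node 59 (.node 29 (.node 14 (.node 7 (.node 3 (.node 1 (.leaf
  2363866) (.node 1 (.leaf
  968497) (.leaf
  806519))) (.node 2 (.node 1 (.leaf
  843690) (.leaf
  1612920)) (.node 1 (.leaf
  279) (.leaf
  2097295)))) (.node 3 (.node 1 (.leaf
  1810663) (.node 1 (.leaf
  1972207) (.leaf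
  473083))) (.node 2 (.node 1 (.leaf
  2342463) (.leaf
  364968)) (.node 1 (.leaf
  2168476) (.leaf
  1452504))))) (.node 7 (.node 3 (.node 1 (.leaf
  552691) (.node 1 (.leaf
  852523) (.leaf
  198598))) (.node 2 (.node 1 (.leaf
  190447) (.leaf
  36714)) (.node 1 (.leaf
  1972049) (.leaf
  149950)))) (.node 4 (.node 2 (.node 1 (.leaf
  36743) (.leaf
  806582)) (.node 1 (.leaf
  198553) (.leaf
  2097445))) (.node 2 (.node 1 (.leaf
  843077) (.leaf
  1103682)) (.node 1 (.leaf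
  359304) (.leaf
  2742921)))))) (.node 15 (.node 7 (.node 3 (.node 1 (.leaf
  88) (.node 1 (.leaf
  806674) (.leaf
  99758))) (.node 2 (.node 1 (.leaf
  151072) (.leaf
  1481200)) (.node 1 (.leaf
  42724) (.leaf
  835757)))) (.node 4 (.node 2 (.node 1 (.leaf
  806471) (.leaf
  2362718)) (.node 1 (.leaf
  852563) (.leaf
  337122))) (.node 2 (.node 1 (.leaf
  867) (.leaf
  71950)) (.node 1 (.leaf
  1536688) (.leaf
  1972224))))) (.node 7 (.node 3 (.node 1 (.leaf
  2096745) (.node 1 (.leaf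
  645371) (.leaf
  1811130))) (.node 2 (.node 1 (.leaf
  968710) (.leaf
  2778600)) (.node 1 (.leaf
  1375585) (.leaf
  135968)))) (.node 4 (.node 2 (.node 1 (.leaf
  1972243) (.leaf
  36939)) (.node 1 (.leaf
  359988) (.leaf
  2876994))) (.node 2 (.node 1 (.leaf
  2168718) (.leaf
  968503)) (.node 1 (.leaf
  806580) (.leaf
  1060485))))))) (.node 29 (.node 14 (.node 7 (.node 3 (.node 1 (.leaf
  1488824) (.node 1 (.leaf
  2142114) (.leaf
  497779))) (.node 2 (.node 1 (.leaf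
  2196973) (.leaf
  162048)) (.node 1 (.leaf
  843587) (.leaf
  99634)))) (.node 3 (.node 1 (.leaf
  352408) (.node 1 (.leaf
  806518) (.leaf
  915091))) (.node 2 (.node 1 (.leaf
  1810928) (.leaf
  1774863)) (.node 1 (.leaf
  2247647) (.leaf
  2741940))))) (.node 7 (.node 3 (.node 1 (.leaf
  2257955) (.node 1 (.leaf
  552657) (.leaf
  710))) (.node 2 (.node 1 (.leaf
  1489201) (.leaf
  150692)) (.node 1 (.leaf
  36545) (.leaf
  190543)))) (.node 4 (.node 2 (.node 1 (.leaf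
  2742048) (.leaf
  2787293)) (.node 1 (.leaf
  762) (.leaf
  2710972))) (.node 2 (.node 1 (.leaf
  76673) (.leaf
  446)) (.node 1 (.leaf
  1103216) (.leaf
  878547)))))) (.node 15 (.node 7 (.node 3 (.node 1 (.leaf
  359172) (.node 1 (.leaf
  956465) (.leaf
  150955))) (.node 2 (.node 1 (.leaf
  37652) (.leaf
  94434)) (.node 1 (.leaf
  136062) (.leaf
  2848759)))) (.node 4 (.node 2 (.node 1 (.leaf
  13896) (.leaf
  2644997)) (.node 1 (.leaf
  2142238) (.leaf
  2848416))) (.node 2 (.node 1 (.leaf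
  161669) (.leaf
  2133233)) (.node 1 (.leaf
  37041) (.leaf
  807246))))) (.node 7 (.node 3 (.node 1 (.leaf
  1396779) (.node 1 (.leaf
  1088733) (.leaf
  2294678))) (.node 2 (.node 1 (.leaf
  1355237) (.leaf
  2652427)) (.node 1 (.leaf
  645294) (.leaf
  981813)))) (.node 4 (.node 2 (.node 1 (.leaf
  1004953) (.leaf
  1201805)) (.node 1 (.leaf
  359979) (.leaf
  36901))) (.node 2 (.node 1 (.leaf
  322983) (.leaf
  405341)) (.node 1 (.leaf
  1128995) (.leaf
  1409329)))))))) (.node 59 (.node 29 (.node 14 (.node 7 (.node 3 (.node 1 (.leaf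
  2549640) (.node 1 (.leaf
  37205) (.leaf
  843584))) (.node 2 (.node 1 (.leaf
  1972600) (.leaf
  359942)) (.node 1 (.leaf
  498303) (.leaf
  15027)))) (.node 3 (.node 1 (.leaf
  843878) (.node 1 (.leaf
  108866) (.leaf
  982413))) (.node 2 (.node 1 (.leaf
  2711274) (.leaf
  852757)) (.node 1 (.leaf
  256754) (.leaf
  981998))))) (.node 7 (.node 3 (.node 1 (.leaf
  134) (.node 1 (.leaf
  360033) (.leaf
  2142725))) (.node 2 (.node 1 (.leaf
  2640573) (.leaf
  1481235)) (.node 1 (.leaf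
  915867) (.leaf
  1811301)))) (.node 4 (.node 2 (.node 1 (.leaf
  162217) (.leaf
  1811447)) (.node 1 (.leaf
  1088948) (.leaf
  45621))) (.node 2 (.node 1 (.leaf
  902) (.leaf
  1129399)) (.node 1 (.leaf
  968353) (.leaf
  645238)))))) (.node 15 (.node 7 (.node 3 (.node 1 (.leaf
  2363858) (.node 1 (.leaf
  2524228) (.leaf
  352305))) (.node 2 (.node 1 (.leaf
  2142790) (.leaf
  36580)) (.node 1 (.leaf
  806767) (.leaf
  150117)))) (.node 4 (.node 2 (.node 1 (.leaf
  1375404) (.leaf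
  2778666)) (.node 1 (.leaf
  1972006) (.leaf
  1882960))) (.node 2 (.node 1 (.leaf
  1971924) (.leaf
  1557468)) (.node 1 (.leaf
  1451900) (.leaf
  1125708))))) (.node 7 (.node 3 (.node 1 (.leaf
  836109) (.node 1 (.leaf
  56) (.leaf
  2352280))) (.node 2 (.node 1 (.leaf
  164) (.leaf
  2710339)) (.node 1 (.leaf
  1336055) (.leaf
  1081)))) (.node 4 (.node 2 (.node 1 (.leaf
  968381) (.leaf
  1452402)) (.node 1 (.leaf
  2196441) (.leaf
  14510))) (.node 2 (.node 1 (.leaf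
  879397) (.leaf
  2086435)) (.node 1 (.leaf
  2071639) (.leaf
  484532))))))) (.node 29 (.node 14 (.node 7 (.node 3 (.node 1 (.leaf
  2071689) (.node 1 (.leaf
  1811542) (.leaf
  1089318))) (.node 2 (.node 1 (.leaf
  2742521) (.leaf
  2756630)) (.node 1 (.leaf
  162) (.leaf
  197922)))) (.node 3 (.node 1 (.leaf
  1396152) (.node 1 (.leaf
  670) (.leaf
  2231939))) (.node 2 (.node 1 (.leaf
  323) (.leaf
  2716642)) (.node 1 (.leaf
  2111345) (.leaf
  37302))))) (.node 7 (.node 3 (.node 1 (.leaf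
  198666) (.node 1 (.leaf
  1129746) (.leaf
  2246800))) (.node 2 (.node 1 (.leaf
  2303649) (.leaf
  1803877)) (.node 1 (.leaf
  2246892) (.leaf
  2201532)))) (.node 4 (.node 2 (.node 1 (.leaf
  108) (.leaf
  29266)) (.node 1 (.leaf
  2524770) (.leaf
  359804))) (.node 2 (.node 1 (.leaf
  2287628) (.leaf
  336462)) (.node 1 (.leaf
  483865) (.leaf
  2877737)))))) (.node 15 (.node 7 (.node 3 (.node 1 (.leaf
  484500) (.node 1 (.leaf
  2232403) (.leaf
  2778562))) (.node 2 (.node 1 (.leaf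
  337297) (.leaf
  996709)) (.node 1 (.leaf
  645896) (.leaf
  1909267)))) (.node 4 (.node 2 (.node 1 (.leaf
  150261) (.leaf
  2142357)) (.node 1 (.leaf
  659747) (.leaf
  2376790))) (.node 2 (.node 1 (.leaf
  336622) (.leaf
  306)) (.node 1 (.leaf
  1910054) (.leaf
  2778309))))) (.node 7 (.node 3 (.node 1 (.leaf
  2771379) (.node 1 (.leaf
  2142856) (.leaf
  2717295))) (.node 2 (.node 1 (.leaf
  207541) (.leaf
  982174)) (.node 1 (.leaf
  322775) (.leaf
  1060531)))) (.node 4 (.node 2 (.node 1 (.leaf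
  498473) (.leaf
  2096860)) (.node 1 (.leaf
  982598) (.leaf
  498037))) (.node 2 (.node 1 (.leaf
  484547) (.leaf
  981848)) (.node 1 (.leaf
  2246893) (.leaf
  2201533)))))))))) (.node 236 (.node 118 (.node 59 (.node 29 (.node 14 (.node 7 (.node 3 (.node 1 (.leaf
  967701) (.node 1 (.leaf
  806665) (.leaf
  842995))) (.node 2 (.node 1 (.leaf
  968522) (.leaf
  807249)) (.node 1 (.leaf
  484807) (.leaf
  645419)))) (.node 3 (.node 1 (.leaf
  2196452) (.node 1 (.leaf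
  851925) (.leaf
  1810744))) (.node 2 (.node 1 (.leaf
  323194) (.leaf
  967726)) (.node 1 (.leaf
  1774841) (.leaf
  2231906))))) (.node 7 (.node 3 (.node 1 (.leaf
  1774723) (.node 1 (.leaf
  2259143) (.leaf
  336679))) (.node 2 (.node 1 (.leaf
  398661) (.leaf
  1005076)) (.node 1 (.leaf
  906627) (.leaf
  956391)))) (.node 4 (.node 2 (.node 1 (.leaf
  513895) (.leaf
  659309)) (.node 1 (.leaf
  807474) (.leaf
  646140))) (.node 2 (.node 1 (.leaf
  2644954) (.leaf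
  1977865)) (.node 1 (.leaf
  552389) (.leaf
  2784541)))))) (.node 15 (.node 7 (.node 3 (.node 1 (.leaf
  2376469) (.node 1 (.leaf
  2742725) (.leaf
  2271900))) (.node 2 (.node 1 (.leaf
  520690) (.leaf
  2787177)) (.node 1 (.leaf
  2717472) (.leaf
  1972680)))) (.node 4 (.node 2 (.node 1 (.leaf
  645809) (.leaf
  2295466)) (.node 1 (.leaf
  666) (.leaf
  72139))) (.node 2 (.node 1 (.leaf
  42601) (.leaf
  484538)) (.node 1 (.leaf
  135810) (.leaf
  1480650))))) (.node 7 (.node 3 (.node 1 (.leaf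
  497800) (.node 1 (.leaf
  1165643) (.leaf
  2629427))) (.node 2 (.node 1 (.leaf
  360173) (.leaf
  906743)) (.node 1 (.leaf
  2246989) (.leaf
  2778355)))) (.node 4 (.node 2 (.node 1 (.leaf
  2142941) (.leaf
  2549635)) (.node 1 (.leaf
  773) (.leaf
  37560))) (.node 2 (.node 1 (.leaf
  1977459) (.leaf
  2362869)) (.node 1 (.leaf
  1409346) (.leaf
  807333))))))) (.node 29 (.node 14 (.node 7 (.node 3 (.node 1 (.leaf
  2232515) (.node 1 (.leaf
  134846) (.leaf
  36985))) (.node 2 (.node 1 (.leaf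
  957237) (.leaf
  996853)) (.node 1 (.leaf
  1072706) (.leaf
  1977764)))) (.node 3 (.node 1 (.leaf
  1488835) (.node 1 (.leaf
  498366) (.leaf
  2393021))) (.node 2 (.node 1 (.leaf
  1811400) (.leaf
  37229)) (.node 1 (.leaf
  981823) (.leaf
  37763))))) (.node 7 (.node 3 (.node 1 (.leaf
  134989) (.node 1 (.leaf
  2169267) (.leaf
  104))) (.node 2 (.node 1 (.leaf
  1649475) (.leaf
  842962)) (.node 1 (.leaf
  337209) (.leaf
  72720)))) (.node 4 (.node 2 (.node 1 (.leaf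
  865719) (.leaf
  228)) (.node 1 (.leaf
  36559) (.leaf
  425))) (.node 2 (.node 1 (.leaf
  2826972) (.leaf
  198868)) (.node 1 (.leaf
  843823) (.leaf
  1264382)))))) (.node 15 (.node 7 (.node 3 (.node 1 (.leaf
  161457) (.node 1 (.leaf
  682715) (.leaf
  1497526))) (.node 2 (.node 1 (.leaf
  484303) (.leaf
  2741979)) (.node 1 (.leaf
  2247325) (.leaf
  1118101)))) (.node 4 (.node 2 (.node 1 (.leaf
  2778607) (.leaf
  364218)) (.node 1 (.leaf
  1558031) (.leaf
  1451682))) (.node 2 (.node 1 (.leaf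
  1165925) (.leaf
  1972247)) (.node 1 (.leaf
  135966) (.leaf
  2142054))))) (.node 7 (.node 3 (.node 1 (.leaf
  336466) (.node 1 (.leaf
  2892742) (.leaf
  941980))) (.node 2 (.node 1 (.leaf
  336665) (.leaf
  996936)) (.node 1 (.leaf
  1569982) (.leaf
  2300639)))) (.node 4 (.node 2 (.node 1 (.leaf
  521143) (.leaf
  197874)) (.node 1 (.leaf
  721691) (.leaf
  36683))) (.node 2 (.node 1 (.leaf
  1118803) (.leaf
  2096670)) (.node 1 (.leaf
  2232267) (.leaf
  323738)))))))) (.node 59 (.node 29 (.node 14 (.node 7 (.node 3 (.node 1 (.leaf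
  1650116) (.node 1 (.leaf
  1004437) (.leaf
  1409453))) (.node 2 (.node 1 (.leaf
  730) (.leaf
  806458)) (.node 1 (.leaf
  2716663) (.leaf
  1488204)))) (.node 3 (.node 1 (.leaf
  1375680) (.node 1 (.leaf
  497947) (.leaf
  2169175))) (.node 2 (.node 1 (.leaf
  674807) (.leaf
  843033)) (.node 1 (.leaf
  337262) (.leaf
  1465733))))) (.node 7 (.node 3 (.node 1 (.leaf
  806552) (.node 1 (.leaf
  1649346) (.leaf
  915893))) (.node 2 (.node 1 (.leaf
  1650152) (.leaf
  1480884)) (.node 1 (.leaf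
  2246831) (.leaf
  1396186)))) (.node 4 (.node 2 (.node 1 (.leaf
  2652609) (.leaf
  851855)) (.node 1 (.leaf
  2779301) (.leaf
  2741818))) (.node 2 (.node 1 (.leaf
  2258606) (.leaf
  390800)) (.node 1 (.leaf
  851850) (.leaf
  201)))))) (.node 15 (.node 7 (.node 3 (.node 1 (.leaf
  1489202) (.node 1 (.leaf
  36541) (.leaf
  2778693))) (.node 2 (.node 1 (.leaf
  2755908) (.leaf
  13928)) (.node 1 (.leaf
  1004904) (.leaf
  2161115)))) (.node 4 (.node 2 (.node 1 (.leaf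
  906) (.leaf
  894)) (.node 1 (.leaf
  2555330) (.leaf
  2202401))) (.node 2 (.node 1 (.leaf
  150836) (.leaf
  198761)) (.node 1 (.leaf
  359776) (.leaf
  1972830))))) (.node 7 (.node 3 (.node 1 (.leaf
  100261) (.node 1 (.leaf
  2258771) (.leaf
  161439))) (.node 2 (.node 1 (.leaf
  2142094) (.leaf
  2847900)) (.node 1 (.leaf
  1909911) (.leaf
  2169195)))) (.node 4 (.node 2 (.node 1 (.leaf
  2169387) (.leaf
  2258944)) (.node 1 (.leaf
  2294661) (.leaf
  2168506))) (.node 2 (.node 1 (.leaf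
  45485) (.leaf
  2142452)) (.node 1 (.leaf
  877) (.leaf
  967962))))))) (.node 29 (.node 14 (.node 7 (.node 3 (.node 1 (.leaf
  151182) (.node 1 (.leaf
  1949893) (.leaf
  37334))) (.node 2 (.node 1 (.leaf
  708) (.leaf
  1811254)) (.node 1 (.leaf
  2409044) (.leaf
  2096835)))) (.node 3 (.node 1 (.leaf
  520484) (.node 1 (.leaf
  1972015) (.leaf
  852447))) (.node 2 (.node 1 (.leaf
  484037) (.leaf
  149964)) (.node 1 (.leaf
  162013) (.leaf
  843122))))) (.node 7 (.node 3 (.node 1 (.leaf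
  1811491) (.node 1 (.leaf
  36761) (.leaf
  2357495))) (.node 2 (.node 1 (.leaf
  967863) (.leaf
  807351)) (.node 1 (.leaf
  360115) (.leaf
  2710894)))) (.node 4 (.node 2 (.node 1 (.leaf
  150542) (.leaf
  41921)) (.node 1 (.leaf
  2756412) (.leaf
  2287598))) (.node 2 (.node 1 (.leaf
  322981) (.leaf
  719)) (.node 1 (.leaf
  322798) (.leaf
  967783)))))) (.node 15 (.node 7 (.node 3 (.node 1 (.leaf
  2639994) (.node 1 (.leaf
  359984) (.leaf
  2771021))) (.node 2 (.node 1 (.leaf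
  2168481) (.leaf
  1396778)) (.node 1 (.leaf
  2071590) (.leaf
  967857)))) (.node 4 (.node 2 (.node 1 (.leaf
  42633) (.leaf
  2169302)) (.node 1 (.leaf
  2786027) (.leaf
  967))) (.node 2 (.node 1 (.leaf
  2096674) (.leaf
  37669)) (.node 1 (.leaf
  484156) (.leaf
  1129646))))) (.node 7 (.node 3 (.node 1 (.leaf
  2343229) (.node 1 (.leaf
  13898) (.leaf
  2342482))) (.node 2 (.node 1 (.leaf
  150774) (.leaf
  1089696)) (.node 1 (.leaf
  1810677) (.leaf
  483946)))) (.node 4 (.node 2 (.node 1 (.leaf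
  359511) (.leaf
  337155)) (.node 1 (.leaf
  37226) (.leaf
  2549733))) (.node 2 (.node 1 (.leaf
  108800) (.leaf
  2287636)) (.node 1 (.leaf
  1117662) (.leaf
  2038012))))))))) (.node 118 (.node 59 (.node 29 (.node 14 (.node 7 (.node 3 (.node 1 (.leaf
  93760) (.node 1 (.leaf
  674444) (.leaf
  1165808))) (.node 2 (.node 1 (.leaf
  2142401) (.leaf
  2717209)) (.node 1 (.leaf
  2771754) (.leaf
  774)))) (.node 3 (.node 1 (.leaf
  1355474) (.node 1 (.leaf
  2710909) (.leaf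
  359572))) (.node 2 (.node 1 (.leaf
  162210) (.leaf
  2134211)) (.node 1 (.leaf
  150183) (.leaf
  72081))))) (.node 7 (.node 3 (.node 1 (.leaf
  843885) (.node 1 (.leaf
  2779133) (.leaf
  498754))) (.node 2 (.node 1 (.leaf
  941438) (.leaf
  2287008)) (.node 1 (.leaf
  484698) (.leaf
  2142763)))) (.node 4 (.node 2 (.node 1 (.leaf
  2246678) (.leaf
  848377)) (.node 1 (.leaf
  1335982) (.leaf
  968314))) (.node 2 (.node 1 (.leaf
  1774646) (.leaf
  2133979)) (.node 1 (.leaf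
  645902) (.leaf
  336537)))))) (.node 15 (.node 7 (.node 3 (.node 1 (.leaf
  1174360) (.node 1 (.leaf
  982269) (.leaf
  2142120))) (.node 2 (.node 1 (.leaf
  1742064) (.leaf
  484540)) (.node 1 (.leaf
  1972540) (.leaf
  1561013)))) (.node 4 (.node 2 (.node 1 (.leaf
  968495) (.leaf
  2169125)) (.node 1 (.leaf
  1650200) (.leaf
  1972038))) (.node 2 (.node 1 (.leaf
  399143) (.leaf
  1964423)) (.node 1 (.leaf
  2169201) (.leaf
  968604))))) (.node 7 (.node 3 (.node 1 (.leaf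
  322882) (.node 1 (.leaf
  2455936) (.leaf
  968590))) (.node 2 (.node 1 (.leaf
  1613771) (.leaf
  843920)) (.node 1 (.leaf
  843120) (.leaf
  740009)))) (.node 4 (.node 2 (.node 1 (.leaf
  968540) (.leaf
  2258667)) (.node 1 (.leaf
  1174395) (.leaf
  645320))) (.node 2 (.node 1 (.leaf
  2786578) (.leaf
  2779130)) (.node 1 (.leaf
  842947) (.leaf
  681))))))) (.node 29 (.node 14 (.node 7 (.node 3 (.node 1 (.leaf
  191) (.node 1 (.leaf
  150118) (.leaf
  900))) (.node 2 (.node 1 (.leaf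
  851897) (.leaf
  138)) (.node 1 (.leaf
  322797) (.leaf
  2196483)))) (.node 3 (.node 1 (.leaf
  1409635) (.node 1 (.leaf
  2456376) (.leaf
  337438))) (.node 2 (.node 1 (.leaf
  2778569) (.leaf
  1972581)) (.node 1 (.leaf
  843739) (.leaf
  2771613))))) (.node 7 (.node 3 (.node 1 (.leaf
  1972079) (.node 1 (.leaf
  399270) (.leaf
  1846887))) (.node 2 (.node 1 (.leaf
  2778462) (.leaf
  2755973)) (.node 1 (.leaf
  76753) (.leaf
  1811047)))) (.node 4 (.node 2 (.node 1 (.leaf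
  882607) (.leaf
  2044787)) (.node 1 (.leaf
  2304016) (.leaf
  646042))) (.node 2 (.node 1 (.leaf
  806744) (.leaf
  1488437)) (.node 1 (.leaf
  807623) (.leaf
  1909656)))))) (.node 15 (.node 7 (.node 3 (.node 1 (.leaf
  1878748) (.node 1 (.leaf
  2097471) (.leaf
  2680294))) (.node 2 (.node 1 (.leaf
  1362346) (.leaf
  2549659)) (.node 1 (.leaf
  1965159) (.leaf
  37588)))) (.node 4 (.node 2 (.node 1 (.leaf
  2070430) (.leaf
  2770839)) (.node 1 (.leaf
  1125860) (.leaf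
  807236))) (.node 2 (.node 1 (.leaf
  337132) (.leaf
  100263)) (.node 1 (.leaf
  497837) (.leaf
  1129896))))) (.node 7 (.node 3 (.node 1 (.leaf
  967787) (.node 1 (.leaf
  1408747) (.leaf
  807161))) (.node 2 (.node 1 (.leaf
  667) (.leaf
  2287676)) (.node 1 (.leaf
  72227) (.leaf
  2295413)))) (.node 4 (.node 2 (.node 1 (.leaf
  806656) (.leaf
  1051654)) (.node 1 (.leaf
  2771371) (.leaf
  109480))) (.node 2 (.node 1 (.leaf
  352040) (.leaf
  484186)) (.node 1 (.leaf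
  2134428) (.leaf
  162020)))))))) (.node 59 (.node 29 (.node 14 (.node 7 (.node 3 (.node 1 (.leaf
  2169161) (.node 1 (.leaf
  1558072) (.leaf
  483912))) (.node 2 (.node 1 (.leaf
  1949421) (.leaf
  2364142)) (.node 1 (.leaf
  2134122) (.leaf
  197947)))) (.node 3 (.node 1 (.leaf
  1118428) (.node 1 (.leaf
  878991) (.leaf
  322639))) (.node 2 (.node 1 (.leaf
  2342430) (.leaf
  806812)) (.node 1 (.leaf
  645762) (.leaf
  2349457))))) (.node 7 (.node 3 (.node 1 (.leaf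
  484163) (.node 1 (.leaf
  1451651) (.leaf
  1971932))) (.node 2 (.node 1 (.leaf
  1201651) (.leaf
  2096792)) (.node 1 (.leaf
  1425332) (.leaf
  2349605)))) (.node 4 (.node 2 (.node 1 (.leaf
  484953) (.leaf
  2848625)) (.node 1 (.leaf
  878286) (.leaf
  2640349))) (.node 2 (.node 1 (.leaf
  2653023) (.leaf
  1557405)) (.node 1 (.leaf
  2342578) (.leaf
  1570613)))))) (.node 15 (.node 7 (.node 3 (.node 1 (.leaf
  2041957) (.node 1 (.leaf
  36894) (.leaf
  852542))) (.node 2 (.node 1 (.leaf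
  2455831) (.leaf
  1175083)) (.node 1 (.leaf
  1535988) (.leaf
  1820086)))) (.node 4 (.node 2 (.node 1 (.leaf
  1811520) (.leaf
  2133875)) (.node 1 (.leaf
  806591) (.leaf
  36589))) (.node 2 (.node 1 (.leaf
  2128056) (.leaf
  323472)) (.node 1 (.leaf
  36858) (.leaf
  351678))))) (.node 7 (.node 3 (.node 1 (.leaf
  843125) (.node 1 (.leaf
  981868) (.leaf
  645951))) (.node 2 (.node 1 (.leaf
  69) (.leaf
  2196626)) (.node 1 (.leaf
  2196268) (.leaf
  497932)))) (.node 4 (.node 2 (.node 1 (.leaf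
  806567) (.leaf
  2771650)) (.node 1 (.leaf
  498333) (.leaf
  1480582))) (.node 2 (.node 1 (.leaf
  513707) (.leaf
  2741920)) (.node 1 (.leaf
  498391) (.leaf
  497764))))))) (.node 30 (.node 15 (.node 7 (.node 3 (.node 1 (.leaf
  967690) (.node 1 (.leaf
  2379349) (.leaf
  2168934))) (.node 2 (.node 1 (.leaf
  1846034) (.leaf
  1602392)) (.node 1 (.leaf
  2258769) (.leaf
  2143112)))) (.node 4 (.node 2 (.node 1 (.leaf
  941749) (.leaf
  2168592)) (.node 1 (.leaf
  2196704) (.leaf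
  844020))) (.node 2 (.node 1 (.leaf
  720) (.leaf
  807120)) (.node 1 (.leaf
  2329793) (.leaf
  1055699))))) (.node 7 (.node 3 (.node 1 (.leaf
  2096735) (.node 1 (.leaf
  865998) (.leaf
  2716668))) (.node 2 (.node 1 (.leaf
  2556201) (.leaf
  2455752)) (.node 1 (.leaf
  2142268) (.leaf
  2716682)))) (.node 4 (.node 2 (.node 1 (.leaf
  2303455) (.leaf
  277)) (.node 1 (.leaf
  2096730) (.leaf
  1335859))) (.node 2 (.node 1 (.leaf
  2258133) (.leaf
  806440)) (.node 1 (.leaf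
  337265) (.leaf
  806646)))))) (.node 15 (.node 7 (.node 3 (.node 1 (.leaf
  99557) (.node 1 (.leaf
  1336673) (.leaf
  693))) (.node 2 (.node 1 (.leaf
  2169252) (.leaf
  968412)) (.node 1 (.leaf
  806675) (.leaf
  1642522)))) (.node 4 (.node 2 (.node 1 (.leaf
  483869) (.leaf
  162202)) (.node 1 (.leaf
  2755828) (.leaf
  2455813))) (.node 2 (.node 1 (.leaf
  72675) (.leaf
  957194)) (.node 1 (.leaf
  646047) (.leaf
  1118476))))) (.node 7 (.node 3 (.node 1 (.leaf
  2847796) (.node 1 (.leaf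
  907133) (.leaf
  484491))) (.node 2 (.node 1 (.leaf
  957189) (.leaf
  2134289)) (.node 1 (.leaf
  1480913) (.leaf
  806611)))) (.node 4 (.node 2 (.node 1 (.leaf
  2286918) (.leaf
  351872)) (.node 1 (.leaf
  484818) (.leaf
  806974))) (.node 2 (.node 1 (.leaf
  690) (.leaf
  1558205)) (.node 1 (.leaf
  956509) (.leaf
  806956))))))))))) (.node 472 (.node 236 (.node 118 (.node 59 (.node 29 (.node 14 (.node 7 (.node 3 (.node 1 (.leaf
  2877856) (.node 1 (.leaf
  2126354) (.leaf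
  335))) (.node 2 (.node 1 (.leaf
  967793) (.leaf
  1004361)) (.node 1 (.leaf
  1414767) (.leaf
  967687)))) (.node 3 (.node 1 (.leaf
  807430) (.node 1 (.leaf
  982240) (.leaf
  336480))) (.node 2 (.node 1 (.leaf
  808) (.leaf
  2779170)) (.node 1 (.leaf
  1051121) (.leaf
  2168624))))) (.node 7 (.node 3 (.node 1 (.leaf
  1965030) (.node 1 (.leaf
  995) (.leaf
  405546))) (.node 2 (.node 1 (.leaf
  2625881) (.leaf
  2196264)) (.node 1 (.leaf
  1810694) (.leaf
  2393099)))) (.node 4 (.node 2 (.node 1 (.leaf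
  982279) (.leaf
  1089391)) (.node 1 (.leaf
  1811442) (.leaf
  981820))) (.node 2 (.node 1 (.leaf
  1642517) (.leaf
  2240720)) (.node 1 (.leaf
  2247416) (.leaf
  2877738)))))) (.node 15 (.node 7 (.node 3 (.node 1 (.leaf
  36660) (.node 1 (.leaf
  2168579) (.leaf
  2774646))) (.node 2 (.node 1 (.leaf
  1613443) (.leaf
  1811469)) (.node 1 (.leaf
  243) (.leaf
  2258598)))) (.node 4 (.node 2 (.node 1 (.leaf
  1408966) (.leaf
  1481192)) (.node 1 (.leaf
  843833) (.leaf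
  323352))) (.node 2 (.node 1 (.leaf
  391743) (.leaf
  997450)) (.node 1 (.leaf
  967750) (.leaf
  162055))))) (.node 7 (.node 3 (.node 1 (.leaf
  1335814) (.node 1 (.leaf
  2770782) (.leaf
  1488708))) (.node 2 (.node 1 (.leaf
  2783775) (.leaf
  520521)) (.node 1 (.leaf
  359355) (.leaf
  312055)))) (.node 4 (.node 2 (.node 1 (.leaf
  1811579) (.leaf
  2735139)) (.node 1 (.leaf
  2038593) (.leaf
  968589))) (.node 2 (.node 1 (.leaf
  1977957) (.leaf
  436)) (.node 1 (.leaf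
  1819517) (.leaf
  2755806))))))) (.node 29 (.node 14 (.node 7 (.node 3 (.node 1 (.leaf
  2142088) (.node 1 (.leaf
  14574) (.leaf
  391210))) (.node 2 (.node 1 (.leaf
  42197) (.leaf
  981725)) (.node 1 (.leaf
  2169288) (.leaf
  675321)))) (.node 3 (.node 1 (.leaf
  1126110) (.node 1 (.leaf
  2231793) (.leaf
  2168540))) (.node 2 (.node 1 (.leaf
  483991) (.leaf
  1005135)) (.node 1 (.leaf
  807509) (.leaf
  2771068))))) (.node 7 (.node 3 (.node 1 (.leaf
  2294718) (.node 1 (.leaf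
  957143) (.leaf
  198479))) (.node 2 (.node 1 (.leaf
  807157) (.leaf
  807439)) (.node 1 (.leaf
  852740) (.leaf
  1488276)))) (.node 4 (.node 2 (.node 1 (.leaf
  843059) (.leaf
  997822)) (.node 1 (.leaf
  967749) (.leaf
  957074))) (.node 2 (.node 1 (.leaf
  2456482) (.leaf
  351777)) (.node 1 (.leaf
  1349622) (.leaf
  99709)))))) (.node 15 (.node 7 (.node 3 (.node 1 (.leaf
  2364432) (.node 1 (.leaf
  337080) (.leaf
  1936134))) (.node 2 (.node 1 (.leaf
  100440) (.leaf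
  2134028)) (.node 1 (.leaf
  2169368) (.leaf
  1336583)))) (.node 4 (.node 2 (.node 1 (.leaf
  151150) (.leaf
  967858)) (.node 1 (.leaf
  807352) (.leaf
  763319))) (.node 2 (.node 1 (.leaf
  403) (.leaf
  1375644)) (.node 1 (.leaf
  36861) (.leaf
  843171))))) (.node 7 (.node 3 (.node 1 (.leaf
  1972637) (.node 1 (.leaf
  2169179) (.leaf
  157786))) (.node 2 (.node 1 (.leaf
  967950) (.leaf
  1972295)) (.node 1 (.leaf
  807084) (.leaf
  390679)))) (.node 4 (.node 2 (.node 1 (.leaf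
  842963) (.leaf
  843697)) (.node 1 (.leaf
  2876937) (.leaf
  807078))) (.node 2 (.node 1 (.leaf
  843063) (.leaf
  1613582)) (.node 1 (.leaf
  754893) (.leaf
  1649406)))))))) (.node 59 (.node 29 (.node 14 (.node 7 (.node 3 (.node 1 (.leaf
  843747) (.node 1 (.leaf
  806677) (.leaf
  559449))) (.node 2 (.node 1 (.leaf
  398295) (.leaf
  2787844)) (.node 1 (.leaf
  1488139) (.leaf
  1971972)))) (.node 3 (.node 1 (.leaf
  1810627) (.node 1 (.leaf
  483940) (.leaf
  982432))) (.node 2 (.node 1 (.leaf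
  1089427) (.leaf
  1336299)) (.node 1 (.leaf
  2168463) (.leaf
  484080))))) (.node 7 (.node 3 (.node 1 (.leaf
  150109) (.node 1 (.leaf
  1166200) (.leaf
  2716752))) (.node 2 (.node 1 (.leaf
  2168552) (.leaf
  2142664)) (.node 1 (.leaf
  2456613) (.leaf
  158526)))) (.node 4 (.node 2 (.node 1 (.leaf
  1363016) (.leaf
  484677)) (.node 1 (.leaf
  957148) (.leaf
  336692))) (.node 2 (.node 1 (.leaf
  2197034) (.leaf
  30221)) (.node 1 (.leaf
  1810734) (.leaf
  645795)))))) (.node 15 (.node 7 (.node 3 (.node 1 (.leaf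
  1650257) (.node 1 (.leaf
  1327652) (.leaf
  2169617))) (.node 2 (.node 1 (.leaf
  197894) (.leaf
  359774)) (.node 1 (.leaf
  1489258) (.leaf
  1488396)))) (.node 4 (.node 2 (.node 1 (.leaf
  806568) (.leaf
  2848365)) (.node 1 (.leaf
  473551) (.leaf
  198869))) (.node 2 (.node 1 (.leaf
  1972045) (.leaf
  721794)) (.node 1 (.leaf
  957333) (.leaf
  196))))) (.node 7 (.node 3 (.node 1 (.leaf
  843026) (.node 1 (.leaf
  763) (.leaf
  36681))) (.node 2 (.node 1 (.leaf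
  2294579) (.leaf
  843544)) (.node 1 (.leaf
  1004248) (.leaf
  2143037)))) (.node 4 (.node 2 (.node 1 (.leaf
  322628) (.leaf
  2287239)) (.node 1 (.leaf
  643) (.leaf
  36733))) (.node 2 (.node 1 (.leaf
  1004320) (.leaf
  1117803)) (.node 1 (.leaf
  981638) (.leaf
  2876939))))))) (.node 29 (.node 14 (.node 7 (.node 3 (.node 1 (.leaf
  2779125) (.node 1 (.leaf
  360003) (.leaf
  2097001))) (.node 2 (.node 1 (.leaf
  1570972) (.leaf
  76800)) (.node 1 (.leaf
  1396733) (.leaf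
  198591)))) (.node 3 (.node 1 (.leaf
  162023) (.node 1 (.leaf
  37396) (.leaf
  72485))) (.node 2 (.node 1 (.leaf
  1005030) (.leaf
  2142174)) (.node 1 (.leaf
  967740) (.leaf
  513803))))) (.node 7 (.node 3 (.node 1 (.leaf
  2742616) (.node 1 (.leaf
  2294515) (.leaf
  982194))) (.node 2 (.node 1 (.leaf
  2142177) (.leaf
  484794)) (.node 1 (.leaf
  941352) (.leaf
  161917)))) (.node 4 (.node 2 (.node 1 (.leaf
  36847) (.leaf
  13863)) (.node 1 (.leaf
  2168515) (.leaf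
  2142035))) (.node 2 (.node 1 (.leaf
  364488) (.leaf
  1972287)) (.node 1 (.leaf
  932) (.leaf
  72617)))))) (.node 15 (.node 7 (.node 3 (.node 1 (.leaf
  844072) (.node 1 (.leaf
  744) (.leaf
  1129711))) (.node 2 (.node 1 (.leaf
  513175) (.leaf
  807169)) (.node 1 (.leaf
  2860412) (.leaf
  497887)))) (.node 4 (.node 2 (.node 1 (.leaf
  2716602) (.leaf
  1558133)) (.node 1 (.leaf
  2089754) (.leaf
  2717400))) (.node 2 (.node 1 (.leaf
  37308) (.leaf
  2089131)) (.node 1 (.leaf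
  513155) (.leaf
  322581))))) (.node 7 (.node 3 (.node 1 (.leaf
  1557506) (.node 1 (.leaf
  636) (.leaf
  942377))) (.node 2 (.node 1 (.leaf
  843259) (.leaf
  14588)) (.node 1 (.leaf
  498028) (.leaf
  2456569)))) (.node 4 (.node 2 (.node 1 (.leaf
  1004554) (.leaf
  1004577)) (.node 1 (.leaf
  2876851) (.leaf
  1972580))) (.node 2 (.node 1 (.leaf
  1138) (.leaf
  150043)) (.node 1 (.leaf
  2142479) (.leaf
  2742069))))))))) (.node 118 (.node 59 (.node 29 (.node 14 (.node 7 (.node 3 (.node 1 (.leaf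
  1755921) (.node 1 (.leaf
  1536249) (.leaf
  1972641))) (.node 2 (.node 1 (.leaf
  121242) (.leaf
  36695)) (.node 1 (.leaf
  72724) (.leaf
  2202023)))) (.node 3 (.node 1 (.leaf
  1742068) (.node 1 (.leaf
  41831) (.leaf
  1450409))) (.node 2 (.node 1 (.leaf
  198929) (.leaf
  36881)) (.node 1 (.leaf
  1125218) (.leaf
  352731))))) (.node 7 (.node 3 (.node 1 (.leaf
  2393266) (.node 1 (.leaf
  2379254) (.leaf
  2097325))) (.node 2 (.node 1 (.leaf
  1768435) (.leaf
  399045)) (.node 1 (.leaf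
  559957) (.leaf
  2832755)))) (.node 4 (.node 2 (.node 1 (.leaf
  2742028) (.leaf
  2324563)) (.node 1 (.leaf
  2097323) (.leaf
  2683681))) (.node 2 (.node 1 (.leaf
  2258299) (.leaf
  105387)) (.node 1 (.leaf
  682338) (.leaf
  359345)))))) (.node 15 (.node 7 (.node 3 (.node 1 (.leaf
  645271) (.node 1 (.leaf
  1451662) (.leaf
  1004456))) (.node 2 (.node 1 (.leaf
  2196936) (.leaf
  687748)) (.node 1 (.leaf
  359536) (.leaf
  843691)))) (.node 4 (.node 2 (.node 1 (.leaf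
  997501) (.leaf
  807243)) (.node 1 (.leaf
  37332) (.leaf
  360206))) (.node 2 (.node 1 (.leaf
  806497) (.leaf
  323065)) (.node 1 (.leaf
  1748124) (.leaf
  843201))))) (.node 7 (.node 3 (.node 1 (.leaf
  161589) (.node 1 (.leaf
  359453) (.leaf
  42696))) (.node 2 (.node 1 (.leaf
  2734362) (.leaf
  879070)) (.node 1 (.leaf
  1820070) (.leaf
  715)))) (.node 4 (.node 2 (.node 1 (.leaf
  820) (.leaf
  1171798)) (.node 1 (.leaf
  1175094) (.leaf
  1396752))) (.node 2 (.node 1 (.leaf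
  364482) (.leaf
  1125649)) (.node 1 (.leaf
  941306) (.leaf
  987))))))) (.node 29 (.node 14 (.node 7 (.node 3 (.node 1 (.leaf
  36900) (.node 1 (.leaf
  1117786) (.leaf
  72482))) (.node 2 (.node 1 (.leaf
  1129037) (.leaf
  851985)) (.node 1 (.leaf
  36710) (.leaf
  1452363)))) (.node 3 (.node 1 (.leaf
  2133236) (.node 1 (.leaf
  150386) (.leaf
  2778940))) (.node 2 (.node 1 (.leaf
  967874) (.leaf
  93586)) (.node 1 (.leaf
  2771019) (.leaf
  2716584))))) (.node 7 (.node 3 (.node 1 (.leaf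
  2142917) (.node 1 (.leaf
  1488195) (.leaf
  150371))) (.node 2 (.node 1 (.leaf
  1129596) (.leaf
  851814)) (.node 1 (.leaf
  1481209) (.leaf
  2717199)))) (.node 4 (.node 2 (.node 1 (.leaf
  1481166) (.leaf
  981576)) (.node 1 (.leaf
  198632) (.leaf
  1774182))) (.node 2 (.node 1 (.leaf
  681779) (.leaf
  967718)) (.node 1 (.leaf
  190963) (.leaf
  924)))))) (.node 15 (.node 7 (.node 3 (.node 1 (.leaf
  513739) (.node 1 (.leaf
  878854) (.leaf
  1649416))) (.node 2 (.node 1 (.leaf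
  2433165) (.leaf
  2771077)) (.node 1 (.leaf
  191076) (.leaf
  843613)))) (.node 4 (.node 2 (.node 1 (.leaf
  968361) (.leaf
  1558027)) (.node 1 (.leaf
  968354) (.leaf
  2778637))) (.node 2 (.node 1 (.leaf
  1557552) (.leaf
  1949380)) (.node 1 (.leaf
  162100) (.leaf
  981615))))) (.node 7 (.node 3 (.node 1 (.leaf
  109510) (.node 1 (.leaf
  290) (.leaf
  807114))) (.node 2 (.node 1 (.leaf
  161526) (.leaf
  391701)) (.node 1 (.leaf
  37173) (.leaf
  843160)))) (.node 4 (.node 2 (.node 1 (.leaf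
  982377) (.leaf
  1341600)) (.node 1 (.leaf
  149997) (.leaf
  37437))) (.node 2 (.node 1 (.leaf
  967720) (.leaf
  359884)) (.node 1 (.leaf
  1480793) (.leaf
  150743)))))))) (.node 59 (.node 29 (.node 14 (.node 7 (.node 3 (.node 1 (.leaf
  296700) (.node 1 (.leaf
  484549) (.leaf
  1356912))) (.node 2 (.node 1 (.leaf
  1004600) (.leaf
  390)) (.node 1 (.leaf
  2232215) (.leaf
  982797)))) (.node 3 (.node 1 (.leaf
  2246850) (.node 1 (.leaf
  33) (.leaf
  634802))) (.node 2 (.node 1 (.leaf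
  37594) (.leaf
  2295331)) (.node 1 (.leaf
  359405) (.leaf
  136013))))) (.node 7 (.node 3 (.node 1 (.leaf
  37540) (.node 1 (.leaf
  2377045) (.leaf
  135294))) (.node 2 (.node 1 (.leaf
  37312) (.leaf
  359760)) (.node 1 (.leaf
  843279) (.leaf
  2848396)))) (.node 4 (.node 2 (.node 1 (.leaf
  37244) (.leaf
  645840)) (.node 1 (.leaf
  2717439) (.leaf
  2246854))) (.node 2 (.node 1 (.leaf
  1089459) (.leaf
  36642)) (.node 1 (.leaf
  1354662) (.leaf
  2142706)))))) (.node 15 (.node 7 (.node 3 (.node 1 (.leaf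
  674978) (.node 1 (.leaf
  997574) (.leaf
  1811393))) (.node 2 (.node 1 (.leaf
  2097535) (.leaf
  2779129)) (.node 1 (.leaf
  1768431) (.leaf
  37479)))) (.node 4 (.node 2 (.node 1 (.leaf
  359698) (.leaf
  36869)) (.node 1 (.leaf
  2877222) (.leaf
  2779213))) (.node 2 (.node 1 (.leaf
  1125211) (.leaf
  2096731)) (.node 1 (.leaf
  99792) (.leaf
  2778501))))) (.node 7 (.node 3 (.node 1 (.leaf
  1810650) (.node 1 (.leaf
  359889) (.leaf
  323208))) (.node 2 (.node 1 (.leaf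
  24) (.leaf
  645229)) (.node 1 (.leaf
  2877379) (.leaf
  2236419)))) (.node 4 (.node 2 (.node 1 (.leaf
  752) (.leaf
  2071634)) (.node 1 (.leaf
  390750) (.leaf
  2358107))) (.node 2 (.node 1 (.leaf
  2408983) (.leaf
  75997)) (.node 1 (.leaf
  162260) (.leaf
  161625))))))) (.node 29 (.node 14 (.node 7 (.node 3 (.node 1 (.leaf
  1374956) (.node 1 (.leaf
  36947) (.leaf
  2197215))) (.node 2 (.node 1 (.leaf
  2876844) (.leaf
  2787211)) (.node 1 (.leaf
  2742559) (.leaf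
  336600)))) (.node 3 (.node 1 (.leaf
  236) (.node 1 (.leaf
  76655) (.leaf
  1004679))) (.node 2 (.node 1 (.leaf
  134997) (.leaf
  2196237)) (.node 1 (.leaf
  2258316) (.leaf
  359736))))) (.node 7 (.node 3 (.node 1 (.leaf
  911703) (.node 1 (.leaf
  161986) (.leaf
  807437))) (.node 2 (.node 1 (.leaf
  2420159) (.leaf
  968687)) (.node 1 (.leaf
  198051) (.leaf
  981728)))) (.node 4 (.node 2 (.node 1 (.leaf
  982543) (.leaf
  2716664)) (.node 1 (.leaf
  109554) (.leaf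
  968064))) (.node 2 (.node 1 (.leaf
  2097716) (.leaf
  135422)) (.node 1 (.leaf
  13983) (.leaf
  2716700)))))) (.node 15 (.node 7 (.node 3 (.node 1 (.leaf
  642) (.node 1 (.leaf
  14324) (.leaf
  806987))) (.node 2 (.node 1 (.leaf
  843967) (.leaf
  498466)) (.node 1 (.leaf
  1005104) (.leaf
  1452405)))) (.node 4 (.node 2 (.node 1 (.leaf
  1977518) (.leaf
  1408680)) (.node 1 (.leaf
  2169122) (.leaf
  2559885))) (.node 2 (.node 1 (.leaf
  1409644) (.leaf
  198750)) (.node 1 (.leaf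
  843129) (.leaf
  37485))))) (.node 7 (.node 3 (.node 1 (.leaf
  1088821) (.node 1 (.leaf
  2742093) (.leaf
  71989))) (.node 2 (.node 1 (.leaf
  1005063) (.leaf
  1972195)) (.node 1 (.leaf
  968149) (.leaf
  37304)))) (.node 4 (.node 2 (.node 1 (.leaf
  2755810) (.leaf
  2096817)) (.node 1 (.leaf
  1820076) (.leaf
  2111508))) (.node 2 (.node 1 (.leaf
  2343058) (.leaf
  37360)) (.node 1 (.leaf
  359887) (.leaf
  322752)))))))))) (.node 236 (.node 118 (.node 59 (.node 29 (.node 14 (.node 7 (.node 3 (.node 1 (.leaf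
  2393730) (.node 1 (.leaf
  134906) (.leaf
  1977951))) (.node 2 (.node 1 (.leaf
  807350) (.leaf
  2652589)) (.node 1 (.leaf
  2142840) (.leaf
  1528359)))) (.node 3 (.node 1 (.leaf
  981677) (.node 1 (.leaf
  1129940) (.leaf
  1375373))) (.node 2 (.node 1 (.leaf
  806413) (.leaf
  2097400)) (.node 1 (.leaf
  2787154) (.leaf
  431364))))) (.node 7 (.node 3 (.node 1 (.leaf
  36806) (.node 1 (.leaf
  647) (.leaf
  1004441))) (.node 2 (.node 1 (.leaf
  1118068) (.leaf
  2037807)) (.node 1 (.leaf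
  968458) (.leaf
  682349)))) (.node 4 (.node 2 (.node 1 (.leaf
  1004271) (.leaf
  939)) (.node 1 (.leaf
  968321) (.leaf
  645776))) (.node 2 (.node 1 (.leaf
  2196980) (.leaf
  777)) (.node 1 (.leaf
  1040303) (.leaf
  878352)))))) (.node 15 (.node 7 (.node 3 (.node 1 (.leaf
  1949631) (.node 1 (.leaf
  2779148) (.leaf
  843846))) (.node 2 (.node 1 (.leaf
  843032) (.leaf
  848398)) (.node 1 (.leaf
  2142425) (.leaf
  2142587)))) (.node 4 (.node 2 (.node 1 (.leaf
  105570) (.leaf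
  45530)) (.node 1 (.leaf
  37572) (.leaf
  2196442))) (.node 2 (.node 1 (.leaf
  2111037) (.leaf
  1480519)) (.node 1 (.leaf
  662) (.leaf
  72618))))) (.node 7 (.node 3 (.node 1 (.leaf
  1811377) (.node 1 (.leaf
  2295163) (.leaf
  2272667))) (.node 2 (.node 1 (.leaf
  1649995) (.leaf
  843635)) (.node 1 (.leaf
  2860246) (.leaf
  1964501)))) (.node 4 (.node 2 (.node 1 (.leaf
  878875) (.leaf
  2196843)) (.node 1 (.leaf
  99843) (.leaf
  2755858))) (.node 2 (.node 1 (.leaf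
  2771479) (.leaf
  2847784)) (.node 1 (.leaf
  1166201) (.leaf
  1488338))))))) (.node 29 (.node 14 (.node 7 (.node 3 (.node 1 (.leaf
  967861) (.node 1 (.leaf
  1004693) (.leaf
  1650205))) (.node 2 (.node 1 (.leaf
  2779212) (.leaf
  2168516)) (.node 1 (.leaf
  171) (.leaf
  796305)))) (.node 3 (.node 1 (.leaf
  646131) (.node 1 (.leaf
  843628) (.leaf
  1118587))) (.node 2 (.node 1 (.leaf
  1964391) (.leaf
  2168486)) (.node 1 (.leaf
  36935) (.leaf
  2377049))))) (.node 7 (.node 3 (.node 1 (.leaf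
  313) (.node 1 (.leaf
  843618) (.leaf
  968594))) (.node 2 (.node 1 (.leaf
  713) (.leaf
  2778675)) (.node 1 (.leaf
  968545) (.leaf
  2294595)))) (.node 4 (.node 2 (.node 1 (.leaf
  646125) (.leaf
  967827)) (.node 1 (.leaf
  337538) (.leaf
  336497))) (.node 2 (.node 1 (.leaf
  851860) (.leaf
  498824)) (.node 1 (.leaf
  1004942) (.leaf
  130)))))) (.node 15 (.node 7 (.node 3 (.node 1 (.leaf
  2169496) (.node 1 (.leaf
  789) (.leaf
  2779028))) (.node 2 (.node 1 (.leaf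
  2303329) (.leaf
  645503)) (.node 1 (.leaf
  1074) (.leaf
  2455789)))) (.node 4 (.node 2 (.node 1 (.leaf
  1642754) (.leaf
  1200928)) (.node 1 (.leaf
  1972966) (.leaf
  1488127))) (.node 2 (.node 1 (.leaf
  2756602) (.leaf
  198982)) (.node 1 (.leaf
  806871) (.leaf
  1811493))))) (.node 7 (.node 3 (.node 1 (.leaf
  1135881) (.node 1 (.leaf
  1936296) (.leaf
  1924744))) (.node 2 (.node 1 (.leaf
  1925072) (.leaf
  1649410)) (.node 1 (.leaf
  1502733) (.leaf
  2096720)))) (.node 4 (.node 2 (.node 1 (.leaf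
  76580) (.leaf
  266760)) (.node 1 (.leaf
  2549687) (.leaf
  267226))) (.node 2 (.node 1 (.leaf
  843732) (.leaf
  2548986)) (.node 1 (.leaf
  37730) (.leaf
  2071054)))))))) (.node 59 (.node 29 (.node 14 (.node 7 (.node 3 (.node 1 (.leaf
  1965347) (.node 1 (.leaf
  1452425) (.leaf
  2304031))) (.node 2 (.node 1 (.leaf
  2626538) (.leaf
  2133947)) (.node 1 (.leaf
  359374) (.leaf
  1290698)))) (.node 3 (.node 1 (.leaf
  337421) (.node 1 (.leaf
  1557465) (.leaf
  2652317))) (.node 2 (.node 1 (.leaf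
  851797) (.leaf
  2653326)) (.node 1 (.leaf
  1488820) (.leaf
  2826263))))) (.node 7 (.node 3 (.node 1 (.leaf
  1201088) (.node 1 (.leaf
  1535947) (.leaf
  878913))) (.node 2 (.node 1 (.leaf
  851878) (.leaf
  1820315)) (.node 1 (.leaf
  1811380) (.leaf
  1570620)))) (.node 4 (.node 2 (.node 1 (.leaf
  161927) (.leaf
  1175045)) (.node 1 (.leaf
  2133239) (.leaf
  1570105))) (.node 2 (.node 1 (.leaf
  1811593) (.leaf
  37247)) (.node 1 (.leaf
  30055) (.leaf
  843751)))))) (.node 15 (.node 7 (.node 3 (.node 1 (.leaf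
  2771024) (.node 1 (.leaf
  36546) (.leaf
  322846))) (.node 2 (.node 1 (.leaf
  2241396) (.leaf
  967834)) (.node 1 (.leaf
  2246669) (.leaf
  2287696)))) (.node 4 (.node 2 (.node 1 (.leaf
  807201) (.leaf
  806713)) (.node 1 (.leaf
  698) (.leaf
  2197074))) (.node 2 (.node 1 (.leaf
  2393553) (.leaf
  2742510)) (.node 1 (.leaf
  2716601) (.leaf
  1481345))))) (.node 7 (.node 3 (.node 1 (.leaf
  1004362) (.node 1 (.leaf
  968334) (.leaf
  2717384))) (.node 2 (.node 1 (.leaf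
  1570672) (.leaf
  2287441)) (.node 1 (.leaf
  1846044) (.leaf
  2779333)))) (.node 4 (.node 2 (.node 1 (.leaf
  1375701) (.leaf
  2877673)) (.node 1 (.leaf
  2169366) (.leaf
  2784404))) (.node 2 (.node 1 (.leaf
  807046) (.leaf
  2097286)) (.node 1 (.leaf
  2089854) (.leaf
  2778659))))))) (.node 29 (.node 14 (.node 7 (.node 3 (.node 1 (.leaf
  2456484) (.node 1 (.leaf
  2303314) (.leaf
  2197338))) (.node 2 (.node 1 (.leaf
  2848376) (.leaf
  645926)) (.node 1 (.leaf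
  2287084) (.leaf
  2716721)))) (.node 3 (.node 1 (.leaf
  2097403) (.node 1 (.leaf
  2832945) (.leaf
  2741981))) (.node 2 (.node 1 (.leaf
  843886) (.leaf
  646)) (.node 1 (.leaf
  2133307) (.leaf
  2258001))))) (.node 7 (.node 3 (.node 1 (.leaf
  14686) (.node 1 (.leaf
  967833) (.leaf
  37522))) (.node 2 (.node 1 (.leaf
  2287361) (.leaf
  2038481)) (.node 1 (.leaf
  968358) (.leaf
  646050)))) (.node 4 (.node 2 (.node 1 (.leaf
  2196698) (.leaf
  968127)) (.node 1 (.leaf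
  2196266) (.leaf
  1613581))) (.node 2 (.node 1 (.leaf
  2168821) (.leaf
  226)) (.node 1 (.leaf
  2197260) (.leaf
  29193)))))) (.node 15 (.node 7 (.node 3 (.node 1 (.leaf
  852784) (.node 1 (.leaf
  1488345) (.leaf
  37341))) (.node 2 (.node 1 (.leaf
  1480610) (.leaf
  2169121)) (.node 1 (.leaf
  483901) (.leaf
  1810665)))) (.node 4 (.node 2 (.node 1 (.leaf
  271666) (.leaf
  2133399)) (.node 1 (.leaf
  806588) (.leaf
  36700))) (.node 2 (.node 1 (.leaf
  2275555) (.leaf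
  2142022)) (.node 1 (.leaf
  957162) (.leaf
  1408962))))) (.node 7 (.node 3 (.node 1 (.leaf
  2190858) (.node 1 (.leaf
  843200) (.leaf
  2142402))) (.node 2 (.node 1 (.leaf
  1335707) (.leaf
  36610)) (.node 1 (.leaf
  391474) (.leaf
  982)))) (.node 4 (.node 2 (.node 1 (.leaf
  375615) (.leaf
  1005305)) (.node 1 (.leaf
  359545) (.leaf
  2778592))) (.node 2 (.node 1 (.leaf
  1129433) (.leaf
  807166)) (.node 1 (.leaf
  1972022) (.leaf
  2096952))))))))) (.node 118 (.node 59 (.node 29 (.node 14 (.node 7 (.node 3 (.node 1 (.leaf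
  398719) (.node 1 (.leaf
  997410) (.leaf
  200))) (.node 2 (.node 1 (.leaf
  1488080) (.leaf
  391747)) (.node 1 (.leaf
  820549) (.leaf
  2287713)))) (.node 3 (.node 1 (.leaf
  2683597) (.node 1 (.leaf
  1201476) (.leaf
  1767918))) (.node 2 (.node 1 (.leaf
  993) (.leaf
  29984)) (.node 1 (.leaf
  405218) (.leaf
  2173492))))) (.node 7 (.node 3 (.node 1 (.leaf
  2258976) (.node 1 (.leaf
  982351) (.leaf
  1125487))) (.node 2 (.node 1 (.leaf
  1935860) (.leaf
  1968713)) (.node 1 (.leaf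
  2168538) (.leaf
  2710403)))) (.node 4 (.node 2 (.node 1 (.leaf
  484070) (.leaf
  336710)) (.node 1 (.leaf
  1950109) (.leaf
  957290))) (.node 2 (.node 1 (.leaf
  2133605) (.leaf
  484016)) (.node 1 (.leaf
  807052) (.leaf
  2168661)))))) (.node 15 (.node 7 (.node 3 (.node 1 (.leaf
  956606) (.node 1 (.leaf
  14682) (.leaf
  645508))) (.node 2 (.node 1 (.leaf
  2770880) (.leaf
  37329)) (.node 1 (.leaf
  807207) (.leaf
  99670)))) (.node 4 (.node 2 (.node 1 (.leaf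
  806504) (.leaf
  1125274)) (.node 1 (.leaf
  2364431) (.leaf
  645948))) (.node 2 (.node 1 (.leaf
  2717264) (.leaf
  1051762)) (.node 1 (.leaf
  997274) (.leaf
  968378))))) (.node 7 (.node 3 (.node 1 (.leaf
  336543) (.node 1 (.leaf
  2771907) (.leaf
  2133316))) (.node 2 (.node 1 (.leaf
  1936124) (.leaf
  2294839)) (.node 1 (.leaf
  1126147) (.leaf
  806857)))) (.node 4 (.node 2 (.node 1 (.leaf
  2169461) (.leaf
  37444)) (.node 1 (.leaf
  806610) (.leaf
  644))) (.node 2 (.node 1 (.leaf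
  1649403) (.leaf
  158412)) (.node 1 (.leaf
  2142219) (.leaf
  843600))))))) (.node 29 (.node 14 (.node 7 (.node 3 (.node 1 (.leaf
  2876940) (.node 1 (.leaf
  1642074) (.leaf
  271712))) (.node 2 (.node 1 (.leaf
  71993) (.leaf
  1613480)) (.node 1 (.leaf
  806407) (.leaf
  1612918)))) (.node 3 (.node 1 (.leaf
  967810) (.node 1 (.leaf
  391477) (.leaf
  843715))) (.node 2 (.node 1 (.leaf
  1972789) (.leaf
  2169308)) (.node 1 (.leaf
  2133496) (.leaf
  560166))))) (.node 7 (.node 3 (.node 1 (.leaf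
  376463) (.node 1 (.leaf
  836193) (.leaf
  1972576))) (.node 2 (.node 1 (.leaf
  878274) (.leaf
  198013)) (.node 1 (.leaf
  1488307) (.leaf
  754)))) (.node 4 (.node 2 (.node 1 (.leaf
  2168513) (.leaf
  1396433)) (.node 1 (.leaf
  1488711) (.leaf
  1125326))) (.node 2 (.node 1 (.leaf
  1570663) (.leaf
  2142677)) (.node 1 (.leaf
  359881) (.leaf
  878449)))))) (.node 15 (.node 7 (.node 3 (.node 1 (.leaf
  1117718) (.node 1 (.leaf
  311524) (.leaf
  312))) (.node 2 (.node 1 (.leaf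
  1489257) (.leaf
  1972145)) (.node 1 (.leaf
  359175) (.leaf
  484470)))) (.node 4 (.node 2 (.node 1 (.leaf
  2685873) (.leaf
  391565)) (.node 1 (.leaf
  197865) (.leaf
  1972008))) (.node 2 (.node 1 (.leaf
  359726) (.leaf
  806798)) (.node 1 (.leaf
  29519) (.leaf
  484669))))) (.node 7 (.node 3 (.node 1 (.leaf
  1125929) (.node 1 (.leaf
  484088) (.leaf
  851913))) (.node 2 (.node 1 (.leaf
  645194) (.leaf
  1972273)) (.node 1 (.leaf
  2617316) (.leaf
  2287088)))) (.node 4 (.node 2 (.node 1 (.leaf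
  1972553) (.leaf
  72214)) (.node 1 (.leaf
  2862999) (.leaf
  967821))) (.node 2 (.node 1 (.leaf
  725) (.leaf
  843024)) (.node 1 (.leaf
  150028) (.leaf
  322629)))))))) (.node 59 (.node 29 (.node 14 (.node 7 (.node 3 (.node 1 (.leaf
  2258572) (.node 1 (.leaf
  14683) (.leaf
  981640))) (.node 2 (.node 1 (.leaf
  2433308) (.leaf
  37339)) (.node 1 (.leaf
  982366) (.leaf
  941670)))) (.node 3 (.node 1 (.leaf
  844080) (.node 1 (.leaf
  1004233) (.leaf
  337433))) (.node 2 (.node 1 (.leaf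
  658) (.leaf
  645268)) (.node 1 (.leaf
  37486) (.leaf
  2722438))))) (.node 7 (.node 3 (.node 1 (.leaf
  1396225) (.node 1 (.leaf
  2779393) (.leaf
  76660))) (.node 2 (.node 1 (.leaf
  162063) (.leaf
  484666)) (.node 1 (.leaf
  72506) (.leaf
  520614)))) (.node 4 (.node 2 (.node 1 (.leaf
  71877) (.leaf
  37348)) (.node 1 (.leaf
  46044) (.leaf
  37470))) (.node 2 (.node 1 (.leaf
  520593) (.leaf
  2169262)) (.node 1 (.leaf
  2142686) (.leaf
  365116)))))) (.node 15 (.node 7 (.node 3 (.node 1 (.leaf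
  2716987) (.node 1 (.leaf
  645230) (.leaf
  2196904))) (.node 2 (.node 1 (.leaf
  2741938) (.leaf
  2295262)) (.node 1 (.leaf
  981550) (.leaf
  46208)))) (.node 4 (.node 2 (.node 1 (.leaf
  484693) (.leaf
  942126)) (.node 1 (.leaf
  1201439) (.leaf
  941939))) (.node 2 (.node 1 (.leaf
  2097736) (.leaf
  645858)) (.node 1 (.leaf
  1129619) (.leaf
  2826418))))) (.node 7 (.node 3 (.node 1 (.leaf
  2716636) (.node 1 (.leaf
  2169152) (.leaf
  2089793))) (.node 2 (.node 1 (.leaf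
  161384) (.leaf
  2089155)) (.node 1 (.leaf
  359112) (.leaf
  1396822)))) (.node 4 (.node 2 (.node 1 (.leaf
  679) (.leaf
  2168527)) (.node 1 (.leaf
  2877659) (.leaf
  2065398))) (.node 2 (.node 1 (.leaf
  1004389) (.leaf
  1166266)) (.node 1 (.leaf
  498470) (.leaf
  2721831))))))) (.node 30 (.node 15 (.node 7 (.node 3 (.node 1 (.leaf
  359177) (.node 1 (.leaf
  997056) (.leaf
  1396833))) (.node 2 (.node 1 (.leaf
  521203) (.leaf
  1118564)) (.node 1 (.leaf
  1004580) (.leaf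
  36943)))) (.node 4 (.node 2 (.node 1 (.leaf
  645506) (.leaf
  1451871)) (.node 1 (.leaf
  807301) (.leaf
  941394))) (.node 2 (.node 1 (.leaf
  2832906) (.leaf
  1613188)) (.node 1 (.leaf
  484598) (.leaf
  906339))))) (.node 7 (.node 3 (.node 1 (.leaf
  1480730) (.node 1 (.leaf
  1741472) (.leaf
  1165631))) (.node 2 (.node 1 (.leaf
  131) (.leaf
  521342)) (.node 1 (.leaf
  198146) (.leaf
  42017)))) (.node 4 (.node 2 (.node 1 (.leaf
  391305) (.leaf
  2072458)) (.node 1 (.leaf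
  198781) (.leaf
  2197263))) (.node 2 (.node 1 (.leaf
  2847830) (.leaf
  399235)) (.node 1 (.leaf
  2201486) (.leaf
  2096812)))))) (.node 15 (.node 7 (.node 3 (.node 1 (.leaf
  2323935) (.node 1 (.leaf
  364920) (.leaf
  2833241))) (.node 2 (.node 1 (.leaf
  835564) (.leaf
  911198)) (.node 1 (.leaf
  682297) (.leaf
  2133214)))) (.node 4 (.node 2 (.node 1 (.leaf
  2683682) (.leaf
  2722353)) (.node 1 (.leaf
  37595) (.leaf
  1488756))) (.node 2 (.node 1 (.leaf
  843037) (.leaf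
  1024)) (.node 1 (.leaf
  1909476) (.leaf
  2555572))))) (.node 7 (.node 3 (.node 1 (.leaf
  2755877) (.node 1 (.leaf
  806481) (.leaf
  807291))) (.node 2 (.node 1 (.leaf
  360082) (.leaf
  498578)) (.node 1 (.leaf
  843599) (.leaf
  94416)))) (.node 4 (.node 2 (.node 1 (.leaf
  484806) (.leaf
  967920)) (.node 1 (.leaf
  2742548) (.leaf
  2201314))) (.node 2 (.node 1 (.leaf
  1010141) (.leaf
  13870)) (.node 1 (.leaf
  2419336) (.leaf
  967781)))))))))))) (.node 945 (.node 472 (.node 236 (.node 118 (.node 59 (.node 29 (.node 14 (.node 7 (.node 3 (.node 1 (.leaf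
  150733) (.node 1 (.leaf
  2710637) (.leaf
  1374862))) (.node 2 (.node 1 (.leaf
  1174454) (.leaf
  2257987)) (.node 1 (.leaf
  1201413) (.leaf
  982711)))) (.node 3 (.node 1 (.leaf
  560499) (.node 1 (.leaf
  1775043) (.leaf
  1375491))) (.node 2 (.node 1 (.leaf
  170) (.leaf
  941934)) (.node 1 (.leaf
  990) (.leaf
  37527))))) (.node 7 (.node 3 (.node 1 (.leaf
  168) (.node 1 (.leaf
  807082) (.leaf
  2717200))) (.node 2 (.node 1 (.leaf
  1451601) (.leaf
  2771652)) (.node 1 (.leaf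
  1125363) (.leaf
  151004)))) (.node 4 (.node 2 (.node 1 (.leaf
  1129639) (.leaf
  2133215)) (.node 1 (.leaf
  150834) (.leaf
  2778954))) (.node 2 (.node 1 (.leaf
  2294524) (.leaf
  93588)) (.node 1 (.leaf
  807393) (.leaf
  1481377)))))) (.node 15 (.node 7 (.node 3 (.node 1 (.leaf
  1774717) (.node 1 (.leaf
  1612859) (.leaf
  1488096))) (.node 2 (.node 1 (.leaf
  1481167) (.leaf
  645772)) (.node 1 (.leaf
  967716) (.leaf
  1004291)))) (.node 4 (.node 2 (.node 1 (.leaf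
  981578) (.leaf
  161462)) (.node 1 (.leaf
  842944) (.leaf
  1811002))) (.node 2 (.node 1 (.leaf
  1788854) (.leaf
  2342752)) (.node 1 (.leaf
  968385) (.leaf
  1613819))))) (.node 7 (.node 3 (.node 1 (.leaf
  1767856) (.node 1 (.leaf
  1481322) (.leaf
  981591))) (.node 2 (.node 1 (.leaf
  336951) (.leaf
  1755223)) (.node 1 (.leaf
  1642799) (.leaf
  521299)))) (.node 4 (.node 2 (.node 1 (.leaf
  981584) (.leaf
  682316)) (.node 1 (.leaf
  1949340) (.leaf
  93746))) (.node 2 (.node 1 (.leaf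
  968498) (.leaf
  721329)) (.node 1 (.leaf
  806486) (.leaf
  2142853))))))) (.node 29 (.node 14 (.node 7 (.node 3 (.node 1 (.leaf
  2247384) (.node 1 (.leaf
  36772) (.leaf
  677))) (.node 2 (.node 1 (.leaf
  99) (.leaf
  1340966)) (.node 1 (.leaf
  1774944) (.leaf
  454)))) (.node 3 (.node 1 (.leaf
  484087) (.node 1 (.leaf
  1909508) (.leaf
  982369))) (.node 2 (.node 1 (.leaf
  2202468) (.leaf
  981916)) (.node 1 (.leaf
  1972885) (.leaf
  29444))))) (.node 7 (.node 3 (.node 1 (.leaf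
  956431) (.node 1 (.leaf
  839) (.leaf
  632))) (.node 2 (.node 1 (.leaf
  646376) (.leaf
  2247340)) (.node 1 (.leaf
  634798) (.leaf
  843088)))) (.node 4 (.node 2 (.node 1 (.leaf
  360081) (.leaf
  37612)) (.node 1 (.leaf
  135381) (.leaf
  37580))) (.node 2 (.node 1 (.leaf
  1811498) (.leaf
  2685146)) (.node 1 (.leaf
  2778636) (.leaf
  37714)))))) (.node 15 (.node 7 (.node 3 (.node 1 (.leaf
  359357) (.node 1 (.leaf
  359853) (.leaf
  843198))) (.node 2 (.node 1 (.leaf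
  364632) (.leaf
  2779137)) (.node 1 (.leaf
  37215) (.leaf
  2247531)))) (.node 4 (.node 2 (.node 1 (.leaf
  1741332) (.leaf
  2287634)) (.node 1 (.leaf
  2716563) (.leaf
  351959))) (.node 2 (.node 1 (.leaf
  982207) (.leaf
  2096707)) (.node 1 (.leaf
  878698) (.leaf
  982509))))) (.node 7 (.node 3 (.node 1 (.leaf
  29171) (.node 1 (.leaf
  1125974) (.leaf
  1613499))) (.node 2 (.node 1 (.leaf
  351966) (.leaf
  360224)) (.node 1 (.leaf
  36874) (.leaf
  1103306)))) (.node 4 (.node 2 (.node 1 (.leaf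
  36665) (.leaf
  906902)) (.node 1 (.leaf
  2779010) (.leaf
  878347))) (.node 2 (.node 1 (.leaf
  323210) (.leaf
  36777)) (.node 1 (.leaf
  2127989) (.leaf
  161)))))))) (.node 59 (.node 29 (.node 14 (.node 7 (.node 3 (.node 1 (.leaf
  1374769) (.node 1 (.leaf
  640) (.leaf
  336633))) (.node 2 (.node 1 (.leaf
  941318) (.leaf
  2408355)) (.node 1 (.leaf
  93717) (.leaf
  1004345)))) (.node 3 (.node 1 (.leaf
  2877656) (.node 1 (.leaf
  2258013) (.leaf
  836108))) (.node 2 (.node 1 (.leaf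
  234) (.leaf
  1050)) (.node 1 (.leaf
  480536) (.leaf
  2357553))))) (.node 7 (.node 3 (.node 1 (.leaf
  2072451) (.node 1 (.leaf
  162068) (.leaf
  2717432))) (.node 2 (.node 1 (.leaf
  1972913) (.leaf
  2168777)) (.node 1 (.leaf
  2742206) (.leaf
  911154)))) (.node 4 (.node 2 (.node 1 (.leaf
  906158) (.leaf
  2742702)) (.node 1 (.leaf
  14022) (.leaf
  807248))) (.node 2 (.node 1 (.leaf
  37460) (.leaf
  2722565)) (.node 1 (.leaf
  359149) (.leaf
  498480)))))) (.node 15 (.node 7 (.node 3 (.node 1 (.leaf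
  161482) (.node 1 (.leaf
  956829) (.leaf
  37191))) (.node 2 (.node 1 (.leaf
  968509) (.leaf
  997040)) (.node 1 (.leaf
  37457) (.leaf
  807488)))) (.node 4 (.node 2 (.node 1 (.leaf
  94310) (.leaf
  2295339)) (.node 1 (.leaf
  37478) (.leaf
  2096904))) (.node 2 (.node 1 (.leaf
  135322) (.leaf
  2716888)) (.node 1 (.leaf
  484622) (.leaf
  942327))))) (.node 7 (.node 3 (.node 1 (.leaf
  1451965) (.node 1 (.leaf
  2787918) (.leaf
  2683741))) (.node 2 (.node 1 (.leaf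
  1004469) (.leaf
  843317)) (.node 1 (.leaf
  2097542) (.leaf
  981724)))) (.node 4 (.node 2 (.node 1 (.leaf
  1452403) (.leaf
  1051568)) (.node 1 (.leaf
  1004301) (.leaf
  337431))) (.node 2 (.node 1 (.leaf
  1570103) (.leaf
  52)) (.node 1 (.leaf
  1102648) (.leaf
  1409639))))))) (.node 29 (.node 14 (.node 7 (.node 3 (.node 1 (.leaf
  198757) (.node 1 (.leaf
  2393097) (.leaf
  806564))) (.node 2 (.node 1 (.leaf
  646035) (.leaf
  36758)) (.node 1 (.leaf
  365161) (.leaf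
  956749)))) (.node 3 (.node 1 (.leaf
  2169321) (.node 1 (.leaf
  1194036) (.leaf
  2833490))) (.node 2 (.node 1 (.leaf
  2111313) (.leaf
  37314)) (.node 1 (.leaf
  928270) (.leaf
  337315))))) (.node 7 (.node 3 (.node 1 (.leaf
  981641) (.node 1 (.leaf
  359880) (.leaf
  806428))) (.node 2 (.node 1 (.leaf
  476661) (.leaf
  967709)) (.node 1 (.leaf
  1375341) (.leaf
  1816131)))) (.node 4 (.node 2 (.node 1 (.leaf
  93) (.leaf
  150301)) (.node 1 (.leaf
  2787295) (.leaf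
  2611147))) (.node 2 (.node 1 (.leaf
  109470) (.leaf
  2096910)) (.node 1 (.leaf
  982544) (.leaf
  2787416)))))) (.node 15 (.node 7 (.node 3 (.node 1 (.leaf
  967680) (.node 1 (.leaf
  645861) (.leaf
  161480))) (.node 2 (.node 1 (.leaf
  513706) (.leaf
  981688)) (.node 1 (.leaf
  2142322) (.leaf
  1004303)))) (.node 4 (.node 2 (.node 1 (.leaf
  322986) (.leaf
  2294637)) (.node 1 (.leaf
  2168584) (.leaf
  843702))) (.node 2 (.node 1 (.leaf
  2257974) (.leaf
  806882)) (.node 1 (.leaf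
  843263) (.leaf
  806750))))) (.node 7 (.node 3 (.node 1 (.leaf
  848540) (.node 1 (.leaf
  941834) (.leaf
  2142458))) (.node 2 (.node 1 (.leaf
  1558009) (.leaf
  575925)) (.node 1 (.leaf
  842992) (.leaf
  1035256)))) (.node 4 (.node 2 (.node 1 (.leaf
  878250) (.leaf
  72620)) (.node 1 (.leaf
  359592) (.leaf
  2142096))) (.node 2 (.node 1 (.leaf
  336874) (.leaf
  2271994)) (.node 1 (.leaf
  842999) (.leaf
  2161530))))))))) (.node 118 (.node 59 (.node 29 (.node 14 (.node 7 (.node 3 (.node 1 (.leaf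
  2778530) (.node 1 (.leaf
  2169378) (.leaf
  2771582))) (.node 2 (.node 1 (.leaf
  820473) (.leaf
  879118)) (.node 1 (.leaf
  2860272) (.leaf
  1965092)))) (.node 3 (.node 1 (.leaf
  878480) (.node 1 (.leaf
  1810999) (.leaf
  1488758))) (.node 2 (.node 1 (.leaf
  162300) (.leaf
  364583)) (.node 1 (.leaf
  682339) (.leaf
  75994))))) (.node 7 (.node 3 (.node 1 (.leaf
  2455802) (.node 1 (.leaf
  2142231) (.leaf
  2742645))) (.node 2 (.node 1 (.leaf
  806717) (.leaf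
  359488)) (.node 1 (.leaf
  1964598) (.leaf
  848597)))) (.node 4 (.node 2 (.node 1 (.leaf
  2168536) (.leaf
  968414)) (.node 1 (.leaf
  770) (.leaf
  352499))) (.node 2 (.node 1 (.leaf
  484132) (.leaf
  1451829)) (.node 1 (.leaf
  2716937) (.leaf
  1788948)))))) (.node 15 (.node 7 (.node 3 (.node 1 (.leaf
  2779004) (.node 1 (.leaf
  484752) (.leaf
  1481424))) (.node 2 (.node 1 (.leaf
  1950088) (.leaf
  360126)) (.node 1 (.leaf
  2232490) (.leaf
  2779161)))) (.node 4 (.node 2 (.node 1 (.leaf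
  806488) (.leaf
  893)) (.node 1 (.leaf
  2779107) (.leaf
  416016))) (.node 2 (.node 1 (.leaf
  76175) (.leaf
  1810772)) (.node 1 (.leaf
  1480607) (.leaf
  2169360))))) (.node 7 (.node 3 (.node 1 (.leaf
  2169181) (.node 1 (.leaf
  2168553) (.leaf
  135974))) (.node 2 (.node 1 (.leaf
  843586) (.leaf
  2232025)) (.node 1 (.leaf
  1088848) (.leaf
  37502)))) (.node 4 (.node 2 (.node 1 (.leaf
  852484) (.leaf
  399020)) (.node 1 (.leaf
  513174) (.leaf
  852030))) (.node 2 (.node 1 (.leaf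
  2741808) (.leaf
  1774776)) (.node 1 (.leaf
  942207) (.leaf
  37273))))))) (.node 29 (.node 14 (.node 7 (.node 3 (.node 1 (.leaf
  682303) (.node 1 (.leaf
  29263) (.leaf
  483936))) (.node 2 (.node 1 (.leaf
  967689) (.leaf
  982179)) (.node 1 (.leaf
  2246803) (.leaf
  821174)))) (.node 3 (.node 1 (.leaf
  2770925) (.node 1 (.leaf
  2168650) (.leaf
  2770777))) (.node 2 (.node 1 (.leaf
  342) (.leaf
  150776)) (.node 1 (.leaf
  2716604) (.leaf
  807147))))) (.node 7 (.node 3 (.node 1 (.leaf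
  2258839) (.node 1 (.leaf
  484268) (.leaf
  843868))) (.node 2 (.node 1 (.leaf
  1971904) (.leaf
  2717241)) (.node 1 (.leaf
  337349) (.leaf
  2771562)))) (.node 4 (.node 2 (.node 1 (.leaf
  1480844) (.leaf
  882405)) (.node 1 (.leaf
  851948) (.leaf
  954))) (.node 2 (.node 1 (.leaf
  2455887) (.leaf
  790)) (.node 1 (.leaf
  481212) (.leaf
  1004967)))))) (.node 15 (.node 7 (.node 3 (.node 1 (.leaf
  836203) (.node 1 (.leaf
  336865) (.leaf
  141))) (.node 2 (.node 1 (.leaf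
  2456521) (.leaf
  337194)) (.node 1 (.leaf
  646211) (.leaf
  54)))) (.node 4 (.node 2 (.node 1 (.leaf
  844055) (.leaf
  855)) (.node 1 (.leaf
  2097307) (.leaf
  2778484))) (.node 2 (.node 1 (.leaf
  2464896) (.leaf
  843227)) (.node 1 (.leaf
  2343172) (.leaf
  2848051))))) (.node 7 (.node 3 (.node 1 (.leaf
  1612812) (.node 1 (.leaf
  458403) (.leaf
  2778935))) (.node 2 (.node 1 (.leaf
  1972288) (.leaf
  322979)) (.node 1 (.leaf
  2041258) (.leaf
  2169153)))) (.node 4 (.node 2 (.node 1 (.leaf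
  2294643) (.leaf
  1375055)) (.node 1 (.leaf
  682352) (.leaf
  937))) (.node 2 (.node 1 (.leaf
  2168537) (.leaf
  2779181)) (.node 1 (.leaf
  1117784) (.leaf
  2169221)))))))) (.node 59 (.node 29 (.node 14 (.node 7 (.node 3 (.node 1 (.leaf
  14774) (.node 1 (.leaf
  1775089) (.leaf
  76667))) (.node 2 (.node 1 (.leaf
  2742513) (.leaf
  1480569)) (.node 1 (.leaf
  2349414) (.leaf
  911880)))) (.node 3 (.node 1 (.leaf
  2741777) (.node 1 (.leaf
  806575) (.leaf
  37712))) (.node 2 (.node 1 (.leaf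
  911299) (.leaf
  99900)) (.node 1 (.leaf
  1174992) (.leaf
  14095))))) (.node 7 (.node 3 (.node 1 (.leaf
  706) (.node 1 (.leaf
  2161023) (.leaf
  198057))) (.node 2 (.node 1 (.leaf
  337119) (.leaf
  176)) (.node 1 (.leaf
  190643) (.leaf
  161310)))) (.node 4 (.node 2 (.node 1 (.leaf
  1004879) (.leaf
  1488920)) (.node 1 (.leaf
  2851019) (.leaf
  2826533))) (.node 2 (.node 1 (.leaf
  197827) (.leaf
  1613455)) (.node 1 (.leaf
  364439) (.leaf
  135297)))))) (.node 15 (.node 7 (.node 3 (.node 1 (.leaf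
  781150) (.node 1 (.leaf
  37483) (.leaf
  2778972))) (.node 2 (.node 1 (.leaf
  2848069) (.leaf
  2722295)) (.node 1 (.leaf
  513528) (.leaf
  2779140)))) (.node 4 (.node 2 (.node 1 (.leaf
  674835) (.leaf
  843942)) (.node 1 (.leaf
  2717213) (.leaf
  2778344))) (.node 2 (.node 1 (.leaf
  2156935) (.leaf
  1118366)) (.node 1 (.leaf
  1375450) (.leaf
  1040))))) (.node 7 (.node 3 (.node 1 (.leaf
  2770815) (.node 1 (.leaf
  336759) (.leaf
  1480560))) (.node 2 (.node 1 (.leaf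
  1128988) (.leaf
  161659)) (.node 1 (.leaf
  359211) (.leaf
  2191085)))) (.node 4 (.node 2 (.node 1 (.leaf
  2142717) (.leaf
  957026)) (.node 1 (.leaf
  645757) (.leaf
  1354543))) (.node 2 (.node 1 (.leaf
  559825) (.leaf
  981617)) (.node 1 (.leaf
  982230) (.leaf
  844096))))))) (.node 29 (.node 14 (.node 7 (.node 3 (.node 1 (.leaf
  2304004) (.node 1 (.leaf
  76077) (.leaf
  2555347))) (.node 2 (.node 1 (.leaf
  72541) (.leaf
  2139467)) (.node 1 (.leaf
  42770) (.leaf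
  1613541)))) (.node 3 (.node 1 (.leaf
  2096668) (.node 1 (.leaf
  150631) (.leaf
  76829))) (.node 2 (.node 1 (.leaf
  2860387) (.leaf
  37190)) (.node 1 (.leaf
  484514) (.leaf
  36860))))) (.node 7 (.node 3 (.node 1 (.leaf
  956740) (.node 1 (.leaf
  967882) (.leaf
  337239))) (.node 2 (.node 1 (.leaf
  134963) (.leaf
  359480)) (.node 1 (.leaf
  150) (.leaf
  967890)))) (.node 4 (.node 2 (.node 1 (.leaf
  37291) (.leaf
  659118)) (.node 1 (.leaf
  1102546) (.leaf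
  1004665))) (.node 2 (.node 1 (.leaf
  2142335) (.leaf
  459)) (.node 1 (.leaf
  967722) (.leaf
  337249)))))) (.node 15 (.node 7 (.node 3 (.node 1 (.leaf
  1977952) (.node 1 (.leaf
  820447) (.leaf
  2246940))) (.node 2 (.node 1 (.leaf
  497808) (.leaf
  150279)) (.node 1 (.leaf
  843763) (.leaf
  1811271)))) (.node 4 (.node 2 (.node 1 (.leaf
  645141) (.leaf
  1166362)) (.node 1 (.leaf
  485097) (.leaf
  2134143))) (.node 2 (.node 1 (.leaf
  1536933) (.leaf
  76807)) (.node 1 (.leaf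
  1165561) (.leaf
  844049))))) (.node 7 (.node 3 (.node 1 (.leaf
  634140) (.node 1 (.leaf
  1650041) (.leaf
  337524))) (.node 2 (.node 1 (.leaf
  359276) (.leaf
  1810729)) (.node 1 (.leaf
  1949959) (.leaf
  521456)))) (.node 4 (.node 2 (.node 1 (.leaf
  1649401) (.leaf
  360274)) (.node 1 (.leaf
  2302943) (.leaf
  1493972))) (.node 2 (.node 1 (.leaf
  560009) (.leaf
  2770752)) (.node 1 (.leaf
  2741901) (.leaf
  806464)))))))))) (.node 236 (.node 118 (.node 59 (.node 29 (.node 14 (.node 7 (.node 3 (.node 1 (.leaf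
  2161812) (.node 1 (.leaf
  2685224) (.leaf
  1935740))) (.node 2 (.node 1 (.leaf
  982357) (.leaf
  843083)) (.node 1 (.leaf
  807089) (.leaf
  398930)))) (.node 3 (.node 1 (.leaf
  198476) (.node 1 (.leaf
  2168524) (.leaf
  484138))) (.node 2 (.node 1 (.leaf
  806653) (.leaf
  2246804)) (.node 1 (.leaf
  981616) (.leaf
  1004632))))) (.node 7 (.node 3 (.node 1 (.leaf
  2104147) (.node 1 (.leaf
  2168847) (.leaf
  362))) (.node 2 (.node 1 (.leaf
  2742815) (.leaf
  1972678)) (.node 1 (.leaf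
  484081) (.leaf
  941867)))) (.node 4 (.node 2 (.node 1 (.leaf
  2197170) (.leaf
  198505)) (.node 1 (.leaf
  2892881) (.leaf
  2343141))) (.node 2 (.node 1 (.leaf
  2348800) (.leaf
  997755)) (.node 1 (.leaf
  2258760) (.leaf
  364574)))))) (.node 15 (.node 7 (.node 3 (.node 1 (.leaf
  1129641) (.node 1 (.leaf
  2778998) (.leaf
  911329))) (.node 2 (.node 1 (.leaf
  135670) (.leaf
  1004527)) (.node 1 (.leaf
  981543) (.leaf
  359298)))) (.node 4 (.node 2 (.node 1 (.leaf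
  1977231) (.leaf
  2833445)) (.node 1 (.leaf
  1004411) (.leaf
  75851))) (.node 2 (.node 1 (.leaf
  2742420) (.leaf
  1480568)) (.node 1 (.leaf
  883259) (.leaf
  99897))))) (.node 7 (.node 3 (.node 1 (.leaf
  2363800) (.node 1 (.leaf
  14720) (.leaf
  202))) (.node 2 (.node 1 (.leaf
  2295289) (.leaf
  1810779)) (.node 1 (.leaf
  336488) (.leaf
  843156)))) (.node 4 (.node 2 (.node 1 (.leaf
  2343277) (.leaf
  911110)) (.node 1 (.leaf
  2741853) (.leaf
  2134031))) (.node 2 (.node 1 (.leaf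
  151169) (.leaf
  911436)) (.node 1 (.leaf
  37567) (.leaf
  2850878))))))) (.node 29 (.node 14 (.node 7 (.node 3 (.node 1 (.leaf
  71874) (.node 1 (.leaf
  484945) (.leaf
  1558000))) (.node 2 (.node 1 (.leaf
  45487) (.leaf
  1004971)) (.node 1 (.leaf
  2246753) (.leaf
  1613542)))) (.node 3 (.node 1 (.leaf
  2097095) (.node 1 (.leaf
  1263874) (.leaf
  560498))) (.node 2 (.node 1 (.leaf
  150837) (.leaf
  2717215)) (.node 1 (.leaf
  1580532) (.leaf
  2716703))))) (.node 7 (.node 3 (.node 1 (.leaf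
  843076) (.node 1 (.leaf
  1613009) (.leaf
  497701))) (.node 2 (.node 1 (.leaf
  2364494) (.leaf
  484854)) (.node 1 (.leaf
  982283) (.leaf
  1480782)))) (.node 4 (.node 2 (.node 1 (.leaf
  2287717) (.leaf
  360075)) (.node 1 (.leaf
  1354524) (.leaf
  645821))) (.node 2 (.node 1 (.leaf
  2133373) (.leaf
  1396783)) (.node 1 (.leaf
  29167) (.leaf
  2549212)))))) (.node 15 (.node 7 (.node 3 (.node 1 (.leaf
  2258107) (.node 1 (.leaf
  1936319) (.leaf
  1004324))) (.node 2 (.node 1 (.leaf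
  981644) (.leaf
  823)) (.node 1 (.leaf
  29649) (.leaf
  2142743)))) (.node 4 (.node 2 (.node 1 (.leaf
  498533) (.leaf
  1810758)) (.node 1 (.leaf
  2779034) (.leaf
  1354605))) (.node 2 (.node 1 (.leaf
  2626576) (.leaf
  2142848)) (.node 1 (.leaf
  2756046) (.leaf
  337093))))) (.node 7 (.node 3 (.node 1 (.leaf
  109493) (.node 1 (.leaf
  1846109) (.leaf
  1488751))) (.node 2 (.node 1 (.leaf
  2833270) (.leaf
  391528)) (.node 1 (.leaf
  2770901) (.leaf
  2393468)))) (.node 4 (.node 2 (.node 1 (.leaf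
  484233) (.leaf
  835488)) (.node 1 (.leaf
  878368) (.leaf
  2096934))) (.node 2 (.node 1 (.leaf
  843045) (.leaf
  1004572)) (.node 1 (.leaf
  1040401) (.leaf
  2097636)))))))) (.node 59 (.node 29 (.node 14 (.node 7 (.node 3 (.node 1 (.leaf
  2779127) (.node 1 (.leaf
  2402754) (.leaf
  941399))) (.node 2 (.node 1 (.leaf
  2168737) (.leaf
  2626680)) (.node 1 (.leaf
  198585) (.leaf
  982304)))) (.node 3 (.node 1 (.leaf
  1103495) (.node 1 (.leaf
  957058) (.leaf
  681794))) (.node 2 (.node 1 (.leaf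
  1481325) (.leaf
  2272648)) (.node 1 (.leaf
  957338) (.leaf
  645160))))) (.node 7 (.node 3 (.node 1 (.leaf
  1129074) (.node 1 (.leaf
  136068) (.leaf
  968630))) (.node 2 (.node 1 (.leaf
  121) (.leaf
  912019)) (.node 1 (.leaf
  37383) (.leaf
  619216)))) (.node 4 (.node 2 (.node 1 (.leaf
  645862) (.leaf
  1452418)) (.node 1 (.leaf
  2246709) (.leaf
  336528))) (.node 2 (.node 1 (.leaf
  36631) (.leaf
  1396339)) (.node 1 (.leaf
  1586864) (.leaf
  36619)))))) (.node 15 (.node 7 (.node 3 (.node 1 (.leaf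
  37306) (.node 1 (.leaf
  36759) (.leaf
  71995))) (.node 2 (.node 1 (.leaf
  336542) (.leaf
  1001)) (.node 1 (.leaf
  756) (.leaf
  1118144)))) (.node 4 (.node 2 (.node 1 (.leaf
  359299) (.leaf
  1005118)) (.node 1 (.leaf
  1004979) (.leaf
  2681266))) (.node 2 (.node 1 (.leaf
  941437) (.leaf
  681731)) (.node 1 (.leaf
  2196983) (.leaf
  161308))))) (.node 7 (.node 3 (.node 1 (.leaf
  701) (.node 1 (.leaf
  911015) (.leaf
  968338))) (.node 2 (.node 1 (.leaf
  852517) (.leaf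
  981662)) (.node 1 (.leaf
  323312) (.leaf
  2247379)))) (.node 4 (.node 2 (.node 1 (.leaf
  322571) (.leaf
  521267)) (.node 1 (.leaf
  2364573) (.leaf
  150554))) (.node 2 (.node 1 (.leaf
  703) (.leaf
  645946)) (.node 1 (.leaf
  1228860) (.leaf
  2685788))))))) (.node 29 (.node 14 (.node 7 (.node 3 (.node 1 (.leaf
  2096728) (.node 1 (.leaf
  29237) (.leaf
  484702))) (.node 2 (.node 1 (.leaf
  717586) (.leaf
  1481314)) (.node 1 (.leaf
  1972742) (.leaf
  941832)))) (.node 3 (.node 1 (.leaf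
  2876852) (.node 1 (.leaf
  72015) (.leaf
  879081))) (.node 2 (.node 1 (.leaf
  645855) (.leaf
  2778976)) (.node 1 (.leaf
  906696) (.leaf
  105656))))) (.node 7 (.node 3 (.node 1 (.leaf
  1557482) (.node 1 (.leaf
  981646) (.leaf
  674878))) (.node 2 (.node 1 (.leaf
  807424) (.leaf
  1810725)) (.node 1 (.leaf
  1005244) (.leaf
  957330)))) (.node 4 (.node 2 (.node 1 (.leaf
  134999) (.leaf
  351660)) (.node 1 (.leaf
  676) (.leaf
  1118531))) (.node 2 (.node 1 (.leaf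
  336788) (.leaf
  2258223)) (.node 1 (.leaf
  1452371) (.leaf
  94278)))))) (.node 15 (.node 7 (.node 3 (.node 1 (.leaf
  2358147) (.node 1 (.leaf
  360120) (.leaf
  2169483))) (.node 2 (.node 1 (.leaf
  2097574) (.leaf
  151084)) (.node 1 (.leaf
  681971) (.leaf
  150212)))) (.node 4 (.node 2 (.node 1 (.leaf
  2716860) (.leaf
  982367)) (.node 1 (.leaf
  1103583) (.leaf
  2142782))) (.node 2 (.node 1 (.leaf
  2232147) (.leaf
  484474)) (.node 1 (.leaf
  2377366) (.leaf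
  2342554))))) (.node 7 (.node 3 (.node 1 (.leaf
  2303371) (.node 1 (.leaf
  251) (.leaf
  806573))) (.node 2 (.node 1 (.leaf
  2169196) (.leaf
  375709)) (.node 1 (.leaf
  2295372) (.leaf
  337394)))) (.node 4 (.node 2 (.node 1 (.leaf
  1355389) (.leaf
  337073)) (.node 1 (.leaf
  71914) (.leaf
  1007))) (.node 2 (.node 1 (.leaf
  76066) (.leaf
  2096744)) (.node 1 (.leaf
  1810731) (.leaf
  14000))))))))) (.node 118 (.node 59 (.node 29 (.node 14 (.node 7 (.node 3 (.node 1 (.leaf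
  513610) (.node 1 (.leaf
  2784542) (.leaf
  687317))) (.node 2 (.node 1 (.leaf
  806802) (.leaf
  1971960)) (.node 1 (.leaf
  2302914) (.leaf
  560106)))) (.node 3 (.node 1 (.leaf
  108837) (.node 1 (.leaf
  2077575) (.leaf
  253))) (.node 2 (.node 1 (.leaf
  1811357) (.leaf
  851788)) (.node 1 (.leaf
  2742769) (.leaf
  1396754))))) (.node 7 (.node 3 (.node 1 (.leaf
  2246637) (.node 1 (.leaf
  2272600) (.leaf
  2161590))) (.node 2 (.node 1 (.leaf
  843099) (.leaf
  1336554)) (.node 1 (.leaf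
  2892423) (.leaf
  1480541)))) (.node 4 (.node 2 (.node 1 (.leaf
  2847724) (.leaf
  1165895)) (.node 1 (.leaf
  2247382) (.leaf
  520613))) (.node 2 (.node 1 (.leaf
  1949267) (.leaf
  359314)) (.node 1 (.leaf
  76653) (.leaf
  2555940)))))) (.node 15 (.node 7 (.node 3 (.node 1 (.leaf
  968428) (.node 1 (.leaf
  336775) (.leaf
  498427))) (.node 2 (.node 1 (.leaf
  1612822) (.leaf
  1005369)) (.node 1 (.leaf
  198562) (.leaf
  1060456)))) (.node 4 (.node 2 (.node 1 (.leaf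
  2097364) (.leaf
  876)) (.node 1 (.leaf
  351602) (.leaf
  1774500))) (.node 2 (.node 1 (.leaf
  2419527) (.leaf
  2877261)) (.node 1 (.leaf
  1375809) (.leaf
  2710913))))) (.node 7 (.node 3 (.node 1 (.leaf
  1336209) (.node 1 (.leaf
  911884) (.leaf
  1774768))) (.node 2 (.node 1 (.leaf
  645182) (.leaf
  696)) (.node 1 (.leaf
  2771201) (.leaf
  968496)))) (.node 4 (.node 2 (.node 1 (.leaf
  956916) (.leaf
  1125896)) (.node 1 (.leaf
  1774216) (.leaf
  1846751))) (.node 2 (.node 1 (.leaf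
  2096882) (.leaf
  2258047)) (.node 1 (.leaf
  1336056) (.leaf
  559541))))))) (.node 29 (.node 14 (.node 7 (.node 3 (.node 1 (.leaf
  2779038) (.node 1 (.leaf
  477017) (.leaf
  1125282))) (.node 2 (.node 1 (.leaf
  1774125) (.leaf
  787702)) (.node 1 (.leaf
  1004483) (.leaf
  2408343)))) (.node 3 (.node 1 (.leaf
  1810686) (.node 1 (.leaf
  151097) (.leaf
  1488206))) (.node 2 (.node 1 (.leaf
  1613644) (.leaf
  14140)) (.node 1 (.leaf
  364438) (.leaf
  806406))))) (.node 7 (.node 3 (.node 1 (.leaf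
  1129041) (.node 1 (.leaf
  1774205) (.leaf
  198727))) (.node 2 (.node 1 (.leaf
  2455834) (.leaf
  162037)) (.node 1 (.leaf
  2232653) (.leaf
  2205506)))) (.node 4 (.node 2 (.node 1 (.leaf
  2072365) (.leaf
  906664)) (.node 1 (.leaf
  2231730) (.leaf
  843901))) (.node 2 (.node 1 (.leaf
  2196451) (.leaf
  2876763)) (.node 1 (.leaf
  151054) (.leaf
  2247462)))))) (.node 15 (.node 7 (.node 3 (.node 1 (.leaf
  968143) (.node 1 (.leaf
  135415) (.leaf
  336785))) (.node 2 (.node 1 (.leaf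
  134912) (.leaf
  1054891)) (.node 1 (.leaf
  2232184) (.leaf
  150024)))) (.node 4 (.node 2 (.node 1 (.leaf
  1174473) (.leaf
  2376652)) (.node 1 (.leaf
  1819602) (.leaf
  807390))) (.node 2 (.node 1 (.leaf
  360273) (.leaf
  1354521)) (.node 1 (.leaf
  2191027) (.leaf
  1335896))))) (.node 7 (.node 3 (.node 1 (.leaf
  458486) (.node 1 (.leaf
  337673) (.leaf
  1102548))) (.node 2 (.node 1 (.leaf
  135541) (.leaf
  1408910)) (.node 1 (.leaf
  2377184) (.leaf
  1004283)))) (.node 4 (.node 2 (.node 1 (.leaf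
  176054) (.leaf
  852592)) (.node 1 (.leaf
  2294654) (.leaf
  278744))) (.node 2 (.node 1 (.leaf
  1972530) (.leaf
  29818)) (.node 1 (.leaf
  852651) (.leaf
  1004984)))))))) (.node 59 (.node 29 (.node 14 (.node 7 (.node 3 (.node 1 (.leaf
  807252) (.node 1 (.leaf
  2169223) (.leaf
  521231))) (.node 2 (.node 1 (.leaf
  1005164) (.leaf
  1811289)) (.node 1 (.leaf
  2455897) (.leaf
  2097462)))) (.node 3 (.node 1 (.leaf
  520436) (.node 1 (.leaf
  1972778) (.leaf
  1004431))) (.node 2 (.node 1 (.leaf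
  162351) (.leaf
  359424)) (.node 1 (.leaf
  29707) (.leaf
  14676))))) (.node 7 (.node 3 (.node 1 (.leaf
  721) (.node 1 (.leaf
  2142692) (.leaf
  1950205))) (.node 2 (.node 1 (.leaf
  2779120) (.leaf
  14017)) (.node 1 (.leaf
  2455858) (.leaf
  1335649)))) (.node 4 (.node 2 (.node 1 (.leaf
  968763) (.leaf
  151059)) (.node 1 (.leaf
  37071) (.leaf
  513028))) (.node 2 (.node 1 (.leaf
  498437) (.leaf
  336762)) (.node 1 (.leaf
  2717386) (.leaf
  337344)))))) (.node 15 (.node 7 (.node 3 (.node 1 (.leaf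
  1602481) (.node 1 (.leaf
  2379789) (.leaf
  1264398))) (.node 2 (.node 1 (.leaf
  842973) (.leaf
  498442)) (.node 1 (.leaf
  224) (.leaf
  497718)))) (.node 4 (.node 2 (.node 1 (.leaf
  2626752) (.leaf
  2778452)) (.node 1 (.leaf
  682428) (.leaf
  2778577))) (.node 2 (.node 1 (.leaf
  2247435) (.leaf
  2168627)) (.node 1 (.leaf
  513579) (.leaf
  1971995))))) (.node 7 (.node 3 (.node 1 (.leaf
  1488980) (.node 1 (.leaf
  2456481) (.leaf
  1935686))) (.node 2 (.node 1 (.leaf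
  1088974) (.leaf
  1811482)) (.node 1 (.leaf
  498570) (.leaf
  2097167)))) (.node 4 (.node 2 (.node 1 (.leaf
  1166430) (.leaf
  2717336)) (.node 1 (.leaf
  2096647) (.leaf
  1374777))) (.node 2 (.node 1 (.leaf
  952) (.leaf
  806465)) (.node 1 (.leaf
  36644) (.leaf
  2770970))))))) (.node 30 (.node 15 (.node 7 (.node 3 (.node 1 (.leaf
  2097352) (.node 1 (.leaf
  36852) (.leaf
  967746))) (.node 2 (.node 1 (.leaf
  2716597) (.leaf
  950517)) (.node 1 (.leaf
  1166009) (.leaf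
  398488)))) (.node 4 (.node 2 (.node 1 (.leaf
  197931) (.leaf
  843134)) (.node 1 (.leaf
  483956) (.leaf
  2133318))) (.node 2 (.node 1 (.leaf
  1820221) (.leaf
  806532)) (.node 1 (.leaf
  2258900) (.leaf
  365201))))) (.node 7 (.node 3 (.node 1 (.leaf
  1129673) (.node 1 (.leaf
  2778999) (.leaf
  271683))) (.node 2 (.node 1 (.leaf
  967942) (.leaf
  2110780)) (.node 1 (.leaf
  2892252) (.leaf
  956864)))) (.node 4 (.node 2 (.node 1 (.leaf
  484035) (.leaf
  941313)) (.node 1 (.leaf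
  2197167) (.leaf
  14238))) (.node 2 (.node 1 (.leaf
  2294691) (.leaf
  2348760)) (.node 1 (.leaf
  398299) (.leaf
  351753)))))) (.node 15 (.node 7 (.node 3 (.node 1 (.leaf
  997434) (.node 1 (.leaf
  1972012) (.leaf
  2343225))) (.node 2 (.node 1 (.leaf
  360322) (.leaf
  1374865)) (.node 1 (.leaf
  982529) (.leaf
  1117899)))) (.node 4 (.node 2 (.node 1 (.leaf
  645314) (.leaf
  982131)) (.node 1 (.leaf
  843672) (.leaf
  36859))) (.node 2 (.node 1 (.leaf
  1811372) (.leaf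
  911422)) (.node 1 (.leaf
  2778492) (.leaf
  2771118))))) (.node 7 (.node 3 (.node 1 (.leaf
  1465542) (.node 1 (.leaf
  1977774) (.leaf
  941222))) (.node 2 (.node 1 (.leaf
  906173) (.leaf
  1774188)) (.node 1 (.leaf
  71991) (.leaf
  915183)))) (.node 4 (.node 2 (.node 1 (.leaf
  72624) (.leaf
  100694)) (.node 1 (.leaf
  2168514) (.leaf
  2202124))) (.node 2 (.node 1 (.leaf
  1964668) (.leaf
  560421)) (.node 1 (.leaf
  645233) (.leaf
  2169260))))))))))) (.node 472 (.node 236 (.node 118 (.node 59 (.node 29 (.node 14 (.node 7 (.node 3 (.node 1 (.leaf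
  198017) (.node 1 (.leaf
  198885) (.leaf
  1768021))) (.node 2 (.node 1 (.leaf
  957272) (.leaf
  807059)) (.node 1 (.leaf
  1811279) (.leaf
  2377361)))) (.node 3 (.node 1 (.leaf
  14075) (.node 1 (.leaf
  982352) (.leaf
  1103))) (.node 2 (.node 1 (.leaf
  37576) (.leaf
  36653)) (.node 1 (.leaf
  1374901) (.leaf
  1488301))))) (.node 7 (.node 3 (.node 1 (.leaf
  687) (.node 1 (.leaf
  2771483) (.leaf
  484685))) (.node 2 (.node 1 (.leaf
  2142192) (.leaf
  843094)) (.node 1 (.leaf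
  968591) (.leaf
  2555986)))) (.node 4 (.node 2 (.node 1 (.leaf
  1396638) (.leaf
  36804)) (.node 1 (.leaf
  42023) (.leaf
  956644))) (.node 2 (.node 1 (.leaf
  197963) (.leaf
  1129778)) (.node 1 (.leaf
  845) (.leaf
  2168783)))))) (.node 15 (.node 7 (.node 3 (.node 1 (.leaf
  75951) (.node 1 (.leaf
  1005209) (.leaf
  1820302))) (.node 2 (.node 1 (.leaf
  1004655) (.leaf
  942027)) (.node 1 (.leaf
  1810683) (.leaf
  2686051)))) (.node 4 (.node 2 (.node 1 (.leaf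
  2133827) (.leaf
  322569)) (.node 1 (.leaf
  982238) (.leaf
  100227))) (.node 2 (.node 1 (.leaf
  311403) (.leaf
  843493)) (.node 1 (.leaf
  1374949) (.leaf
  736))))) (.node 7 (.node 3 (.node 1 (.leaf
  190443) (.node 1 (.leaf
  843704) (.leaf
  14586))) (.node 2 (.node 1 (.leaf
  336429) (.leaf
  1451680)) (.node 1 (.leaf
  161579) (.leaf
  726)))) (.node 4 (.node 2 (.node 1 (.leaf
  1819635) (.leaf
  46081)) (.node 1 (.leaf
  513643) (.leaf
  2377321))) (.node 2 (.node 1 (.leaf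
  37582) (.leaf
  799)) (.node 1 (.leaf
  1396860) (.leaf
  2710951))))))) (.node 29 (.node 14 (.node 7 (.node 3 (.node 1 (.leaf
  2377082) (.node 1 (.leaf
  806628) (.leaf
  1396187))) (.node 2 (.node 1 (.leaf
  2555403) (.leaf
  967832)) (.node 1 (.leaf
  220) (.leaf
  674445)))) (.node 3 (.node 1 (.leaf
  1649459) (.node 1 (.leaf
  2711184) (.leaf
  2246635))) (.node 2 (.node 1 (.leaf
  359974) (.leaf
  1964973)) (.node 1 (.leaf
  323429) (.leaf
  206))))) (.node 7 (.node 3 (.node 1 (.leaf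
  559884) (.node 1 (.leaf
  1774946) (.leaf
  1375175))) (.node 2 (.node 1 (.leaf
  1005365) (.leaf
  1480503)) (.node 1 (.leaf
  2710405) (.leaf
  497846)))) (.node 4 (.node 2 (.node 1 (.leaf
  1488629) (.leaf
  235)) (.node 1 (.leaf
  2133936) (.leaf
  2456674))) (.node 2 (.node 1 (.leaf
  76040) (.leaf
  919)) (.node 1 (.leaf
  956776) (.leaf
  851827)))))) (.node 15 (.node 7 (.node 3 (.node 1 (.leaf
  36590) (.node 1 (.leaf
  967830) (.leaf
  956792))) (.node 2 (.node 1 (.leaf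
  1613783) (.leaf
  121226)) (.node 1 (.leaf
  42005) (.leaf
  2717187)))) (.node 4 (.node 2 (.node 1 (.leaf
  1972774) (.leaf
  2626712)) (.node 1 (.leaf
  14550) (.leaf
  851836))) (.node 2 (.node 1 (.leaf
  906065) (.leaf
  2846513)) (.node 1 (.leaf
  2848294) (.leaf
  14597))))) (.node 7 (.node 3 (.node 1 (.leaf
  2168555) (.node 1 (.leaf
  2878643) (.leaf
  1103308))) (.node 2 (.node 1 (.leaf
  942111) (.leaf
  2377275)) (.node 1 (.leaf
  2778364) (.leaf
  162348)))) (.node 4 (.node 2 (.node 1 (.leaf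
  2096868) (.leaf
  13957)) (.node 1 (.leaf
  1005139) (.leaf
  843065))) (.node 2 (.node 1 (.leaf
  1166276) (.leaf
  2142310)) (.node 1 (.leaf
  526241) (.leaf
  1972541)))))))) (.node 59 (.node 29 (.node 14 (.node 7 (.node 3 (.node 1 (.leaf
  521093) (.node 1 (.leaf
  878481) (.leaf
  1004364))) (.node 2 (.node 1 (.leaf
  1004426) (.leaf
  2788021)) (.node 1 (.leaf
  1774749) (.leaf
  2455890)))) (.node 3 (.node 1 (.leaf
  2456522) (.node 1 (.leaf
  843671) (.leaf
  806620))) (.node 2 (.node 1 (.leaf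
  521475) (.leaf
  2626613)) (.node 1 (.leaf
  2169332) (.leaf
  1811725))))) (.node 7 (.node 3 (.node 1 (.leaf
  162007) (.node 1 (.leaf
  161968) (.leaf
  1004379))) (.node 2 (.node 1 (.leaf
  941389) (.leaf
  1909288)) (.node 1 (.leaf
  337097) (.leaf
  941484)))) (.node 4 (.node 2 (.node 1 (.leaf
  906661) (.leaf
  483845)) (.node 1 (.leaf
  852481) (.leaf
  807199))) (.node 2 (.node 1 (.leaf
  2202447) (.leaf
  36557)) (.node 1 (.leaf
  1017) (.leaf
  807294)))))) (.node 15 (.node 7 (.node 3 (.node 1 (.leaf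
  1005064) (.node 1 (.leaf
  682080) (.leaf
  36551))) (.node 2 (.node 1 (.leaf
  967741) (.leaf
  2247529)) (.node 1 (.leaf
  1978002) (.leaf
  1129697)))) (.node 4 (.node 2 (.node 1 (.leaf
  41824) (.leaf
  2710330)) (.node 1 (.leaf
  1774873) (.leaf
  2716673))) (.node 2 (.node 1 (.leaf
  157735) (.leaf
  2721741)) (.node 1 (.leaf
  2038494) (.leaf
  2071980))))) (.node 7 (.node 3 (.node 1 (.leaf
  1396713) (.node 1 (.leaf
  312124) (.leaf
  2611732))) (.node 2 (.node 1 (.leaf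
  1118630) (.leaf
  642329)) (.node 1 (.leaf
  2168651) (.leaf
  1059701)))) (.node 4 (.node 2 (.node 1 (.leaf
  1451892) (.leaf
  337486)) (.node 1 (.leaf
  1102776) (.leaf
  1570830))) (.node 2 (.node 1 (.leaf
  851952) (.leaf
  1451088)) (.node 1 (.leaf
  996693) (.leaf
  852464))))))) (.node 29 (.node 14 (.node 7 (.node 3 (.node 1 (.leaf
  1613820) (.node 1 (.leaf
  162218) (.leaf
  982323))) (.node 2 (.node 1 (.leaf
  337068) (.leaf
  1972304)) (.node 1 (.leaf
  982267) (.leaf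
  1200934)))) (.node 3 (.node 1 (.leaf
  1129661) (.node 1 (.leaf
  1355140) (.leaf
  37357))) (.node 2 (.node 1 (.leaf
  968410) (.leaf
  14529)) (.node 1 (.leaf
  14047) (.leaf
  2142104))))) (.node 7 (.node 3 (.node 1 (.leaf
  161567) (.node 1 (.leaf
  483913) (.leaf
  2364490))) (.node 2 (.node 1 (.leaf
  997394) (.leaf
  2456707)) (.node 1 (.leaf
  1375539) (.leaf
  2142153)))) (.node 4 (.node 2 (.node 1 (.leaf
  37367) (.leaf
  843127)) (.node 1 (.leaf
  1165577) (.leaf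
  484184))) (.node 2 (.node 1 (.leaf
  42615) (.leaf
  1480544)) (.node 1 (.leaf
  835719) (.leaf
  1774311)))))) (.node 15 (.node 7 (.node 3 (.node 1 (.leaf
  336424) (.node 1 (.leaf
  1228946) (.leaf
  1044527))) (.node 2 (.node 1 (.leaf
  2770862) (.leaf
  1341449)) (.node 1 (.leaf
  484511) (.leaf
  1054)))) (.node 4 (.node 2 (.node 1 (.leaf
  2258864) (.leaf
  1076245)) (.node 1 (.leaf
  2097493) (.leaf
  1972733))) (.node 2 (.node 1 (.leaf
  941447) (.leaf
  2196349)) (.node 1 (.leaf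
  946) (.leaf
  2348742))))) (.node 7 (.node 3 (.node 1 (.leaf
  36544) (.node 1 (.leaf
  967980) (.leaf
  29079))) (.node 2 (.node 1 (.leaf
  513123) (.leaf
  150522)) (.node 1 (.leaf
  2364441) (.leaf
  2168479)))) (.node 4 (.node 2 (.node 1 (.leaf
  1004573) (.leaf
  1396818)) (.node 1 (.leaf
  956748) (.leaf
  197972))) (.node 2 (.node 1 (.leaf
  2160919) (.leaf
  2287003)) (.node 1 (.leaf
  674400) (.leaf
  2863533))))))))) (.node 118 (.node 59 (.node 29 (.node 14 (.node 7 (.node 3 (.node 1 (.leaf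
  457902) (.node 1 (.leaf
  2392915) (.leaf
  29))) (.node 2 (.node 1 (.leaf
  852710) (.leaf
  36621)) (.node 1 (.leaf
  878345) (.leaf
  1285108)))) (.node 3 (.node 1 (.leaf
  1158220) (.node 1 (.leaf
  645145) (.leaf
  337211))) (.node 2 (.node 1 (.leaf
  843343) (.leaf
  36634)) (.node 1 (.leaf
  36757) (.leaf
  1118778))))) (.node 7 (.node 3 (.node 1 (.leaf
  1586868) (.node 1 (.leaf
  2169217) (.leaf
  197841))) (.node 2 (.node 1 (.leaf
  161394) (.leaf
  981582)) (.node 1 (.leaf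
  359454) (.leaf
  807251)))) (.node 4 (.node 2 (.node 1 (.leaf
  359937) (.leaf
  1518267)) (.node 1 (.leaf
  121145) (.leaf
  2357677))) (.node 2 (.node 1 (.leaf
  645823) (.leaf
  911036)) (.node 1 (.leaf
  968323) (.leaf
  1774110)))))) (.node 15 (.node 7 (.node 3 (.node 1 (.leaf
  513523) (.node 1 (.leaf
  759) (.leaf
  150624))) (.node 2 (.node 1 (.leaf
  161923) (.leaf
  323190)) (.node 1 (.leaf
  997432) (.leaf
  2133268)))) (.node 4 (.node 2 (.node 1 (.leaf
  981701) (.leaf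
  323351)) (.node 1 (.leaf
  982707) (.leaf
  2376543))) (.node 2 (.node 1 (.leaf
  982170) (.leaf
  981694)) (.node 1 (.leaf
  1774340) (.leaf
  204099))))) (.node 7 (.node 3 (.node 1 (.leaf
  2231820) (.node 1 (.leaf
  807045) (.leaf
  1229487))) (.node 2 (.node 1 (.leaf
  843253) (.leaf
  1228669)) (.node 1 (.leaf
  560675) (.leaf
  560310)))) (.node 4 (.node 2 (.node 1 (.leaf
  2556058) (.leaf
  2778340)) (.node 1 (.leaf
  359777) (.leaf
  2778466))) (.node 2 (.node 1 (.leaf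
  843748) (.leaf
  203991)) (.node 1 (.leaf
  2258003) (.leaf
  99804))))))) (.node 29 (.node 14 (.node 7 (.node 3 (.node 1 (.leaf
  1774289) (.node 1 (.leaf
  1834092) (.leaf
  36756))) (.node 2 (.node 1 (.leaf
  2779081) (.leaf
  1819511)) (.node 1 (.leaf
  981838) (.leaf
  161401)))) (.node 3 (.node 1 (.leaf
  659672) (.node 1 (.leaf
  2202068) (.leaf
  2287904))) (.node 2 (.node 1 (.leaf
  982362) (.leaf
  1576057)) (.node 1 (.leaf
  806638) (.leaf
  2461845))))) (.node 7 (.node 3 (.node 1 (.leaf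
  14606) (.node 1 (.leaf
  2134034) (.leaf
  2783915))) (.node 2 (.node 1 (.leaf
  843681) (.leaf
  391808)) (.node 1 (.leaf
  2892316) (.leaf
  161710)))) (.node 4 (.node 2 (.node 1 (.leaf
  520639) (.leaf
  2295424)) (.node 1 (.leaf
  957195) (.leaf
  1774218))) (.node 2 (.node 1 (.leaf
  1004961) (.leaf
  1950194)) (.node 1 (.leaf
  2168846) (.leaf
  135221)))))) (.node 15 (.node 7 (.node 3 (.node 1 (.leaf
  2201276) (.node 1 (.leaf
  99596) (.leaf
  37023))) (.node 2 (.node 1 (.leaf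
  149942) (.leaf
  941277)) (.node 1 (.leaf
  956394) (.leaf
  941906)))) (.node 4 (.node 2 (.node 1 (.leaf
  484664) (.leaf
  843640)) (.node 1 (.leaf
  2096963) (.leaf
  37294))) (.node 2 (.node 1 (.leaf
  956558) (.leaf
  1964502)) (.node 1 (.leaf
  843330) (.leaf
  1972206))))) (.node 7 (.node 3 (.node 1 (.leaf
  2201822) (.node 1 (.leaf
  1114) (.leaf
  2683049))) (.node 2 (.node 1 (.leaf
  1409006) (.leaf
  150963)) (.node 1 (.leaf
  1465825) (.leaf
  2142944)))) (.node 4 (.node 2 (.node 1 (.leaf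
  484672) (.leaf
  996920)) (.node 1 (.leaf
  996874) (.leaf
  2247098))) (.node 2 (.node 1 (.leaf
  1051034) (.leaf
  2142063)) (.node 1 (.leaf
  2142552) (.leaf
  1480748)))))))) (.node 59 (.node 29 (.node 14 (.node 7 (.node 3 (.node 1 (.leaf
  1103130) (.node 1 (.leaf
  498560) (.leaf
  1730722))) (.node 2 (.node 1 (.leaf
  476723) (.leaf
  2142760)) (.node 1 (.leaf
  2142327) (.leaf
  843130)))) (.node 3 (.node 1 (.leaf
  355) (.node 1 (.leaf
  2449188) (.leaf
  2142764))) (.node 2 (.node 1 (.leaf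
  2878559) (.leaf
  1811294)) (.node 1 (.leaf
  2287086) (.leaf
  37232))))) (.node 7 (.node 3 (.node 1 (.leaf
  911300) (.node 1 (.leaf
  2142398) (.leaf
  968058))) (.node 2 (.node 1 (.leaf
  2272618) (.leaf
  2387164)) (.node 1 (.leaf
  23) (.leaf
  852561)))) (.node 4 (.node 2 (.node 1 (.leaf
  975) (.leaf
  2379676)) (.node 1 (.leaf
  2142211) (.leaf
  2771409))) (.node 2 (.node 1 (.leaf
  194) (.leaf
  37101)) (.node 1 (.leaf
  981601) (.leaf
  1088918)))))) (.node 15 (.node 7 (.node 3 (.node 1 (.leaf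
  2778570) (.node 1 (.leaf
  2786782) (.leaf
  2786783))) (.node 2 (.node 1 (.leaf
  878301) (.leaf
  360186)) (.node 1 (.leaf
  36851) (.leaf
  2716710)))) (.node 4 (.node 2 (.node 1 (.leaf
  2142655) (.leaf
  806537)) (.node 1 (.leaf
  1088651) (.leaf
  981834))) (.node 2 (.node 1 (.leaf
  982315) (.leaf
  29445)) (.node 1 (.leaf
  2096685) (.leaf
  37720))))) (.node 7 (.node 3 (.node 1 (.leaf
  2778409) (.node 1 (.leaf
  2717342) (.leaf
  2876744))) (.node 2 (.node 1 (.leaf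
  360030) (.leaf
  457819)) (.node 1 (.leaf
  36731) (.leaf
  1767850)))) (.node 4 (.node 2 (.node 1 (.leaf
  37048) (.leaf
  2295236)) (.node 1 (.leaf
  2741799) (.leaf
  2169322))) (.node 2 (.node 1 (.leaf
  37606) (.leaf
  37265)) (.node 1 (.leaf
  37622) (.leaf
  2111253))))))) (.node 29 (.node 14 (.node 7 (.node 3 (.node 1 (.leaf
  674207) (.node 1 (.leaf
  2097438) (.leaf
  36698))) (.node 2 (.node 1 (.leaf
  296430) (.leaf
  1972799)) (.node 1 (.leaf
  2786673) (.leaf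
  2717572)))) (.node 3 (.node 1 (.leaf
  1156) (.node 1 (.leaf
  407) (.leaf
  2778418))) (.node 2 (.node 1 (.leaf
  1088673) (.leaf
  1165641)) (.node 1 (.leaf
  161343) (.leaf
  498759))))) (.node 7 (.node 3 (.node 1 (.leaf
  843267) (.node 1 (.leaf
  1811438) (.leaf
  2455766))) (.node 2 (.node 1 (.leaf
  843572) (.leaf
  497725)) (.node 1 (.leaf
  942162) (.leaf
  497720)))) (.node 4 (.node 2 (.node 1 (.leaf
  634791) (.leaf
  2142950)) (.node 1 (.leaf
  336567) (.leaf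
  311794))) (.node 2 (.node 1 (.leaf
  967996) (.leaf
  1374904)) (.node 1 (.leaf
  161357) (.leaf
  2555418)))))) (.node 15 (.node 7 (.node 3 (.node 1 (.leaf
  37435) (.node 1 (.leaf
  956464) (.leaf
  2072660))) (.node 2 (.node 1 (.leaf
  1642564) (.leaf
  2072361)) (.node 1 (.leaf
  1165807) (.leaf
  2364578)))) (.node 4 (.node 2 (.node 1 (.leaf
  360100) (.leaf
  1971913)) (.node 1 (.leaf
  1409445) (.leaf
  337201))) (.node 2 (.node 1 (.leaf
  2169235) (.leaf
  42020)) (.node 1 (.leaf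
  483950) (.leaf
  1102768))))) (.node 7 (.node 3 (.node 1 (.leaf
  2097441) (.node 1 (.leaf
  957234) (.leaf
  2143000))) (.node 2 (.node 1 (.leaf
  278) (.leaf
  967685)) (.node 1 (.leaf
  46214) (.leaf
  1949292)))) (.node 4 (.node 2 (.node 1 (.leaf
  1408869) (.leaf
  1043)) (.node 1 (.leaf
  2716630) (.leaf
  2309210))) (.node 2 (.node 1 (.leaf
  2786124) (.leaf
  836257)) (.node 1 (.leaf
  2561000) (.leaf
  915324)))))))))) (.node 236 (.node 118 (.node 59 (.node 29 (.node 14 (.node 7 (.node 3 (.node 1 (.leaf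
  2196385) (.node 1 (.leaf
  1650029) (.leaf
  2611919))) (.node 2 (.node 1 (.leaf
  917) (.leaf
  1488079)) (.node 1 (.leaf
  2258681) (.leaf
  835480)))) (.node 3 (.node 1 (.leaf
  878374) (.node 1 (.leaf
  2257933) (.leaf
  843017))) (.node 2 (.node 1 (.leaf
  44) (.leaf
  71837)) (.node 1 (.leaf
  997599) (.leaf
  721971))))) (.node 7 (.node 3 (.node 1 (.leaf
  2461390) (.node 1 (.leaf
  2402696) (.leaf
  2232315))) (.node 2 (.node 1 (.leaf
  843161) (.leaf
  1165741)) (.node 1 (.leaf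
  1004413) (.leaf
  2294487)))) (.node 4 (.node 2 (.node 1 (.leaf
  37660) (.leaf
  498897)) (.node 1 (.leaf
  2456619) (.leaf
  151071))) (.node 2 (.node 1 (.leaf
  2142894) (.leaf
  2846611)) (.node 1 (.leaf
  13860) (.leaf
  2779071)))))) (.node 15 (.node 7 (.node 3 (.node 1 (.leaf
  513759) (.node 1 (.leaf
  2247366) (.leaf
  2775323))) (.node 2 (.node 1 (.leaf
  997320) (.leaf
  1004265)) (.node 1 (.leaf
  157568) (.leaf
  481073)))) (.node 4 (.node 2 (.node 1 (.leaf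
  879329) (.leaf
  1488694)) (.node 1 (.leaf
  484680) (.leaf
  190544))) (.node 2 (.node 1 (.leaf
  1336340) (.leaf
  36630)) (.node 1 (.leaf
  150114) (.leaf
  1005155))))) (.node 7 (.node 3 (.node 1 (.leaf
  1971949) (.node 1 (.leaf
  1613630) (.leaf
  1004943))) (.node 2 (.node 1 (.leaf
  843230) (.leaf
  2169269)) (.node 1 (.leaf
  997383) (.leaf
  2097285)))) (.node 4 (.node 2 (.node 1 (.leaf
  2169261) (.leaf
  2560332)) (.node 1 (.leaf
  807121) (.leaf
  843696))) (.node 2 (.node 1 (.leaf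
  843659) (.leaf
  968434)) (.node 1 (.leaf
  2142951) (.leaf
  2456570))))))) (.node 29 (.node 14 (.node 7 (.node 3 (.node 1 (.leaf
  1129071) (.node 1 (.leaf
  878273) (.leaf
  807))) (.node 2 (.node 1 (.leaf
  121424) (.leaf
  1375546)) (.node 1 (.leaf
  2393731) (.leaf
  852565)))) (.node 3 (.node 1 (.leaf
  36594) (.node 1 (.leaf
  2168460) (.leaf
  2168708))) (.node 2 (.node 1 (.leaf
  162105) (.leaf
  271088)) (.node 1 (.leaf
  2142083) (.leaf
  364388))))) (.node 7 (.node 3 (.node 1 (.leaf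
  1125926) (.node 1 (.leaf
  755481) (.leaf
  391381))) (.node 2 (.node 1 (.leaf
  1166195) (.leaf
  162119)) (.node 1 (.leaf
  2778980) (.leaf
  968008)))) (.node 4 (.node 2 (.node 1 (.leaf
  2295240) (.leaf
  473635)) (.node 1 (.leaf
  2168670) (.leaf
  675113))) (.node 2 (.node 1 (.leaf
  1480643) (.leaf
  198250)) (.node 1 (.leaf
  2716759) (.leaf
  982469)))))) (.node 15 (.node 7 (.node 3 (.node 1 (.leaf
  2742186) (.node 1 (.leaf
  2717379) (.leaf
  1005185))) (.node 2 (.node 1 (.leaf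
  76222) (.leaf
  2168662)) (.node 1 (.leaf
  187) (.leaf
  328)))) (.node 4 (.node 2 (.node 1 (.leaf
  1452615) (.leaf
  1811645)) (.node 1 (.leaf
  1965182) (.leaf
  2778975))) (.node 2 (.node 1 (.leaf
  37505) (.leaf
  484756)) (.node 1 (.leaf
  360174) (.leaf
  1977921))))) (.node 7 (.node 3 (.node 1 (.leaf
  769) (.node 1 (.leaf
  645486) (.leaf
  2133877))) (.node 2 (.node 1 (.leaf
  2783770) (.leaf
  1102690)) (.node 1 (.leaf
  1613006) (.leaf
  1362194)))) (.node 4 (.node 2 (.node 1 (.leaf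
  1613235) (.leaf
  150039)) (.node 1 (.leaf
  1335712) (.leaf
  1375068))) (.node 2 (.node 1 (.leaf
  996834) (.leaf
  2133256)) (.node 1 (.leaf
  553072) (.leaf
  740361)))))))) (.node 59 (.node 29 (.node 14 (.node 7 (.node 3 (.node 1 (.leaf
  2191117) (.node 1 (.leaf
  1450562) (.leaf
  93726))) (.node 2 (.node 1 (.leaf
  416221) (.leaf
  2096646)) (.node 1 (.leaf
  2096717) (.leaf
  525560)))) (.node 3 (.node 1 (.leaf
  221) (.node 1 (.leaf
  76835) (.leaf
  2363944))) (.node 2 (.node 1 (.leaf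
  1819497) (.leaf
  942023)) (.node 1 (.leaf
  645257) (.leaf
  2247734))))) (.node 7 (.node 3 (.node 1 (.leaf
  198558) (.node 1 (.leaf
  99982) (.leaf
  2142318))) (.node 2 (.node 1 (.leaf
  105428) (.leaf
  161950)) (.node 1 (.leaf
  150032) (.leaf
  322795)))) (.node 4 (.node 2 (.node 1 (.leaf
  843218) (.leaf
  1774147)) (.node 1 (.leaf
  36754) (.leaf
  981552))) (.node 2 (.node 1 (.leaf
  2876747) (.leaf
  336529)) (.node 1 (.leaf
  835674) (.leaf
  1972143)))))) (.node 15 (.node 7 (.node 3 (.node 1 (.leaf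
  1488827) (.node 1 (.leaf
  14138) (.leaf
  645273))) (.node 2 (.node 1 (.leaf
  1488484) (.leaf
  981743)) (.node 1 (.leaf
  2142800) (.leaf
  337492)))) (.node 4 (.node 2 (.node 1 (.leaf
  2097026) (.leaf
  807151)) (.node 1 (.leaf
  1060) (.leaf
  2848003))) (.node 2 (.node 1 (.leaf
  2096814) (.leaf
  483953)) (.node 1 (.leaf
  2096772) (.leaf
  1488872))))) (.node 7 (.node 3 (.node 1 (.leaf
  37672) (.node 1 (.leaf
  2716697) (.leaf
  484552))) (.node 2 (.node 1 (.leaf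
  2717240) (.leaf
  37718)) (.node 1 (.leaf
  497782) (.leaf
  364)))) (.node 4 (.node 2 (.node 1 (.leaf
  559793) (.leaf
  2168597)) (.node 1 (.leaf
  37323) (.leaf
  843399))) (.node 2 (.node 1 (.leaf
  2556112) (.leaf
  2456420)) (.node 1 (.leaf
  36986) (.leaf
  36798))))))) (.node 29 (.node 14 (.node 7 (.node 3 (.node 1 (.leaf
  2363952) (.node 1 (.leaf
  712) (.leaf
  2455877))) (.node 2 (.node 1 (.leaf
  843364) (.leaf
  682090)) (.node 1 (.leaf
  336833) (.leaf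
  982623)))) (.node 3 (.node 1 (.leaf
  1755964) (.node 1 (.leaf
  198508) (.leaf
  721781))) (.node 2 (.node 1 (.leaf
  2239692) (.leaf
  2461253)) (.node 1 (.leaf
  1264832) (.leaf
  1488184))))) (.node 7 (.node 3 (.node 1 (.leaf
  1819668) (.node 1 (.leaf
  161674) (.leaf
  2456665))) (.node 2 (.node 1 (.leaf
  1810871) (.leaf
  674296)) (.node 1 (.leaf
  336573) (.leaf
  520524)))) (.node 4 (.node 2 (.node 1 (.leaf
  359973) (.leaf
  883053)) (.node 1 (.leaf
  521266) (.leaf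
  2364556))) (.node 2 (.node 1 (.leaf
  843789) (.leaf
  781)) (.node 1 (.leaf
  1613824) (.leaf
  2755713)))))) (.node 15 (.node 7 (.node 3 (.node 1 (.leaf
  1200782) (.node 1 (.leaf
  807012) (.leaf
  1846708))) (.node 2 (.node 1 (.leaf
  36593) (.leaf
  2717216)) (.node 1 (.leaf
  105) (.leaf
  2287034)))) (.node 4 (.node 2 (.node 1 (.leaf
  1118850) (.leaf
  2168462)) (.node 1 (.leaf
  322788) (.leaf
  161427))) (.node 2 (.node 1 (.leaf
  2097737) (.leaf
  1166265)) (.node 1 (.leaf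
  71836) (.leaf
  806438))))) (.node 7 (.node 3 (.node 1 (.leaf
  208) (.node 1 (.leaf
  162061) (.leaf
  967743))) (.node 2 (.node 1 (.leaf
  2169472) (.leaf
  1488389)) (.node 1 (.leaf
  2778549) (.leaf
  560326)))) (.node 4 (.node 2 (.node 1 (.leaf
  1811262) (.leaf
  36974)) (.node 1 (.leaf
  879031) (.leaf
  150089))) (.node 2 (.node 1 (.leaf
  2142117) (.leaf
  2196344)) (.node 1 (.leaf
  2097332) (.leaf
  807462))))))))) (.node 118 (.node 59 (.node 29 (.node 14 (.node 7 (.node 3 (.node 1 (.leaf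
  650) (.node 1 (.leaf
  150607) (.leaf
  655))) (.node 2 (.node 1 (.leaf
  2295231) (.leaf
  14134)) (.node 1 (.leaf
  36668) (.leaf
  2133267)))) (.node 3 (.node 1 (.leaf
  331) (.node 1 (.leaf
  967757) (.leaf
  2168614))) (.node 2 (.node 1 (.leaf
  1613143) (.leaf
  1972745)) (.node 1 (.leaf
  1452227) (.leaf
  1375337))))) (.node 7 (.node 3 (.node 1 (.leaf
  2161040) (.node 1 (.leaf
  2741781) (.leaf
  336461))) (.node 2 (.node 1 (.leaf
  835664) (.leaf
  2784576)) (.node 1 (.leaf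
  2295158) (.leaf
  336614)))) (.node 4 (.node 2 (.node 1 (.leaf
  36970) (.leaf
  2343238)) (.node 1 (.leaf
  150753) (.leaf
  1129670))) (.node 2 (.node 1 (.leaf
  2142142) (.leaf
  2420117)) (.node 1 (.leaf
  795448) (.leaf
  843001)))))) (.node 15 (.node 7 (.node 3 (.node 1 (.leaf
  1117884) (.node 1 (.leaf
  2742746) (.leaf
  2778481))) (.node 2 (.node 1 (.leaf
  806520) (.leaf
  13964)) (.node 1 (.leaf
  852015) (.leaf
  843020)))) (.node 4 (.node 2 (.node 1 (.leaf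
  2784482) (.leaf
  2721909)) (.node 1 (.leaf
  2842262) (.leaf
  2169362))) (.node 2 (.node 1 (.leaf
  2072216) (.leaf
  941275)) (.node 1 (.leaf
  46159) (.leaf
  336423))))) (.node 7 (.node 3 (.node 1 (.leaf
  1109) (.node 1 (.leaf
  982639) (.leaf
  135632))) (.node 2 (.node 1 (.leaf
  1811319) (.leaf
  2258254)) (.node 1 (.leaf
  968553) (.leaf
  29357)))) (.node 4 (.node 2 (.node 1 (.leaf
  498400) (.leaf
  911249)) (.node 1 (.leaf
  997579) (.leaf
  2196354))) (.node 2 (.node 1 (.leaf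
  391379) (.leaf
  1200970)) (.node 1 (.leaf
  2258045) (.leaf
  1612923))))))) (.node 29 (.node 14 (.node 7 (.node 3 (.node 1 (.leaf
  1452497) (.node 1 (.leaf
  1811266) (.leaf
  2452551))) (.node 2 (.node 1 (.leaf
  198587) (.leaf
  151023)) (.node 1 (.leaf
  852425) (.leaf
  900759)))) (.node 3 (.node 1 (.leaf
  2626080) (.node 1 (.leaf
  1481458) (.leaf
  1005052))) (.node 2 (.node 1 (.leaf
  359443) (.leaf
  2779060)) (.node 1 (.leaf
  2847641) (.leaf
  981918))))) (.node 7 (.node 3 (.node 1 (.leaf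
  2096782) (.node 1 (.leaf
  513042) (.leaf
  878278))) (.node 2 (.node 1 (.leaf
  2778957) (.leaf
  1088946)) (.node 1 (.leaf
  2096714) (.leaf
  1025)))) (.node 4 (.node 2 (.node 1 (.leaf
  968584) (.leaf
  2877241)) (.node 1 (.leaf
  359407) (.leaf
  982454))) (.node 2 (.node 1 (.leaf
  457823) (.leaf
  359419)) (.node 1 (.leaf
  906804) (.leaf
  2097543)))))) (.node 15 (.node 7 (.node 3 (.node 1 (.leaf
  134913) (.node 1 (.leaf
  1165730) (.leaf
  2097046))) (.node 2 (.node 1 (.leaf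
  982193) (.leaf
  2387176)) (.node 1 (.leaf
  1613002) (.leaf
  646041)))) (.node 4 (.node 2 (.node 1 (.leaf
  359778) (.leaf
  162533)) (.node 1 (.leaf
  1488060) (.leaf
  36885))) (.node 2 (.node 1 (.leaf
  37028) (.leaf
  2778969)) (.node 1 (.leaf
  1165566) (.leaf
  1362439))))) (.node 7 (.node 3 (.node 1 (.leaf
  1126271) (.node 1 (.leaf
  36673) (.leaf
  2142265))) (.node 2 (.node 1 (.leaf
  2142997) (.leaf
  1810820)) (.node 1 (.leaf
  1810773) (.leaf
  912017)))) (.node 4 (.node 2 (.node 1 (.leaf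
  94360) (.leaf
  911232)) (.node 1 (.leaf
  1755201) (.leaf
  843632))) (.node 2 (.node 1 (.leaf
  2778373) (.leaf
  1375030)) (.node 1 (.leaf
  2364500) (.leaf
  27)))))))) (.node 59 (.node 29 (.node 14 (.node 7 (.node 3 (.node 1 (.leaf
  2393544) (.node 1 (.leaf
  1047243) (.leaf
  521227))) (.node 2 (.node 1 (.leaf
  1375011) (.leaf
  843711)) (.node 1 (.leaf
  915) (.leaf
  2379610)))) (.node 3 (.node 1 (.leaf
  2614253) (.node 1 (.leaf
  911251) (.leaf
  2863362))) (.node 2 (.node 1 (.leaf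
  161529) (.leaf
  1363109)) (.node 1 (.leaf
  997596) (.leaf
  2142481))))) (.node 7 (.node 3 (.node 1 (.leaf
  2142723) (.node 1 (.leaf
  484028) (.leaf
  2142675))) (.node 2 (.node 1 (.leaf
  659166) (.leaf
  2133414)) (.node 1 (.leaf
  1004484) (.leaf
  2258640)))) (.node 4 (.node 2 (.node 1 (.leaf
  1811356) (.leaf
  2860366)) (.node 1 (.leaf
  2741970) (.leaf
  72545))) (.node 2 (.node 1 (.leaf
  2168590) (.leaf
  125)) (.node 1 (.leaf
  2168477) (.leaf
  890)))))) (.node 15 (.node 7 (.node 3 (.node 1 (.leaf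
  37670) (.node 1 (.leaf
  76808) (.leaf
  2770923))) (.node 2 (.node 1 (.leaf
  1774773) (.leaf
  1004439)) (.node 1 (.leaf
  852520) (.leaf
  2611917)))) (.node 4 (.node 2 (.node 1 (.leaf
  1451603) (.leaf
  968528)) (.node 1 (.leaf
  2231884) (.leaf
  2741767))) (.node 2 (.node 1 (.leaf
  72540) (.leaf
  37300)) (.node 1 (.leaf
  968051) (.leaf
  878976))))) (.node 7 (.node 3 (.node 1 (.leaf
  2303453) (.node 1 (.leaf
  1810670) (.leaf
  941580))) (.node 2 (.node 1 (.leaf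
  906700) (.leaf
  484119)) (.node 1 (.leaf
  37409) (.leaf
  360027)))) (.node 4 (.node 2 (.node 1 (.leaf
  2142171) (.leaf
  351770)) (.node 1 (.leaf
  1908989) (.leaf
  99712))) (.node 2 (.node 1 (.leaf
  2232183) (.leaf
  1481411)) (.node 1 (.leaf
  2197177) (.leaf
  2614397))))))) (.node 30 (.node 15 (.node 7 (.node 3 (.node 1 (.leaf
  162018) (.node 1 (.leaf
  1335794) (.leaf
  967692))) (.node 2 (.node 1 (.leaf
  197860) (.leaf
  852069)) (.node 1 (.leaf
  2196629) (.leaf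
  878357)))) (.node 4 (.node 2 (.node 1 (.leaf
  807163) (.leaf
  997039)) (.node 1 (.leaf
  682411) (.leaf
  878242))) (.node 2 (.node 1 (.leaf
  997744) (.leaf
  1166559)) (.node 1 (.leaf
  116) (.leaf
  1097))))) (.node 7 (.node 3 (.node 1 (.leaf
  2876947) (.node 1 (.leaf
  1810914) (.leaf
  135))) (.node 2 (.node 1 (.leaf
  336733) (.leaf
  692)) (.node 1 (.leaf
  807361) (.leaf
  1129341)))) (.node 4 (.node 2 (.node 1 (.leaf
  842993) (.leaf
  2295220)) (.node 1 (.leaf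
  967706) (.leaf
  216))) (.node 2 (.node 1 (.leaf
  37266) (.leaf
  150460)) (.node 1 (.leaf
  72615) (.leaf
  2258945)))))) (.node 15 (.node 7 (.node 3 (.node 1 (.leaf
  2096659) (.node 1 (.leaf
  2168641) (.leaf
  878866))) (.node 2 (.node 1 (.leaf
  498024) (.leaf
  2097212)) (.node 1 (.leaf
  1811360) (.leaf
  36627)))) (.node 4 (.node 2 (.node 1 (.leaf
  37184) (.leaf
  634)) (.node 1 (.leaf
  967824) (.leaf
  150655))) (.node 2 (.node 1 (.leaf
  807050) (.leaf
  2168611)) (.node 1 (.leaf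
  806425) (.leaf
  323515))))) (.node 7 (.node 3 (.node 1 (.leaf
  2168607) (.node 1 (.leaf
  1126113) (.leaf
  37310))) (.node 2 (.node 1 (.leaf
  121779) (.leaf
  337199)) (.node 1 (.leaf
  2169264) (.leaf
  962589)))) (.node 4 (.node 2 (.node 1 (.leaf
  2142600) (.leaf
  2161908)) (.node 1 (.leaf
  390845) (.leaf
  843070))) (.node 2 (.node 1 (.leaf
  1349594) (.leaf
  1964970)) (.node 1 (.leaf
  359619) (.leaf
  135269))))))))))))) (.node 1890 (.node 945 (.node 472 (.node 236 (.node 118 (.node 59 (.node 29 (.node 14 (.node 7 (.node 3 (.node 1 (.leaf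
  1004962) (.node 1 (.leaf
  795406) (.leaf
  457771))) (.node 2 (.node 1 (.leaf
  727) (.leaf
  843597)) (.node 1 (.leaf
  2741996) (.leaf
  851902)))) (.node 3 (.node 1 (.leaf
  956830) (.node 1 (.leaf
  322696) (.leaf
  198512))) (.node 2 (.node 1 (.leaf
  2258683) (.leaf
  2294855)) (.node 1 (.leaf
  483994) (.leaf
  2097567))))) (.node 7 (.node 3 (.node 1 (.leaf
  674932) (.node 1 (.leaf
  941881) (.leaf
  2408128))) (.node 2 (.node 1 (.leaf
  912281) (.leaf
  1649581)) (.node 1 (.leaf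
  1158126) (.leaf
  336577)))) (.node 4 (.node 2 (.node 1 (.leaf
  1126171) (.leaf
  497723)) (.node 1 (.leaf
  1481319) (.leaf
  1374810))) (.node 2 (.node 1 (.leaf
  1102533) (.leaf
  1909833)) (.node 1 (.leaf
  2169242) (.leaf
  852465)))))) (.node 15 (.node 7 (.node 3 (.node 1 (.leaf
  807341) (.node 1 (.leaf
  1811670) (.leaf
  484620))) (.node 2 (.node 1 (.leaf
  907078) (.leaf
  323702)) (.node 1 (.leaf
  217) (.leaf
  1488063)))) (.node 4 (.node 2 (.node 1 (.leaf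
  323251) (.leaf
  360028)) (.node 1 (.leaf
  878867) (.leaf
  806852))) (.node 2 (.node 1 (.leaf
  2626025) (.leaf
  484577)) (.node 1 (.leaf
  2168517) (.leaf
  645908))))) (.node 7 (.node 3 (.node 1 (.leaf
  1971903) (.node 1 (.leaf
  359255) (.leaf
  807340))) (.node 2 (.node 1 (.leaf
  2386474) (.leaf
  29442)) (.node 1 (.leaf
  1488760) (.leaf
  2625987)))) (.node 4 (.node 2 (.node 1 (.leaf
  2626222) (.leaf
  878864)) (.node 1 (.leaf
  2197178) (.leaf
  484530))) (.node 2 (.node 1 (.leaf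
  1489317) (.leaf
  1972572)) (.node 1 (.leaf
  968758) (.leaf
  2294695))))))) (.node 29 (.node 14 (.node 7 (.node 3 (.node 1 (.leaf
  844182) (.node 1 (.leaf
  2258910) (.leaf
  1964475))) (.node 2 (.node 1 (.leaf
  337074) (.leaf
  1004507)) (.node 1 (.leaf
  150458) (.leaf
  29018)))) (.node 3 (.node 1 (.leaf
  1649388) (.node 1 (.leaf
  2876666) (.leaf
  36587))) (.node 2 (.node 1 (.leaf
  2169284) (.leaf
  2169131)) (.node 1 (.leaf
  337204) (.leaf
  93645))))) (.node 7 (.node 3 (.node 1 (.leaf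
  323330) (.node 1 (.leaf
  255) (.leaf
  645197))) (.node 2 (.node 1 (.leaf
  843022) (.leaf
  2393816)) (.node 1 (.leaf
  352312) (.leaf
  836289)))) (.node 4 (.node 2 (.node 1 (.leaf
  1803974) (.leaf
  645819)) (.node 1 (.leaf
  560579) (.leaf
  1336075))) (.node 2 (.node 1 (.leaf
  996851) (.leaf
  391525)) (.node 1 (.leaf
  1200857) (.leaf
  1144)))))) (.node 15 (.node 7 (.node 3 (.node 1 (.leaf
  2142794) (.node 1 (.leaf
  1317833) (.leaf
  198049))) (.node 2 (.node 1 (.leaf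
  36966) (.leaf
  30)) (.node 1 (.leaf
  1810648) (.leaf
  941942)))) (.node 4 (.node 2 (.node 1 (.leaf
  2011820) (.leaf
  852581)) (.node 1 (.leaf
  968019) (.leaf
  36547))) (.node 2 (.node 1 (.leaf
  1488840) (.leaf
  2787209)) (.node 1 (.leaf
  2190915) (.leaf
  552308))))) (.node 7 (.node 3 (.node 1 (.leaf
  2860298) (.node 1 (.leaf
  2433886) (.leaf
  646223))) (.node 2 (.node 1 (.leaf
  1481252) (.leaf
  2735275)) (.node 1 (.leaf
  14673) (.leaf
  150469)))) (.node 4 (.node 2 (.node 1 (.leaf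
  577256) (.leaf
  1488719)) (.node 1 (.leaf
  391572) (.leaf
  1004872))) (.node 2 (.node 1 (.leaf
  1350141) (.leaf
  337051)) (.node 1 (.leaf
  941744) (.leaf
  1481230)))))))) (.node 59 (.node 29 (.node 14 (.node 7 (.node 3 (.node 1 (.leaf
  2133243) (.node 1 (.leaf
  337423) (.leaf
  29165))) (.node 2 (.node 1 (.leaf
  2168483) (.leaf
  76164)) (.node 1 (.leaf
  323250) (.leaf
  1811462)))) (.node 3 (.node 1 (.leaf
  956786) (.node 1 (.leaf
  2142410) (.leaf
  968059))) (.node 2 (.node 1 (.leaf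
  967681) (.leaf
  911922)) (.node 1 (.leaf
  364749) (.leaf
  968053))))) (.node 7 (.node 3 (.node 1 (.leaf
  484575) (.node 1 (.leaf
  2555976) (.leaf
  1570882))) (.node 2 (.node 1 (.leaf
  2097461) (.leaf
  2097299)) (.node 1 (.leaf
  336526) (.leaf
  900710)))) (.node 4 (.node 2 (.node 1 (.leaf
  2258825) (.leaf
  2377270)) (.node 1 (.leaf
  1452319) (.leaf
  836089))) (.node 2 (.node 1 (.leaf
  151134) (.leaf
  36862)) (.node 1 (.leaf
  2741953) (.leaf
  1178)))))) (.node 15 (.node 7 (.node 3 (.node 1 (.leaf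
  2258578) (.node 1 (.leaf
  198472) (.leaf
  2783947))) (.node 2 (.node 1 (.leaf
  134994) (.leaf
  2461297)) (.node 1 (.leaf
  1964478) (.leaf
  755444)))) (.node 4 (.node 2 (.node 1 (.leaf
  72715) (.leaf
  75)) (.node 1 (.leaf
  911833) (.leaf
  2235093))) (.node 2 (.node 1 (.leaf
  359812) (.leaf
  2556203)) (.node 1 (.leaf
  634907) (.leaf
  2771331))))) (.node 7 (.node 3 (.node 1 (.leaf
  2142942) (.node 1 (.leaf
  2258856) (.leaf
  1971973))) (.node 2 (.node 1 (.leaf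
  687829) (.leaf
  806768)) (.node 1 (.leaf
  1481148) (.leaf
  37007)))) (.node 4 (.node 2 (.node 1 (.leaf
  1450883) (.leaf
  843694)) (.node 1 (.leaf
  704) (.leaf
  513058))) (.node 2 (.node 1 (.leaf
  967790) (.leaf
  1004616)) (.node 1 (.leaf
  1396856) (.leaf
  513606))))))) (.node 29 (.node 14 (.node 7 (.node 3 (.node 1 (.leaf
  37430) (.node 1 (.leaf
  2742094) (.leaf
  2287792))) (.node 2 (.node 1 (.leaf
  134902) (.leaf
  137)) (.node 1 (.leaf
  37395) (.leaf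
  1452178)))) (.node 3 (.node 1 (.leaf
  942117) (.node 1 (.leaf
  1978041) (.leaf
  2133250))) (.node 2 (.node 1 (.leaf
  1488142) (.leaf
  2456441)) (.node 1 (.leaf
  1175161) (.leaf
  337157))))) (.node 7 (.node 3 (.node 1 (.leaf
  204111) (.node 1 (.leaf
  1977910) (.leaf
  1118203))) (.node 2 (.node 1 (.leaf
  1451550) (.leaf
  956466)) (.node 1 (.leaf
  1051006) (.leaf
  158508)))) (.node 4 (.node 2 (.node 1 (.leaf
  560589) (.leaf
  784)) (.node 1 (.leaf
  2142236) (.leaf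
  37390))) (.node 2 (.node 1 (.leaf
  1103542) (.leaf
  1194134)) (.node 1 (.leaf
  878877) (.leaf
  560676)))))) (.node 15 (.node 7 (.node 3 (.node 1 (.leaf
  37010) (.node 1 (.leaf
  806668) (.leaf
  1004259))) (.node 2 (.node 1 (.leaf
  150072) (.leaf
  2742603)) (.node 1 (.leaf
  2779087) (.leaf
  981825)))) (.node 4 (.node 2 (.node 1 (.leaf
  359892) (.leaf
  484512)) (.node 1 (.leaf
  1129741) (.leaf
  2111594))) (.node 2 (.node 1 (.leaf
  1080) (.leaf
  652)) (.node 1 (.leaf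
  37549) (.leaf
  1925154))))) (.node 7 (.node 3 (.node 1 (.leaf
  2097324) (.node 1 (.leaf
  1972821) (.leaf
  2343065))) (.node 2 (.node 1 (.leaf
  1375365) (.leaf
  2294650)) (.node 1 (.leaf
  1816727) (.leaf
  322749)))) (.node 4 (.node 2 (.node 1 (.leaf
  2196386) (.leaf
  151188)) (.node 1 (.leaf
  223) (.leaf
  2295276))) (.node 2 (.node 1 (.leaf
  120) (.leaf
  968316)) (.node 1 (.leaf
  967876) (.leaf
  967815))))))))) (.node 118 (.node 59 (.node 29 (.node 14 (.node 7 (.node 3 (.node 1 (.leaf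
  2779229) (.node 1 (.leaf
  843208) (.leaf
  1004940))) (.node 2 (.node 1 (.leaf
  2778673) (.leaf
  323068)) (.node 1 (.leaf
  1972922) (.leaf
  1103319)))) (.node 3 (.node 1 (.leaf
  2778931) (.node 1 (.leaf
  1570657) (.leaf
  843488))) (.node 2 (.node 1 (.leaf
  337184) (.leaf
  2294700)) (.node 1 (.leaf
  2096700) (.leaf
  2168633))))) (.node 7 (.node 3 (.node 1 (.leaf
  2294567) (.node 1 (.leaf
  2169178) (.leaf
  323602))) (.node 2 (.node 1 (.leaf
  2787645) (.leaf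
  955)) (.node 1 (.leaf
  1972731) (.leaf
  1649991)))) (.node 4 (.node 2 (.node 1 (.leaf
  1117651) (.leaf
  300)) (.node 1 (.leaf
  968456) (.leaf
  333))) (.node 2 (.node 1 (.leaf
  336531) (.leaf
  2456664)) (.node 1 (.leaf
  1811083) (.leaf
  2716666)))))) (.node 15 (.node 7 (.node 3 (.node 1 (.leaf
  1396815) (.node 1 (.leaf
  76847) (.leaf
  93743))) (.node 2 (.node 1 (.leaf
  2376683) (.leaf
  359773)) (.node 1 (.leaf
  2103235) (.leaf
  1935756)))) (.node 4 (.node 2 (.node 1 (.leaf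
  105335) (.leaf
  806593)) (.node 1 (.leaf
  237397) (.leaf
  1774145))) (.node 2 (.node 1 (.leaf
  36568) (.leaf
  968333)) (.node 1 (.leaf
  2096675) (.leaf
  634713))))) (.node 7 (.node 3 (.node 1 (.leaf
  2173384) (.node 1 (.leaf
  2205564) (.leaf
  1649850))) (.node 2 (.node 1 (.leaf
  2287574) (.leaf
  1488877)) (.node 1 (.leaf
  498707) (.leaf
  484610)))) (.node 4 (.node 2 (.node 1 (.leaf
  843588) (.leaf
  359850)) (.node 1 (.leaf
  2419852) (.leaf
  72537))) (.node 2 (.node 1 (.leaf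
  37445) (.leaf
  2071547)) (.node 1 (.leaf
  852170) (.leaf
  982069))))))) (.node 29 (.node 14 (.node 7 (.node 3 (.node 1 (.leaf
  788173) (.node 1 (.leaf
  76146) (.leaf
  336835))) (.node 2 (.node 1 (.leaf
  645190) (.leaf
  37335)) (.node 1 (.leaf
  911386) (.leaf
  478)))) (.node 3 (.node 1 (.leaf
  1125222) (.node 1 (.leaf
  2258089) (.leaf
  2716898))) (.node 2 (.node 1 (.leaf
  2071822) (.leaf
  2682969)) (.node 1 (.leaf
  2168601) (.leaf
  968375))))) (.node 7 (.node 3 (.node 1 (.leaf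
  1004930) (.node 1 (.leaf
  656) (.leaf
  2393458))) (.node 2 (.node 1 (.leaf
  359930) (.leaf
  997086)) (.node 1 (.leaf
  484615) (.leaf
  870847)))) (.node 4 (.node 2 (.node 1 (.leaf
  1165928) (.leaf
  161985)) (.node 1 (.leaf
  783) (.leaf
  2877660))) (.node 2 (.node 1 (.leaf
  37192) (.leaf
  198215)) (.node 1 (.leaf
  2142013) (.leaf
  197891)))))) (.node 15 (.node 7 (.node 3 (.node 1 (.leaf
  852661) (.node 1 (.leaf
  483916) (.leaf
  431376))) (.node 2 (.node 1 (.leaf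
  121781) (.leaf
  2860939)) (.node 1 (.leaf
  806426) (.leaf
  982409)))) (.node 4 (.node 2 (.node 1 (.leaf
  46025) (.leaf
  911783)) (.node 1 (.leaf
  312218) (.leaf
  619711))) (.node 2 (.node 1 (.leaf
  161432) (.leaf
  2097346)) (.node 1 (.leaf
  2287050) (.leaf
  2142144))))) (.node 7 (.node 3 (.node 1 (.leaf
  2555425) (.node 1 (.leaf
  2202028) (.leaf
  1775129))) (.node 2 (.node 1 (.leaf
  1103141) (.leaf
  2142289)) (.node 1 (.leaf
  2142805) (.leaf
  645270)))) (.node 4 (.node 2 (.node 1 (.leaf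
  1060042) (.leaf
  2168764)) (.node 1 (.leaf
  2779031) (.leaf
  1810695))) (.node 2 (.node 1 (.leaf
  198596) (.leaf
  2413026)) (.node 1 (.leaf
  1936410) (.leaf
  2142256)))))))) (.node 59 (.node 29 (.node 14 (.node 7 (.node 3 (.node 1 (.leaf
  145) (.node 1 (.leaf
  2861110) (.leaf
  788))) (.node 2 (.node 1 (.leaf
  2142798) (.leaf
  843634)) (.node 1 (.leaf
  37733) (.leaf
  1165526)))) (.node 3 (.node 1 (.leaf
  2196398) (.node 1 (.leaf
  336516) (.leaf
  2202024))) (.node 2 (.node 1 (.leaf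
  1229578) (.leaf
  2133273)) (.node 1 (.leaf
  197833) (.leaf
  633949))))) (.node 7 (.node 3 (.node 1 (.leaf
  1642694) (.node 1 (.leaf
  1810690) (.leaf
  981609))) (.node 2 (.node 1 (.leaf
  135896) (.leaf
  428)) (.node 1 (.leaf
  1044) (.leaf
  843084)))) (.node 4 (.node 2 (.node 1 (.leaf
  9) (.leaf
  512989)) (.node 1 (.leaf
  13869) (.leaf
  37318))) (.node 2 (.node 1 (.leaf
  852515) (.leaf
  996994)) (.node 1 (.leaf
  2626293) (.leaf
  968408)))))) (.node 15 (.node 7 (.node 3 (.node 1 (.leaf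
  2097488) (.node 1 (.leaf
  150104) (.leaf
  1083))) (.node 2 (.node 1 (.leaf
  2778453) (.leaf
  72721)) (.node 1 (.leaf
  1481246) (.leaf
  836117)))) (.node 4 (.node 2 (.node 1 (.leaf
  1972140) (.leaf
  2142761)) (.node 1 (.leaf
  1613011) (.leaf
  1409099))) (.node 2 (.node 1 (.leaf
  843651) (.leaf
  360252)) (.node 1 (.leaf
  2778593) (.leaf
  1613243))))) (.node 7 (.node 3 (.node 1 (.leaf
  2778313) (.node 1 (.leaf
  391385) (.leaf
  322890))) (.node 2 (.node 1 (.leaf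
  2169557) (.leaf
  1613774)) (.node 1 (.leaf
  807396) (.leaf
  100295)))) (.node 4 (.node 2 (.node 1 (.leaf
  151020) (.leaf
  105480)) (.node 1 (.leaf
  37533) (.leaf
  76635))) (.node 2 (.node 1 (.leaf
  336490) (.leaf
  1335705)) (.node 1 (.leaf
  1558034) (.leaf
  560368))))))) (.node 29 (.node 14 (.node 7 (.node 3 (.node 1 (.leaf
  1557773) (.node 1 (.leaf
  237490) (.leaf
  1774139))) (.node 2 (.node 1 (.leaf
  36553) (.leaf
  837899)) (.node 1 (.leaf
  2771617) (.leaf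
  2201311)))) (.node 3 (.node 1 (.leaf
  2771470) (.node 1 (.leaf
  1103245) (.leaf
  842960))) (.node 2 (.node 1 (.leaf
  351846) (.leaf
  968455)) (.node 1 (.leaf
  359890) (.leaf
  484798))))) (.node 7 (.node 3 (.node 1 (.leaf
  848483) (.node 1 (.leaf
  2096696) (.leaf
  2190950))) (.node 2 (.node 1 (.leaf
  1810724) (.leaf
  605193)) (.node 1 (.leaf
  1118233) (.leaf
  165)))) (.node 4 (.node 2 (.node 1 (.leaf
  45579) (.leaf
  37003)) (.node 1 (.leaf
  2779036) (.leaf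
  2455859))) (.node 2 (.node 1 (.leaf
  1641885) (.leaf
  2168920)) (.node 1 (.leaf
  1396190) (.leaf
  45447)))))) (.node 15 (.node 7 (.node 3 (.node 1 (.leaf
  36671) (.node 1 (.leaf
  162129) (.leaf
  2191030))) (.node 2 (.node 1 (.leaf
  900130) (.leaf
  2097611)) (.node 1 (.leaf
  360111) (.leaf
  151067)))) (.node 4 (.node 2 (.node 1 (.leaf
  2231590) (.leaf
  878920)) (.node 1 (.leaf
  349) (.leaf
  99666))) (.node 2 (.node 1 (.leaf
  2247336) (.leaf
  150026)) (.node 1 (.leaf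
  941494) (.leaf
  2065302))))) (.node 7 (.node 3 (.node 1 (.leaf
  1768477) (.node 1 (.leaf
  135417) (.leaf
  529))) (.node 2 (.node 1 (.leaf
  2247013) (.leaf
  941308)) (.node 1 (.leaf
  906064) (.leaf
  1557603)))) (.node 4 (.node 2 (.node 1 (.leaf
  911735) (.leaf
  360275)) (.node 1 (.leaf
  807387) (.leaf
  93998))) (.node 2 (.node 1 (.leaf
  2722366) (.leaf
  2161277)) (.node 1 (.leaf
  2287652) (.leaf
  2683109)))))))))) (.node 236 (.node 118 (.node 59 (.node 29 (.node 14 (.node 7 (.node 3 (.node 1 (.leaf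
  352590) (.node 1 (.leaf
  359571) (.leaf
  337290))) (.node 2 (.node 1 (.leaf
  2201345) (.leaf
  1950107)) (.node 1 (.leaf
  359356) (.leaf
  807391)))) (.node 3 (.node 1 (.leaf
  1466299) (.node 1 (.leaf
  1649437) (.leaf
  484713))) (.node 2 (.node 1 (.leaf
  45377) (.leaf
  806666)) (.node 1 (.leaf
  804) (.leaf
  815))))) (.node 7 (.node 3 (.node 1 (.leaf
  1076448) (.node 1 (.leaf
  843071) (.leaf
  37214))) (.node 2 (.node 1 (.leaf
  2626589) (.leaf
  197887)) (.node 1 (.leaf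
  150738) (.leaf
  721862)))) (.node 4 (.node 2 (.node 1 (.leaf
  1846207) (.leaf
  157685)) (.node 1 (.leaf
  1320867) (.leaf
  2625907))) (.node 2 (.node 1 (.leaf
  843500) (.leaf
  2833191)) (.node 1 (.leaf
  2071906) (.leaf
  1117981)))))) (.node 15 (.node 7 (.node 3 (.node 1 (.leaf
  1649735) (.node 1 (.leaf
  364525) (.leaf
  46389))) (.node 2 (.node 1 (.leaf
  1102808) (.leaf
  1774907)) (.node 1 (.leaf
  72092) (.leaf
  36801)))) (.node 4 (.node 2 (.node 1 (.leaf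
  2097166) (.leaf
  337546)) (.node 1 (.leaf
  967730) (.leaf
  1612921))) (.node 2 (.node 1 (.leaf
  806797) (.leaf
  1129743)) (.node 1 (.leaf
  1201642) (.leaf
  843297))))) (.node 7 (.node 3 (.node 1 (.leaf
  967817) (.node 1 (.leaf
  2716973) (.leaf
  15029))) (.node 2 (.node 1 (.leaf
  94435) (.leaf
  1451641)) (.node 1 (.leaf
  161330) (.leaf
  150872)))) (.node 4 (.node 2 (.node 1 (.leaf
  1166212) (.leaf
  981830)) (.node 1 (.leaf
  37252) (.leaf
  1175138))) (.node 2 (.node 1 (.leaf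
  484613) (.leaf
  1396435)) (.node 1 (.leaf
  2134030) (.leaf
  2295520))))))) (.node 29 (.node 14 (.node 7 (.node 3 (.node 1 (.leaf
  2096690) (.node 1 (.leaf
  806513) (.leaf
  795264))) (.node 2 (.node 1 (.leaf
  941449) (.leaf
  1570162)) (.node 1 (.leaf
  2258073) (.leaf
  322850)))) (.node 3 (.node 1 (.leaf
  2096794) (.node 1 (.leaf
  37648) (.leaf
  37442))) (.node 2 (.node 1 (.leaf
  891) (.leaf
  150324)) (.node 1 (.leaf
  2770943) (.leaf
  198642))))) (.node 7 (.node 3 (.node 1 (.leaf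
  149985) (.node 1 (.leaf
  457774) (.leaf
  2169626))) (.node 2 (.node 1 (.leaf
  843930) (.leaf
  968003)) (.node 1 (.leaf
  37519) (.leaf
  1820224)))) (.node 4 (.node 2 (.node 1 (.leaf
  807183) (.leaf
  2247046)) (.node 1 (.leaf
  481084) (.leaf
  645361))) (.node 2 (.node 1 (.leaf
  957175) (.leaf
  2133246)) (.node 1 (.leaf
  36857) (.leaf
  1570036)))))) (.node 15 (.node 7 (.node 3 (.node 1 (.leaf
  14471) (.node 1 (.leaf
  2196485) (.leaf
  2771558))) (.node 2 (.node 1 (.leaf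
  198516) (.leaf
  37358)) (.node 1 (.leaf
  1396295) (.leaf
  2556047)))) (.node 4 (.node 2 (.node 1 (.leaf
  36755) (.leaf
  2168680)) (.node 1 (.leaf
  323448) (.leaf
  645437))) (.node 2 (.node 1 (.leaf
  359302) (.leaf
  2258033)) (.node 1 (.leaf
  36781) (.leaf
  843802))))) (.node 7 (.node 3 (.node 1 (.leaf
  843016) (.node 1 (.leaf
  967895) (.leaf
  844012))) (.node 2 (.node 1 (.leaf
  968551) (.leaf
  2133537)) (.node 1 (.leaf
  1317753) (.leaf
  2832539)))) (.node 4 (.node 2 (.node 1 (.leaf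
  900048) (.leaf
  337342)) (.node 1 (.leaf
  1613470) (.leaf
  36837))) (.node 2 (.node 1 (.leaf
  2201981) (.leaf
  651)) (.node 1 (.leaf
  2833331) (.leaf
  986)))))))) (.node 59 (.node 29 (.node 14 (.node 7 (.node 3 (.node 1 (.leaf
  498390) (.node 1 (.leaf
  2287567) (.leaf
  842))) (.node 2 (.node 1 (.leaf
  1200992) (.leaf
  161382)) (.node 1 (.leaf
  1103417) (.leaf
  836028)))) (.node 3 (.node 1 (.leaf
  1451776) (.node 1 (.leaf
  2168533) (.leaf
  391615))) (.node 2 (.node 1 (.leaf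
  982417) (.leaf
  2348833)) (.node 1 (.leaf
  1972023) (.leaf
  942211))))) (.node 7 (.node 3 (.node 1 (.leaf
  1613044) (.node 1 (.leaf
  2779178) (.leaf
  2156238))) (.node 2 (.node 1 (.leaf
  36721) (.leaf
  1613684)) (.node 1 (.leaf
  1103054) (.leaf
  559871)))) (.node 4 (.node 2 (.node 1 (.leaf
  1811451) (.leaf
  682340)) (.node 1 (.leaf
  2096783) (.leaf
  2287092))) (.node 2 (.node 1 (.leaf
  322703) (.leaf
  37056)) (.node 1 (.leaf
  149991) (.leaf
  2742580)))))) (.node 15 (.node 7 (.node 3 (.node 1 (.leaf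
  1103656) (.node 1 (.leaf
  956614) (.leaf
  198509))) (.node 2 (.node 1 (.leaf
  2201783) (.leaf
  337178)) (.node 1 (.leaf
  1452409) (.leaf
  36775)))) (.node 4 (.node 2 (.node 1 (.leaf
  2342533) (.leaf
  398486)) (.node 1 (.leaf
  2716683) (.leaf
  2625945))) (.node 2 (.node 1 (.leaf
  807431) (.leaf
  1129348)) (.node 1 (.leaf
  337124) (.leaf
  2710500))))) (.node 7 (.node 3 (.node 1 (.leaf
  2202299) (.node 1 (.leaf
  2742112) (.leaf
  889))) (.node 2 (.node 1 (.leaf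
  2756695) (.leaf
  2742844)) (.node 1 (.leaf
  967881) (.leaf
  100340)))) (.node 4 (.node 2 (.node 1 (.leaf
  638) (.leaf
  513072)) (.node 1 (.leaf
  1451679) (.leaf
  1009))) (.node 2 (.node 1 (.leaf
  1336820) (.leaf
  2414114)) (.node 1 (.leaf
  198220) (.leaf
  497743))))))) (.node 29 (.node 14 (.node 7 (.node 3 (.node 1 (.leaf
  2096766) (.node 1 (.leaf
  2716854) (.leaf
  352403))) (.node 2 (.node 1 (.leaf
  497998) (.leaf
  1649366)) (.node 1 (.leaf
  2379693) (.leaf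
  336616)))) (.node 3 (.node 1 (.leaf
  105088) (.node 1 (.leaf
  634923) (.leaf
  336566))) (.node 2 (.node 1 (.leaf
  135086) (.leaf
  1374860)) (.node 1 (.leaf
  135999) (.leaf
  2717420))))) (.node 7 (.node 3 (.node 1 (.leaf
  72087) (.node 1 (.leaf
  161391) (.leaf
  337166))) (.node 2 (.node 1 (.leaf
  336426) (.leaf
  843722)) (.node 1 (.leaf
  2652992) (.leaf
  320)))) (.node 4 (.node 2 (.node 1 (.leaf
  173) (.leaf
  1755948)) (.node 1 (.leaf
  1811446) (.leaf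
  1570020))) (.node 2 (.node 1 (.leaf
  843007) (.leaf
  2877897)) (.node 1 (.leaf
  1488929) (.leaf
  480985)))))) (.node 15 (.node 7 (.node 3 (.node 1 (.leaf
  1408698) (.node 1 (.leaf
  1166268) (.leaf
  2779259))) (.node 2 (.node 1 (.leaf
  1117740) (.leaf
  1200850)) (.node 1 (.leaf
  1125276) (.leaf
  1059766)))) (.node 4 (.node 2 (.node 1 (.leaf
  806609) (.leaf
  1774228)) (.node 1 (.leaf
  1936228) (.leaf
  911074))) (.node 2 (.node 1 (.leaf
  1465540) (.leaf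
  1558151)) (.node 1 (.leaf
  2555980) (.leaf
  2848425))))) (.node 7 (.node 3 (.node 1 (.leaf
  2072437) (.node 1 (.leaf
  2456413) (.leaf
  2779002))) (.node 2 (.node 1 (.leaf
  2134137) (.leaf
  150911)) (.node 1 (.leaf
  2456643) (.leaf
  1004429)))) (.node 4 (.node 2 (.node 1 (.leaf
  2142746) (.leaf
  359933)) (.node 1 (.leaf
  37284) (.leaf
  1073064))) (.node 2 (.node 1 (.leaf
  1126169) (.leaf
  2247107)) (.node 1 (.leaf
  2142748) (.leaf
  906114))))))))) (.node 118 (.node 59 (.node 29 (.node 14 (.node 7 (.node 3 (.node 1 (.leaf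
  1102621) (.node 1 (.leaf
  36586) (.leaf
  957091))) (.node 2 (.node 1 (.leaf
  521248) (.leaf
  1451729)) (.node 1 (.leaf
  352330) (.leaf
  702)))) (.node 3 (.node 1 (.leaf
  150304) (.node 1 (.leaf
  1408814) (.leaf
  135034))) (.node 2 (.node 1 (.leaf
  94238) (.leaf
  1117742)) (.node 1 (.leaf
  2640473) (.leaf
  135614))))) (.node 7 (.node 3 (.node 1 (.leaf
  1878924) (.node 1 (.leaf
  13861) (.leaf
  906930))) (.node 2 (.node 1 (.leaf
  142) (.leaf
  1004306)) (.node 1 (.leaf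
  669) (.leaf
  1375258)))) (.node 4 (.node 2 (.node 1 (.leaf
  852024) (.leaf
  498354)) (.node 1 (.leaf
  37204) (.leaf
  336659))) (.node 2 (.node 1 (.leaf
  1004317) (.leaf
  555831)) (.node 1 (.leaf
  879019) (.leaf
  2168518)))))) (.node 15 (.node 7 (.node 3 (.node 1 (.leaf
  2342834) (.node 1 (.leaf
  2376406) (.leaf
  1488522))) (.node 2 (.node 1 (.leaf
  806811) (.leaf
  36649)) (.node 1 (.leaf
  2626493) (.leaf
  981558)))) (.node 4 (.node 2 (.node 1 (.leaf
  1972795) (.leaf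
  2779209)) (.node 1 (.leaf
  1175070) (.leaf
  37270))) (.node 2 (.node 1 (.leaf
  498330) (.leaf
  1972398)) (.node 1 (.leaf
  2741773) (.leaf
  513533))))) (.node 7 (.node 3 (.node 1 (.leaf
  364611) (.node 1 (.leaf
  843641) (.leaf
  2142213))) (.node 2 (.node 1 (.leaf
  1649369) (.leaf
  2770922)) (.node 1 (.leaf
  681891) (.leaf
  2711188)))) (.node 4 (.node 2 (.node 1 (.leaf
  150930) (.leaf
  14671)) (.node 1 (.leaf
  498839) (.leaf
  878988))) (.node 2 (.node 1 (.leaf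
  2784397) (.leaf
  2169211)) (.node 1 (.leaf
  2258188) (.leaf
  2037886))))))) (.node 29 (.node 14 (.node 7 (.node 3 (.node 1 (.leaf
  2133662) (.node 1 (.leaf
  2247559) (.leaf
  359842))) (.node 2 (.node 1 (.leaf
  645470) (.leaf
  2756410)) (.node 1 (.leaf
  100625) (.leaf
  161675)))) (.node 3 (.node 1 (.leaf
  2202074) (.node 1 (.leaf
  376250) (.leaf
  2820432))) (.node 2 (.node 1 (.leaf
  317) (.leaf
  2645094)) (.node 1 (.leaf
  1005060) (.leaf
  968206))))) (.node 7 (.node 3 (.node 1 (.leaf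
  150601) (.node 1 (.leaf
  2142905) (.leaf
  1613686))) (.node 2 (.node 1 (.leaf
  2779043) (.leaf
  807344)) (.node 1 (.leaf
  1480798) (.leaf
  2741823)))) (.node 4 (.node 2 (.node 1 (.leaf
  1452301) (.leaf
  843804)) (.node 1 (.leaf
  365212) (.leaf
  2197350))) (.node 2 (.node 1 (.leaf
  390940) (.leaf
  2778543)) (.node 1 (.leaf
  1409102) (.leaf
  806623)))))) (.node 15 (.node 7 (.node 3 (.node 1 (.leaf
  2169232) (.node 1 (.leaf
  911348) (.leaf
  2778328))) (.node 2 (.node 1 (.leaf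
  322886) (.leaf
  104710)) (.node 1 (.leaf
  982449) (.leaf
  956833)))) (.node 4 (.node 2 (.node 1 (.leaf
  1118609) (.leaf
  2065831)) (.node 1 (.leaf
  484243) (.leaf
  1750853))) (.node 2 (.node 1 (.leaf
  1374898) (.leaf
  1950238)) (.node 1 (.leaf
  1774851) (.leaf
  36542))))) (.node 7 (.node 3 (.node 1 (.leaf
  2142712) (.node 1 (.leaf
  1650304) (.leaf
  2847142))) (.node 2 (.node 1 (.leaf
  659988) (.leaf
  364584)) (.node 1 (.leaf
  36771) (.leaf
  2201445)))) (.node 4 (.node 2 (.node 1 (.leaf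
  2134121) (.leaf
  2779054)) (.node 1 (.leaf
  968446) (.leaf
  72177))) (.node 2 (.node 1 (.leaf
  483986) (.leaf
  1642606)) (.node 1 (.leaf
  161981) (.leaf
  1174422)))))))) (.node 59 (.node 29 (.node 14 (.node 7 (.node 3 (.node 1 (.leaf
  835971) (.node 1 (.leaf
  94291) (.leaf
  1481203))) (.node 2 (.node 1 (.leaf
  2072362) (.leaf
  1375302)) (.node 1 (.leaf
  2239115) (.leaf
  37476)))) (.node 3 (.node 1 (.leaf
  322561) (.node 1 (.leaf
  957282) (.leaf
  2127228))) (.node 2 (.node 1 (.leaf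
  2142757) (.leaf
  2717297)) (.node 1 (.leaf
  267) (.leaf
  473053))))) (.node 7 (.node 3 (.node 1 (.leaf
  351561) (.node 1 (.leaf
  337164) (.leaf
  1480646))) (.node 2 (.node 1 (.leaf
  1488358) (.leaf
  967841)) (.node 1 (.leaf
  2625865) (.leaf
  513531)))) (.node 4 (.node 2 (.node 1 (.leaf
  1103144) (.leaf
  2779171)) (.node 1 (.leaf
  2133205) (.leaf
  2556204))) (.node 2 (.node 1 (.leaf
  2379068) (.leaf
  36663)) (.node 1 (.leaf
  1004408) (.leaf
  1005213)))))) (.node 15 (.node 7 (.node 3 (.node 1 (.leaf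
  2343053) (.node 1 (.leaf
  36565) (.leaf
  13959))) (.node 2 (.node 1 (.leaf
  842965) (.leaf
  836160)) (.node 1 (.leaf
  1774506) (.leaf
  807174)))) (.node 4 (.node 2 (.node 1 (.leaf
  968209) (.leaf
  1613549)) (.node 1 (.leaf
  837877) (.leaf
  1575605))) (.node 2 (.node 1 (.leaf
  2142234) (.leaf
  2455774)) (.node 1 (.leaf
  1117656) (.leaf
  1978180))))) (.node 7 (.node 3 (.node 1 (.leaf
  135049) (.node 1 (.leaf
  852613) (.leaf
  852006))) (.node 2 (.node 1 (.leaf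
  158413) (.leaf
  843251)) (.node 1 (.leaf
  1811616) (.leaf
  398393)))) (.node 4 (.node 2 (.node 1 (.leaf
  76851) (.leaf
  2097516)) (.node 1 (.leaf
  484082) (.leaf
  337346))) (.node 2 (.node 1 (.leaf
  364387) (.leaf
  397)) (.node 1 (.leaf
  37393) (.leaf
  2103257))))))) (.node 30 (.node 15 (.node 7 (.node 3 (.node 1 (.leaf
  151040) (.node 1 (.leaf
  1125389) (.leaf
  721293))) (.node 2 (.node 1 (.leaf
  37493) (.leaf
  1104)) (.node 1 (.leaf
  198670) (.leaf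
  72084)))) (.node 4 (.node 2 (.node 1 (.leaf
  72538) (.leaf
  314)) (.node 1 (.leaf
  2420061) (.leaf
  359532))) (.node 2 (.node 1 (.leaf
  2716622) (.leaf
  2201439)) (.node 1 (.leaf
  2717257) (.leaf
  2196865))))) (.node 7 (.node 3 (.node 1 (.leaf
  14772) (.node 1 (.leaf
  884) (.leaf
  37278))) (.node 2 (.node 1 (.leaf
  198149) (.leaf
  337190)) (.node 1 (.leaf
  36936) (.leaf
  484482)))) (.node 4 (.node 2 (.node 1 (.leaf
  1004269) (.leaf
  2201621)) (.node 1 (.leaf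
  1978036) (.leaf
  360304))) (.node 2 (.node 1 (.leaf
  150160) (.leaf
  483883)) (.node 1 (.leaf
  2097537) (.leaf
  150243)))))) (.node 15 (.node 7 (.node 3 (.node 1 (.leaf
  2133234) (.node 1 (.leaf
  2741885) (.leaf
  437))) (.node 2 (.node 1 (.leaf
  1811276) (.leaf
  2308677)) (.node 1 (.leaf
  2294746) (.leaf
  161980)))) (.node 4 (.node 2 (.node 1 (.leaf
  819) (.leaf
  1654798)) (.node 1 (.leaf
  2573694) (.leaf
  41977))) (.node 2 (.node 1 (.leaf
  843078) (.leaf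
  1755872)) (.node 1 (.leaf
  852403) (.leaf
  1488123))))) (.node 7 (.node 3 (.node 1 (.leaf
  835658) (.node 1 (.leaf
  1396155) (.leaf
  957144))) (.node 2 (.node 1 (.leaf
  996915) (.leaf
  2376547)) (.node 1 (.leaf
  2097397) (.leaf
  337195)))) (.node 4 (.node 2 (.node 1 (.leaf
  46116) (.leaf
  497943)) (.node 1 (.leaf
  2201666) (.leaf
  2461402))) (.node 2 (.node 1 (.leaf
  1043839) (.leaf
  645133)) (.node 1 (.leaf
  982001) (.leaf
  560108))))))))))) (.node 472 (.node 236 (.node 118 (.node 59 (.node 29 (.node 14 (.node 7 (.node 3 (.node 1 (.leaf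
  2716679) (.node 1 (.leaf
  1143104) (.leaf
  1649358))) (.node 2 (.node 1 (.leaf
  2169398) (.leaf
  660030)) (.node 1 (.leaf
  36611) (.leaf
  198603)))) (.node 3 (.node 1 (.leaf
  645999) (.node 1 (.leaf
  968330) (.leaf
  2771023))) (.node 2 (.node 1 (.leaf
  707) (.leaf
  336757)) (.node 1 (.leaf
  359844) (.leaf
  1158757))))) (.node 7 (.node 3 (.node 1 (.leaf
  2258174) (.node 1 (.leaf
  484673) (.leaf
  2097230))) (.node 2 (.node 1 (.leaf
  843998) (.leaf
  2168747)) (.node 1 (.leaf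
  2716660) (.leaf
  2778403)))) (.node 4 (.node 2 (.node 1 (.leaf
  1118) (.leaf
  197924)) (.node 1 (.leaf
  968009) (.leaf
  1005008))) (.node 2 (.node 1 (.leaf
  1642878) (.leaf
  1174424)) (.node 1 (.leaf
  1201545) (.leaf
  1354884)))))) (.node 15 (.node 7 (.node 3 (.node 1 (.leaf
  2377172) (.node 1 (.leaf
  2778383) (.leaf
  135931))) (.node 2 (.node 1 (.leaf
  1950344) (.leaf
  2770791)) (.node 1 (.leaf
  2168464) (.leaf
  391662)))) (.node 4 (.node 2 (.node 1 (.leaf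
  1810815) (.leaf
  322579)) (.node 1 (.leaf
  806670) (.leaf
  1158284))) (.node 2 (.node 1 (.leaf
  2756352) (.leaf
  1004983)) (.node 1 (.leaf
  2755834) (.leaf
  473696))))) (.node 7 (.node 3 (.node 1 (.leaf
  957092) (.node 1 (.leaf
  336439) (.leaf
  150119))) (.node 2 (.node 1 (.leaf
  1004970) (.leaf
  646193)) (.node 1 (.leaf
  311) (.leaf
  108797)))) (.node 4 (.node 2 (.node 1 (.leaf
  36717) (.leaf
  967877)) (.node 1 (.leaf
  484148) (.leaf
  1722296))) (.node 2 (.node 1 (.leaf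
  1557466) (.leaf
  2160999)) (.node 1 (.leaf
  2142946) (.leaf
  1481140))))))) (.node 29 (.node 14 (.node 7 (.node 3 (.node 1 (.leaf
  2131468) (.node 1 (.leaf
  2832706) (.leaf
  2071545))) (.node 2 (.node 1 (.leaf
  198210) (.leaf
  2716897)) (.node 1 (.leaf
  1950149) (.leaf
  1774813)))) (.node 3 (.node 1 (.leaf
  812) (.node 1 (.leaf
  134830) (.leaf
  645317))) (.node 2 (.node 1 (.leaf
  997578) (.leaf
  2257991)) (.node 1 (.leaf
  1452453) (.leaf
  635))))) (.node 7 (.node 3 (.node 1 (.leaf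
  740549) (.node 1 (.leaf
  674489) (.leaf
  390989))) (.node 2 (.node 1 (.leaf
  645937) (.leaf
  36960)) (.node 1 (.leaf
  843735) (.leaf
  2247482)))) (.node 4 (.node 2 (.node 1 (.leaf
  36794) (.leaf
  852072)) (.node 1 (.leaf
  198795) (.leaf
  968618))) (.node 2 (.node 1 (.leaf
  981678) (.leaf
  843164)) (.node 1 (.leaf
  2231772) (.leaf
  807124)))))) (.node 15 (.node 7 (.node 3 (.node 1 (.leaf
  2133305) (.node 1 (.leaf
  2142274) (.leaf
  2294607))) (.node 2 (.node 1 (.leaf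
  2169104) (.leaf
  2779022)) (.node 1 (.leaf
  2142221) (.leaf
  2097443)))) (.node 4 (.node 2 (.node 1 (.leaf
  1128986) (.leaf
  1166469)) (.node 1 (.leaf
  2168608) (.leaf
  560360))) (.node 2 (.node 1 (.leaf
  851794) (.leaf
  843158)) (.node 1 (.leaf
  2142051) (.leaf
  559779))))) (.node 7 (.node 3 (.node 1 (.leaf
  1102880) (.node 1 (.leaf
  1374871) (.leaf
  2197258))) (.node 2 (.node 1 (.leaf
  2168471) (.leaf
  2258186)) (.node 1 (.leaf
  552611) (.leaf
  1166189)))) (.node 4 (.node 2 (.node 1 (.leaf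
  484253) (.leaf
  2258272)) (.node 1 (.leaf
  721957) (.leaf
  1972640))) (.node 2 (.node 1 (.leaf
  198957) (.leaf
  2169138)) (.node 1 (.leaf
  1612845) (.leaf
  1811876)))))))) (.node 59 (.node 29 (.node 14 (.node 7 (.node 3 (.node 1 (.leaf
  76206) (.node 1 (.leaf
  806480) (.leaf
  1118336))) (.node 2 (.node 1 (.leaf
  1118700) (.leaf
  1811401)) (.node 1 (.leaf
  806476) (.leaf
  2169537)))) (.node 3 (.node 1 (.leaf
  576491) (.node 1 (.leaf
  1129890) (.leaf
  2778667))) (.node 2 (.node 1 (.leaf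
  843633) (.leaf
  2258091)) (.node 1 (.leaf
  1375400) (.leaf
  1451568))))) (.node 7 (.node 3 (.node 1 (.leaf
  843006) (.node 1 (.leaf
  2272623) (.leaf
  1810768))) (.node 2 (.node 1 (.leaf
  2779005) (.leaf
  2555323)) (.node 1 (.leaf
  2716705) (.leaf
  1397208)))) (.node 4 (.node 2 (.node 1 (.leaf
  370) (.leaf
  2770784)) (.node 1 (.leaf
  2287228) (.leaf
  498743))) (.node 2 (.node 1 (.leaf
  1374780) (.leaf
  42687)) (.node 1 (.leaf
  497978) (.leaf
  1949330)))))) (.node 15 (.node 7 (.node 3 (.node 1 (.leaf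
  237502) (.node 1 (.leaf
  286) (.leaf
  1129603))) (.node 2 (.node 1 (.leaf
  659264) (.leaf
  93416)) (.node 1 (.leaf
  2779383) (.leaf
  498374)))) (.node 4 (.node 2 (.node 1 (.leaf
  2096771) (.leaf
  2169177)) (.node 1 (.leaf
  956375) (.leaf
  645798))) (.node 2 (.node 1 (.leaf
  484545) (.leaf
  75948)) (.node 1 (.leaf
  41998) (.leaf
  2096653))))) (.node 7 (.node 3 (.node 1 (.leaf
  882622) (.node 1 (.leaf
  36558) (.leaf
  2330496))) (.node 2 (.node 1 (.leaf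
  2196851) (.leaf
  559829)) (.node 1 (.leaf
  851864) (.leaf
  1396123)))) (.node 4 (.node 2 (.node 1 (.leaf
  1194012) (.leaf
  807155)) (.node 1 (.leaf
  878926) (.leaf
  852247))) (.node 2 (.node 1 (.leaf
  161961) (.leaf
  1450602)) (.node 1 (.leaf
  2778829) (.leaf
  391302))))))) (.node 29 (.node 14 (.node 7 (.node 3 (.node 1 (.leaf
  1117832) (.node 1 (.leaf
  741) (.leaf
  2169389))) (.node 2 (.node 1 (.leaf
  2258743) (.leaf
  161954)) (.node 1 (.leaf
  743) (.leaf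
  941579)))) (.node 3 (.node 1 (.leaf
  2294656) (.node 1 (.leaf
  749) (.leaf
  497994))) (.node 2 (.node 1 (.leaf
  1004421) (.leaf
  967739)) (.node 1 (.leaf
  2196993) (.leaf
  483987))))) (.node 7 (.node 3 (.node 1 (.leaf
  520689) (.node 1 (.leaf
  484493) (.leaf
  359803))) (.node 2 (.node 1 (.leaf
  2142658) (.leaf
  291)) (.node 1 (.leaf
  360200) (.leaf
  2097464)))) (.node 4 (.node 2 (.node 1 (.leaf
  645376) (.leaf
  337250)) (.node 1 (.leaf
  359305) (.leaf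
  882486))) (.node 2 (.node 1 (.leaf
  37403) (.leaf
  1103726)) (.node 1 (.leaf
  65) (.leaf
  2231858)))))) (.node 15 (.node 7 (.node 3 (.node 1 (.leaf
  2196539) (.node 1 (.leaf
  1972282) (.leaf
  560313))) (.node 2 (.node 1 (.leaf
  2169285) (.leaf
  2393401)) (.node 1 (.leaf
  2097757) (.leaf
  2096777)))) (.node 4 (.node 2 (.node 1 (.leaf
  37281) (.leaf
  198494)) (.node 1 (.leaf
  2169616) (.leaf
  1004495))) (.node 2 (.node 1 (.leaf
  1072981) (.leaf
  2161179)) (.node 1 (.leaf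
  2161089) (.leaf
  1409464))))) (.node 7 (.node 3 (.node 1 (.leaf
  391839) (.node 1 (.leaf
  2155959) (.leaf
  911701))) (.node 2 (.node 1 (.leaf
  807172) (.leaf
  359941)) (.node 1 (.leaf
  2287181) (.leaf
  835403)))) (.node 4 (.node 2 (.node 1 (.leaf
  982209) (.leaf
  484897)) (.node 1 (.leaf
  512971) (.leaf
  967846))) (.node 2 (.node 1 (.leaf
  72508) (.leaf
  843988)) (.node 1 (.leaf
  721861) (.leaf
  1326838))))))))) (.node 118 (.node 59 (.node 29 (.node 14 (.node 7 (.node 3 (.node 1 (.leaf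
  161932) (.node 1 (.leaf
  360074) (.leaf
  2771114))) (.node 2 (.node 1 (.leaf
  2611859) (.leaf
  843098)) (.node 1 (.leaf
  1504730) (.leaf
  807087)))) (.node 3 (.node 1 (.leaf
  2832693) (.node 1 (.leaf
  337352) (.leaf
  36615))) (.node 2 (.node 1 (.leaf
  843215) (.leaf
  2652952)) (.node 1 (.leaf
  811) (.leaf
  1846200))))) (.node 7 (.node 3 (.node 1 (.leaf
  157681) (.node 1 (.leaf
  2142660) (.leaf
  2742473))) (.node 2 (.node 1 (.leaf
  576202) (.leaf
  151018)) (.node 1 (.leaf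
  337165) (.leaf
  36597)))) (.node 4 (.node 2 (.node 1 (.leaf
  961842) (.leaf
  121967)) (.node 1 (.leaf
  1126337) (.leaf
  380))) (.node 2 (.node 1 (.leaf
  852368) (.leaf
  2742770)) (.node 1 (.leaf
  2258741) (.leaf
  1350234)))))) (.node 15 (.node 7 (.node 3 (.node 1 (.leaf
  843840) (.node 1 (.leaf
  1964981) (.leaf
  360245))) (.node 2 (.node 1 (.leaf
  645162) (.leaf
  2097426)) (.node 1 (.leaf
  45441) (.leaf
  843679)))) (.node 4 (.node 2 (.node 1 (.leaf
  2258078) (.leaf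
  37267)) (.node 1 (.leaf
  645170) (.leaf
  968937))) (.node 2 (.node 1 (.leaf
  942014) (.leaf
  2258015)) (.node 1 (.leaf
  2156045) (.leaf
  1118830))))) (.node 7 (.node 3 (.node 1 (.leaf
  2071191) (.node 1 (.leaf
  2011989) (.leaf
  776))) (.node 2 (.node 1 (.leaf
  2272493) (.leaf
  967912)) (.node 1 (.leaf
  336570) (.leaf
  135268)))) (.node 4 (.node 2 (.node 1 (.leaf
  2721889) (.leaf
  360172)) (.node 1 (.leaf
  1481507) (.leaf
  498475))) (.node 2 (.node 1 (.leaf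
  967725) (.leaf
  2640354)) (.node 1 (.leaf
  2779211) (.leaf
  2717259))))))) (.node 29 (.node 14 (.node 7 (.node 3 (.node 1 (.leaf
  37236) (.node 1 (.leaf
  336532) (.leaf
  1174620))) (.node 2 (.node 1 (.leaf
  2287184) (.leaf
  161990)) (.node 1 (.leaf
  1381340) (.leaf
  1811600)))) (.node 3 (.node 1 (.leaf
  1375489) (.node 1 (.leaf
  981717) (.leaf
  1488259))) (.node 2 (.node 1 (.leaf
  2231941) (.leaf
  1558060)) (.node 1 (.leaf
  1774317) (.leaf
  1005112))))) (.node 7 (.node 3 (.node 1 (.leaf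
  2134209) (.node 1 (.leaf
  2433443) (.leaf
  1965200))) (.node 2 (.node 1 (.leaf
  843150) (.leaf
  837)) (.node 1 (.leaf
  14748) (.leaf
  848579)))) (.node 4 (.node 2 (.node 1 (.leaf
  36556) (.leaf
  398256)) (.node 1 (.leaf
  1971969) (.leaf
  807047))) (.node 2 (.node 1 (.leaf
  42716) (.leaf
  2419207)) (.node 1 (.leaf
  1117737) (.leaf
  322772)))))) (.node 15 (.node 7 (.node 3 (.node 1 (.leaf
  135771) (.node 1 (.leaf
  1118809) (.leaf
  359931))) (.node 2 (.node 1 (.leaf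
  42460) (.leaf
  1174351)) (.node 1 (.leaf
  2717343) (.leaf
  2142811)))) (.node 4 (.node 2 (.node 1 (.leaf
  1129312) (.leaf
  941800)) (.node 1 (.leaf
  134871) (.leaf
  92776))) (.node 2 (.node 1 (.leaf
  1118458) (.leaf
  1375590)) (.node 1 (.leaf
  2259005) (.leaf
  42817))))) (.node 7 (.node 3 (.node 1 (.leaf
  2072221) (.node 1 (.leaf
  480310) (.leaf
  1375045))) (.node 2 (.node 1 (.leaf
  476633) (.leaf
  161707)) (.node 1 (.leaf
  311670) (.leaf
  2393630)))) (.node 4 (.node 2 (.node 1 (.leaf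
  1129131) (.leaf
  2848128)) (.node 1 (.leaf
  553116) (.leaf
  851805))) (.node 2 (.node 1 (.leaf
  2847710) (.leaf
  14143)) (.node 1 (.leaf
  484479) (.leaf
  103)))))))) (.node 59 (.node 29 (.node 14 (.node 7 (.node 3 (.node 1 (.leaf
  498339) (.node 1 (.leaf
  981636) (.leaf
  968406))) (.node 2 (.node 1 (.leaf
  2771551) (.leaf
  2246946)) (.node 1 (.leaf
  2755811) (.leaf
  2097458)))) (.node 3 (.node 1 (.leaf
  2161086) (.node 1 (.leaf
  2294561) (.leaf
  843686))) (.node 2 (.node 1 (.leaf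
  1971943) (.leaf
  2716643)) (.node 1 (.leaf
  498758) (.leaf
  806502))))) (.node 7 (.node 3 (.node 1 (.leaf
  162248) (.node 1 (.leaf
  2717265) (.leaf
  843705))) (.node 2 (.node 1 (.leaf
  360029) (.leaf
  807315)) (.node 1 (.leaf
  2127987) (.leaf
  576556)))) (.node 4 (.node 2 (.node 1 (.leaf
  2133275) (.leaf
  1972824)) (.node 1 (.leaf
  674212) (.leaf
  157))) (.node 2 (.node 1 (.leaf
  2197077) (.leaf
  37199)) (.node 1 (.leaf
  197897) (.leaf
  161977)))))) (.node 15 (.node 7 (.node 3 (.node 1 (.leaf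
  968386) (.node 1 (.leaf
  365028) (.leaf
  766))) (.node 2 (.node 1 (.leaf
  2342561) (.leaf
  1451774)) (.node 1 (.leaf
  1452388) (.leaf
  399028)))) (.node 4 (.node 2 (.node 1 (.leaf
  336804) (.leaf
  256028)) (.node 1 (.leaf
  1005105) (.leaf
  806655))) (.node 2 (.node 1 (.leaf
  1973088) (.leaf
  336627)) (.node 1 (.leaf
  681672) (.leaf
  843019))))) (.node 7 (.node 3 (.node 1 (.leaf
  2779030) (.node 1 (.leaf
  1810774) (.leaf
  807107))) (.node 2 (.node 1 (.leaf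
  337676) (.leaf
  1194224)) (.node 1 (.leaf
  1811274) (.leaf
  634767)))) (.node 4 (.node 2 (.node 1 (.leaf
  2169497) (.leaf
  2231694)) (.node 1 (.leaf
  1971912) (.leaf
  76665))) (.node 2 (.node 1 (.leaf
  842987) (.leaf
  391173)) (.node 1 (.leaf
  1642657) (.leaf
  646219))))))) (.node 29 (.node 14 (.node 7 (.node 3 (.node 1 (.leaf
  477104) (.node 1 (.leaf
  645791) (.leaf
  520644))) (.node 2 (.node 1 (.leaf
  1451593) (.leaf
  2246987)) (.node 1 (.leaf
  1977866) (.leaf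
  836206)))) (.node 3 (.node 1 (.leaf
  1811250) (.node 1 (.leaf
  2685091) (.leaf
  2742677))) (.node 2 (.node 1 (.leaf
  1201463) (.leaf
  1175125)) (.node 1 (.leaf
  2892925) (.leaf
  2734459))))) (.node 7 (.node 3 (.node 1 (.leaf
  807192) (.node 1 (.leaf
  1004480) (.leaf
  1810840))) (.node 2 (.node 1 (.leaf
  806632) (.leaf
  1129809)) (.node 1 (.leaf
  1004391) (.leaf
  1972644)))) (.node 4 (.node 2 (.node 1 (.leaf
  2742523) (.leaf
  806449)) (.node 1 (.leaf
  1774222) (.leaf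
  1965007))) (.node 2 (.node 1 (.leaf
  375) (.leaf
  2841430)) (.node 1 (.leaf
  2097076) (.leaf
  1125998)))))) (.node 15 (.node 7 (.node 3 (.node 1 (.leaf
  359391) (.node 1 (.leaf
  675027) (.leaf
  1165626))) (.node 2 (.node 1 (.leaf
  1129051) (.leaf
  1201726)) (.node 1 (.leaf
  2626459) (.leaf
  1409539)))) (.node 4 (.node 2 (.node 1 (.leaf
  1004673) (.leaf
  843836)) (.node 1 (.leaf
  2455849) (.leaf
  2142380))) (.node 2 (.node 1 (.leaf
  1977325) (.leaf
  941883)) (.node 1 (.leaf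
  2771484) (.leaf
  2197244))))) (.node 7 (.node 3 (.node 1 (.leaf
  2778967) (.node 1 (.leaf
  843784) (.leaf
  2247803))) (.node 2 (.node 1 (.leaf
  1051750) (.leaf
  2640355)) (.node 1 (.leaf
  878917) (.leaf
  1126051)))) (.node 4 (.node 2 (.node 1 (.leaf
  150874) (.leaf
  2271903)) (.node 1 (.leaf
  843627) (.leaf
  2196400))) (.node 2 (.node 1 (.leaf
  843113) (.leaf
  1964480)) (.node 1 (.leaf
  2201541) (.leaf
  2779399)))))))))) (.node 236 (.node 118 (.node 59 (.node 29 (.node 14 (.node 7 (.node 3 (.node 1 (.leaf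
  1165553) (.node 1 (.leaf
  197917) (.leaf
  1481513))) (.node 2 (.node 1 (.leaf
  2142755) (.leaf
  2201815)) (.node 1 (.leaf
  2246705) (.leaf
  520617)))) (.node 3 (.node 1 (.leaf
  1909922) (.node 1 (.leaf
  2876678) (.leaf
  941666))) (.node 2 (.node 1 (.leaf
  2771468) (.leaf
  337343)) (.node 1 (.leaf
  483841) (.leaf
  161361))))) (.node 7 (.node 3 (.node 1 (.leaf
  37263) (.node 1 (.leaf
  150318) (.leaf
  806846))) (.node 2 (.node 1 (.leaf
  2778971) (.leaf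
  681896)) (.node 1 (.leaf
  1493438) (.leaf
  967919)))) (.node 4 (.node 2 (.node 1 (.leaf
  37170) (.leaf
  360246)) (.node 1 (.leaf
  364291) (.leaf
  323193))) (.node 2 (.node 1 (.leaf
  941388) (.leaf
  1978143)) (.node 1 (.leaf
  981735) (.leaf
  843039)))))) (.node 15 (.node 7 (.node 3 (.node 1 (.leaf
  2168827) (.node 1 (.leaf
  911157) (.leaf
  981686))) (.node 2 (.node 1 (.leaf
  161939) (.leaf
  2142266)) (.node 1 (.leaf
  2037891) (.leaf
  843152)))) (.node 4 (.node 2 (.node 1 (.leaf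
  2461357) (.leaf
  513594)) (.node 1 (.leaf
  198699) (.leaf
  2784548))) (.node 2 (.node 1 (.leaf
  842966) (.leaf
  2258601)) (.node 1 (.leaf
  1775100) (.leaf
  536839))))) (.node 7 (.node 3 (.node 1 (.leaf
  100616) (.node 1 (.leaf
  42558) (.leaf
  1755877))) (.node 2 (.node 1 (.leaf
  843131) (.leaf
  842961)) (.node 1 (.leaf
  336428) (.leaf
  981656)))) (.node 4 (.node 2 (.node 1 (.leaf
  36825) (.leaf
  1072433)) (.node 1 (.leaf
  435) (.leaf
  996787))) (.node 2 (.node 1 (.leaf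
  2294789) (.leaf
  1004246)) (.node 1 (.leaf
  1174397) (.leaf
  957339))))))) (.node 29 (.node 14 (.node 7 (.node 3 (.node 1 (.leaf
  1481373) (.node 1 (.leaf
  2196650) (.leaf
  99575))) (.node 2 (.node 1 (.leaf
  2247577) (.leaf
  2201255)) (.node 1 (.leaf
  1810767) (.leaf
  99714)))) (.node 3 (.node 1 (.leaf
  99713) (.node 1 (.leaf
  843400) (.leaf
  37766))) (.node 2 (.node 1 (.leaf
  2295382) (.leaf
  843149)) (.node 1 (.leaf
  1129696) (.leaf
  99717))))) (.node 7 (.node 3 (.node 1 (.leaf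
  1488124) (.node 1 (.leaf
  1336522) (.leaf
  150603))) (.node 2 (.node 1 (.leaf
  360143) (.leaf
  2201722)) (.node 1 (.leaf
  72576) (.leaf
  1465635)))) (.node 4 (.node 2 (.node 1 (.leaf
  1450647) (.leaf
  1118369)) (.node 1 (.leaf
  2778422) (.leaf
  2294569))) (.node 2 (.node 1 (.leaf
  805) (.leaf
  2142137)) (.node 1 (.leaf
  14590) (.leaf
  151069)))))) (.node 15 (.node 7 (.node 3 (.node 1 (.leaf
  2143076) (.node 1 (.leaf
  2716803) (.leaf
  996917))) (.node 2 (.node 1 (.leaf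
  843766) (.leaf
  351939)) (.node 1 (.leaf
  498268) (.leaf
  1005074)))) (.node 4 (.node 2 (.node 1 (.leaf
  996762) (.leaf
  997413)) (.node 1 (.leaf
  521201) (.leaf
  852406))) (.node 2 (.node 1 (.leaf
  2626530) (.leaf
  2247507)) (.node 1 (.leaf
  1005159) (.leaf
  942032))))) (.node 7 (.node 3 (.node 1 (.leaf
  1972536) (.node 1 (.leaf
  1004646) (.leaf
  1362290))) (.node 2 (.node 1 (.leaf
  2877736) (.leaf
  796165)) (.node 1 (.leaf
  2097677) (.leaf
  279373)))) (.node 4 (.node 2 (.node 1 (.leaf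
  1005381) (.leaf
  2295370)) (.node 1 (.leaf
  2097278) (.leaf
  513575))) (.node 2 (.node 1 (.leaf
  2779118) (.leaf
  2169317)) (.node 1 (.leaf
  2779077) (.leaf
  2555301)))))))) (.node 59 (.node 29 (.node 14 (.node 7 (.node 3 (.node 1 (.leaf
  1004237) (.node 1 (.leaf
  37020) (.leaf
  93761))) (.node 2 (.node 1 (.leaf
  878912) (.leaf
  645343)) (.node 1 (.leaf
  807349) (.leaf
  29890)))) (.node 3 (.node 1 (.leaf
  2783910) (.node 1 (.leaf
  359468) (.leaf
  1775067))) (.node 2 (.node 1 (.leaf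
  157809) (.leaf
  982535)) (.node 1 (.leaf
  76434) (.leaf
  391696))))) (.node 7 (.node 3 (.node 1 (.leaf
  42126) (.node 1 (.leaf
  1972098) (.leaf
  404806))) (.node 2 (.node 1 (.leaf
  1613046) (.leaf
  1375658)) (.node 1 (.leaf
  844048) (.leaf
  376340)))) (.node 4 (.node 2 (.node 1 (.leaf
  2241258) (.leaf
  758)) (.node 1 (.leaf
  560641) (.leaf
  37503))) (.node 2 (.node 1 (.leaf
  2169265) (.leaf
  1174491)) (.node 1 (.leaf
  844024) (.leaf
  161468)))))) (.node 15 (.node 7 (.node 3 (.node 1 (.leaf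
  2134078) (.node 1 (.leaf
  968190) (.leaf
  359435))) (.node 2 (.node 1 (.leaf
  2201397) (.leaf
  851818)) (.node 1 (.leaf
  162253) (.leaf
  322790)))) (.node 4 (.node 2 (.node 1 (.leaf
  336447) (.leaf
  941344)) (.node 1 (.leaf
  2779325) (.leaf
  2246851))) (.node 2 (.node 1 (.leaf
  982284) (.leaf
  296666)) (.node 1 (.leaf
  942070) (.leaf
  498429))))) (.node 7 (.node 3 (.node 1 (.leaf
  1488090) (.node 1 (.leaf
  869) (.leaf
  2779116))) (.node 2 (.node 1 (.leaf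
  1004496) (.leaf
  1004599)) (.node 1 (.leaf
  2142593) (.leaf
  484562)))) (.node 4 (.node 2 (.node 1 (.leaf
  674424) (.leaf
  513024)) (.node 1 (.leaf
  721154) (.leaf
  360023))) (.node 2 (.node 1 (.leaf
  521324) (.leaf
  2528630)) (.node 1 (.leaf
  1165918) (.leaf
  2169515))))))) (.node 29 (.node 14 (.node 7 (.node 3 (.node 1 (.leaf
  2239061) (.node 1 (.leaf
  483843) (.leaf
  645227))) (.node 2 (.node 1 (.leaf
  806455) (.leaf
  1774585)) (.node 1 (.leaf
  878533) (.leaf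
  956789)))) (.node 3 (.node 1 (.leaf
  359253) (.node 1 (.leaf
  645473) (.leaf
  1816094))) (.node 2 (.node 1 (.leaf
  520864) (.leaf
  207637)) (.node 1 (.leaf
  1451645) (.leaf
  72510))))) (.node 7 (.node 3 (.node 1 (.leaf
  2294760) (.node 1 (.leaf
  34) (.leaf
  842959))) (.node 2 (.node 1 (.leaf
  2717301) (.leaf
  198473)) (.node 1 (.leaf
  2247120) (.leaf
  1810692)))) (.node 4 (.node 2 (.node 1 (.leaf
  2877818) (.leaf
  2168493)) (.node 1 (.leaf
  2376494) (.leaf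
  737))) (.node 2 (.node 1 (.leaf
  2168595) (.leaf
  2196841)) (.node 1 (.leaf
  645582) (.leaf
  150685)))))) (.node 15 (.node 7 (.node 3 (.node 1 (.leaf
  36669) (.node 1 (.leaf
  1811588) (.leaf
  18))) (.node 2 (.node 1 (.leaf
  1774101) (.leaf
  1117722)) (.node 1 (.leaf
  112) (.leaf
  240)))) (.node 4 (.node 2 (.node 1 (.leaf
  2877475) (.leaf
  2097652)) (.node 1 (.leaf
  37378) (.leaf
  806500))) (.node 2 (.node 1 (.leaf
  2246621) (.leaf
  2779184)) (.node 1 (.leaf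
  36971) (.leaf
  1570597))))) (.node 7 (.node 3 (.node 1 (.leaf
  1133) (.node 1 (.leaf
  2848500) (.leaf
  2169096))) (.node 2 (.node 1 (.leaf
  2168656) (.leaf
  497838)) (.node 1 (.leaf
  2096727) (.leaf
  878452)))) (.node 4 (.node 2 (.node 1 (.leaf
  1613147) (.leaf
  2742528)) (.node 1 (.leaf
  2161228) (.leaf
  1972612))) (.node 2 (.node 1 (.leaf
  1655572) (.leaf
  2294529)) (.node 1 (.leaf
  1972639) (.leaf
  161715))))))))) (.node 118 (.node 59 (.node 29 (.node 14 (.node 7 (.node 3 (.node 1 (.leaf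
  835660) (.node 1 (.leaf
  1117708) (.leaf
  2778942))) (.node 2 (.node 1 (.leaf
  1408683) (.leaf
  1409371)) (.node 1 (.leaf
  2741951) (.leaf
  1129791)))) (.node 3 (.node 1 (.leaf
  1102592) (.node 1 (.leaf
  806560) (.leaf
  1374917))) (.node 2 (.node 1 (.leaf
  796082) (.leaf
  671)) (.node 1 (.leaf
  1118066) (.leaf
  2710542))))) (.node 7 (.node 3 (.node 1 (.leaf
  2778485) (.node 1 (.leaf
  2134145) (.leaf
  843141))) (.node 2 (.node 1 (.leaf
  2258062) (.leaf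
  1004407)) (.node 1 (.leaf
  150752) (.leaf
  36592)))) (.node 4 (.node 2 (.node 1 (.leaf
  2722423) (.leaf
  645464)) (.node 1 (.leaf
  2272836) (.leaf
  2363382))) (.node 2 (.node 1 (.leaf
  945) (.leaf
  1570652)) (.node 1 (.leaf
  942022) (.leaf
  1060388)))))) (.node 15 (.node 7 (.node 3 (.node 1 (.leaf
  352217) (.node 1 (.leaf
  843347) (.leaf
  1488833))) (.node 2 (.node 1 (.leaf
  2258022) (.leaf
  2258859)) (.node 1 (.leaf
  2626571) (.leaf
  2783857)))) (.node 4 (.node 2 (.node 1 (.leaf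
  1811495) (.leaf
  360323)) (.node 1 (.leaf
  1004382) (.leaf
  2071546))) (.node 2 (.node 1 (.leaf
  1613460) (.leaf
  871)) (.node 1 (.leaf
  134869) (.leaf
  29796))))) (.node 7 (.node 3 (.node 1 (.leaf
  1452493) (.node 1 (.leaf
  1481270) (.leaf
  1972702))) (.node 2 (.node 1 (.leaf
  1118776) (.leaf
  981590)) (.node 1 (.leaf
  851816) (.leaf
  883037)))) (.node 4 (.node 2 (.node 1 (.leaf
  852568) (.leaf
  843087)) (.node 1 (.leaf
  911205) (.leaf
  967872))) (.node 2 (.node 1 (.leaf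
  1755325) (.leaf
  739)) (.node 1 (.leaf
  2070527) (.leaf
  2231792))))))) (.node 29 (.node 14 (.node 7 (.node 3 (.node 1 (.leaf
  1279375) (.node 1 (.leaf
  337293) (.leaf
  2715569))) (.node 2 (.node 1 (.leaf
  2142854) (.leaf
  2287630)) (.node 1 (.leaf
  1362482) (.leaf
  1811363)))) (.node 3 (.node 1 (.leaf
  1375595) (.node 1 (.leaf
  2847892) (.leaf
  2142647))) (.node 2 (.node 1 (.leaf
  2201620) (.leaf
  997411)) (.node 1 (.leaf
  2142074) (.leaf
  359389))))) (.node 7 (.node 3 (.node 1 (.leaf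
  1750152) (.node 1 (.leaf
  1972601) (.leaf
  37309))) (.node 2 (.node 1 (.leaf
  852397) (.leaf
  852249)) (.node 1 (.leaf
  2142939) (.leaf
  2143161)))) (.node 4 (.node 2 (.node 1 (.leaf
  2774609) (.leaf
  2778496)) (.node 1 (.leaf
  852546) (.leaf
  997017))) (.node 2 (.node 1 (.leaf
  1375847) (.leaf
  2787136)) (.node 1 (.leaf
  700) (.leaf
  906840)))))) (.node 15 (.node 7 (.node 3 (.node 1 (.leaf
  521174) (.node 1 (.leaf
  135483) (.leaf
  359839))) (.node 2 (.node 1 (.leaf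
  36667) (.leaf
  2287810)) (.node 1 (.leaf
  645997) (.leaf
  484569)))) (.node 4 (.node 2 (.node 1 (.leaf
  351775) (.leaf
  2786664)) (.node 1 (.leaf
  2393897) (.leaf
  214))) (.node 2 (.node 1 (.leaf
  1129757) (.leaf
  956937)) (.node 1 (.leaf
  1451884) (.leaf
  1264229))))) (.node 7 (.node 3 (.node 1 (.leaf
  150341) (.node 1 (.leaf
  968424) (.leaf
  336696))) (.node 2 (.node 1 (.leaf
  806495) (.leaf
  1570615)) (.node 1 (.leaf
  513573) (.leaf
  198638)))) (.node 4 (.node 2 (.node 1 (.leaf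
  37581) (.leaf
  928)) (.node 1 (.leaf
  2169432) (.leaf
  37287))) (.node 2 (.node 1 (.leaf
  151110) (.leaf
  2779381)) (.node 1 (.leaf
  843778) (.leaf
  806434)))))))) (.node 59 (.node 29 (.node 14 (.node 7 (.node 3 (.node 1 (.leaf
  2294730) (.node 1 (.leaf
  967791) (.leaf
  878241))) (.node 2 (.node 1 (.leaf
  2847801) (.leaf
  162056)) (.node 1 (.leaf
  1811591) (.leaf
  2779280)))) (.node 3 (.node 1 (.leaf
  37099) (.node 1 (.leaf
  843000) (.leaf
  87))) (.node 2 (.node 1 (.leaf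
  2096729) (.leaf
  673)) (.node 1 (.leaf
  968444) (.leaf
  14035))))) (.node 7 (.node 3 (.node 1 (.leaf
  37179) (.node 1 (.leaf
  956455) (.leaf
  941865))) (.node 2 (.node 1 (.leaf
  2169384) (.leaf
  645657)) (.node 1 (.leaf
  2169275) (.leaf
  843699)))) (.node 4 (.node 2 (.node 1 (.leaf
  1129160) (.leaf
  1102893)) (.node 1 (.leaf
  37225) (.leaf
  806512))) (.node 2 (.node 1 (.leaf
  793) (.leaf
  37498)) (.node 1 (.leaf
  2142005) (.leaf
  2097370)))))) (.node 15 (.node 7 (.node 3 (.node 1 (.leaf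
  2168578) (.node 1 (.leaf
  1935590) (.leaf
  2735044))) (.node 2 (.node 1 (.leaf
  1102502) (.leaf
  352770)) (.node 1 (.leaf
  323071) (.leaf
  2196939)))) (.node 4 (.node 2 (.node 1 (.leaf
  981706) (.leaf
  1972571)) (.node 1 (.leaf
  198584) (.leaf
  323213))) (.node 2 (.node 1 (.leaf
  1810642) (.leaf
  1820260)) (.node 1 (.leaf
  2168609) (.leaf
  198147))))) (.node 7 (.node 3 (.node 1 (.leaf
  1810856) (.node 1 (.leaf
  956433) (.leaf
  359440))) (.node 2 (.node 1 (.leaf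
  36762) (.leaf
  1335706)) (.node 1 (.leaf
  851934) (.leaf
  646095)))) (.node 4 (.node 2 (.node 1 (.leaf
  2413583) (.leaf
  1336430)) (.node 1 (.leaf
  520588) (.leaf
  806524))) (.node 2 (.node 1 (.leaf
  197883) (.leaf
  2239816)) (.node 1 (.leaf
  2626532) (.leaf
  361))))))) (.node 30 (.node 15 (.node 7 (.node 3 (.node 1 (.leaf
  2295320) (.node 1 (.leaf
  1004704) (.leaf
  1649476))) (.node 2 (.node 1 (.leaf
  2070526) (.leaf
  150074)) (.node 1 (.leaf
  359210) (.leaf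
  513316)))) (.node 4 (.node 2 (.node 1 (.leaf
  337060) (.leaf
  1949967)) (.node 1 (.leaf
  323518) (.leaf
  521075))) (.node 2 (.node 1 (.leaf
  2876664) (.leaf
  843155)) (.node 1 (.leaf
  151086) (.leaf
  1649977))))) (.node 7 (.node 3 (.node 1 (.leaf
  197958) (.node 1 (.leaf
  445) (.leaf
  75917))) (.node 2 (.node 1 (.leaf
  2393634) (.leaf
  37427)) (.node 1 (.leaf
  14863) (.leaf
  633)))) (.node 4 (.node 2 (.node 1 (.leaf
  64) (.leaf
  691)) (.node 1 (.leaf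
  862) (.leaf
  559587))) (.node 2 (.node 1 (.leaf
  967963) (.leaf
  1451711)) (.node 1 (.leaf
  2555663) (.leaf
  365157)))))) (.node 15 (.node 7 (.node 3 (.node 1 (.leaf
  29894) (.node 1 (.leaf
  956426) (.leaf
  390901))) (.node 2 (.node 1 (.leaf
  1820208) (.leaf
  971)) (.node 1 (.leaf
  2196304) (.leaf
  1493662)))) (.node 4 (.node 2 (.node 1 (.leaf
  1481409) (.leaf
  37218)) (.node 1 (.leaf
  645368) (.leaf
  2246673))) (.node 2 (.node 1 (.leaf
  2528080) (.leaf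
  2169160)) (.node 1 (.leaf
  359409) (.leaf
  753))))) (.node 7 (.node 3 (.node 1 (.leaf
  1810633) (.node 1 (.leaf
  1201536) (.leaf
  45673))) (.node 2 (.node 1 (.leaf
  2735085) (.leaf
  391529)) (.node 1 (.leaf
  2456515) (.leaf
  835422)))) (.node 4 (.node 2 (.node 1 (.leaf
  852559) (.leaf
  2628629)) (.node 1 (.leaf
  1816860) (.leaf
  1481291))) (.node 2 (.node 1 (.leaf
  1004308) (.leaf
  941748)) (.node 1 (.leaf
  42809) (.leaf
  2258670)))))))))))) (.node 945 (.node 472 (.node 236 (.node 118 (.node 59 (.node 29 (.node 14 (.node 7 (.node 3 (.node 1 (.leaf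
  968429) (.node 1 (.leaf
  1349543) (.leaf
  337055))) (.node 2 (.node 1 (.leaf
  835670) (.leaf
  806754)) (.node 1 (.leaf
  681947) (.leaf
  911976)))) (.node 3 (.node 1 (.leaf
  359315) (.node 1 (.leaf
  2821106) (.leaf
  2096698))) (.node 2 (.node 1 (.leaf
  2342654) (.leaf
  1811321)) (.node 1 (.leaf
  807438) (.leaf
  687201))))) (.node 7 (.node 3 (.node 1 (.leaf
  1964341) (.node 1 (.leaf
  2197014) (.leaf
  1909877))) (.node 2 (.node 1 (.leaf
  1774409) (.leaf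
  968602)) (.node 1 (.leaf
  135665) (.leaf
  2710322)))) (.node 4 (.node 2 (.node 1 (.leaf
  498351) (.leaf
  161521)) (.node 1 (.leaf
  2742719) (.leaf
  92))) (.node 2 (.node 1 (.leaf
  2722695) (.leaf
  45)) (.node 1 (.leaf
  513079) (.leaf
  1972096)))))) (.node 15 (.node 7 (.node 3 (.node 1 (.leaf
  521345) (.node 1 (.leaf
  911970) (.leaf
  645990))) (.node 2 (.node 1 (.leaf
  36803) (.leaf
  2716633)) (.node 1 (.leaf
  2097114) (.leaf
  1493527)))) (.node 4 (.node 2 (.node 1 (.leaf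
  2877586) (.leaf
  1349521)) (.node 1 (.leaf
  2304367) (.leaf
  2096883))) (.node 2 (.node 1 (.leaf
  2173477) (.leaf
  681723)) (.node 1 (.leaf
  941944) (.leaf
  1297039))))) (.node 7 (.node 3 (.node 1 (.leaf
  2286910) (.node 1 (.leaf
  1451643) (.leaf
  806558))) (.node 2 (.node 1 (.leaf
  1972732) (.leaf
  1103686)) (.node 1 (.leaf
  1536859) (.leaf
  1949777)))) (.node 4 (.node 2 (.node 1 (.leaf
  1089735) (.leaf
  559955)) (.node 1 (.leaf
  322792) (.leaf
  968349))) (.node 2 (.node 1 (.leaf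
  150216) (.leaf
  197956)) (.node 1 (.leaf
  2349020) (.leaf
  2169330))))))) (.node 29 (.node 14 (.node 7 (.node 3 (.node 1 (.leaf
  1819443) (.node 1 (.leaf
  135836) (.leaf
  968039))) (.node 2 (.node 1 (.leaf
  36659) (.leaf
  398722)) (.node 1 (.leaf
  2771554) (.leaf
  2742471)))) (.node 3 (.node 1 (.leaf
  2778450) (.node 1 (.leaf
  37362) (.leaf
  36607))) (.node 2 (.node 1 (.leaf
  1171730) (.leaf
  2169191)) (.node 1 (.leaf
  2625986) (.leaf
  2342473))))) (.node 7 (.node 3 (.node 1 (.leaf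
  1601982) (.node 1 (.leaf
  878393) (.leaf
  1374704))) (.node 2 (.node 1 (.leaf
  2626132) (.leaf
  981818)) (.node 1 (.leaf
  646217) (.leaf
  967762)))) (.node 4 (.node 2 (.node 1 (.leaf
  532) (.leaf
  682427)) (.node 1 (.leaf
  900638) (.leaf
  1575620))) (.node 2 (.node 1 (.leaf
  2833175) (.leaf
  721972)) (.node 1 (.leaf
  1972099) (.leaf
  337160)))))) (.node 15 (.node 7 (.node 3 (.node 1 (.leaf
  2125720) (.node 1 (.leaf
  1972560) (.leaf
  167))) (.node 2 (.node 1 (.leaf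
  982249) (.leaf
  36778)) (.node 1 (.leaf
  2142102) (.leaf
  497737)))) (.node 4 (.node 2 (.node 1 (.leaf
  1354572) (.leaf
  2877658)) (.node 1 (.leaf
  2741993) (.leaf
  2143113))) (.node 2 (.node 1 (.leaf
  843249) (.leaf
  36696)) (.node 1 (.leaf
  46161) (.leaf
  36552))))) (.node 7 (.node 3 (.node 1 (.leaf
  2387245) (.node 1 (.leaf
  36555) (.leaf
  150740))) (.node 2 (.node 1 (.leaf
  2161531) (.leaf
  158503)) (.node 1 (.leaf
  2258385) (.leaf
  1613679)))) (.node 4 (.node 2 (.node 1 (.leaf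
  1811330) (.leaf
  162017)) (.node 1 (.leaf
  2846394) (.leaf
  559874))) (.node 2 (.node 1 (.leaf
  1354758) (.leaf
  645816)) (.node 1 (.leaf
  888) (.leaf
  911284)))))))) (.node 59 (.node 29 (.node 14 (.node 7 (.node 3 (.node 1 (.leaf
  37058) (.node 1 (.leaf
  1978014) (.leaf
  835481))) (.node 2 (.node 1 (.leaf
  2778419) (.leaf
  1125630)) (.node 1 (.leaf
  197885) (.leaf
  162022)))) (.node 3 (.node 1 (.leaf
  956858) (.node 1 (.leaf
  786) (.leaf
  2756505))) (.node 2 (.node 1 (.leaf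
  2710915) (.leaf
  1451676)) (.node 1 (.leaf
  967760) (.leaf
  2716590))))) (.node 7 (.node 3 (.node 1 (.leaf
  72817) (.node 1 (.leaf
  484489) (.leaf
  323421))) (.node 2 (.node 1 (.leaf
  2742869) (.leaf
  2741997)) (.node 1 (.leaf
  1089557) (.leaf
  645)))) (.node 4 (.node 2 (.node 1 (.leaf
  2393320) (.leaf
  957291)) (.node 1 (.leaf
  836197) (.leaf
  337319))) (.node 2 (.node 1 (.leaf
  1396231) (.leaf
  134952)) (.node 1 (.leaf
  2742743) (.leaf
  360243)))))) (.node 15 (.node 7 (.node 3 (.node 1 (.leaf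
  2775204) (.node 1 (.leaf
  323313) (.leaf
  2072370))) (.node 2 (.node 1 (.leaf
  497704) (.leaf
  2133904)) (.node 1 (.leaf
  1004540) (.leaf
  352587)))) (.node 4 (.node 2 (.node 1 (.leaf
  109607) (.leaf
  842994)) (.node 1 (.leaf
  1125554) (.leaf
  1811440))) (.node 2 (.node 1 (.leaf
  2072443) (.leaf
  806496)) (.node 1 (.leaf
  2072180) (.leaf
  319))))) (.node 7 (.node 3 (.node 1 (.leaf
  497762) (.node 1 (.leaf
  2342514) (.leaf
  2717337))) (.node 2 (.node 1 (.leaf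
  1452364) (.leaf
  1362206)) (.node 1 (.leaf
  480991) (.leaf
  497835)))) (.node 4 (.node 2 (.node 1 (.leaf
  311742) (.leaf
  2142225)) (.node 1 (.leaf
  1587569) (.leaf
  1972531))) (.node 2 (.node 1 (.leaf
  37019) (.leaf
  135623)) (.node 1 (.leaf
  2847959) (.leaf
  161306))))))) (.node 29 (.node 14 (.node 7 (.node 3 (.node 1 (.leaf
  336718) (.node 1 (.leaf
  336469) (.leaf
  843058))) (.node 2 (.node 1 (.leaf
  150979) (.leaf
  162163)) (.node 1 (.leaf
  843169) (.leaf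
  1810720)))) (.node 3 (.node 1 (.leaf
  1117780) (.node 1 (.leaf
  1125189) (.leaf
  2377248))) (.node 2 (.node 1 (.leaf
  1879106) (.leaf
  13865)) (.node 1 (.leaf
  906297) (.leaf
  337307))))) (.node 7 (.node 3 (.node 1 (.leaf
  150219) (.node 1 (.leaf
  968219) (.leaf
  53))) (.node 2 (.node 1 (.leaf
  36579) (.leaf
  352384)) (.node 1 (.leaf
  1375154) (.leaf
  37197)))) (.node 4 (.node 2 (.node 1 (.leaf
  497710) (.leaf
  2847698)) (.node 1 (.leaf
  896) (.leaf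
  967777))) (.node 2 (.node 1 (.leaf
  1774452) (.leaf
  2168640)) (.node 1 (.leaf
  1557458) (.leaf
  2376432)))))) (.node 15 (.node 7 (.node 3 (.node 1 (.leaf
  1228593) (.node 1 (.leaf
  2133202) (.leaf
  2626615))) (.node 2 (.node 1 (.leaf
  981560) (.leaf
  1174480)) (.node 1 (.leaf
  843933) (.leaf
  982363)))) (.node 4 (.node 2 (.node 1 (.leaf
  1201416) (.leaf
  2201744)) (.node 1 (.leaf
  560497) (.leaf
  1612873))) (.node 2 (.node 1 (.leaf
  2142081) (.leaf
  1649461)) (.node 1 (.leaf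
  851928) (.leaf
  1002))))) (.node 7 (.node 3 (.node 1 (.leaf
  2742418) (.node 1 (.leaf
  836014) (.leaf
  871570))) (.node 2 (.node 1 (.leaf
  2258064) (.leaf
  646273)) (.node 1 (.leaf
  645330) (.leaf
  2420137)))) (.node 4 (.node 2 (.node 1 (.leaf
  150927) (.leaf
  14045)) (.node 1 (.leaf
  2247101) (.leaf
  956653))) (.node 2 (.node 1 (.leaf
  336807) (.leaf
  484134)) (.node 1 (.leaf
  36793) (.leaf
  1688871))))))))) (.node 118 (.node 59 (.node 29 (.node 14 (.node 7 (.node 3 (.node 1 (.leaf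
  2168489) (.node 1 (.leaf
  1480613) (.leaf
  72581))) (.node 2 (.node 1 (.leaf
  359755) (.leaf
  375808)) (.node 1 (.leaf
  46302) (.leaf
  2343189)))) (.node 3 (.node 1 (.leaf
  967911) (.node 1 (.leaf
  2821061) (.leaf
  150975))) (.node 2 (.node 1 (.leaf
  1354541) (.leaf
  1103432)) (.node 1 (.leaf
  2103325) (.leaf
  1642163))))) (.node 7 (.node 3 (.node 1 (.leaf
  2847330) (.node 1 (.leaf
  37203) (.leaf
  93663))) (.node 2 (.node 1 (.leaf
  2201589) (.leaf
  806543)) (.node 1 (.leaf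
  336726) (.leaf
  2133493)))) (.node 4 (.node 2 (.node 1 (.leaf
  1650299) (.leaf
  2258813)) (.node 1 (.leaf
  982320) (.leaf
  840))) (.node 2 (.node 1 (.leaf
  135930) (.leaf
  1612871)) (.node 1 (.leaf
  1480696) (.leaf
  2640367)))))) (.node 15 (.node 7 (.node 3 (.node 1 (.leaf
  1408701) (.node 1 (.leaf
  806673) (.leaf
  2294552))) (.node 2 (.node 1 (.leaf
  42) (.leaf
  844106)) (.node 1 (.leaf
  322622) (.leaf
  336493)))) (.node 4 (.node 2 (.node 1 (.leaf
  1763717) (.leaf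
  982447)) (.node 1 (.leaf
  1375549) (.leaf
  1165563))) (.node 2 (.node 1 (.leaf
  968686) (.leaf
  1355378)) (.node 1 (.leaf
  2168752) (.leaf
  484488))))) (.node 7 (.node 3 (.node 1 (.leaf
  1171041) (.node 1 (.leaf
  72044) (.leaf
  967788))) (.node 2 (.node 1 (.leaf
  337062) (.leaf
  2625952)) (.node 1 (.leaf
  513033) (.leaf
  1355242)))) (.node 4 (.node 2 (.node 1 (.leaf
  1488176) (.leaf
  968432)) (.node 1 (.leaf
  1972354) (.leaf
  14769))) (.node 2 (.node 1 (.leaf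
  2847059) (.leaf
  36652)) (.node 1 (.leaf
  1004890) (.leaf
  1650107))))))) (.node 29 (.node 14 (.node 7 (.node 3 (.node 1 (.leaf
  843052) (.node 1 (.leaf
  1803438) (.leaf
  14150))) (.node 2 (.node 1 (.leaf
  36570) (.leaf
  1336625)) (.node 1 (.leaf
  2197337) (.leaf
  2342391)))) (.node 3 (.node 1 (.leaf
  807164) (.node 1 (.leaf
  1949295) (.leaf
  1649362))) (.node 2 (.node 1 (.leaf
  1093) (.leaf
  1171791)) (.node 1 (.leaf
  806556) (.leaf
  2456666))))) (.node 7 (.node 3 (.node 1 (.leaf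
  1117658) (.node 1 (.leaf
  1451463) (.leaf
  150145))) (.node 2 (.node 1 (.leaf
  851966) (.leaf
  364431)) (.node 1 (.leaf
  2096846) (.leaf
  364849)))) (.node 4 (.node 2 (.node 1 (.leaf
  852756) (.leaf
  151047)) (.node 1 (.leaf
  1810866) (.leaf
  2241315))) (.node 2 (.node 1 (.leaf
  121873) (.leaf
  273)) (.node 1 (.leaf
  1810843) (.leaf
  399207)))))) (.node 15 (.node 7 (.node 3 (.node 1 (.leaf
  1816267) (.node 1 (.leaf
  360026) (.leaf
  498572))) (.node 2 (.node 1 (.leaf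
  1016) (.leaf
  2783945)) (.node 1 (.leaf
  484819) (.leaf
  2455950)))) (.node 4 (.node 2 (.node 1 (.leaf
  484808) (.leaf
  1051023)) (.node 1 (.leaf
  2168731) (.leaf
  2626552))) (.node 2 (.node 1 (.leaf
  72582) (.leaf
  72896)) (.node 1 (.leaf
  2455942) (.leaf
  2168649))))) (.node 7 (.node 3 (.node 1 (.leaf
  2196352) (.node 1 (.leaf
  14952) (.leaf
  2861014))) (.node 2 (.node 1 (.leaf
  352505) (.leaf
  497706)) (.node 1 (.leaf
  1004226) (.leaf
  359347)))) (.node 4 (.node 2 (.node 1 (.leaf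
  498444) (.leaf
  807342)) (.node 1 (.leaf
  14776) (.leaf
  879))) (.node 2 (.node 1 (.leaf
  391585) (.leaf
  2247652)) (.node 1 (.leaf
  2343114) (.leaf
  911977)))))))) (.node 59 (.node 29 (.node 14 (.node 7 (.node 3 (.node 1 (.leaf
  1118429) (.node 1 (.leaf
  484509) (.leaf
  198563))) (.node 2 (.node 1 (.leaf
  646004) (.leaf
  967698)) (.node 1 (.leaf
  2756533) (.leaf
  151142)))) (.node 3 (.node 1 (.leaf
  197) (.node 1 (.leaf
  1810919) (.leaf
  1408757))) (.node 2 (.node 1 (.leaf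
  674173) (.leaf
  1004545)) (.node 1 (.leaf
  322698) (.leaf
  1480799))))) (.node 7 (.node 3 (.node 1 (.leaf
  982278) (.node 1 (.leaf
  1451713) (.leaf
  2258799))) (.node 2 (.node 1 (.leaf
  365121) (.leaf
  2232008)) (.node 1 (.leaf
  484859) (.leaf
  1004565)))) (.node 4 (.node 2 (.node 1 (.leaf
  968014) (.leaf
  76172)) (.node 1 (.leaf
  2096872) (.leaf
  2640438))) (.node 2 (.node 1 (.leaf
  150245) (.leaf
  2778351)) (.node 1 (.leaf
  2133184) (.leaf
  2169133)))))) (.node 15 (.node 7 (.node 3 (.node 1 (.leaf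
  552848) (.node 1 (.leaf
  36940) (.leaf
  1949818))) (.node 2 (.node 1 (.leaf
  843234) (.leaf
  1480606)) (.node 1 (.leaf
  1972132) (.leaf
  879068)))) (.node 4 (.node 2 (.node 1 (.leaf
  1452224) (.leaf
  337327)) (.node 1 (.leaf
  337253) (.leaf
  996869))) (.node 2 (.node 1 (.leaf
  2784480) (.leaf
  150548)) (.node 1 (.leaf
  148) (.leaf
  1972635))))) (.node 7 (.node 3 (.node 1 (.leaf
  806530) (.node 1 (.leaf
  2272762) (.leaf
  1004945))) (.node 2 (.node 1 (.leaf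
  150154) (.leaf
  498402)) (.node 1 (.leaf
  2778608) (.leaf
  1005010)))) (.node 4 (.node 2 (.node 1 (.leaf
  484142) (.leaf
  1374703)) (.node 1 (.leaf
  1481154) (.leaf
  1613481))) (.node 2 (.node 1 (.leaf
  2685510) (.leaf
  2257960)) (.node 1 (.leaf
  198029) (.leaf
  2324626))))))) (.node 29 (.node 14 (.node 7 (.node 3 (.node 1 (.leaf
  93677) (.node 1 (.leaf
  1480928) (.leaf
  1972829))) (.node 2 (.node 1 (.leaf
  835448) (.leaf
  1005138)) (.node 1 (.leaf
  631) (.leaf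
  135572)))) (.node 3 (.node 1 (.leaf
  37352) (.node 1 (.leaf
  1811353) (.leaf
  203))) (.node 2 (.node 1 (.leaf
  1117831) (.leaf
  1044509)) (.node 1 (.leaf
  322664) (.leaf
  1118678))))) (.node 7 (.node 3 (.node 1 (.leaf
  981877) (.node 1 (.leaf
  198608) (.leaf
  1003))) (.node 2 (.node 1 (.leaf
  2196359) (.leaf
  806624)) (.node 1 (.leaf
  404) (.leaf
  36776)))) (.node 4 (.node 2 (.node 1 (.leaf
  135135) (.leaf
  806565)) (.node 1 (.leaf
  161609) (.leaf
  36789))) (.node 2 (.node 1 (.leaf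
  2783961) (.leaf
  2258273)) (.node 1 (.leaf
  1488120) (.leaf
  198954)))))) (.node 15 (.node 7 (.node 3 (.node 1 (.leaf
  2169097) (.node 1 (.leaf
  1612874) (.leaf
  150299))) (.node 2 (.node 1 (.leaf
  203422) (.leaf
  2142141)) (.node 1 (.leaf
  2161810) (.leaf
  2717250)))) (.node 4 (.node 2 (.node 1 (.leaf
  806602) (.leaf
  1117704)) (.node 1 (.leaf
  1118524) (.leaf
  820445))) (.node 2 (.node 1 (.leaf
  1250) (.leaf
  843810)) (.node 1 (.leaf
  1480561) (.leaf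
  2742790))))) (.node 7 (.node 3 (.node 1 (.leaf
  1488291) (.node 1 (.leaf
  2778407) (.leaf
  806450))) (.node 2 (.node 1 (.leaf
  1465637) (.leaf
  825)) (.node 1 (.leaf
  36604) (.leaf
  843079)))) (.node 4 (.node 2 (.node 1 (.leaf
  1336066) (.leaf
  323419)) (.node 1 (.leaf
  37587) (.leaf
  2393534))) (.node 2 (.node 1 (.leaf
  498477) (.leaf
  915306)) (.node 1 (.leaf
  162058) (.leaf
  2247616)))))))))) (.node 236 (.node 118 (.node 59 (.node 29 (.node 14 (.node 7 (.node 3 (.node 1 (.leaf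
  359308) (.node 1 (.leaf
  1036) (.leaf
  36566))) (.node 2 (.node 1 (.leaf
  359754) (.leaf
  198525)) (.node 1 (.leaf
  1102983) (.leaf
  689)))) (.node 3 (.node 1 (.leaf
  807348) (.node 1 (.leaf
  2393190) (.leaf
  2304181))) (.node 2 (.node 1 (.leaf
  134865) (.leaf
  1004981)) (.node 1 (.leaf
  2258913) (.leaf
  2362625))))) (.node 7 (.node 3 (.node 1 (.leaf
  680) (.node 1 (.leaf
  2142821) (.leaf
  336445))) (.node 2 (.node 1 (.leaf
  472776) (.leaf
  968384)) (.node 1 (.leaf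
  2639710) (.leaf
  843304)))) (.node 4 (.node 2 (.node 1 (.leaf
  2717258) (.leaf
  1375048)) (.node 1 (.leaf
  1336611) (.leaf
  1118346))) (.node 2 (.node 1 (.leaf
  162111) (.leaf
  2448644)) (.node 1 (.leaf
  1965205) (.leaf
  1103310)))))) (.node 15 (.node 7 (.node 3 (.node 1 (.leaf
  1354606) (.node 1 (.leaf
  806631) (.leaf
  2134210))) (.node 2 (.node 1 (.leaf
  484058) (.leaf
  1972178)) (.node 1 (.leaf
  1129119) (.leaf
  806430)))) (.node 4 (.node 2 (.node 1 (.leaf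
  199) (.leaf
  982313)) (.node 1 (.leaf
  76120) (.leaf
  76113))) (.node 2 (.node 1 (.leaf
  391390) (.leaf
  2303964)) (.node 1 (.leaf
  2169180) (.leaf
  806493))))) (.node 7 (.node 3 (.node 1 (.leaf
  93456) (.node 1 (.leaf
  1971968) (.leaf
  359338))) (.node 2 (.node 1 (.leaf
  2096865) (.leaf
  135094)) (.node 1 (.leaf
  1125693) (.leaf
  37382)))) (.node 4 (.node 2 (.node 1 (.leaf
  2231771) (.leaf
  323325)) (.node 1 (.leaf
  1129630) (.leaf
  1816281))) (.node 2 (.node 1 (.leaf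
  2142480) (.leaf
  1375252)) (.node 1 (.leaf
  1375132) (.leaf
  1950098))))))) (.node 29 (.node 14 (.node 7 (.node 3 (.node 1 (.leaf
  150668) (.node 1 (.leaf
  1964401) (.leaf
  2096911))) (.node 2 (.node 1 (.leaf
  2717233) (.leaf
  852034)) (.node 1 (.leaf
  2639704) (.leaf
  1742024)))) (.node 3 (.node 1 (.leaf
  1174529) (.node 1 (.leaf
  1642028) (.leaf
  2201540))) (.node 2 (.node 1 (.leaf
  645864) (.leaf
  1972605)) (.node 1 (.leaf
  2778405) (.leaf
  271604))))) (.node 7 (.node 3 (.node 1 (.leaf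
  900675) (.node 1 (.leaf
  2196310) (.leaf
  982554))) (.node 2 (.node 1 (.leaf
  2097087) (.leaf
  2096810)) (.node 1 (.leaf
  967883) (.leaf
  2778821)))) (.node 4 (.node 2 (.node 1 (.leaf
  1972725) (.leaf
  1165634)) (.node 1 (.leaf
  1613640) (.leaf
  2771478))) (.node 2 (.node 1 (.leaf
  968587) (.leaf
  2847705)) (.node 1 (.leaf
  2721834) (.leaf
  967908)))))) (.node 15 (.node 7 (.node 3 (.node 1 (.leaf
  1650032) (.node 1 (.leaf
  1004634) (.leaf
  2771486))) (.node 2 (.node 1 (.leaf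
  2097670) (.leaf
  2742425)) (.node 1 (.leaf
  1451664) (.leaf
  1374984)))) (.node 4 (.node 2 (.node 1 (.leaf
  1774854) (.leaf
  2169124)) (.node 1 (.leaf
  911426) (.leaf
  37345))) (.node 2 (.node 1 (.leaf
  2097327) (.leaf
  675023)) (.node 1 (.leaf
  806456) (.leaf
  337374))))) (.node 7 (.node 3 (.node 1 (.leaf
  2555357) (.node 1 (.leaf
  2342353) (.leaf
  2343123))) (.node 2 (.node 1 (.leaf
  1200801) (.leaf
  879210)) (.node 1 (.leaf
  2742225) (.leaf
  2133981)))) (.node 4 (.node 2 (.node 1 (.leaf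
  1060473) (.leaf
  2561181)) (.node 1 (.leaf
  36628) (.leaf
  2455814))) (.node 2 (.node 1 (.leaf
  323126) (.leaf
  1004268)) (.node 1 (.leaf
  2142059) (.leaf
  135544)))))))) (.node 59 (.node 29 (.node 14 (.node 7 (.node 3 (.node 1 (.leaf
  2168485) (.node 1 (.leaf
  981780) (.leaf
  2652978))) (.node 2 (.node 1 (.leaf
  1165879) (.leaf
  1972784)) (.node 1 (.leaf
  2044619) (.leaf
  1972826)))) (.node 3 (.node 1 (.leaf
  1414909) (.node 1 (.leaf
  484662) (.leaf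
  2168603))) (.node 2 (.node 1 (.leaf
  967970) (.leaf
  1972374)) (.node 1 (.leaf
  2142400) (.leaf
  1949572))))) (.node 7 (.node 3 (.node 1 (.leaf
  552123) (.node 1 (.leaf
  2716761) (.leaf
  2833378))) (.node 2 (.node 1 (.leaf
  36747) (.leaf
  473460)) (.node 1 (.leaf
  2841965) (.leaf
  1480647)))) (.node 4 (.node 2 (.node 1 (.leaf
  835390) (.leaf
  513609)) (.node 1 (.leaf
  2142052) (.leaf
  2258802))) (.node 2 (.node 1 (.leaf
  2832614) (.leaf
  1612849)) (.node 1 (.leaf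
  982004) (.leaf
  37262)))))) (.node 15 (.node 7 (.node 3 (.node 1 (.leaf
  851891) (.node 1 (.leaf
  2232568) (.leaf
  957578))) (.node 2 (.node 1 (.leaf
  121249) (.leaf
  2302817)) (.node 1 (.leaf
  1117808) (.leaf
  2110599)))) (.node 4 (.node 2 (.node 1 (.leaf
  1089665) (.leaf
  2246898)) (.node 1 (.leaf
  2377231) (.leaf
  121868))) (.node 2 (.node 1 (.leaf
  135628) (.leaf
  2097417)) (.node 1 (.leaf
  2555401) (.leaf
  1493705))))) (.node 7 (.node 3 (.node 1 (.leaf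
  907094) (.node 1 (.leaf
  198875) (.leaf
  843795))) (.node 2 (.node 1 (.leaf
  135711) (.leaf
  37338)) (.node 1 (.leaf
  36767) (.leaf
  42083)))) (.node 4 (.node 2 (.node 1 (.leaf
  41910) (.leaf
  1354544)) (.node 1 (.leaf
  1118147) (.leaf
  2742524))) (.node 2 (.node 1 (.leaf
  1627038) (.leaf
  2142126)) (.node 1 (.leaf
  2246758) (.leaf
  1936318))))))) (.node 29 (.node 14 (.node 7 (.node 3 (.node 1 (.leaf
  2287179) (.node 1 (.leaf
  2142670) (.leaf
  806614))) (.node 2 (.node 1 (.leaf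
  2778414) (.leaf
  1488122)) (.node 1 (.leaf
  268) (.leaf
  37526)))) (.node 3 (.node 1 (.leaf
  2626500) (.node 1 (.leaf
  2342384) (.leaf
  1774102))) (.node 2 (.node 1 (.leaf
  1775017) (.leaf
  1536732)) (.node 1 (.leaf
  2848511) (.leaf
  2133210))))) (.node 7 (.node 3 (.node 1 (.leaf
  2287190) (.node 1 (.leaf
  1375503) (.leaf
  2258032))) (.node 2 (.node 1 (.leaf
  198128) (.leaf
  520776)) (.node 1 (.leaf
  198582) (.leaf
  513664)))) (.node 4 (.node 2 (.node 1 (.leaf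
  1103408) (.leaf
  76531)) (.node 1 (.leaf
  967789) (.leaf
  1336353))) (.node 2 (.node 1 (.leaf
  2247365) (.leaf
  2877967)) (.node 1 (.leaf
  2206196) (.leaf
  149)))))) (.node 15 (.node 7 (.node 3 (.node 1 (.leaf
  498269) (.node 1 (.leaf
  1201424) (.leaf
  136058))) (.node 2 (.node 1 (.leaf
  416761) (.leaf
  1117929)) (.node 1 (.leaf
  37140) (.leaf
  1558284)))) (.node 4 (.node 2 (.node 1 (.leaf
  552485) (.leaf
  748)) (.node 1 (.leaf
  322767) (.leaf
  36677))) (.node 2 (.node 1 (.leaf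
  351920) (.leaf
  851790)) (.node 1 (.leaf
  967929) (.leaf
  852533))))) (.node 7 (.node 3 (.node 1 (.leaf
  2246849) (.node 1 (.leaf
  2294584) (.leaf
  513502))) (.node 2 (.node 1 (.leaf
  1396328) (.leaf
  1480599)) (.node 1 (.leaf
  76086) (.leaf
  1375233)))) (.node 4 (.node 2 (.node 1 (.leaf
  688) (.leaf
  1396080)) (.node 1 (.leaf
  1965252) (.leaf
  1004897))) (.node 2 (.node 1 (.leaf
  2196908) (.leaf
  2202019)) (.node 1 (.leaf
  198526) (.leaf
  2072315))))))))) (.node 118 (.node 59 (.node 29 (.node 14 (.node 7 (.node 3 (.node 1 (.leaf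
  2232314) (.node 1 (.leaf
  337402) (.leaf
  1125917))) (.node 2 (.node 1 (.leaf
  2742158) (.leaf
  485090)) (.node 1 (.leaf
  1775045) (.leaf
  198520)))) (.node 3 (.node 1 (.leaf
  1481238) (.node 1 (.leaf
  484670) (.leaf
  121986))) (.node 2 (.node 1 (.leaf
  498571) (.leaf
  1613478)) (.node 1 (.leaf
  2232491) (.leaf
  911923))))) (.node 7 (.node 3 (.node 1 (.leaf
  2364525) (.node 1 (.leaf
  1129034) (.leaf
  359406))) (.node 2 (.node 1 (.leaf
  2097383) (.leaf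
  1077)) (.node 1 (.leaf
  376555) (.leaf
  2581570)))) (.node 4 (.node 2 (.node 1 (.leaf
  2715472) (.leaf
  1126009)) (.node 1 (.leaf
  2892813) (.leaf
  551976))) (.node 2 (.node 1 (.leaf
  1810995) (.leaf
  1005382)) (.node 1 (.leaf
  1118640) (.leaf
  2841393)))))) (.node 15 (.node 7 (.node 3 (.node 1 (.leaf
  2169553) (.node 1 (.leaf
  537679) (.leaf
  1102993))) (.node 2 (.node 1 (.leaf
  1102708) (.leaf
  2358184)) (.node 1 (.leaf
  1005017) (.leaf
  2884043)))) (.node 4 (.node 2 (.node 1 (.leaf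
  2393454) (.leaf
  278533)) (.node 1 (.leaf
  1586893) (.leaf
  1118104))) (.node 2 (.node 1 (.leaf
  941403) (.leaf
  2877694)) (.node 1 (.leaf
  321) (.leaf
  36616))))) (.node 7 (.node 3 (.node 1 (.leaf
  941305) (.node 1 (.leaf
  2771556) (.leaf
  521172))) (.node 2 (.node 1 (.leaf
  1355274) (.leaf
  484001)) (.node 1 (.leaf
  2625916) (.leaf
  2434034)))) (.node 4 (.node 2 (.node 1 (.leaf
  359375) (.leaf
  852709)) (.node 1 (.leaf
  37043) (.leaf
  76749))) (.node 2 (.node 1 (.leaf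
  681682) (.leaf
  2196899)) (.node 1 (.leaf
  2393536) (.leaf
  161516))))))) (.node 29 (.node 14 (.node 7 (.node 3 (.node 1 (.leaf
  197850) (.node 1 (.leaf
  13902) (.leaf
  2462019))) (.node 2 (.node 1 (.leaf
  2784311) (.leaf
  151098)) (.node 1 (.leaf
  1613588) (.leaf
  1396104)))) (.node 3 (.node 1 (.leaf
  1321089) (.node 1 (.leaf
  1466223) (.leaf
  2787922))) (.node 2 (.node 1 (.leaf
  390896) (.leaf
  2343018)) (.node 1 (.leaf
  2168482) (.leaf
  956610))))) (.node 7 (.node 3 (.node 1 (.leaf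
  997348) (.node 1 (.leaf
  484029) (.leaf
  391257))) (.node 2 (.node 1 (.leaf
  2408902) (.leaf
  1129665)) (.node 1 (.leaf
  2860383) (.leaf
  135181)))) (.node 4 (.node 2 (.node 1 (.leaf
  2876859) (.leaf
  36626)) (.node 1 (.leaf
  957331) (.leaf
  956517))) (.node 2 (.node 1 (.leaf
  36998) (.leaf
  2097466)) (.node 1 (.leaf
  2555286) (.leaf
  956741)))))) (.node 15 (.node 7 (.node 3 (.node 1 (.leaf
  2247245) (.node 1 (.leaf
  1174434) (.leaf
  806918))) (.node 2 (.node 1 (.leaf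
  807297) (.leaf
  1102864)) (.node 1 (.leaf
  513605) (.leaf
  2625913)))) (.node 4 (.node 2 (.node 1 (.leaf
  2343091) (.leaf
  1059844)) (.node 1 (.leaf
  75931) (.leaf
  135920))) (.node 2 (.node 1 (.leaf
  1936407) (.leaf
  848544)) (.node 1 (.leaf
  42560) (.leaf
  934))))) (.node 7 (.node 3 (.node 1 (.leaf
  364289) (.node 1 (.leaf
  37206) (.leaf
  150308))) (.node 2 (.node 1 (.leaf
  1321600) (.leaf
  1375003)) (.node 1 (.leaf
  336670) (.leaf
  2555391)))) (.node 4 (.node 2 (.node 1 (.leaf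
  996850) (.leaf
  1136518)) (.node 1 (.leaf
  337298) (.leaf
  1335841))) (.node 2 (.node 1 (.leaf
  2071736) (.leaf
  36796)) (.node 1 (.leaf
  2038341) (.leaf
  337050)))))))) (.node 59 (.node 29 (.node 14 (.node 7 (.node 3 (.node 1 (.leaf
  1336845) (.node 1 (.leaf
  375988) (.leaf
  911815))) (.node 2 (.node 1 (.leaf
  2626492) (.leaf
  2717385)) (.node 1 (.leaf
  2560456) (.leaf
  2848612)))) (.node 3 (.node 1 (.leaf
  645143) (.node 1 (.leaf
  1129700) (.leaf
  2456418))) (.node 2 (.node 1 (.leaf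
  2142688) (.leaf
  2258728)) (.node 1 (.leaf
  150033) (.leaf
  2097007))))) (.node 7 (.node 3 (.node 1 (.leaf
  375713) (.node 1 (.leaf
  337572) (.leaf
  560))) (.node 2 (.node 1 (.leaf
  1118344) (.leaf
  843168)) (.node 1 (.leaf
  956434) (.leaf
  802)))) (.node 4 (.node 2 (.node 1 (.leaf
  806578) (.leaf
  1004276)) (.node 1 (.leaf
  2258850) (.leaf
  968482))) (.node 2 (.node 1 (.leaf
  179) (.leaf
  2143165)) (.node 1 (.leaf
  337345) (.leaf
  942436)))))) (.node 15 (.node 7 (.node 3 (.node 1 (.leaf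
  806769) (.node 1 (.leaf
  121269) (.leaf
  806770))) (.node 2 (.node 1 (.leaf
  956613) (.leaf
  238)) (.node 1 (.leaf
  2742243) (.leaf
  359217)))) (.node 4 (.node 2 (.node 1 (.leaf
  1375734) (.leaf
  76837)) (.node 1 (.leaf
  1480839) (.leaf
  2717194))) (.node 2 (.node 1 (.leaf
  36854) (.leaf
  1748861)) (.node 1 (.leaf
  852711) (.leaf
  1741365))))) (.node 7 (.node 3 (.node 1 (.leaf
  912098) (.node 1 (.leaf
  950546) (.leaf
  203430))) (.node 2 (.node 1 (.leaf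
  2197080) (.leaf
  308)) (.node 1 (.leaf
  2240180) (.leaf
  1396121)))) (.node 4 (.node 2 (.node 1 (.leaf
  46165) (.leaf
  1570579)) (.node 1 (.leaf
  483948) (.leaf
  1174710))) (.node 2 (.node 1 (.leaf
  1117789) (.leaf
  2771709)) (.node 1 (.leaf
  1972574) (.leaf
  967699))))))) (.node 30 (.node 15 (.node 7 (.node 3 (.node 1 (.leaf
  161477) (.node 1 (.leaf
  2133350) (.leaf
  483988))) (.node 2 (.node 1 (.leaf
  2778649) (.leaf
  1374958)) (.node 1 (.leaf
  1642794) (.leaf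
  498011)))) (.node 4 (.node 2 (.node 1 (.leaf
  1650201) (.leaf
  982189)) (.node 1 (.leaf
  2556120) (.leaf
  46078))) (.node 2 (.node 1 (.leaf
  2455785) (.leaf
  982353)) (.node 1 (.leaf
  36618) (.leaf
  398668))))) (.node 7 (.node 3 (.node 1 (.leaf
  1004857) (.node 1 (.leaf
  2142065) (.leaf
  150696))) (.node 2 (.node 1 (.leaf
  391574) (.leaf
  871474)) (.node 1 (.leaf
  674384) (.leaf
  405266)))) (.node 4 (.node 2 (.node 1 (.leaf
  71902) (.leaf
  198105)) (.node 1 (.leaf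
  76089) (.leaf
  818))) (.node 2 (.node 1 (.leaf
  2110685) (.leaf
  1408887)) (.node 1 (.leaf
  1950203) (.leaf
  1972779)))))) (.node 15 (.node 7 (.node 3 (.node 1 (.leaf
  473456) (.node 1 (.leaf
  2841356) (.leaf
  391172))) (.node 2 (.node 1 (.leaf
  1950050) (.leaf
  2716896)) (.node 1 (.leaf
  1613730) (.leaf
  2142668)))) (.node 4 (.node 2 (.node 1 (.leaf
  968340) (.leaf
  1004457)) (.node 1 (.leaf
  151153) (.leaf
  2742722))) (.node 2 (.node 1 (.leaf
  161979) (.leaf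
  2833254)) (.node 1 (.leaf
  1613436) (.leaf
  981565))))) (.node 7 (.node 3 (.node 1 (.leaf
  2246708) (.node 1 (.leaf
  2142399) (.leaf
  484574))) (.node 2 (.node 1 (.leaf
  2133892) (.leaf
  1571195)) (.node 1 (.leaf
  180) (.leaf
  1396721)))) (.node 4 (.node 2 (.node 1 (.leaf
  1774367) (.leaf
  967772)) (.node 1 (.leaf
  2072139) (.leaf
  2891878))) (.node 2 (.node 1 (.leaf
  1774750) (.leaf
  1481275)) (.node 1 (.leaf
  336773) (.leaf
  2096746))))))))))) (.node 472 (.node 236 (.node 118 (.node 59 (.node 29 (.node 14 (.node 7 (.node 3 (.node 1 (.leaf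
  1613544) (.node 1 (.leaf
  322707) (.leaf
  1973156))) (.node 2 (.node 1 (.leaf
  365105) (.leaf
  967683)) (.node 1 (.leaf
  1613196) (.leaf
  359221)))) (.node 3 (.node 1 (.leaf
  1570926) (.node 1 (.leaf
  2393539) (.leaf
  2379608))) (.node 2 (.node 1 (.leaf
  198022) (.leaf
  72762)) (.node 1 (.leaf
  134883) (.leaf
  2419619))))) (.node 7 (.node 3 (.node 1 (.leaf
  1060552) (.node 1 (.leaf
  76106) (.leaf
  2348757))) (.node 2 (.node 1 (.leaf
  1972822) (.leaf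
  1612807)) (.node 1 (.leaf
  957337) (.leaf
  2096793)))) (.node 4 (.node 2 (.node 1 (.leaf
  36774) (.leaf
  1488354)) (.node 1 (.leaf
  982451) (.leaf
  360121))) (.node 2 (.node 1 (.leaf
  835754) (.leaf
  1129122)) (.node 1 (.leaf
  2294641) (.leaf
  2342693)))))) (.node 15 (.node 7 (.node 3 (.node 1 (.leaf
  2393818) (.node 1 (.leaf
  2348853) (.leaf
  2741902))) (.node 2 (.node 1 (.leaf
  645826) (.leaf
  99811)) (.node 1 (.leaf
  1004250) (.leaf
  2343026)))) (.node 4 (.node 2 (.node 1 (.leaf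
  942020) (.leaf
  497854)) (.node 1 (.leaf
  852452) (.leaf
  502))) (.node 2 (.node 1 (.leaf
  2455762) (.leaf
  2721836)) (.node 1 (.leaf
  2104089) (.leaf
  843570))))) (.node 7 (.node 3 (.node 1 (.leaf
  739905) (.node 1 (.leaf
  560251) (.leaf
  2247578))) (.node 2 (.node 1 (.leaf
  484581) (.leaf
  14049)) (.node 1 (.leaf
  198489) (.leaf
  2258625)))) (.node 4 (.node 2 (.node 1 (.leaf
  560013) (.leaf
  359882)) (.node 1 (.leaf
  806483) (.leaf
  1972730))) (.node 2 (.node 1 (.leaf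
  2133901) (.leaf
  982359)) (.node 1 (.leaf
  2716589) (.leaf
  2201350))))))) (.node 29 (.node 14 (.node 7 (.node 3 (.node 1 (.leaf
  681989) (.node 1 (.leaf
  2722311) (.leaf
  1396462))) (.node 2 (.node 1 (.leaf
  968374) (.leaf
  2161717)) (.node 1 (.leaf
  849211) (.leaf
  162141)))) (.node 3 (.node 1 (.leaf
  2847719) (.node 1 (.leaf
  1557364) (.leaf
  2169354))) (.node 2 (.node 1 (.leaf
  359183) (.leaf
  2097437)) (.node 1 (.leaf
  2652330) (.leaf
  2168468))))) (.node 7 (.node 3 (.node 1 (.leaf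
  365015) (.node 1 (.leaf
  842989) (.leaf
  2826625))) (.node 2 (.node 1 (.leaf
  645801) (.leaf
  2741819)) (.node 1 (.leaf
  36750) (.leaf
  484655)))) (.node 4 (.node 2 (.node 1 (.leaf
  2232125) (.leaf
  2626477)) (.node 1 (.leaf
  2142680) (.leaf
  2097449))) (.node 2 (.node 1 (.leaf
  37550) (.leaf
  2357884)) (.node 1 (.leaf
  1153) (.leaf
  1480525)))))) (.node 15 (.node 7 (.node 3 (.node 1 (.leaf
  1494350) (.node 1 (.leaf
  1117980) (.leaf
  721780))) (.node 2 (.node 1 (.leaf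
  1089558) (.leaf
  2555661)) (.node 1 (.leaf
  2863001) (.leaf
  2168726)))) (.node 4 (.node 2 (.node 1 (.leaf
  36624) (.leaf
  1126273)) (.node 1 (.leaf
  852478) (.leaf
  2771746))) (.node 2 (.node 1 (.leaf
  2555329) (.leaf
  37757)) (.node 1 (.leaf
  351866) (.leaf
  323415))))) (.node 7 (.node 3 (.node 1 (.leaf
  2232308) (.node 1 (.leaf
  1126091) (.leaf
  1355238))) (.node 2 (.node 1 (.leaf
  520395) (.leaf
  99907)) (.node 1 (.leaf
  2247266) (.leaf
  806916)))) (.node 4 (.node 2 (.node 1 (.leaf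
  150334) (.leaf
  46258)) (.node 1 (.leaf
  359531) (.leaf
  883070))) (.node 2 (.node 1 (.leaf
  76103) (.leaf
  42103)) (.node 1 (.leaf
  36926) (.leaf
  1950106)))))))) (.node 59 (.node 29 (.node 14 (.node 7 (.node 3 (.node 1 (.leaf
  1251) (.node 1 (.leaf
  2716852) (.leaf
  2343171))) (.node 2 (.node 1 (.leaf
  849) (.leaf
  2272745)) (.node 1 (.leaf
  968383) (.leaf
  2295302)))) (.node 3 (.node 1 (.leaf
  1613631) (.node 1 (.leaf
  900790) (.leaf
  497742))) (.node 2 (.node 1 (.leaf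
  895) (.leaf
  2833303)) (.node 1 (.leaf
  871388) (.leaf
  105383))))) (.node 7 (.node 3 (.node 1 (.leaf
  1408740) (.node 1 (.leaf
  1175001) (.leaf
  724))) (.node 2 (.node 1 (.leaf
  2096789) (.leaf
  844102)) (.node 1 (.leaf
  982232) (.leaf
  37394)))) (.node 4 (.node 2 (.node 1 (.leaf
  981545) (.leaf
  1811494)) (.node 1 (.leaf
  1811457) (.leaf
  1414221))) (.node 2 (.node 1 (.leaf
  1005315) (.leaf
  1810660)) (.node 1 (.leaf
  2742624) (.leaf
  365343)))))) (.node 15 (.node 7 (.node 3 (.node 1 (.leaf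
  2876941) (.node 1 (.leaf
  14527) (.leaf
  336582))) (.node 2 (.node 1 (.leaf
  2142962) (.leaf
  878993)) (.node 1 (.leaf
  2836110) (.leaf
  2711168)))) (.node 4 (.node 2 (.node 1 (.leaf
  559952) (.leaf
  364295)) (.node 1 (.leaf
  968142) (.leaf
  997023))) (.node 2 (.node 1 (.leaf
  391638) (.leaf
  484480)) (.node 1 (.leaf
  1060582) (.leaf
  1642755))))) (.node 7 (.node 3 (.node 1 (.leaf
  198510) (.node 1 (.leaf
  559911) (.leaf
  198240))) (.node 2 (.node 1 (.leaf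
  2133348) (.leaf
  2449042)) (.node 1 (.leaf
  2133990) (.leaf
  645164)))) (.node 4 (.node 2 (.node 1 (.leaf
  2044698) (.leaf
  76790)) (.node 1 (.leaf
  2555305) (.leaf
  2097287))) (.node 2 (.node 1 (.leaf
  2258122) (.leaf
  2247428)) (.node 1 (.leaf
  2142766) (.leaf
  1004917))))))) (.node 29 (.node 14 (.node 7 (.node 3 (.node 1 (.leaf
  559682) (.node 1 (.leaf
  1488196) (.leaf
  1004339))) (.node 2 (.node 1 (.leaf
  2742697) (.leaf
  1767846)) (.node 1 (.leaf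
  364249) (.leaf
  842943)))) (.node 3 (.node 1 (.leaf
  823404) (.node 1 (.leaf
  2393894) (.leaf
  637))) (.node 2 (.node 1 (.leaf
  1977138) (.leaf
  997012)) (.node 1 (.leaf
  2342442) (.leaf
  36867))))) (.node 7 (.node 3 (.node 1 (.leaf
  1935779) (.node 1 (.leaf
  2625977) (.leaf
  29081))) (.node 2 (.node 1 (.leaf
  36578) (.leaf
  2232489)) (.node 1 (.leaf
  150978) (.leaf
  2626176)))) (.node 4 (.node 2 (.node 1 (.leaf
  36751) (.leaf
  375619)) (.node 1 (.leaf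
  336431) (.leaf
  198581))) (.node 2 (.node 1 (.leaf
  1488663) (.leaf
  336664)) (.node 1 (.leaf
  498669) (.leaf
  352106)))))) (.node 15 (.node 7 (.node 3 (.node 1 (.leaf
  75981) (.node 1 (.leaf
  2169563) (.leaf
  981643))) (.node 2 (.node 1 (.leaf
  645265) (.leaf
  2097371)) (.node 1 (.leaf
  1355172) (.leaf
  997498)))) (.node 4 (.node 2 (.node 1 (.leaf
  2455747) (.leaf
  2169150)) (.node 1 (.leaf
  391478) (.leaf
  2142180))) (.node 2 (.node 1 (.leaf
  391672) (.leaf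
  55)) (.node 1 (.leaf
  941346) (.leaf
  150587))))) (.node 7 (.node 3 (.node 1 (.leaf
  806626) (.node 1 (.leaf
  1004255) (.leaf
  2258857))) (.node 2 (.node 1 (.leaf
  968365) (.leaf
  376527)) (.node 1 (.leaf
  36941) (.leaf
  418)))) (.node 4 (.node 2 (.node 1 (.leaf
  1375643) (.leaf
  1030)) (.node 1 (.leaf
  942433) (.leaf
  806625))) (.node 2 (.node 1 (.leaf
  806810) (.leaf
  336721)) (.node 1 (.leaf
  1005024) (.leaf
  857))))))))) (.node 118 (.node 59 (.node 29 (.node 14 (.node 7 (.node 3 (.node 1 (.leaf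
  45528) (.node 1 (.leaf
  1972911) (.leaf
  982463))) (.node 2 (.node 1 (.leaf
  1005214) (.leaf
  1775105)) (.node 1 (.leaf
  645322) (.leaf
  2232364)))) (.node 3 (.node 1 (.leaf
  1004973) (.node 1 (.leaf
  2742026) (.leaf
  2419897))) (.node 2 (.node 1 (.leaf
  2294645) (.leaf
  2342692)) (.node 1 (.leaf
  2196541) (.leaf
  1543127))))) (.node 7 (.node 3 (.node 1 (.leaf
  1451777) (.node 1 (.leaf
  398267) (.leaf
  982402))) (.node 2 (.node 1 (.leaf
  135584) (.leaf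
  1820099)) (.node 1 (.leaf
  956510) (.leaf
  2235720)))) (.node 4 (.node 2 (.node 1 (.leaf
  36641) (.leaf
  14237)) (.node 1 (.leaf
  968100) (.leaf
  2342375))) (.node 2 (.node 1 (.leaf
  2456202) (.leaf
  2329757)) (.node 1 (.leaf
  1451678) (.leaf
  525484)))))) (.node 15 (.node 7 (.node 3 (.node 1 (.leaf
  842951) (.node 1 (.leaf
  2717430) (.leaf
  359218))) (.node 2 (.node 1 (.leaf
  391799) (.leaf
  807081)) (.node 1 (.leaf
  2258594) (.leaf
  981917)))) (.node 4 (.node 2 (.node 1 (.leaf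
  807525) (.leaf
  237945)) (.node 1 (.leaf
  1767928) (.leaf
  0))) (.node 2 (.node 1 (.leaf
  968075) (.leaf
  2247656)) (.node 1 (.leaf
  1493701) (.leaf
  334))))) (.node 7 (.node 3 (.node 1 (.leaf
  1977374) (.node 1 (.leaf
  14234) (.leaf
  1977862))) (.node 2 (.node 1 (.leaf
  2456209) (.leaf
  1201481)) (.node 1 (.leaf
  2068717) (.leaf
  484515)))) (.node 4 (.node 2 (.node 1 (.leaf
  1320771) (.leaf
  2770906)) (.node 1 (.leaf
  1035617) (.leaf
  2455861))) (.node 2 (.node 1 (.leaf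
  191354) (.leaf
  559778)) (.node 1 (.leaf
  2742786) (.leaf
  968347))))))) (.node 29 (.node 14 (.node 7 (.node 3 (.node 1 (.leaf
  1755292) (.node 1 (.leaf
  942075) (.leaf
  2097272))) (.node 2 (.node 1 (.leaf
  1488444) (.leaf
  198783)) (.node 1 (.leaf
  86) (.leaf
  76201)))) (.node 3 (.node 1 (.leaf
  957586) (.node 1 (.leaf
  2287646) (.leaf
  1129064))) (.node 2 (.node 1 (.leaf
  2717256) (.leaf
  36623)) (.node 1 (.leaf
  2555972) (.leaf
  37233))))) (.node 7 (.node 3 (.node 1 (.leaf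
  645468) (.node 1 (.leaf
  311522) (.leaf
  2011819))) (.node 2 (.node 1 (.leaf
  807339) (.leaf
  1102620)) (.node 1 (.leaf
  807104) (.leaf
  322776)))) (.node 4 (.node 2 (.node 1 (.leaf
  323062) (.leaf
  1816804)) (.node 1 (.leaf
  513536) (.leaf
  1874427))) (.node 2 (.node 1 (.leaf
  1481241) (.leaf
  1949515)) (.node 1 (.leaf
  359352) (.leaf
  957444)))))) (.node 15 (.node 7 (.node 3 (.node 1 (.leaf
  1004253) (.node 1 (.leaf
  1488085) (.leaf
  2779458))) (.node 2 (.node 1 (.leaf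
  1805421) (.leaf
  296461)) (.node 1 (.leaf
  806751) (.leaf
  957146)))) (.node 4 (.node 2 (.node 1 (.leaf
  1972681) (.leaf
  1451638)) (.node 1 (.leaf
  1846902) (.leaf
  1279338))) (.node 2 (.node 1 (.leaf
  296894) (.leaf
  1264467)) (.node 1 (.leaf
  2722610) (.leaf
  1263953))))) (.node 7 (.node 3 (.node 1 (.leaf
  198273) (.node 1 (.leaf
  1341691) (.leaf
  2461251))) (.node 2 (.node 1 (.leaf
  2142155) (.leaf
  2169199)) (.node 1 (.leaf
  1356203) (.leaf
  1763672)))) (.node 4 (.node 2 (.node 1 (.leaf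
  151133) (.leaf
  135396)) (.node 1 (.leaf
  1375504) (.leaf
  1166420))) (.node 2 (.node 1 (.leaf
  2848523) (.leaf
  2169336)) (.node 1 (.leaf
  2294578) (.leaf
  2127497)))))))) (.node 59 (.node 29 (.node 14 (.node 7 (.node 3 (.node 1 (.leaf
  1165890) (.node 1 (.leaf
  1396358) (.leaf
  2286979))) (.node 2 (.node 1 (.leaf
  904) (.leaf
  36742)) (.node 1 (.leaf
  843103) (.leaf
  806689)))) (.node 3 (.node 1 (.leaf
  836013) (.node 1 (.leaf
  552752) (.leaf
  36871))) (.node 2 (.node 1 (.leaf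
  238022) (.leaf
  150464)) (.node 1 (.leaf
  1355264) (.leaf
  484592))))) (.node 7 (.node 3 (.node 1 (.leaf
  1613775) (.node 1 (.leaf
  520735) (.leaf
  2097296))) (.node 2 (.node 1 (.leaf
  2287143) (.leaf
  2142067)) (.node 1 (.leaf
  2142749) (.leaf
  956470)))) (.node 4 (.node 2 (.node 1 (.leaf
  997470) (.leaf
  323468)) (.node 1 (.leaf
  2196709) (.leaf
  1044479))) (.node 2 (.node 1 (.leaf
  2783854) (.leaf
  645239)) (.node 1 (.leaf
  150584) (.leaf
  2168628)))))) (.node 15 (.node 7 (.node 3 (.node 1 (.leaf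
  161700) (.node 1 (.leaf
  484217) (.leaf
  997357))) (.node 2 (.node 1 (.leaf
  1396090) (.leaf
  1493669)) (.node 1 (.leaf
  2455980) (.leaf
  364384)))) (.node 4 (.node 2 (.node 1 (.leaf
  2408416) (.leaf
  391339)) (.node 1 (.leaf
  1811399) (.leaf
  560581))) (.node 2 (.node 1 (.leaf
  1129339) (.leaf
  365110)) (.node 1 (.leaf
  2196273) (.leaf
  2771569))))) (.node 7 (.node 3 (.node 1 (.leaf
  29259) (.node 1 (.leaf
  2286942) (.leaf
  1409812))) (.node 2 (.node 1 (.leaf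
  484494) (.leaf
  740)) (.node 1 (.leaf
  198686) (.leaf
  806935)))) (.node 4 (.node 2 (.node 1 (.leaf
  238119) (.leaf
  835566)) (.node 1 (.leaf
  2779201) (.leaf
  2133238))) (.node 2 (.node 1 (.leaf
  1488787) (.leaf
  645195)) (.node 1 (.leaf
  968332) (.leaf
  1166284))))))) (.node 29 (.node 14 (.node 7 (.node 3 (.node 1 (.leaf
  1321103) (.node 1 (.leaf
  76018) (.leaf
  352048))) (.node 2 (.node 1 (.leaf
  2555392) (.leaf
  2096733)) (.node 1 (.leaf
  906117) (.leaf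
  513612)))) (.node 3 (.node 1 (.leaf
  2755764) (.node 1 (.leaf
  1742000) (.leaf
  364167))) (.node 2 (.node 1 (.leaf
  2751193) (.leaf
  2393268)) (.node 1 (.leaf
  48) (.leaf
  1977018))))) (.node 7 (.node 3 (.node 1 (.leaf
  364732) (.node 1 (.leaf
  806447) (.leaf
  37286))) (.node 2 (.node 1 (.leaf
  843642) (.leaf
  1126186)) (.node 1 (.leaf
  37305) (.leaf
  2072121)))) (.node 4 (.node 2 (.node 1 (.leaf
  150358) (.leaf
  2294532)) (.node 1 (.leaf
  151006) (.leaf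
  1349674))) (.node 2 (.node 1 (.leaf
  1118300) (.leaf
  1166278)) (.node 1 (.leaf
  982638) (.leaf
  2742599)))))) (.node 15 (.node 7 (.node 3 (.node 1 (.leaf
  2721760) (.node 1 (.leaf
  1936150) (.leaf
  1126423))) (.node 2 (.node 1 (.leaf
  956554) (.leaf
  2787018)) (.node 1 (.leaf
  2142839) (.leaf
  150620)))) (.node 4 (.node 2 (.node 1 (.leaf
  1004338) (.leaf
  1125761)) (.node 1 (.leaf
  807144) (.leaf
  150354))) (.node 2 (.node 1 (.leaf
  2096850) (.leaf
  645793)) (.node 1 (.leaf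
  161553) (.leaf
  1811453))))) (.node 7 (.node 3 (.node 1 (.leaf
  1118034) (.node 1 (.leaf
  2247304) (.leaf
  36658))) (.node 2 (.node 1 (.leaf
  1649488) (.leaf
  2202207)) (.node 1 (.leaf
  323324) (.leaf
  1381198)))) (.node 4 (.node 2 (.node 1 (.leaf
  2848336) (.leaf
  1909366)) (.node 1 (.leaf
  645466) (.leaf
  807075))) (.node 2 (.node 1 (.leaf
  1972076) (.leaf
  560140)) (.node 1 (.leaf
  2877384) (.leaf
  1972242)))))))))) (.node 236 (.node 118 (.node 59 (.node 29 (.node 14 (.node 7 (.node 3 (.node 1 (.leaf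
  2779040) (.node 1 (.leaf
  1775135) (.leaf
  634858))) (.node 2 (.node 1 (.leaf
  2433475) (.leaf
  1816001)) (.node 1 (.leaf
  2625869) (.leaf
  806705)))) (.node 3 (.node 1 (.leaf
  150582) (.node 1 (.leaf
  1488930) (.leaf
  1451672))) (.node 2 (.node 1 (.leaf
  162176) (.leaf
  1712514)) (.node 1 (.leaf
  807131) (.leaf
  359533))))) (.node 7 (.node 3 (.node 1 (.leaf
  807574) (.node 1 (.leaf
  1005304) (.leaf
  807222))) (.node 2 (.node 1 (.leaf
  842986) (.leaf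
  36838)) (.node 1 (.leaf
  151130) (.leaf
  117)))) (.node 4 (.node 2 (.node 1 (.leaf
  37614) (.leaf
  135717)) (.node 1 (.leaf
  852585) (.leaf
  393))) (.node 2 (.node 1 (.leaf
  2295136) (.leaf
  151146)) (.node 1 (.leaf
  1354739) (.leaf
  1375103)))))) (.node 15 (.node 7 (.node 3 (.node 1 (.leaf
  1118201) (.node 1 (.leaf
  2393012) (.leaf
  1642518))) (.node 2 (.node 1 (.leaf
  941773) (.leaf
  645754)) (.node 1 (.leaf
  2133411) (.leaf
  1165811)))) (.node 4 (.node 2 (.node 1 (.leaf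
  2393293) (.leaf
  1972727)) (.node 1 (.leaf
  907016) (.leaf
  520733))) (.node 2 (.node 1 (.leaf
  2722363) (.leaf
  941492)) (.node 1 (.leaf
  2357906) (.leaf
  2364434))))) (.node 7 (.node 3 (.node 1 (.leaf
  1005153) (.node 1 (.leaf
  1452593) (.leaf
  2877491))) (.node 2 (.node 1 (.leaf
  322704) (.leaf
  2201580)) (.node 1 (.leaf
  2304105) (.leaf
  36692)))) (.node 4 (.node 2 (.node 1 (.leaf
  674800) (.leaf
  1396922)) (.node 1 (.leaf
  996995) (.leaf
  498084))) (.node 2 (.node 1 (.leaf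
  337393) (.leaf
  2560350)) (.node 1 (.leaf
  967707) (.leaf
  2848471))))))) (.node 29 (.node 14 (.node 7 (.node 3 (.node 1 (.leaf
  497939) (.node 1 (.leaf
  444086) (.leaf
  2231968))) (.node 2 (.node 1 (.leaf
  745) (.leaf
  806890)) (.node 1 (.leaf
  806973) (.leaf
  2611953)))) (.node 3 (.node 1 (.leaf
  162420) (.node 1 (.leaf
  2097248) (.leaf
  2342660))) (.node 2 (.node 1 (.leaf
  1768440) (.leaf
  360303)) (.node 1 (.leaf
  878243) (.leaf
  2037993))))) (.node 7 (.node 3 (.node 1 (.leaf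
  198061) (.node 1 (.leaf
  659444) (.leaf
  198829))) (.node 2 (.node 1 (.leaf
  782) (.leaf
  2722443)) (.node 1 (.leaf
  513863) (.leaf
  2201490)))) (.node 4 (.node 2 (.node 1 (.leaf
  681994) (.leaf
  2258024)) (.node 1 (.leaf
  1774761) (.leaf
  2779124))) (.node 2 (.node 1 (.leaf
  359394) (.leaf
  150659)) (.node 1 (.leaf
  2826435) (.leaf
  2742455)))))) (.node 15 (.node 7 (.node 3 (.node 1 (.leaf
  861) (.node 1 (.leaf
  842946) (.leaf
  375806))) (.node 2 (.node 1 (.leaf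
  645813) (.leaf
  2232146)) (.node 1 (.leaf
  1326834) (.leaf
  2168526)))) (.node 4 (.node 2 (.node 1 (.leaf
  2097497) (.leaf
  659210)) (.node 1 (.leaf
  1558033) (.leaf
  1816861))) (.node 2 (.node 1 (.leaf
  337087) (.leaf
  2168906)) (.node 1 (.leaf
  359781) (.leaf
  2653053))))) (.node 7 (.node 3 (.node 1 (.leaf
  2169105) (.node 1 (.leaf
  559776) (.leaf
  36890))) (.node 2 (.node 1 (.leaf
  1118607) (.leaf
  1102788)) (.node 1 (.leaf
  1044345) (.leaf
  350)))) (.node 4 (.node 2 (.node 1 (.leaf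
  1804154) (.leaf
  1481242)) (.node 1 (.leaf
  1076391) (.leaf
  337248))) (.node 2 (.node 1 (.leaf
  76571) (.leaf
  2168490)) (.node 1 (.leaf
  905996) (.leaf
  1811256)))))))) (.node 59 (.node 29 (.node 14 (.node 7 (.node 3 (.node 1 (.leaf
  37603) (.node 1 (.leaf
  1126089) (.leaf
  878907))) (.node 2 (.node 1 (.leaf
  2288121) (.leaf
  1158224)) (.node 1 (.leaf
  2097810) (.leaf
  807419)))) (.node 3 (.node 1 (.leaf
  2771394) (.node 1 (.leaf
  2652367) (.leaf
  1811550))) (.node 2 (.node 1 (.leaf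
  552546) (.leaf
  2455809)) (.node 1 (.leaf
  2142867) (.leaf
  982382))))) (.node 7 (.node 3 (.node 1 (.leaf
  2196312) (.node 1 (.leaf
  323249) (.leaf
  560583))) (.node 2 (.node 1 (.leaf
  1811050) (.leaf
  2161713)) (.node 1 (.leaf
  1451873) (.leaf
  161955)))) (.node 4 (.node 2 (.node 1 (.leaf
  1004915) (.leaf
  870697)) (.node 1 (.leaf
  967792) (.leaf
  484098))) (.node 2 (.node 1 (.leaf
  2832605) (.leaf
  822)) (.node 1 (.leaf
  2142007) (.leaf
  2639770)))))) (.node 15 (.node 7 (.node 3 (.node 1 (.leaf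
  337328) (.node 1 (.leaf
  2272790) (.leaf
  1949431))) (.node 2 (.node 1 (.leaf
  1130057) (.leaf
  1481329)) (.node 1 (.leaf
  2342420) (.leaf
  2456477)))) (.node 4 (.node 2 (.node 1 (.leaf
  2721996) (.leaf
  1414219)) (.node 1 (.leaf
  915266) (.leaf
  871390))) (.node 2 (.node 1 (.leaf
  918) (.leaf
  2258788)) (.node 1 (.leaf
  2202466) (.leaf
  1175033))))) (.node 7 (.node 3 (.node 1 (.leaf
  2716670) (.node 1 (.leaf
  37296) (.leaf
  2142943))) (.node 2 (.node 1 (.leaf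
  29358) (.leaf
  1488159)) (.node 1 (.leaf
  968038) (.leaf
  835673)))) (.node 4 (.node 2 (.node 1 (.leaf
  46347) (.leaf
  162046)) (.node 1 (.leaf
  2833279) (.leaf
  806475))) (.node 2 (.node 1 (.leaf
  37005) (.leaf
  1810869)) (.node 1 (.leaf
  807263) (.leaf
  982171))))))) (.node 29 (.node 14 (.node 7 (.node 3 (.node 1 (.leaf
  1811449) (.node 1 (.leaf
  807282) (.leaf
  256065))) (.node 2 (.node 1 (.leaf
  553079) (.leaf
  697)) (.node 1 (.leaf
  942298) (.leaf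
  1004322)))) (.node 3 (.node 1 (.leaf
  2169172) (.node 1 (.leaf
  968675) (.leaf
  376365))) (.node 2 (.node 1 (.leaf
  2807148) (.leaf
  2863384)) (.node 1 (.leaf
  1004834) (.leaf
  1117829))))) (.node 7 (.node 3 (.node 1 (.leaf
  2408457) (.node 1 (.leaf
  2892296) (.leaf
  2294989))) (.node 2 (.node 1 (.leaf
  242106) (.leaf
  1102995)) (.node 1 (.leaf
  2491095) (.leaf
  1125387)))) (.node 4 (.node 2 (.node 1 (.leaf
  1061766) (.leaf
  981911)) (.node 1 (.leaf
  740386) (.leaf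
  1103201))) (.node 2 (.node 1 (.leaf
  634824) (.leaf
  2877707)) (.node 1 (.leaf
  2847096) (.leaf
  1118747)))))) (.node 15 (.node 7 (.node 3 (.node 1 (.leaf
  2392826) (.node 1 (.leaf
  1103316) (.leaf
  2877298))) (.node 2 (.node 1 (.leaf
  2717514) (.leaf
  2258730)) (.node 1 (.leaf
  2741816) (.leaf
  2247659)))) (.node 4 (.node 2 (.node 1 (.leaf
  851988) (.leaf
  2779076)) (.node 1 (.leaf
  2330293) (.leaf
  2771038))) (.node 2 (.node 1 (.leaf
  37398) (.leaf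
  2247530)) (.node 1 (.leaf
  1774844) (.leaf
  2343083))))) (.node 7 (.node 3 (.node 1 (.leaf
  646012) (.node 1 (.leaf
  806435) (.leaf
  2168688))) (.node 2 (.node 1 (.leaf
  807204) (.leaf
  37228)) (.node 1 (.leaf
  878577) (.leaf
  2142683)))) (.node 4 (.node 2 (.node 1 (.leaf
  1118861) (.leaf
  1200918)) (.node 1 (.leaf
  2342998) (.leaf
  957101))) (.node 2 (.node 1 (.leaf
  821268) (.leaf
  237457)) (.node 1 (.leaf
  2387265) (.leaf
  1977371))))))))) (.node 118 (.node 59 (.node 29 (.node 14 (.node 7 (.node 3 (.node 1 (.leaf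
  1005116) (.node 1 (.leaf
  641) (.leaf
  996743))) (.node 2 (.node 1 (.leaf
  2246844) (.leaf
  1978141)) (.node 1 (.leaf
  322753) (.leaf
  732)))) (.node 3 (.node 1 (.leaf
  484544) (.node 1 (.leaf
  1971908) (.leaf
  2169355))) (.node 2 (.node 1 (.leaf
  513830) (.leaf
  2622447)) (.node 1 (.leaf
  1811310) (.leaf
  1775018))))) (.node 7 (.node 3 (.node 1 (.leaf
  364446) (.node 1 (.leaf
  2363906) (.leaf
  76149))) (.node 2 (.node 1 (.leaf
  1810697) (.leaf
  238081)) (.node 1 (.leaf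
  957524) (.leaf
  714)))) (.node 4 (.node 2 (.node 1 (.leaf
  364750) (.leaf
  957138)) (.node 1 (.leaf
  100619) (.leaf
  2456399))) (.node 2 (.node 1 (.leaf
  2778512) (.leaf
  1466345)) (.node 1 (.leaf
  2287828) (.leaf
  2742794)))))) (.node 15 (.node 7 (.node 3 (.node 1 (.leaf
  981647) (.node 1 (.leaf
  2258835) (.leaf
  37221))) (.node 2 (.node 1 (.leaf
  2377140) (.leaf
  835417)) (.node 1 (.leaf
  1488892) (.leaf
  323273)))) (.node 4 (.node 2 (.node 1 (.leaf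
  484179) (.leaf
  996846)) (.node 1 (.leaf
  2741877) (.leaf
  42527))) (.node 2 (.node 1 (.leaf
  1375135) (.leaf
  1480504)) (.node 1 (.leaf
  14591) (.leaf
  322596))))) (.node 7 (.node 3 (.node 1 (.leaf
  36828) (.node 1 (.leaf
  1450704) (.leaf
  2196295))) (.node 2 (.node 1 (.leaf
  1004402) (.leaf
  842976)) (.node 1 (.leaf
  2717489) (.leaf
  1480889)))) (.node 4 (.node 2 (.node 1 (.leaf
  36829) (.leaf
  336464)) (.node 1 (.leaf
  835418) (.leaf
  967870))) (.node 2 (.node 1 (.leaf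
  337101) (.leaf
  161969)) (.node 1 (.leaf
  2589866) (.leaf
  2104079))))))) (.node 29 (.node 14 (.node 7 (.node 3 (.node 1 (.leaf
  1165954) (.node 1 (.leaf
  484996) (.leaf
  1375916))) (.node 2 (.node 1 (.leaf
  1451499) (.leaf
  645874)) (.node 1 (.leaf
  261624) (.leaf
  2161130)))) (.node 3 (.node 1 (.leaf
  1356829) (.node 1 (.leaf
  2456756) (.leaf
  2717378))) (.node 2 (.node 1 (.leaf
  1165826) (.leaf
  878454)) (.node 1 (.leaf
  337225) (.leaf
  2295242))))) (.node 7 (.node 3 (.node 1 (.leaf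
  2169117) (.node 1 (.leaf
  151131) (.leaf
  297348))) (.node 2 (.node 1 (.leaf
  2071562) (.leaf
  1166339)) (.node 1 (.leaf
  2419579) (.leaf
  2287147)))) (.node 4 (.node 2 (.node 1 (.leaf
  837892) (.leaf
  2169525)) (.node 1 (.leaf
  359222) (.leaf
  359741))) (.node 2 (.node 1 (.leaf
  37231) (.leaf
  81)) (.node 1 (.leaf
  256) (.leaf
  852797)))))) (.node 15 (.node 7 (.node 3 (.node 1 (.leaf
  390807) (.node 1 (.leaf
  996947) (.leaf
  878932))) (.node 2 (.node 1 (.leaf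
  520635) (.leaf
  390798)) (.node 1 (.leaf
  37371) (.leaf
  1570145)))) (.node 4 (.node 2 (.node 1 (.leaf
  1118488) (.leaf
  257)) (.node 1 (.leaf
  497769) (.leaf
  1088875))) (.node 2 (.node 1 (.leaf
  513499) (.leaf
  2342509)) (.node 1 (.leaf
  2072417) (.leaf
  982452))))) (.node 7 (.node 3 (.node 1 (.leaf
  1536761) (.node 1 (.leaf
  2065905) (.leaf
  1374771))) (.node 2 (.node 1 (.leaf
  72539) (.leaf
  1088826)) (.node 1 (.leaf
  2364576) (.leaf
  2133727)))) (.node 4 (.node 2 (.node 1 (.leaf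
  2086496) (.leaf
  795339)) (.node 1 (.leaf
  37568) (.leaf
  2555309))) (.node 2 (.node 1 (.leaf
  2784479) (.leaf
  150860)) (.node 1 (.leaf
  2722313) (.leaf
  2342380)))))))) (.node 59 (.node 29 (.node 14 (.node 7 (.node 3 (.node 1 (.leaf
  135744) (.node 1 (.leaf
  1072) (.leaf
  1089649))) (.node 2 (.node 1 (.leaf
  2716808) (.leaf
  41906)) (.node 1 (.leaf
  1125346) (.leaf
  36719)))) (.node 3 (.node 1 (.leaf
  1032) (.node 1 (.leaf
  150201) (.leaf
  359395))) (.node 2 (.node 1 (.leaf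
  42541) (.leaf
  878617)) (.node 1 (.leaf
  359261) (.leaf
  211))))) (.node 7 (.node 3 (.node 1 (.leaf
  323332) (.node 1 (.leaf
  1570141) (.leaf
  391308))) (.node 2 (.node 1 (.leaf
  391429) (.leaf
  497768)) (.node 1 (.leaf
  1102712) (.leaf
  1089500)))) (.node 4 (.node 2 (.node 1 (.leaf
  46469) (.leaf
  352498)) (.node 1 (.leaf
  197962) (.leaf
  2096681))) (.node 2 (.node 1 (.leaf
  213) (.leaf
  364212)) (.node 1 (.leaf
  29983) (.leaf
  72593)))))) (.node 15 (.node 7 (.node 3 (.node 1 (.leaf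
  520825) (.node 1 (.leaf
  36620) (.leaf
  2071783))) (.node 2 (.node 1 (.leaf
  1834214) (.leaf
  981826)) (.node 1 (.leaf
  1846020) (.leaf
  2071552)))) (.node 4 (.node 2 (.node 1 (.leaf
  1029) (.leaf
  136001)) (.node 1 (.leaf
  37422) (.leaf
  1811299))) (.node 2 (.node 1 (.leaf
  1972677) (.leaf
  76114)) (.node 1 (.leaf
  2770750) (.leaf
  45534))))) (.node 7 (.node 3 (.node 1 (.leaf
  1451809) (.node 1 (.leaf
  807189) (.leaf
  2097587))) (.node 2 (.node 1 (.leaf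
  2258638) (.leaf
  150664)) (.node 1 (.leaf
  161354) (.leaf
  1004279)))) (.node 4 (.node 2 (.node 1 (.leaf
  2343132) (.leaf
  2247047)) (.node 1 (.leaf
  1811557) (.leaf
  2832582))) (.node 2 (.node 1 (.leaf
  1279247) (.leaf
  1810957)) (.node 1 (.leaf
  552548) (.leaf
  2455808))))))) (.node 30 (.node 15 (.node 7 (.node 3 (.node 1 (.leaf
  997528) (.node 1 (.leaf
  552439) (.leaf
  906389))) (.node 2 (.node 1 (.leaf
  336621) (.leaf
  968335)) (.node 1 (.leaf
  968453) (.leaf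
  2386531)))) (.node 4 (.node 2 (.node 1 (.leaf
  2161994) (.leaf
  967965)) (.node 1 (.leaf
  2142048) (.leaf
  497899))) (.node 2 (.node 1 (.leaf
  458746) (.leaf
  1354575)) (.node 1 (.leaf
  2741904) (.leaf
  1935825))))) (.node 7 (.node 3 (.node 1 (.leaf
  150389) (.node 1 (.leaf
  2286999) (.leaf
  135817))) (.node 2 (.node 1 (.leaf
  1452199) (.leaf
  2342415)) (.node 1 (.leaf
  851777) (.leaf
  2142363)))) (.node 4 (.node 2 (.node 1 (.leaf
  1774380) (.leaf
  2168554)) (.node 1 (.leaf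
  1810728) (.leaf
  967864))) (.node 2 (.node 1 (.leaf
  520519) (.leaf
  2258673)) (.node 1 (.leaf
  843179) (.leaf
  37337)))))) (.node 15 (.node 7 (.node 3 (.node 1 (.leaf
  1326907) (.node 1 (.leaf
  879214) (.leaf
  2133933))) (.node 2 (.node 1 (.leaf
  807287) (.leaf
  2258575)) (.node 1 (.leaf
  2142818) (.leaf
  1488136)))) (.node 4 (.node 2 (.node 1 (.leaf
  2741862) (.leaf
  109395)) (.node 1 (.leaf
  2456753) (.leaf
  1481173))) (.node 2 (.node 1 (.leaf
  322611) (.leaf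
  359978)) (.node 1 (.leaf
  29269) (.leaf
  2779065))))) (.node 7 (.node 3 (.node 1 (.leaf
  2202330) (.node 1 (.leaf
  2196959) (.leaf
  967862))) (.node 2 (.node 1 (.leaf
  843608) (.leaf
  1972867)) (.node 1 (.leaf
  1004410) (.leaf
  323228)))) (.node 4 (.node 2 (.node 1 (.leaf
  29268) (.leaf
  337086)) (.node 1 (.leaf
  101) (.leaf
  337133))) (.node 2 (.node 1 (.leaf
  836046) (.leaf
  981726)) (.node 1 (.leaf
  337125) (.leaf
  1774184))))))))))))))

/-- Each member from an earlier one. -/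
def sylPar : Tree :=
  (.node 512 (.node 256 (.node 128 (.node 64 (.node 32 (.node 16 (.node 8 (.node 4 (.node 2 (.node 1 (.leaf
  0) (.leaf
  0)) (.node 1 (.leaf
  1) (.leaf
  2))) (.node 2 (.node 1 (.leaf
  3) (.leaf
  4)) (.node 1 (.leaf
  8) (.leaf
  9)))) (.node 4 (.node 2 (.node 1 (.leaf
  10) (.leaf
  11)) (.node 1 (.leaf
  12) (.leaf
  16))) (.node 2 (.node 1 (.leaf
  18) (.leaf
  19)) (.node 1 (.leaf
  20) (.leaf
  24))))) (.node 8 (.node 4 (.node 2 (.node 1 (.leaf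
  25) (.leaf
  27)) (.node 1 (.leaf
  28) (.leaf
  32))) (.node 2 (.node 1 (.leaf
  33) (.leaf
  34)) (.node 1 (.leaf
  35) (.leaf
  36)))) (.node 4 (.node 2 (.node 1 (.leaf
  40) (.leaf
  41)) (.node 1 (.leaf
  42) (.leaf
  43))) (.node 2 (.node 1 (.leaf
  48) (.leaf
  49)) (.node 1 (.leaf
  50) (.leaf
  51)))))) (.node 16 (.node 8 (.node 4 (.node 2 (.node 1 (.leaf
  52) (.leaf
  56)) (.node 1 (.leaf
  58) (.leaf
  59))) (.node 2 (.node 1 (.leaf
  60) (.leaf
  65)) (.node 1 (.leaf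
  67) (.leaf
  68)))) (.node 4 (.node 2 (.node 1 (.leaf
  72) (.leaf
  73)) (.node 1 (.leaf
  74) (.leaf
  75))) (.node 2 (.node 1 (.leaf
  184) (.leaf
  80)) (.node 1 (.leaf
  81) (.leaf
  82))))) (.node 8 (.node 4 (.node 2 (.node 1 (.leaf
  83) (.leaf
  88)) (.node 1 (.leaf
  89) (.leaf
  91))) (.node 2 (.node 1 (.leaf
  92) (.leaf
  96)) (.node 1 (.leaf
  97) (.leaf
  99)))) (.node 4 (.node 2 (.node 1 (.leaf
  100) (.leaf
  104)) (.node 1 (.leaf
  105) (.leaf
  106))) (.node 2 (.node 1 (.leaf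
  107) (.leaf
  108)) (.node 1 (.leaf
  112) (.leaf
  113))))))) (.node 32 (.node 16 (.node 8 (.node 4 (.node 2 (.node 1 (.leaf
  114) (.leaf
  115)) (.node 1 (.leaf
  120) (.leaf
  121))) (.node 2 (.node 1 (.leaf
  122) (.leaf
  168)) (.node 1 (.leaf
  124) (.leaf
  128)))) (.node 4 (.node 2 (.node 1 (.leaf
  130) (.leaf
  131)) (.node 1 (.leaf
  132) (.leaf
  136))) (.node 2 (.node 1 (.leaf
  137) (.leaf
  138)) (.node 1 (.leaf
  139) (.leaf
  140))))) (.node 8 (.node 4 (.node 2 (.node 1 (.leaf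
  144) (.leaf
  145)) (.node 1 (.leaf
  146) (.leaf
  147))) (.node 2 (.node 1 (.leaf
  152) (.leaf
  153)) (.node 1 (.leaf
  154) (.leaf
  155)))) (.node 4 (.node 2 (.node 1 (.leaf
  156) (.leaf
  160)) (.node 1 (.leaf
  162) (.leaf
  164))) (.node 2 (.node 1 (.leaf
  169) (.leaf
  171)) (.node 1 (.leaf
  172) (.leaf
  176)))))) (.node 16 (.node 8 (.node 4 (.node 2 (.node 1 (.leaf
  177) (.leaf
  178)) (.node 1 (.leaf
  179) (.leaf
  180))) (.node 2 (.node 1 (.leaf
  185) (.leaf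
  186)) (.node 1 (.leaf
  192) (.leaf
  193)))) (.node 4 (.node 2 (.node 1 (.leaf
  194) (.leaf
  195)) (.node 1 (.leaf
  196) (.leaf
  200))) (.node 2 (.node 1 (.leaf
  202) (.leaf
  203)) (.node 1 (.leaf
  204) (.leaf
  208))))) (.node 8 (.node 4 (.node 2 (.node 1 (.leaf
  209) (.leaf
  211)) (.node 1 (.leaf
  212) (.leaf
  216))) (.node 2 (.node 1 (.leaf
  217) (.leaf
  218)) (.node 1 (.leaf
  219) (.leaf
  220)))) (.node 4 (.node 2 (.node 1 (.leaf
  224) (.leaf
  225)) (.node 1 (.leaf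
  226) (.leaf
  227))) (.node 2 (.node 1 (.leaf
  228) (.leaf
  232)) (.node 1 (.leaf
  234) (.leaf
  235)))))))) (.node 64 (.node 32 (.node 16 (.node 8 (.node 4 (.node 2 (.node 1 (.leaf
  496) (.leaf
  241)) (.node 1 (.leaf
  243) (.leaf
  244))) (.node 2 (.node 1 (.leaf
  248) (.leaf
  712)) (.node 1 (.leaf
  250) (.leaf
  251)))) (.node 4 (.node 2 (.node 1 (.leaf
  352) (.leaf
  256)) (.node 1 (.leaf
  856) (.leaf
  258))) (.node 2 (.node 1 (.leaf
  489) (.leaf
  264)) (.node 1 (.leaf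
  265) (.leaf
  267))))) (.node 8 (.node 4 (.node 2 (.node 1 (.leaf
  268) (.leaf
  272)) (.node 1 (.leaf
  696) (.leaf
  275))) (.node 2 (.node 1 (.leaf
  276) (.leaf
  280)) (.node 1 (.leaf
  281) (.leaf
  282)))) (.node 4 (.node 2 (.node 1 (.leaf
  283) (.leaf
  921)) (.node 1 (.leaf
  288) (.leaf
  289))) (.node 2 (.node 1 (.leaf
  290) (.leaf
  291)) (.node 1 (.leaf
  299) (.leaf
  833)))))) (.node 16 (.node 8 (.node 4 (.node 2 (.node 1 (.leaf
  304) (.leaf
  305)) (.node 1 (.leaf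
  306) (.leaf
  307))) (.node 2 (.node 1 (.leaf
  308) (.leaf
  312)) (.node 1 (.leaf
  313) (.leaf
  504)))) (.node 4 (.node 2 (.node 1 (.leaf
  922) (.leaf
  320)) (.node 1 (.leaf
  321) (.leaf
  322))) (.node 2 (.node 1 (.leaf
  569) (.leaf
  704)) (.node 1 (.leaf
  328) (.leaf
  330))))) (.node 8 (.node 4 (.node 2 (.node 1 (.leaf
  332) (.leaf
  337)) (.node 1 (.leaf
  339) (.leaf
  340))) (.node 2 (.node 1 (.leaf
  344) (.leaf
  345)) (.node 1 (.leaf
  346) (.leaf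
  347)))) (.node 4 (.node 2 (.node 1 (.leaf
  348) (.leaf
  353)) (.node 1 (.leaf
  354) (.leaf
  360))) (.node 2 (.node 1 (.leaf
  361) (.leaf
  640)) (.node 1 (.leaf
  363) (.leaf
  848))))))) (.node 32 (.node 16 (.node 8 (.node 4 (.node 2 (.node 1 (.leaf
  368) (.leaf
  370)) (.node 1 (.leaf
  371) (.leaf
  372))) (.node 2 (.node 1 (.leaf
  376) (.leaf
  377)) (.node 1 (.leaf
  379) (.leaf
  380)))) (.node 4 (.node 2 (.node 1 (.leaf
  384) (.leaf
  385)) (.node 1 (.leaf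
  386) (.leaf
  513))) (.node 2 (.node 1 (.leaf
  388) (.leaf
  392)) (.node 1 (.leaf
  393) (.leaf
  394))))) (.node 8 (.node 4 (.node 2 (.node 1 (.leaf
  785) (.leaf
  396)) (.node 1 (.leaf
  400) (.leaf
  402))) (.node 2 (.node 1 (.leaf
  954) (.leaf
  404)) (.node 1 (.leaf
  408) (.leaf
  409)))) (.node 4 (.node 2 (.node 1 (.leaf
  410) (.leaf
  411)) (.node 1 (.leaf
  488) (.leaf
  416))) (.node 2 (.node 1 (.leaf
  417) (.leaf
  418)) (.node 1 (.leaf
  419) (.leaf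
  424)))))) (.node 16 (.node 8 (.node 4 (.node 2 (.node 1 (.leaf
  425) (.leaf
  745)) (.node 1 (.leaf
  472) (.leaf
  889))) (.node 2 (.node 1 (.leaf
  432) (.leaf
  744)) (.node 1 (.leaf
  435) (.leaf
  436)))) (.node 4 (.node 2 (.node 1 (.leaf
  440) (.leaf
  441)) (.node 1 (.leaf
  442) (.leaf
  443))) (.node 2 (.node 1 (.leaf
  705) (.leaf
  448)) (.node 1 (.leaf
  449) (.leaf
  450))))) (.node 8 (.node 4 (.node 2 (.node 1 (.leaf
  802) (.leaf
  456)) (.node 1 (.leaf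
  457) (.leaf
  458))) (.node 2 (.node 1 (.leaf
  568) (.leaf
  633)) (.node 1 (.leaf
  464) (.leaf
  466)))) (.node 4 (.node 2 (.node 1 (.leaf
  819) (.leaf
  473)) (.node 1 (.leaf
  545) (.leaf
  476))) (.node 2 (.node 1 (.leaf
  480) (.leaf
  481)) (.node 1 (.leaf
  482) (.leaf
  793))))))))) (.node 128 (.node 64 (.node 32 (.node 16 (.node 8 (.node 4 (.node 2 (.node 1 (.leaf
  490) (.leaf
  497)) (.node 1 (.leaf
  499) (.leaf
  500))) (.node 2 (.node 1 (.leaf
  507) (.leaf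
  881)) (.node 1 (.leaf
  512) (.leaf
  515)))) (.node 4 (.node 2 (.node 1 (.leaf
  516) (.leaf
  520)) (.node 1 (.leaf
  521) (.leaf
  522))) (.node 2 (.node 1 (.leaf
  648) (.leaf
  528)) (.node 1 (.leaf
  529) (.leaf
  530))))) (.node 8 (.node 4 (.node 2 (.node 1 (.leaf
  531) (.leaf
  532)) (.node 1 (.leaf
  536) (.leaf
  538))) (.node 2 (.node 1 (.leaf
  539) (.leaf
  864)) (.node 1 (.leaf
  547) (.leaf
  548)))) (.node 4 (.node 2 (.node 1 (.leaf
  552) (.leaf
  553)) (.node 1 (.leaf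
  554) (.leaf
  776))) (.node 2 (.node 1 (.leaf
  632) (.leaf
  560)) (.node 1 (.leaf
  816) (.leaf
  571)))))) (.node 16 (.node 8 (.node 4 (.node 2 (.node 1 (.leaf
  896) (.leaf
  576)) (.node 1 (.leaf
  577) (.leaf
  579))) (.node 2 (.node 1 (.leaf
  580) (.leaf
  584)) (.node 1 (.leaf
  585) (.leaf
  586)))) (.node 4 (.node 2 (.node 1 (.leaf
  587) (.leaf
  937)) (.node 1 (.leaf
  592) (.leaf
  593))) (.node 2 (.node 1 (.leaf
  594) (.leaf
  595)) (.node 1 (.leaf
  600) (.leaf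
  601))))) (.node 8 (.node 4 (.node 2 (.node 1 (.leaf
  602) (.leaf
  604)) (.node 1 (.leaf
  608) (.leaf
  610))) (.node 2 (.node 1 (.leaf
  612) (.leaf
  617)) (.node 1 (.leaf
  619) (.leaf
  620)))) (.node 4 (.node 2 (.node 1 (.leaf
  624) (.leaf
  625)) (.node 1 (.leaf
  760) (.leaf
  627))) (.node 2 (.node 1 (.leaf
  628) (.leaf
  634)) (.node 1 (.leaf
  641) (.leaf
  643))))))) (.node 32 (.node 16 (.node 8 (.node 4 (.node 2 (.node 1 (.leaf
  644) (.leaf
  650)) (.node 1 (.leaf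
  651) (.leaf
  652))) (.node 2 (.node 1 (.leaf
  656) (.leaf
  657)) (.node 1 (.leaf
  659) (.leaf
  660)))) (.node 4 (.node 2 (.node 1 (.leaf
  664) (.leaf
  665)) (.node 1 (.leaf
  857) (.leaf
  713))) (.node 2 (.node 1 (.leaf
  672) (.leaf
  673)) (.node 1 (.leaf
  674) (.leaf
  675))))) (.node 8 (.node 4 (.node 2 (.node 1 (.leaf
  680) (.leaf
  682)) (.node 1 (.leaf
  683) (.leaf
  827))) (.node 2 (.node 1 (.leaf
  689) (.leaf
  691)) (.node 1 (.leaf
  692) (.leaf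
  698)))) (.node 4 (.node 2 (.node 1 (.leaf
  699) (.leaf
  792)) (.node 1 (.leaf
  706) (.leaf
  715))) (.node 2 (.node 1 (.leaf
  716) (.leaf
  720)) (.node 1 (.leaf
  721) (.leaf
  723)))))) (.node 16 (.node 8 (.node 4 (.node 2 (.node 1 (.leaf
  724) (.leaf
  728)) (.node 1 (.leaf
  729) (.leaf
  730))) (.node 2 (.node 1 (.leaf
  736) (.leaf
  738)) (.node 1 (.leaf
  739) (.leaf
  899)))) (.node 4 (.node 2 (.node 1 (.leaf
  747) (.leaf
  946)) (.node 1 (.leaf
  752) (.leaf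
  753))) (.node 2 (.node 1 (.leaf
  754) (.leaf
  888)) (.node 1 (.leaf
  761) (.leaf
  763))))) (.node 8 (.node 4 (.node 2 (.node 1 (.leaf
  764) (.leaf
  768)) (.node 1 (.leaf
  770) (.leaf
  772))) (.node 2 (.node 1 (.leaf
  777) (.leaf
  779)) (.node 1 (.leaf
  939) (.leaf
  784)))) (.node 4 (.node 2 (.node 1 (.leaf
  786) (.leaf
  794)) (.node 1 (.leaf
  800) (.leaf
  803))) (.node 2 (.node 1 (.leaf
  808) (.leaf
  809)) (.node 1 (.leaf
  812) (.leaf
  817)))))))) (.node 64 (.node 32 (.node 16 (.node 8 (.node 4 (.node 2 (.node 1 (.leaf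
  824) (.leaf
  826)) (.node 1 (.leaf
  835) (.leaf
  836))) (.node 2 (.node 1 (.leaf
  840) (.leaf
  841)) (.node 1 (.leaf
  842) (.leaf
  843)))) (.node 4 (.node 2 (.node 1 (.leaf
  952) (.leaf
  849)) (.node 1 (.leaf
  850) (.leaf
  859))) (.node 2 (.node 1 (.leaf
  860) (.leaf
  865)) (.node 1 (.leaf
  867) (.leaf
  868))))) (.node 8 (.node 4 (.node 2 (.node 1 (.leaf
  872) (.leaf
  874)) (.node 1 (.leaf
  876) (.leaf
  880))) (.node 2 (.node 1 (.leaf
  882) (.leaf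
  883)) (.node 1 (.leaf
  890) (.leaf
  936)))) (.node 4 (.node 2 (.node 1 (.leaf
  898) (.leaf
  904)) (.node 1 (.leaf
  905) (.leaf
  906))) (.node 2 (.node 1 (.leaf
  907) (.leaf
  912)) (.node 1 (.leaf
  913) (.leaf
  914)))))) (.node 16 (.node 8 (.node 4 (.node 2 (.node 1 (.leaf
  920) (.leaf
  923)) (.node 1 (.leaf
  924) (.leaf
  928))) (.node 2 (.node 1 (.leaf
  930) (.leaf
  944)) (.node 1 (.leaf
  960) (.leaf
  1640)))) (.node 4 (.node 2 (.node 1 (.leaf
  2152) (.leaf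
  2656)) (.node 1 (.leaf
  2288) (.leaf
  968))) (.node 2 (.node 1 (.leaf
  1825) (.leaf
  1232)) (.node 1 (.leaf
  3232) (.leaf
  1720))))) (.node 8 (.node 4 (.node 2 (.node 1 (.leaf
  984) (.leaf
  1392)) (.node 1 (.leaf
  1936) (.leaf
  1088))) (.node 2 (.node 1 (.leaf
  992) (.leaf
  1536)) (.node 1 (.leaf
  994) (.leaf
  1680)))) (.node 4 (.node 2 (.node 1 (.leaf
  2848) (.leaf
  1752)) (.node 1 (.leaf
  1008) (.leaf
  1376))) (.node 2 (.node 1 (.leaf
  1856) (.leaf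
  3363)) (.node 1 (.leaf
  1016) (.leaf
  1017))))))) (.node 32 (.node 16 (.node 8 (.node 4 (.node 2 (.node 1 (.leaf
  1808) (.leaf
  2952)) (.node 1 (.leaf
  1601) (.leaf
  1024))) (.node 2 (.node 1 (.leaf
  1025) (.leaf
  1816)) (.node 1 (.leaf
  2344) (.leaf
  2968)))) (.node 4 (.node 2 (.node 1 (.leaf
  1040) (.leaf
  1664)) (.node 1 (.leaf
  1042) (.leaf
  3040))) (.node 2 (.node 1 (.leaf
  1048) (.leaf
  2040)) (.node 1 (.leaf
  1240) (.leaf
  2624))))) (.node 8 (.node 4 (.node 2 (.node 1 (.leaf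
  1056) (.leaf
  2688)) (.node 1 (.leaf
  1058) (.leaf
  1384))) (.node 2 (.node 1 (.leaf
  1064) (.leaf
  1066)) (.node 1 (.leaf
  1776) (.leaf
  1712)))) (.node 4 (.node 2 (.node 1 (.leaf
  1832) (.leaf
  1076)) (.node 1 (.leaf
  1080) (.leaf
  2016))) (.node 2 (.node 1 (.leaf
  2264) (.leaf
  3241)) (.node 1 (.leaf
  1762) (.leaf
  2272)))))) (.node 16 (.node 8 (.node 4 (.node 2 (.node 1 (.leaf
  3072) (.leaf
  1320)) (.node 1 (.leaf
  1921) (.leaf
  1528))) (.node 2 (.node 1 (.leaf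
  1104) (.leaf
  1106)) (.node 1 (.leaf
  2120) (.leaf
  1786)))) (.node 4 (.node 2 (.node 1 (.leaf
  1112) (.leaf
  1113)) (.node 1 (.leaf
  3272) (.leaf
  2017))) (.node 2 (.node 1 (.leaf
  1120) (.leaf
  1249)) (.node 1 (.leaf
  1840) (.leaf
  1128))))) (.node 8 (.node 4 (.node 2 (.node 1 (.leaf
  1648) (.leaf
  2584)) (.node 1 (.leaf
  1465) (.leaf
  2233))) (.node 2 (.node 1 (.leaf
  1136) (.leaf
  1785)) (.node 1 (.leaf
  1729) (.leaf
  2528)))) (.node 4 (.node 2 (.node 1 (.leaf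
  1144) (.leaf
  2416)) (.node 1 (.leaf
  2296) (.leaf
  2928))) (.node 2 (.node 1 (.leaf
  1224) (.leaf
  1152)) (.node 1 (.leaf
  1153) (.leaf
  2304)))))))))) (.node 256 (.node 128 (.node 64 (.node 32 (.node 16 (.node 8 (.node 4 (.node 2 (.node 1 (.leaf
  2553) (.leaf
  1160)) (.node 1 (.leaf
  1161) (.leaf
  1425))) (.node 2 (.node 1 (.leaf
  1208) (.leaf
  1569)) (.node 1 (.leaf
  1168) (.leaf
  1424)))) (.node 4 (.node 2 (.node 1 (.leaf
  2849) (.leaf
  2944)) (.node 1 (.leaf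
  1176) (.leaf
  1177))) (.node 2 (.node 1 (.leaf
  1841) (.leaf
  2504)) (.node 1 (.leaf
  2632) (.leaf
  1185))))) (.node 8 (.node 4 (.node 2 (.node 1 (.leaf
  3264) (.leaf
  2576)) (.node 1 (.leaf
  1192) (.leaf
  2240))) (.node 2 (.node 1 (.leaf
  2521) (.leaf
  1313)) (.node 1 (.leaf
  1200) (.leaf
  2520)))) (.node 4 (.node 2 (.node 1 (.leaf
  3185) (.leaf
  1864)) (.node 1 (.leaf
  1216) (.leaf
  1217))) (.node 2 (.node 1 (.leaf
  1218) (.leaf
  1473)) (.node 1 (.leaf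
  1226) (.leaf
  1704)))))) (.node 16 (.node 8 (.node 4 (.node 2 (.node 1 (.leaf
  3360) (.leaf
  2497)) (.node 1 (.leaf
  1984) (.leaf
  2088))) (.node 2 (.node 1 (.leaf
  2706) (.leaf
  1256)) (.node 1 (.leaf
  2128) (.leaf
  1258)))) (.node 4 (.node 2 (.node 1 (.leaf
  1264) (.leaf
  1265)) (.node 1 (.leaf
  3240) (.leaf
  3144))) (.node 2 (.node 1 (.leaf
  1617) (.leaf
  2122)) (.node 1 (.leaf
  1280) (.leaf
  2696))))) (.node 8 (.node 4 (.node 2 (.node 1 (.leaf
  1282) (.leaf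
  1745)) (.node 1 (.leaf
  1288) (.leaf
  1290))) (.node 2 (.node 1 (.leaf
  3208) (.leaf
  2856)) (.node 1 (.leaf
  1657) (.leaf
  2488)))) (.node 4 (.node 2 (.node 1 (.leaf
  1304) (.leaf
  2704)) (.node 1 (.leaf
  1440) (.leaf
  1809))) (.node 2 (.node 1 (.leaf
  2627) (.leaf
  2536)) (.node 1 (.leaf
  1321) (.leaf
  1323))))))) (.node 32 (.node 16 (.node 8 (.node 4 (.node 2 (.node 1 (.leaf
  2865) (.leaf
  2840)) (.node 1 (.leaf
  2192) (.leaf
  1336))) (.node 2 (.node 1 (.leaf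
  2336) (.leaf
  1339)) (.node 1 (.leaf
  2616) (.leaf
  1345)))) (.node 4 (.node 2 (.node 1 (.leaf
  1760) (.leaf
  1393)) (.node 1 (.leaf
  1352) (.leaf
  2208))) (.node 2 (.node 1 (.leaf
  3056) (.leaf
  2024)) (.node 1 (.leaf
  1360) (.leaf
  3137))))) (.node 8 (.node 4 (.node 2 (.node 1 (.leaf
  3168) (.leaf
  2784)) (.node 1 (.leaf
  1928) (.leaf
  2026))) (.node 2 (.node 1 (.leaf
  1372) (.leaf
  1641)) (.node 1 (.leaf
  1873) (.leaf
  1472)))) (.node 4 (.node 2 (.node 1 (.leaf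
  2896) (.leaf
  2265)) (.node 1 (.leaf
  2048) (.leaf
  1400))) (.node 2 (.node 1 (.leaf
  3000) (.leaf
  1736)) (.node 1 (.leaf
  3329) (.leaf
  1408)))))) (.node 16 (.node 8 (.node 4 (.node 2 (.node 1 (.leaf
  2832) (.leaf
  2609)) (.node 1 (.leaf
  1416) (.leaf
  2472))) (.node 2 (.node 1 (.leaf
  2074) (.leaf
  2104)) (.node 1 (.leaf
  2648) (.leaf
  3265)))) (.node 4 (.node 2 (.node 1 (.leaf
  1433) (.leaf
  2912)) (.node 1 (.leaf
  1568) (.leaf
  1441))) (.node 2 (.node 1 (.leaf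
  1448) (.leaf
  2776)) (.node 1 (.leaf
  1452) (.leaf
  2032))))) (.node 8 (.node 4 (.node 2 (.node 1 (.leaf
  1696) (.leaf
  3016)) (.node 1 (.leaf
  1464) (.leaf
  2352))) (.node 2 (.node 1 (.leaf
  2337) (.leaf
  1480)) (.node 1 (.leaf
  2216) (.leaf
  2136)))) (.node 4 (.node 2 (.node 1 (.leaf
  1866) (.leaf
  1497)) (.node 1 (.leaf
  1504) (.leaf
  2544))) (.node 2 (.node 1 (.leaf
  2065) (.leaf
  1792)) (.node 1 (.leaf
  1520) (.leaf
  3048)))))))) (.node 64 (.node 32 (.node 16 (.node 8 (.node 4 (.node 2 (.node 1 (.leaf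
  2121) (.leaf
  2642)) (.node 1 (.leaf
  1632) (.leaf
  2072))) (.node 2 (.node 1 (.leaf
  3304) (.leaf
  3257)) (.node 1 (.leaf
  1880) (.leaf
  3368)))) (.node 4 (.node 2 (.node 1 (.leaf
  1744) (.leaf
  2513)) (.node 1 (.leaf
  1552) (.leaf
  1960))) (.node 2 (.node 1 (.leaf
  2433) (.leaf
  1560)) (.node 1 (.leaf
  1952) (.leaf
  2248))))) (.node 8 (.node 4 (.node 2 (.node 1 (.leaf
  1913) (.leaf
  1616)) (.node 1 (.leaf
  1912) (.leaf
  1584))) (.node 2 (.node 1 (.leaf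
  1585) (.leaf
  3104)) (.node 1 (.leaf
  2640) (.leaf
  1593)))) (.node 4 (.node 2 (.node 1 (.leaf
  3320) (.leaf
  1600)) (.node 1 (.leaf
  1608) (.leaf
  3160))) (.node 2 (.node 1 (.leaf
  1624) (.leaf
  1642)) (.node 1 (.leaf
  2673) (.leaf
  1644)))))) (.node 16 (.node 8 (.node 4 (.node 2 (.node 1 (.leaf
  1650) (.leaf
  3217)) (.node 1 (.leaf
  1672) (.leaf
  1681))) (.node 2 (.node 1 (.leaf
  1688) (.leaf
  1697)) (.node 1 (.leaf
  3152) (.leaf
  1705)))) (.node 4 (.node 2 (.node 1 (.leaf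
  2760) (.leaf
  2440)) (.node 1 (.leaf
  2800) (.leaf
  2657))) (.node 2 (.node 1 (.leaf
  2768) (.leaf
  3050)) (.node 1 (.leaf
  1737) (.leaf
  2338))))) (.node 8 (.node 4 (.node 2 (.node 1 (.leaf
  1896) (.leaf
  1768)) (.node 1 (.leaf
  1769) (.leaf
  1777))) (.node 2 (.node 1 (.leaf
  1784) (.leaf
  1787)) (.node 1 (.leaf
  3369) (.leaf
  1794)))) (.node 4 (.node 2 (.node 1 (.leaf
  2241) (.leaf
  1888)) (.node 1 (.leaf
  1843) (.leaf
  2137))) (.node 2 (.node 1 (.leaf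
  1848) (.leaf
  1849)) (.node 1 (.leaf
  1850) (.leaf
  1857))))))) (.node 32 (.node 16 (.node 8 (.node 4 (.node 2 (.node 1 (.leaf
  2713) (.leaf
  2160)) (.node 1 (.leaf
  1876) (.leaf
  2392))) (.node 2 (.node 1 (.leaf
  2816) (.leaf
  3192)) (.node 1 (.leaf
  2888) (.leaf
  2442)))) (.node 4 (.node 2 (.node 1 (.leaf
  2480) (.leaf
  2376)) (.node 1 (.leaf
  1920) (.leaf
  1929))) (.node 2 (.node 1 (.leaf
  3169) (.leaf
  2465)) (.node 1 (.leaf
  3008) (.leaf
  1948))))) (.node 8 (.node 4 (.node 2 (.node 1 (.leaf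
  1971) (.leaf
  2841)) (.node 1 (.leaf
  1976) (.leaf
  1977))) (.node 2 (.node 1 (.leaf
  2953) (.leaf
  3025)) (.node 1 (.leaf
  3352) (.leaf
  2785)))) (.node 4 (.node 2 (.node 1 (.leaf
  1992) (.leaf
  2008)) (.node 1 (.leaf
  2009) (.leaf
  2408))) (.node 2 (.node 1 (.leaf
  2096) (.leaf
  2921)) (.node 1 (.leaf
  2969) (.leaf
  2033)))))) (.node 16 (.node 8 (.node 4 (.node 2 (.node 1 (.leaf
  2056) (.leaf
  3336)) (.node 1 (.leaf
  2064) (.leaf
  2897))) (.node 2 (.node 1 (.leaf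
  2080) (.leaf
  3088)) (.node 1 (.leaf
  3096) (.leaf
  3064)))) (.node 4 (.node 2 (.node 1 (.leaf
  2107) (.leaf
  2112)) (.node 1 (.leaf
  2680) (.leaf
  2617))) (.node 2 (.node 1 (.leaf
  2281) (.leaf
  2426)) (.node 1 (.leaf
  2409) (.leaf
  2144))))) (.node 8 (.node 4 (.node 2 (.node 1 (.leaf
  2384) (.leaf
  3224)) (.node 1 (.leaf
  2176) (.leaf
  2448))) (.node 2 (.node 1 (.leaf
  2184) (.leaf
  2186)) (.node 1 (.leaf
  2200) (.leaf
  3017)))) (.node 4 (.node 2 (.node 1 (.leaf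
  2880) (.leaf
  2211)) (.node 1 (.leaf
  2712) (.leaf
  2217))) (.node 2 (.node 1 (.leaf
  2224) (.leaf
  2226)) (.node 1 (.leaf
  3042) (.leaf
  2232))))))))) (.node 128 (.node 64 (.node 32 (.node 16 (.node 8 (.node 4 (.node 2 (.node 1 (.leaf
  3216) (.leaf
  3131)) (.node 1 (.leaf
  2560) (.leaf
  2289))) (.node 2 (.node 1 (.leaf
  2305) (.leaf
  2312)) (.node 1 (.leaf
  2313) (.leaf
  2481)))) (.node 4 (.node 2 (.node 1 (.leaf
  2360) (.leaf
  2593)) (.node 1 (.leaf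
  2320) (.leaf
  2938))) (.node 2 (.node 1 (.leaf
  3123) (.leaf
  2328)) (.node 1 (.leaf
  2368) (.leaf
  2369))))) (.node 8 (.node 4 (.node 2 (.node 1 (.leaf
  2808) (.leaf
  2529)) (.node 1 (.leaf
  2395) (.leaf
  2960))) (.node 2 (.node 1 (.leaf
  2728) (.leaf
  2424)) (.node 1 (.leaf
  2547) (.leaf
  2730)))) (.node 4 (.node 2 (.node 1 (.leaf
  2436) (.leaf
  2872)) (.node 1 (.leaf
  2456) (.leaf
  2457))) (.node 2 (.node 1 (.leaf
  2464) (.leaf
  2976)) (.node 1 (.leaf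
  2489) (.leaf
  2873)))))) (.node 16 (.node 8 (.node 4 (.node 2 (.node 1 (.leaf
  2592) (.leaf
  2508)) (.node 1 (.leaf
  2552) (.leaf
  2569))) (.node 2 (.node 1 (.leaf
  2608) (.leaf
  2824)) (.node 1 (.leaf
  3299) (.leaf
  2936)))) (.node 4 (.node 2 (.node 1 (.leaf
  2707) (.leaf
  2714)) (.node 1 (.leaf
  2715) (.leaf
  3296))) (.node 2 (.node 1 (.leaf
  2736) (.leaf
  3112)) (.node 1 (.leaf
  2747) (.leaf
  3184))))) (.node 8 (.node 4 (.node 2 (.node 1 (.leaf
  3041) (.leaf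
  2984)) (.node 1 (.leaf
  2835) (.leaf
  2843))) (.node 2 (.node 1 (.leaf
  2844) (.leaf
  2881)) (.node 1 (.leaf
  3227) (.leaf
  2920)))) (.node 4 (.node 2 (.node 1 (.leaf
  2992) (.leaf
  3176)) (.node 1 (.leaf
  3032) (.leaf
  3067))) (.node 2 (.node 1 (.leaf
  3080) (.leaf
  3344)) (.node 1 (.leaf
  3186) (.leaf
  3235))))))) (.node 32 (.node 16 (.node 8 (.node 4 (.node 2 (.node 1 (.leaf
  3297) (.leaf
  3960)) (.node 1 (.leaf
  3384) (.leaf
  5536))) (.node 2 (.node 1 (.leaf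
  3608) (.leaf
  5232)) (.node 1 (.leaf
  3400) (.leaf
  3744)))) (.node 4 (.node 2 (.node 1 (.leaf
  3408) (.leaf
  3872)) (.node 1 (.leaf
  6584) (.leaf
  4000))) (.node 2 (.node 1 (.leaf
  4880) (.leaf
  3424)) (.node 1 (.leaf
  5496) (.leaf
  3432))))) (.node 8 (.node 4 (.node 2 (.node 1 (.leaf
  6400) (.leaf
  4416)) (.node 1 (.leaf
  4976) (.leaf
  3456))) (.node 2 (.node 1 (.leaf
  4720) (.leaf
  4096)) (.node 1 (.leaf
  5472) (.leaf
  5072)))) (.node 4 (.node 2 (.node 1 (.leaf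
  3680) (.leaf
  3496)) (.node 1 (.leaf
  4392) (.leaf
  5400))) (.node 2 (.node 1 (.leaf
  5512) (.leaf
  5424)) (.node 1 (.leaf
  5696) (.leaf
  6360)))))) (.node 16 (.node 8 (.node 4 (.node 2 (.node 1 (.leaf
  4576) (.leaf
  4464)) (.node 1 (.leaf
  4952) (.leaf
  3600))) (.node 2 (.node 1 (.leaf
  6440) (.leaf
  3536)) (.node 1 (.leaf
  5376) (.leaf
  6064)))) (.node 4 (.node 2 (.node 1 (.leaf
  3584) (.leaf
  5856)) (.node 1 (.leaf
  3544) (.leaf
  3776))) (.node 2 (.node 1 (.leaf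
  4552) (.leaf
  5600)) (.node 1 (.leaf
  5264) (.leaf
  6368))))) (.node 8 (.node 4 (.node 2 (.node 1 (.leaf
  3576) (.leaf
  4568)) (.node 1 (.leaf
  3592) (.leaf
  6088))) (.node 2 (.node 1 (.leaf
  6008) (.leaf
  6096)) (.node 1 (.leaf
  4024) (.leaf
  4288)))) (.node 4 (.node 2 (.node 1 (.leaf
  4376) (.leaf
  5672)) (.node 1 (.leaf
  6512) (.leaf
  5240))) (.node 2 (.node 1 (.leaf
  5144) (.leaf
  5648)) (.node 1 (.leaf
  3648) (.leaf
  4728)))))))) (.node 64 (.node 32 (.node 16 (.node 8 (.node 4 (.node 2 (.node 1 (.leaf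
  6112) (.leaf
  6448)) (.node 1 (.leaf
  3656) (.leaf
  4888))) (.node 2 (.node 1 (.leaf
  5408) (.leaf
  4536)) (.node 1 (.leaf
  4584) (.leaf
  5552)))) (.node 4 (.node 2 (.node 1 (.leaf
  6416) (.leaf
  5792)) (.node 1 (.leaf
  5768) (.leaf
  4656))) (.node 2 (.node 1 (.leaf
  4080) (.leaf
  5624)) (.node 1 (.leaf
  5056) (.leaf
  4312))))) (.node 8 (.node 4 (.node 2 (.node 1 (.leaf
  3720) (.leaf
  6576)) (.node 1 (.leaf
  4816) (.leaf
  4240))) (.node 2 (.node 1 (.leaf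
  6304) (.leaf
  5736)) (.node 1 (.leaf
  4336) (.leaf
  5008)))) (.node 4 (.node 2 (.node 1 (.leaf
  4864) (.leaf
  5712)) (.node 1 (.leaf
  3768) (.leaf
  4520))) (.node 2 (.node 1 (.leaf
  4680) (.leaf
  6424)) (.node 1 (.leaf
  6344) (.leaf
  4936)))))) (.node 16 (.node 8 (.node 4 (.node 2 (.node 1 (.leaf
  3904) (.leaf
  3816)) (.node 1 (.leaf
  4424) (.leaf
  3840))) (.node 2 (.node 1 (.leaf
  4592) (.leaf
  5928)) (.node 1 (.leaf
  5872) (.leaf
  3952)))) (.node 4 (.node 2 (.node 1 (.leaf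
  5904) (.leaf
  4200)) (.node 1 (.leaf
  5344) (.leaf
  4064))) (.node 2 (.node 1 (.leaf
  5960) (.leaf
  4264)) (.node 1 (.leaf
  6144) (.leaf
  6544))))) (.node 8 (.node 4 (.node 2 (.node 1 (.leaf
  4224) (.leaf
  3920)) (.node 1 (.leaf
  6616) (.leaf
  5104))) (.node 2 (.node 1 (.leaf
  4672) (.leaf
  5312)) (.node 1 (.leaf
  3944) (.leaf
  6560)))) (.node 4 (.node 2 (.node 1 (.leaf
  6241) (.leaf
  5936)) (.node 1 (.leaf
  4792) (.leaf
  6160))) (.node 2 (.node 1 (.leaf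
  4088) (.leaf
  6104)) (.node 1 (.leaf
  5992) (.leaf
  6624))))))) (.node 32 (.node 16 (.node 8 (.node 4 (.node 2 (.node 1 (.leaf
  5560) (.leaf
  5584)) (.node 1 (.leaf
  6432) (.leaf
  5864))) (.node 2 (.node 1 (.leaf
  6592) (.leaf
  5632)) (.node 1 (.leaf
  5688) (.leaf
  6456)))) (.node 4 (.node 2 (.node 1 (.leaf
  6264) (.leaf
  6000)) (.node 1 (.leaf
  5704) (.leaf
  4280))) (.node 2 (.node 1 (.leaf
  5488) (.leaf
  5528)) (.node 1 (.leaf
  6288) (.leaf
  4296))))) (.node 8 (.node 4 (.node 2 (.node 1 (.leaf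
  6480) (.leaf
  5896)) (.node 1 (.leaf
  5880) (.leaf
  4368))) (.node 2 (.node 1 (.leaf
  5088) (.leaf
  4712)) (.node 1 (.leaf
  5544) (.leaf
  6496)))) (.node 4 (.node 2 (.node 1 (.leaf
  4440) (.leaf
  4840)) (.node 1 (.leaf
  6216) (.leaf
  4760))) (.node 2 (.node 1 (.leaf
  4472) (.leaf
  5808)) (.node 1 (.leaf
  6336) (.leaf
  4904)))))) (.node 16 (.node 8 (.node 4 (.node 2 (.node 1 (.leaf
  6536) (.leaf
  4512)) (.node 1 (.leaf
  5752) (.leaf
  5448))) (.node 2 (.node 1 (.leaf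
  4632) (.leaf
  5952)) (.node 1 (.leaf
  4600) (.leaf
  4648)))) (.node 4 (.node 2 (.node 1 (.leaf
  4856) (.leaf
  6392)) (.node 1 (.leaf
  5664) (.leaf
  5296))) (.node 2 (.node 1 (.leaf
  5112) (.leaf
  5184)) (.node 1 (.leaf
  6136) (.leaf
  6656))))) (.node 8 (.node 4 (.node 2 (.node 1 (.leaf
  5568) (.leaf
  6648)) (.node 1 (.leaf
  6312) (.leaf
  4944))) (.node 2 (.node 1 (.leaf
  5040) (.leaf
  5080)) (.node 1 (.leaf
  5576) (.leaf
  6568)))) (.node 4 (.node 2 (.node 1 (.leaf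
  6552) (.leaf
  5368)) (.node 1 (.leaf
  6377) (.leaf
  5705))) (.node 2 (.node 1 (.leaf
  7416) (.leaf
  7592)) (.node 1 (.leaf
  7096) (.leaf
  8128)))))))))))

/-- The members in increasing order of their codes. -/
def sylOrd : Tree :=
  (.node 512 (.node 256 (.node 128 (.node 64 (.node 32 (.node 16 (.node 8 (.node 4 (.node 2 (.node 1 (.leaf
  0) (.leaf
  120)) (.node 1 (.leaf
  261) (.leaf
  960))) (.node 2 (.node 1 (.leaf
  968) (.leaf
  341)) (.node 1 (.leaf
  312) (.leaf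
  163)))) (.node 4 (.node 2 (.node 1 (.leaf
  860) (.leaf
  237)) (.node 1 (.leaf
  976) (.leaf
  318))) (.node 2 (.node 1 (.leaf
  385) (.leaf
  963)) (.node 1 (.leaf
  956) (.leaf
  148))))) (.node 8 (.node 4 (.node 2 (.node 1 (.leaf
  905) (.leaf
  955)) (.node 1 (.leaf
  199) (.leaf
  394))) (.node 2 (.node 1 (.leaf
  862) (.leaf
  900)) (.node 1 (.leaf
  228) (.leaf
  172)))) (.node 4 (.node 2 (.node 1 (.leaf
  138) (.leaf
  209)) (.node 1 (.leaf
  128) (.leaf
  383))) (.node 2 (.node 1 (.leaf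
  847) (.leaf
  321)) (.node 1 (.leaf
  857) (.leaf
  300)))))) (.node 16 (.node 8 (.node 4 (.node 2 (.node 1 (.leaf
  37) (.leaf
  692)) (.node 1 (.leaf
  578) (.leaf
  442))) (.node 2 (.node 1 (.leaf
  60) (.leaf
  605)) (.node 1 (.leaf
  96) (.leaf
  619)))) (.node 4 (.node 2 (.node 1 (.leaf
  757) (.leaf
  462)) (.node 1 (.leaf
  800) (.leaf
  45))) (.node 2 (.node 1 (.leaf
  780) (.leaf
  824)) (.node 1 (.leaf
  628) (.leaf
  615))))) (.node 8 (.node 4 (.node 2 (.node 1 (.leaf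
  540) (.leaf
  747)) (.node 1 (.leaf
  621) (.leaf
  797))) (.node 2 (.node 1 (.leaf
  675) (.leaf
  33)) (.node 1 (.leaf
  773) (.leaf
  653)))) (.node 4 (.node 2 (.node 1 (.leaf
  481) (.leaf
  763)) (.node 1 (.leaf
  111) (.leaf
  70))) (.node 2 (.node 1 (.leaf
  478) (.leaf
  493)) (.node 1 (.leaf
  680) (.leaf
  647))))))) (.node 32 (.node 16 (.node 8 (.node 4 (.node 2 (.node 1 (.leaf
  428) (.leaf
  71)) (.node 1 (.leaf
  513) (.leaf
  497))) (.node 2 (.node 1 (.leaf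
  663) (.leaf
  784)) (.node 1 (.leaf
  612) (.leaf
  507)))) (.node 4 (.node 2 (.node 1 (.leaf
  710) (.leaf
  625)) (.node 1 (.leaf
  702) (.leaf
  803))) (.node 2 (.node 1 (.leaf
  452) (.leaf
  102)) (.node 1 (.leaf
  32) (.leaf
  579))))) (.node 8 (.node 4 (.node 2 (.node 1 (.leaf
  569) (.leaf
  545)) (.node 1 (.leaf
  555) (.leaf
  646))) (.node 2 (.node 1 (.leaf
  758) (.leaf
  110)) (.node 1 (.leaf
  423) (.leaf
  2)))) (.node 4 (.node 2 (.node 1 (.leaf
  527) (.leaf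
  641)) (.node 1 (.leaf
  521) (.leaf
  737))) (.node 2 (.node 1 (.leaf
  80) (.leaf
  618)) (.node 1 (.leaf
  707) (.leaf
  438)))))) (.node 16 (.node 8 (.node 4 (.node 2 (.node 1 (.leaf
  142) (.leaf
  210)) (.node 1 (.leaf
  875) (.leaf
  343))) (.node 2 (.node 1 (.leaf
  327) (.leaf
  978)) (.node 1 (.leaf
  1018) (.leaf
  415)))) (.node 4 (.node 2 (.node 1 (.leaf
  156) (.leaf
  884)) (.node 1 (.leaf
  193) (.leaf
  379))) (.node 2 (.node 1 (.leaf
  277) (.leaf
  850)) (.node 1 (.leaf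
  262) (.leaf
  227))))) (.node 8 (.node 4 (.node 2 (.node 1 (.leaf
  253) (.leaf
  911)) (.node 1 (.leaf
  22) (.leaf
  180))) (.node 2 (.node 1 (.leaf
  8) (.leaf
  269)) (.node 1 (.leaf
  387) (.leaf
  870)))) (.node 4 (.node 2 (.node 1 (.leaf
  952) (.leaf
  931)) (.node 1 (.leaf
  292) (.leaf
  408))) (.node 2 (.node 1 (.leaf
  878) (.leaf
  219)) (.node 1 (.leaf
  1007) (.leaf
  188)))))))) (.node 64 (.node 32 (.node 16 (.node 8 (.node 4 (.node 2 (.node 1 (.leaf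
  413) (.leaf
  861)) (.node 1 (.leaf
  320) (.leaf
  972))) (.node 2 (.node 1 (.leaf
  146) (.leaf
  874)) (.node 1 (.leaf
  211) (.leaf
  310)))) (.node 4 (.node 2 (.node 1 (.leaf
  836) (.leaf
  14)) (.node 1 (.leaf
  841) (.leaf
  25))) (.node 2 (.node 1 (.leaf
  986) (.leaf
  192)) (.node 1 (.leaf
  997) (.leaf
  154))))) (.node 8 (.node 4 (.node 2 (.node 1 (.leaf
  888) (.leaf
  206)) (.node 1 (.leaf
  6) (.leaf
  271))) (.node 2 (.node 1 (.leaf
  283) (.leaf
  182)) (.node 1 (.leaf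
  987) (.leaf
  916)))) (.node 4 (.node 2 (.node 1 (.leaf
  903) (.leaf
  1013)) (.node 1 (.leaf
  197) (.leaf
  221))) (.node 2 (.node 1 (.leaf
  846) (.leaf
  288)) (.node 1 (.leaf
  959) (.leaf
  932)))))) (.node 16 (.node 8 (.node 4 (.node 2 (.node 1 (.leaf
  592) (.leaf
  782)) (.node 1 (.leaf
  643) (.leaf
  525))) (.node 2 (.node 1 (.leaf
  427) (.leaf
  72)) (.node 1 (.leaf
  515) (.leaf
  495)))) (.node 4 (.node 2 (.node 1 (.leaf
  823) (.leaf
  104)) (.node 1 (.leaf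
  488) (.leaf
  39))) (.node 2 (.node 1 (.leaf
  118) (.leaf
  99)) (.node 1 (.leaf
  700) (.leaf
  734))))) (.node 8 (.node 4 (.node 2 (.node 1 (.leaf
  430) (.leaf
  67)) (.node 1 (.leaf
  53) (.leaf
  669))) (.node 2 (.node 1 (.leaf
  449) (.leaf
  548)) (.node 1 (.leaf
  475) (.leaf
  649)))) (.node 4 (.node 2 (.node 1 (.leaf
  656) (.leaf
  82)) (.node 1 (.leaf
  436) (.leaf
  767))) (.node 2 (.node 1 (.leaf
  662) (.leaf
  503)) (.node 1 (.leaf
  736) (.leaf
  510))))))) (.node 32 (.node 16 (.node 8 (.node 4 (.node 2 (.node 1 (.leaf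
  761) (.leaf
  787)) (.node 1 (.leaf
  601) (.leaf
  623))) (.node 2 (.node 1 (.leaf
  29) (.leaf
  753)) (.node 1 (.leaf
  487) (.leaf
  49)))) (.node 4 (.node 2 (.node 1 (.leaf
  668) (.leaf
  599)) (.node 1 (.leaf
  825) (.leaf
  772))) (.node 2 (.node 1 (.leaf
  47) (.leaf
  690)) (.node 1 (.leaf
  460) (.leaf
  756))))) (.node 8 (.node 4 (.node 2 (.node 1 (.leaf
  775) (.leaf
  654)) (.node 1 (.leaf
  705) (.leaf
  34))) (.node 2 (.node 1 (.leaf
  620) (.leaf
  709)) (.node 1 (.leaf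
  538) (.leaf
  745)))) (.node 4 (.node 2 (.node 1 (.leaf
  543) (.leaf
  811)) (.node 1 (.leaf
  584) (.leaf
  572))) (.node 2 (.node 1 (.leaf
  5) (.leaf
  426)) (.node 1 (.leaf
  63) (.leaf
  818)))))) (.node 16 (.node 8 (.node 4 (.node 2 (.node 1 (.leaf
  981) (.leaf
  335)) (.node 1 (.leaf
  314) (.leaf
  135))) (.node 2 (.node 1 (.leaf
  15) (.leaf
  122)) (.node 1 (.leaf
  953) (.leaf
  224)))) (.node 4 (.node 2 (.node 1 (.leaf
  384) (.leaf
  1016)) (.node 1 (.leaf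
  144) (.leaf
  944))) (.node 2 (.node 1 (.leaf
  325) (.leaf
  239)) (.node 1 (.leaf
  1017) (.leaf
  855))))) (.node 8 (.node 4 (.node 2 (.node 1 (.leaf
  843) (.leaf
  290)) (.node 1 (.leaf
  178) (.leaf
  229))) (.node 2 (.node 1 (.leaf
  907) (.leaf
  961)) (.node 1 (.leaf
  191) (.leaf
  949)))) (.node 4 (.node 2 (.node 1 (.leaf
  268) (.leaf
  255)) (.node 1 (.leaf
  298) (.leaf
  371))) (.node 2 (.node 1 (.leaf
  1012) (.leaf
  159)) (.node 1 (.leaf
  873) (.leaf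
  166))))))))) (.node 128 (.node 64 (.node 32 (.node 16 (.node 8 (.node 4 (.node 2 (.node 1 (.leaf
  101) (.leaf
  79)) (.node 1 (.leaf
  717) (.leaf
  812))) (.node 2 (.node 1 (.leaf
  711) (.leaf
  769)) (.node 1 (.leaf
  467) (.leaf
  1020)))) (.node 4 (.node 2 (.node 1 (.leaf
  218) (.leaf
  359)) (.node 1 (.leaf
  363) (.leaf
  989))) (.node 2 (.node 1 (.leaf
  1000) (.leaf
  194)) (.node 1 (.leaf
  853) (.leaf
  157))))) (.node 8 (.node 4 (.node 2 (.node 1 (.leaf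
  665) (.leaf
  115)) (.node 1 (.leaf
  536) (.leaf
  740))) (.node 2 (.node 1 (.leaf
  490) (.leaf
  659)) (.node 1 (.leaf
  725) (.leaf
  691)))) (.node 4 (.node 2 (.node 1 (.leaf
  267) (.leaf
  921)) (.node 1 (.leaf
  401) (.leaf
  389))) (.node 2 (.node 1 (.leaf
  970) (.leaf
  348)) (.node 1 (.leaf
  329) (.leaf
  936)))))) (.node 16 (.node 8 (.node 4 (.node 2 (.node 1 (.leaf
  590) (.leaf
  749)) (.node 1 (.leaf
  677) (.leaf
  522))) (.node 2 (.node 1 (.leaf
  530) (.leaf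
  90)) (.node 1 (.leaf
  498) (.leaf
  562)))) (.node 4 (.node 2 (.node 1 (.leaf
  373) (.leaf
  909)) (.node 1 (.leaf
  971) (.leaf
  294))) (.node 2 (.node 1 (.leaf
  929) (.leaf
  935)) (.node 1 (.leaf
  246) (.leaf
  344))))) (.node 8 (.node 4 (.node 2 (.node 1 (.leaf
  85) (.leaf
  831)) (.node 1 (.leaf
  565) (.leaf
  55))) (.node 2 (.node 1 (.leaf
  446) (.leaf
  594)) (.node 1 (.leaf
  755) (.leaf
  457)))) (.node 4 (.node 2 (.node 1 (.leaf
  896) (.leaf
  851)) (.node 1 (.leaf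
  9) (.leaf
  249))) (.node 2 (.node 1 (.leaf
  865) (.leaf
  134)) (.node 1 (.leaf
  280) (.leaf
  334))))))) (.node 32 (.node 16 (.node 8 (.node 4 (.node 2 (.node 1 (.leaf
  378) (.leaf
  222)) (.node 1 (.leaf
  946) (.leaf
  353))) (.node 2 (.node 1 (.leaf
  398) (.leaf
  1002)) (.node 1 (.leaf
  263) (.leaf
  153)))) (.node 4 (.node 2 (.node 1 (.leaf
  83) (.leaf
  657)) (.node 1 (.leaf
  786) (.leaf
  727))) (.node 2 (.node 1 (.leaf
  638) (.leaf
  105)) (.node 1 (.leaf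
  699) (.leaf
  581))))) (.node 8 (.node 4 (.node 2 (.node 1 (.leaf
  885) (.leaf
  420)) (.node 1 (.leaf
  914) (.leaf
  1014))) (.node 2 (.node 1 (.leaf
  893) (.leaf
  308)) (.node 1 (.leaf
  245) (.leaf
  381)))) (.node 4 (.node 2 (.node 1 (.leaf
  550) (.leaf
  792)) (.node 1 (.leaf
  435) (.leaf
  766))) (.node 2 (.node 1 (.leaf
  684) (.leaf
  94)) (.node 1 (.leaf
  799) (.leaf
  561)))))) (.node 16 (.node 8 (.node 4 (.node 2 (.node 1 (.leaf
  171) (.leaf
  302)) (.node 1 (.leaf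
  130) (.leaf
  272))) (.node 2 (.node 1 (.leaf
  838) (.leaf
  19)) (.node 1 (.leaf
  233) (.leaf
  162)))) (.node 4 (.node 2 (.node 1 (.leaf
  471) (.leaf
  440)) (.node 1 (.leaf
  670) (.leaf
  696))) (.node 2 (.node 1 (.leaf
  552) (.leaf
  794)) (.node 1 (.leaf
  59) (.leaf
  41))))) (.node 8 (.node 4 (.node 2 (.node 1 (.leaf
  967) (.leaf
  350)) (.node 1 (.leaf
  183) (.leaf
  204))) (.node 2 (.node 1 (.leaf
  881) (.leaf
  924)) (.node 1 (.leaf
  212) (.leaf
  376)))) (.node 4 (.node 2 (.node 1 (.leaf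
  808) (.leaf
  820)) (.node 1 (.leaf
  610) (.leaf
  504))) (.node 2 (.node 1 (.leaf
  516) (.leaf
  468)) (.node 1 (.leaf
  768) (.leaf
  73)))))))) (.node 64 (.node 32 (.node 16 (.node 8 (.node 4 (.node 2 (.node 1 (.leaf
  704) (.leaf
  567)) (.node 1 (.leaf
  617) (.leaf
  88))) (.node 2 (.node 1 (.leaf
  459) (.leaf
  479)) (.node 1 (.leaf
  596) (.leaf
  750)))) (.node 4 (.node 2 (.node 1 (.leaf
  251) (.leaf
  176)) (.node 1 (.leaf
  185) (.leaf
  858))) (.node 2 (.node 1 (.leaf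
  1005) (.leaf
  926)) (.node 1 (.leaf
  419) (.leaf
  867))))) (.node 8 (.node 4 (.node 2 (.node 1 (.leaf
  113) (.leaf
  640)) (.node 1 (.leaf
  575) (.leaf
  802))) (.node 2 (.node 1 (.leaf
  48) (.leaf
  492)) (.node 1 (.leaf
  546) (.leaf
  1022)))) (.node 4 (.node 2 (.node 1 (.leaf
  297) (.leaf
  395)) (.node 1 (.leaf
  918) (.leaf
  258))) (.node 2 (.node 1 (.leaf
  941) (.leaf
  240)) (.node 1 (.leaf
  355) (.leaf
  993)))))) (.node 16 (.node 8 (.node 4 (.node 2 (.node 1 (.leaf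
  655) (.leaf
  776)) (.node 1 (.leaf
  35) (.leaf
  469))) (.node 2 (.node 1 (.leaf
  611) (.leaf
  506)) (.node 1 (.leaf
  723) (.leaf
  821)))) (.node 4 (.node 2 (.node 1 (.leaf
  392) (.leaf
  375)) (.node 1 (.leaf
  880) (.leaf
  230))) (.node 2 (.node 1 (.leaf
  315) (.leaf
  331)) (.node 1 (.leaf
  890) (.leaf
  992))))) (.node 8 (.node 4 (.node 2 (.node 1 (.leaf
  554) (.leaf
  76)) (.node 1 (.leaf
  57) (.leaf
  603))) (.node 2 (.node 1 (.leaf
  683) (.leaf
  444)) (.node 1 (.leaf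
  465) (.leaf
  693)))) (.node 4 (.node 2 (.node 1 (.leaf
  215) (.leaf
  21)) (.node 1 (.leaf
  910) (.leaf
  160))) (.node 2 (.node 1 (.leaf
  169) (.leaf
  304)) (.node 1 (.leaf
  123) (.leaf
  278))))))) (.node 32 (.node 16 (.node 8 (.node 4 (.node 2 (.node 1 (.leaf
  939) (.leaf
  991)) (.node 1 (.leaf
  201) (.leaf
  352))) (.node 2 (.node 1 (.leaf
  868) (.leaf
  400)) (.node 1 (.leaf
  410) (.leaf
  265)))) (.node 4 (.node 2 (.node 1 (.leaf
  721) (.leaf
  804)) (.node 1 (.leaf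
  661) (.leaf
  482))) (.node 2 (.node 1 (.leaf
  741) (.leaf
  636)) (.node 1 (.leaf
  117) (.leaf
  463))))) (.node 8 (.node 4 (.node 2 (.node 1 (.leaf
  301) (.leaf
  1004)) (.node 1 (.leaf
  322) (.leaf
  879))) (.node 2 (.node 1 (.leaf
  236) (.leaf
  256)) (.node 1 (.leaf
  994) (.leaf
  339)))) (.node 4 (.node 2 (.node 1 (.leaf
  806) (.leaf
  681)) (.node 1 (.leaf
  473) (.leaf
  600))) (.node 2 (.node 1 (.leaf
  573) (.leaf
  44)) (.node 1 (.leaf
  608) (.leaf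
  730)))))) (.node 16 (.node 8 (.node 4 (.node 2 (.node 1 (.leaf
  282) (.leaf
  332)) (.node 1 (.leaf
  975) (.leaf
  132))) (.node 2 (.node 1 (.leaf
  17) (.leaf
  382)) (.node 1 (.leaf
  894) (.leaf
  242)))) (.node 4 (.node 2 (.node 1 (.leaf
  652) (.leaf
  587)) (.node 1 (.leaf
  448) (.leaf
  433))) (.node 2 (.node 1 (.leaf
  92) (.leaf
  51)) (.node 1 (.leaf
  559) (.leaf
  822))))) (.node 8 (.node 4 (.node 2 (.node 1 (.leaf
  930) (.leaf
  863)) (.node 1 (.leaf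
  247) (.leaf
  360))) (.node 2 (.node 1 (.leaf
  367) (.leaf
  418)) (.node 1 (.leaf
  150) (.leaf
  919)))) (.node 4 (.node 2 (.node 1 (.leaf
  532) (.leaf
  89)) (.node 1 (.leaf
  454) (.leaf
  563))) (.node 2 (.node 1 (.leaf
  591) (.leaf
  789)) (.node 1 (.leaf
  781) (.leaf
  524)))))))))) (.node 256 (.node 128 (.node 64 (.node 32 (.node 16 (.node 8 (.node 4 (.node 2 (.node 1 (.leaf
  18) (.leaf
  196)) (.node 1 (.leaf
  299) (.leaf
  856))) (.node 2 (.node 1 (.leaf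
  417) (.leaf
  368)) (.node 1 (.leaf
  938) (.leaf
  954)))) (.node 4 (.node 2 (.node 1 (.leaf
  235) (.leaf
  393)) (.node 1 (.leaf
  883) (.leaf
  338))) (.node 2 (.node 1 (.leaf
  275) (.leaf
  125)) (.node 1 (.leaf
  205) (.leaf
  225))))) (.node 8 (.node 4 (.node 2 (.node 1 (.leaf
  137) (.leaf
  996)) (.node 1 (.leaf
  406) (.leaf
  286))) (.node 2 (.node 1 (.leaf
  412) (.leaf
  213)) (.node 1 (.leaf
  925) (.leaf
  220)))) (.node 4 (.node 2 (.node 1 (.leaf
  244) (.leaf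
  845)) (.node 1 (.leaf
  129) (.leaf
  270))) (.node 2 (.node 1 (.leaf
  152) (.leaf
  264)) (.node 1 (.leaf
  181) (.leaf
  399)))))) (.node 16 (.node 8 (.node 4 (.node 2 (.node 1 (.leaf
  633) (.leaf
  429)) (.node 1 (.leaf
  499) (.leaf
  437))) (.node 2 (.node 1 (.leaf
  62) (.leaf
  801)) (.node 1 (.leaf
  107) (.leaf
  785)))) (.node 4 (.node 2 (.node 1 (.leaf
  491) (.leaf
  644)) (.node 1 (.leaf
  724) (.leaf
  770))) (.node 2 (.node 1 (.leaf
  676) (.leaf
  712)) (.node 1 (.leaf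
  518) (.leaf
  54))))) (.node 8 (.node 4 (.node 2 (.node 1 (.leaf
  574) (.leaf
  828)) (.node 1 (.leaf
  112) (.leaf
  687))) (.node 2 (.node 1 (.leaf
  694) (.leaf
  635)) (.node 1 (.leaf
  445) (.leaf
  688)))) (.node 4 (.node 2 (.node 1 (.leaf
  547) (.leaf
  774)) (.node 1 (.leaf
  1) (.leaf
  422))) (.node 2 (.node 1 (.leaf
  788) (.leaf
  595)) (.node 1 (.leaf
  568) (.leaf
  97))))))) (.node 32 (.node 16 (.node 8 (.node 4 (.node 2 (.node 1 (.leaf
  658) (.leaf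
  52)) (.node 1 (.leaf
  832) (.leaf
  679))) (.node 2 (.node 1 (.leaf
  509) (.leaf
  771)) (.node 1 (.leaf
  480) (.leaf
  1023)))) (.node 4 (.node 2 (.node 1 (.leaf
  43) (.leaf
  474)) (.node 1 (.leaf
  539) (.leaf
  746))) (.node 2 (.node 1 (.leaf
  30) (.leaf
  66)) (.node 1 (.leaf
  637) (.leaf
  672))))) (.node 8 (.node 4 (.node 2 (.node 1 (.leaf
  630) (.leaf
  485)) (.node 1 (.leaf
  732) (.leaf
  453))) (.node 2 (.node 1 (.leaf
  826) (.leaf
  74)) (.node 1 (.leaf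
  517) (.leaf
  81)))) (.node 4 (.node 2 (.node 1 (.leaf
  93) (.leaf
  597)) (.node 1 (.leaf
  439) (.leaf
  500))) (.node 2 (.node 1 (.leaf
  582) (.leaf
  698)) (.node 1 (.leaf
  106) (.leaf
  664)))))) (.node 16 (.node 8 (.node 4 (.node 2 (.node 1 (.leaf
  345) (.leaf
  421)) (.node 1 (.leaf
  934) (.leaf
  877))) (.node 2 (.node 1 (.leaf
  928) (.leaf
  165)) (.node 1 (.leaf
  842) (.leaf
  26)))) (.node 4 (.node 2 (.node 1 (.leaf
  892) (.leaf
  937)) (.node 1 (.leaf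
  372) (.leaf
  347))) (.node 2 (.node 1 (.leaf
  289) (.leaf
  195)) (.node 1 (.leaf
  833) (.leaf
  7))))) (.node 8 (.node 4 (.node 2 (.node 1 (.leaf
  257) (.leaf
  964)) (.node 1 (.leaf
  330) (.leaf
  316))) (.node 2 (.node 1 (.leaf
  187) (.leaf
  848)) (.node 1 (.leaf
  279) (.leaf
  124)))) (.node 4 (.node 2 (.node 1 (.leaf
  869) (.leaf
  404)) (.node 1 (.leaf
  835) (.leaf
  12))) (.node 2 (.node 1 (.leaf
  252) (.leaf
  985)) (.node 1 (.leaf
  369) (.leaf
  866)))))))) (.node 64 (.node 32 (.node 16 (.node 8 (.node 4 (.node 2 (.node 1 (.leaf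
  24) (.leaf
  840)) (.node 1 (.leaf
  167) (.leaf
  943))) (.node 2 (.node 1 (.leaf
  864) (.leaf
  948)) (.node 1 (.leaf
  361) (.leaf
  377)))) (.node 4 (.node 2 (.node 1 (.leaf
  145) (.leaf
  323)) (.node 1 (.leaf
  837) (.leaf
  16))) (.node 2 (.node 1 (.leaf
  351) (.leaf
  889)) (.node 1 (.leaf
  366) (.leaf
  940))))) (.node 8 (.node 4 (.node 2 (.node 1 (.leaf
  131) (.leaf
  273)) (.node 1 (.leaf
  189) (.leaf
  1011))) (.node 2 (.node 1 (.leaf
  184) (.leaf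
  203)) (.node 1 (.leaf
  977) (.leaf
  397)))) (.node 4 (.node 2 (.node 1 (.leaf
  370) (.leaf
  876)) (.node 1 (.leaf
  254) (.leaf
  984))) (.node 2 (.node 1 (.leaf
  834) (.leaf
  11)) (.node 1 (.leaf
  871) (.leaf
  403)))))) (.node 16 (.node 8 (.node 4 (.node 2 (.node 1 (.leaf
  511) (.leaf
  489)) (.node 1 (.leaf
  748) (.leaf
  733))) (.node 2 (.node 1 (.leaf
  56) (.leaf
  689)) (.node 1 (.leaf
  701) (.leaf
  810)))) (.node 4 (.node 2 (.node 1 (.leaf
  28) (.leaf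
  68)) (.node 1 (.leaf
  695) (.leaf
  496))) (.node 2 (.node 1 (.leaf
  78) (.leaf
  476)) (.node 1 (.leaf
  783) (.leaf
  716))))) (.node 8 (.node 4 (.node 2 (.node 1 (.leaf
  46) (.leaf
  777)) (.node 1 (.leaf
  36) (.leaf
  744))) (.node 2 (.node 1 (.leaf
  484) (.leaf
  674)) (.node 1 (.leaf
  451) (.leaf
  743)))) (.node 4 (.node 2 (.node 1 (.leaf
  576) (.leaf
  686)) (.node 1 (.leaf
  114) (.leaf
  678))) (.node 2 (.node 1 (.leaf
  443) (.leaf
  87)) (.node 1 (.leaf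
  501) (.leaf
  566))))))) (.node 32 (.node 16 (.node 8 (.node 4 (.node 2 (.node 1 (.leaf
  622) (.leaf
  108)) (.node 1 (.leaf
  541) (.leaf
  64))) (.node 2 (.node 1 (.leaf
  455) (.leaf
  752)) (.node 1 (.leaf
  461) (.leaf
  751)))) (.node 4 (.node 2 (.node 1 (.leaf
  472) (.leaf
  519)) (.node 1 (.leaf
  778) (.leaf
  50))) (.node 2 (.node 1 (.leaf
  735) (.leaf
  720)) (.node 1 (.leaf
  483) (.leaf
  1021))))) (.node 8 (.node 4 (.node 2 (.node 1 (.leaf
  759) (.leaf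
  441)) (.node 1 (.leaf
  671) (.leaf
  634))) (.node 2 (.node 1 (.leaf
  528) (.leaf
  580)) (.node 1 (.leaf
  819) (.leaf
  103)))) (.node 4 (.node 2 (.node 1 (.leaf
  570) (.leaf
  95)) (.node 1 (.leaf
  791) (.leaf
  589))) (.node 2 (.node 1 (.leaf
  3) (.leaf
  424)) (.node 1 (.leaf
  742) (.leaf
  514)))))) (.node 16 (.node 8 (.node 4 (.node 2 (.node 1 (.leaf
  374) (.leaf
  908)) (.node 1 (.leaf
  1003) (.leaf
  886))) (.node 2 (.node 1 (.leaf
  324) (.leaf
  10)) (.node 1 (.leaf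
  1006) (.leaf
  155)))) (.node 4 (.node 2 (.node 1 (.leaf
  274) (.leaf
  126)) (.node 1 (.leaf
  207) (.leaf
  223))) (.node 2 (.node 1 (.leaf
  217) (.leaf
  358)) (.node 1 (.leaf
  882) (.leaf
  414))))) (.node 8 (.node 4 (.node 2 (.node 1 (.leaf
  238) (.leaf
  391)) (.node 1 (.leaf
  231) (.leaf
  950))) (.node 2 (.node 1 (.leaf
  957) (.leaf
  139)) (.node 1 (.leaf
  285) (.leaf
  365)))) (.node 4 (.node 2 (.node 1 (.leaf
  313) (.leaf
  259)) (.node 1 (.leaf
  296) (.leaf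
  396))) (.node 2 (.node 1 (.leaf
  121) (.leaf
  250)) (.node 1 (.leaf
  859) (.leaf
  141))))))))) (.node 128 (.node 64 (.node 32 (.node 16 (.node 8 (.node 4 (.node 2 (.node 1 (.leaf
  119) (.leaf
  98)) (.node 1 (.leaf
  447) (.leaf
  715))) (.node 2 (.node 1 (.leaf
  779) (.leaf
  703)) (.node 1 (.leaf
  535) (.leaf
  614)))) (.node 4 (.node 2 (.node 1 (.leaf
  214) (.leaf
  356)) (.node 1 (.leaf
  913) (.leaf
  988))) (.node 2 (.node 1 (.leaf
  849) (.leaf
  276)) (.node 1 (.leaf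
  226) (.leaf
  174))))) (.node 8 (.node 4 (.node 2 (.node 1 (.leaf
  531) (.leaf
  86)) (.node 1 (.leaf
  632) (.leaf
  38))) (.node 2 (.node 1 (.leaf
  432) (.leaf
  764)) (.node 1 (.leaf
  586) (.leaf
  77)))) (.node 4 (.node 2 (.node 1 (.leaf
  143) (.leaf
  177)) (.node 1 (.leaf
  1010) (.leaf
  895))) (.node 2 (.node 1 (.leaf
  293) (.leaf
  942)) (.node 1 (.leaf
  839) (.leaf
  20)))))) (.node 16 (.node 8 (.node 4 (.node 2 (.node 1 (.leaf
  542) (.leaf
  526)) (.node 1 (.leaf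
  593) (.leaf
  830))) (.node 2 (.node 1 (.leaf
  714) (.leaf
  557)) (.node 1 (.leaf
  816) (.leaf
  577)))) (.node 4 (.node 2 (.node 1 (.leaf
  266) (.leaf
  920)) (.node 1 (.leaf
  136) (.leaf
  902))) (.node 2 (.node 1 (.leaf
  362) (.leaf
  854)) (.node 1 (.leaf
  305) (.leaf
  1001))))) (.node 8 (.node 4 (.node 2 (.node 1 (.leaf
  660) (.leaf
  549)) (.node 1 (.leaf
  685) (.leaf
  650))) (.node 2 (.node 1 (.leaf
  61) (.leaf
  606)) (.node 1 (.leaf
  809) (.leaf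
  726)))) (.node 4 (.node 2 (.node 1 (.leaf
  980) (.leaf
  933)) (.node 1 (.leaf
  202) (.leaf
  407))) (.node 2 (.node 1 (.leaf
  326) (.leaf
  999)) (.node 1 (.leaf
  947) (.leaf
  388))))))) (.node 32 (.node 16 (.node 8 (.node 4 (.node 2 (.node 1 (.leaf
  287) (.leaf
  309)) (.node 1 (.leaf
  852) (.leaf
  958))) (.node 2 (.node 1 (.leaf
  891) (.leaf
  161)) (.node 1 (.leaf
  149) (.leaf
  340)))) (.node 4 (.node 2 (.node 1 (.leaf
  425) (.leaf
  4)) (.node 1 (.leaf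
  464) (.leaf
  560))) (.node 2 (.node 1 (.leaf
  754) (.leaf
  456)) (.node 1 (.leaf
  505) (.leaf
  42))))) (.node 8 (.node 4 (.node 2 (.node 1 (.leaf
  1009) (.leaf
  336)) (.node 1 (.leaf
  232) (.leaf
  923))) (.node 2 (.node 1 (.leaf
  241) (.leaf
  127)) (.node 1 (.leaf
  208) (.leaf
  306)))) (.node 4 (.node 2 (.node 1 (.leaf
  585) (.leaf
  571)) (.node 1 (.leaf
  760) (.leaf
  722))) (.node 2 (.node 1 (.leaf
  626) (.leaf
  642)) (.node 1 (.leaf
  520) (.leaf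
  682)))))) (.node 16 (.node 8 (.node 4 (.node 2 (.node 1 (.leaf
  416) (.leaf
  140)) (.node 1 (.leaf
  248) (.leaf
  887))) (.node 2 (.node 1 (.leaf
  409) (.leaf
  198)) (.node 1 (.leaf
  998) (.leaf
  904)))) (.node 4 (.node 2 (.node 1 (.leaf
  731) (.leaf
  609)) (.node 1 (.leaf
  529) (.leaf
  706))) (.node 2 (.node 1 (.leaf
  544) (.leaf
  719)) (.node 1 (.leaf
  645) (.leaf
  556))))) (.node 8 (.node 4 (.node 2 (.node 1 (.leaf
  917) (.leaf
  983)) (.node 1 (.leaf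
  380) (.leaf
  284))) (.node 2 (.node 1 (.leaf
  927) (.leaf
  173)) (.node 1 (.leaf
  965) (.leaf
  901)))) (.node 4 (.node 2 (.node 1 (.leaf
  739) (.leaf
  790)) (.node 1 (.leaf
  666) (.leaf
  708))) (.node 2 (.node 1 (.leaf
  65) (.leaf
  470)) (.node 1 (.leaf
  109) (.leaf
  805)))))))) (.node 64 (.node 32 (.node 16 (.node 8 (.node 4 (.node 2 (.node 1 (.leaf
  817) (.leaf
  814)) (.node 1 (.leaf
  502) (.leaf
  627))) (.node 2 (.node 1 (.leaf
  58) (.leaf
  604)) (.node 1 (.leaf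
  477) (.leaf
  494)))) (.node 4 (.node 2 (.node 1 (.leaf
  307) (.leaf
  158)) (.node 1 (.leaf
  872) (.leaf
  243))) (.node 2 (.node 1 (.leaf
  922) (.leaf
  234)) (.node 1 (.leaf
  337) (.leaf
  1008))))) (.node 8 (.node 4 (.node 2 (.node 1 (.leaf
  458) (.leaf
  523)) (.node 1 (.leaf
  40) (.leaf
  728))) (.node 2 (.node 1 (.leaf
  69) (.leaf
  431)) (.node 1 (.leaf
  558) (.leaf
  466)))) (.node 4 (.node 2 (.node 1 (.leaf
  333) (.leaf
  402)) (.node 1 (.leaf
  133) (.leaf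
  151))) (.node 2 (.node 1 (.leaf
  844) (.leaf
  291)) (.node 1 (.leaf
  303) (.leaf
  951)))))) (.node 16 (.node 8 (.node 4 (.node 2 (.node 1 (.leaf
  564) (.leaf
  813)) (.node 1 (.leaf
  631) (.leaf
  533))) (.node 2 (.node 1 (.leaf
  667) (.leaf
  713)) (.node 1 (.leaf
  738) (.leaf
  798)))) (.node 4 (.node 2 (.node 1 (.leaf
  897) (.leaf
  995)) (.node 1 (.leaf
  179) (.leaf
  346))) (.node 2 (.node 1 (.leaf
  23) (.leaf
  317)) (.node 1 (.leaf
  990) (.leaf
  354))))) (.node 8 (.node 4 (.node 2 (.node 1 (.leaf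
  116) (.leaf
  450)) (.node 1 (.leaf
  648) (.leaf
  793))) (.node 2 (.node 1 (.leaf
  729) (.leaf
  607)) (.node 1 (.leaf
  629) (.leaf
  512)))) (.node 4 (.node 2 (.node 1 (.leaf
  411) (.leaf
  190)) (.node 1 (.leaf
  962) (.leaf
  906))) (.node 2 (.node 1 (.leaf
  168) (.leaf
  328)) (.node 1 (.leaf
  386) (.leaf
  974))))))) (.node 32 (.node 16 (.node 8 (.node 4 (.node 2 (.node 1 (.leaf
  349) (.leaf
  915)) (.node 1 (.leaf
  281) (.leaf
  295))) (.node 2 (.node 1 (.leaf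
  170) (.leaf
  1015)) (.node 1 (.leaf
  899) (.leaf
  147)))) (.node 4 (.node 2 (.node 1 (.leaf
  75) (.leaf
  588)) (.node 1 (.leaf
  765) (.leaf
  434))) (.node 2 (.node 1 (.leaf
  31) (.leaf
  537)) (.node 1 (.leaf
  84) (.leaf
  673))))) (.node 8 (.node 4 (.node 2 (.node 1 (.leaf
  898) (.leaf
  405)) (.node 1 (.leaf
  175) (.leaf
  13))) (.node 2 (.node 1 (.leaf
  357) (.leaf
  216)) (.node 1 (.leaf
  982) (.leaf
  912)))) (.node 4 (.node 2 (.node 1 (.leaf
  829) (.leaf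
  807)) (.node 1 (.leaf
  598) (.leaf
  534))) (.node 2 (.node 1 (.leaf
  718) (.leaf
  624)) (.node 1 (.leaf
  553) (.leaf
  795)))))) (.node 16 (.node 8 (.node 4 (.node 2 (.node 1 (.leaf
  945) (.leaf
  390)) (.node 1 (.leaf
  319) (.leaf
  973))) (.node 2 (.node 1 (.leaf
  200) (.leaf
  27)) (.node 1 (.leaf
  979) (.leaf
  260)))) (.node 4 (.node 2 (.node 1 (.leaf
  762) (.leaf
  583)) (.node 1 (.leaf
  602) (.leaf
  697))) (.node 2 (.node 1 (.leaf
  639) (.leaf
  651)) (.node 1 (.leaf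
  796) (.leaf
  551))))) (.node 8 (.node 4 (.node 2 (.node 1 (.leaf
  364) (.leaf
  1019)) (.node 1 (.leaf
  966) (.leaf
  311))) (.node 2 (.node 1 (.leaf
  969) (.leaf
  342)) (.node 1 (.leaf
  186) (.leaf
  164)))) (.node 4 (.node 2 (.node 1 (.leaf
  100) (.leaf
  486)) (.node 1 (.leaf
  827) (.leaf
  91))) (.node 2 (.node 1 (.leaf
  508) (.leaf
  613)) (.node 1 (.leaf
  616) (.leaf
  815)))))))))))

/-- Their ranks. -/
def sylRank : Tree :=
  (.node 512 (.node 256 (.node 128 (.node 64 (.node 32 (.node 16 (.node 8 (.node 4 (.node 2 (.node 1 (.leaf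
  0) (.leaf
  570)) (.node 1 (.leaf
  87) (.leaf
  732))) (.node 2 (.node 1 (.leaf
  841) (.leaf
  220)) (.node 1 (.leaf
  146) (.leaf
  623)))) (.node 4 (.node 2 (.node 1 (.leaf
  116) (.leaf
  314)) (.node 1 (.leaf
  741) (.leaf
  669))) (.node 2 (.node 1 (.leaf
  635) (.leaf
  979)) (.node 1 (.leaf
  137) (.leaf
  228))))) (.node 8 (.node 4 (.node 2 (.node 1 (.leaf
  651) (.leaf
  484)) (.node 1 (.leaf
  512) (.leaf
  357))) (.node 2 (.node 1 (.leaf
  799) (.leaf
  441)) (.node 1 (.leaf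
  114) (.leaf
  940)))) (.node 4 (.node 2 (.node 1 (.leaf
  640) (.leaf
  139)) (.node 1 (.leaf
  615) (.leaf
  997))) (.node 2 (.node 1 (.leaf
  680) (.leaf
  196)) (.node 1 (.leaf
  588) (.leaf
  972)))))) (.node 16 (.node 8 (.node 4 (.node 2 (.node 1 (.leaf
  78) (.leaf
  53)) (.node 1 (.leaf
  211) (.leaf
  418))) (.node 2 (.node 1 (.leaf
  690) (.leaf
  32)) (.node 1 (.leaf
  787) (.leaf
  171)))) (.node 4 (.node 2 (.node 1 (.leaf
  914) (.leaf
  367)) (.node 1 (.leaf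
  847) (.leaf
  584))) (.node 2 (.node 1 (.leaf
  477) (.leaf
  43)) (.node 1 (.leaf
  688) (.leaf
  204))))) (.node 8 (.node 4 (.node 2 (.node 1 (.leaf
  404) (.leaf
  199)) (.node 1 (.leaf
  715) (.leaf
  493))) (.node 2 (.node 1 (.leaf
  577) (.leaf
  178)) (.node 1 (.leaf
  559) (.leaf
  307)))) (.node 4 (.node 2 (.node 1 (.leaf
  676) (.leaf
  434)) (.node 1 (.leaf
  900) (.leaf
  366))) (.node 2 (.node 1 (.leaf
  36) (.leaf
  820)) (.node 1 (.leaf
  548) (.leaf
  222))))))) (.node 32 (.node 16 (.node 8 (.node 4 (.node 2 (.node 1 (.leaf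
  707) (.leaf
  892)) (.node 1 (.leaf
  589) (.leaf
  177))) (.node 2 (.node 1 (.leaf
  681) (.leaf
  916)) (.node 1 (.leaf
  59) (.leaf
  65)))) (.node 4 (.node 2 (.node 1 (.leaf
  165) (.leaf
  383)) (.node 1 (.leaf
  597) (.leaf
  968))) (.node 2 (.node 1 (.leaf
  433) (.leaf
  791)) (.node 1 (.leaf
  684) (.leaf
  257))))) (.node 8 (.node 4 (.node 2 (.node 1 (.leaf
  92) (.leaf
  599)) (.node 1 (.leaf
  185) (.leaf
  328))) (.node 2 (.node 1 (.leaf
  974) (.leaf
  304)) (.node 1 (.leaf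
  785) (.leaf
  701)))) (.node 4 (.node 2 (.node 1 (.leaf
  387) (.leaf
  505)) (.node 1 (.leaf
  293) (.leaf
  1019))) (.node 2 (.node 1 (.leaf
  492) (.leaf
  600)) (.node 1 (.leaf
  349) (.leaf
  729)))))) (.node 16 (.node 8 (.node 4 (.node 2 (.node 1 (.leaf
  38) (.leaf
  575)) (.node 1 (.leaf
  769) (.leaf
  173))) (.node 2 (.node 1 (.leaf
  1016) (.leaf
  256)) (.node 1 (.leaf
  77) (.leaf
  727)))) (.node 4 (.node 2 (.node 1 (.leaf
  169) (.leaf
  333)) (.node 1 (.leaf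
  606) (.leaf
  550))) (.node 2 (.node 1 (.leaf
  705) (.leaf
  894)) (.node 1 (.leaf
  85) (.leaf
  58))))) (.node 8 (.node 4 (.node 2 (.node 1 (.leaf
  562) (.leaf
  400)) (.node 1 (.leaf
  698) (.leaf
  273))) (.node 2 (.node 1 (.leaf
  944) (.leaf
  462)) (.node 1 (.leaf
  172) (.leaf
  768)))) (.node 4 (.node 2 (.node 1 (.leaf
  1) (.leaf
  764)) (.node 1 (.leaf
  229) (.leaf
  446))) (.node 2 (.node 1 (.leaf
  631) (.leaf
  525)) (.node 1 (.leaf
  745) (.leaf
  853)))))))) (.node 64 (.node 32 (.node 16 (.node 8 (.node 4 (.node 2 (.node 1 (.leaf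
  26) (.leaf
  538)) (.node 1 (.leaf
  354) (.leaf
  656))) (.node 2 (.node 1 (.leaf
  483) (.leaf
  922)) (.node 1 (.leaf
  317) (.leaf
  227)))) (.node 4 (.node 2 (.node 1 (.leaf
  810) (.leaf
  528)) (.node 1 (.leaf
  24) (.leaf
  757))) (.node 2 (.node 1 (.leaf
  865) (.leaf
  767)) (.node 1 (.leaf
  96) (.leaf
  792))))) (.node 8 (.node 4 (.node 2 (.node 1 (.leaf
  234) (.leaf
  648)) (.node 1 (.leaf
  132) (.leaf
  967))) (.node 2 (.node 1 (.leaf
  15) (.leaf
  838)) (.node 1 (.leaf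
  502) (.leaf
  923)))) (.node 4 (.node 2 (.node 1 (.leaf
  540) (.leaf
  327)) (.node 1 (.leaf
  143) (.leaf
  743))) (.node 2 (.node 1 (.leaf
  104) (.leaf
  271)) (.node 1 (.leaf
  905) (.leaf
  253)))))) (.node 16 (.node 8 (.node 4 (.node 2 (.node 1 (.leaf
  443) (.leaf
  837)) (.node 1 (.leaf
  359) (.leaf
  7))) (.node 2 (.node 1 (.leaf
  1015) (.leaf
  613)) (.node 1 (.leaf
  255) (.leaf
  642)))) (.node 4 (.node 2 (.node 1 (.leaf
  956) (.leaf
  444)) (.node 1 (.leaf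
  964) (.leaf
  352))) (.node 2 (.node 1 (.leaf
  23) (.leaf
  885)) (.node 1 (.leaf
  783) (.leaf
  978))))) (.node 8 (.node 4 (.node 2 (.node 1 (.leaf
  393) (.leaf
  793)) (.node 1 (.leaf
  242) (.leaf
  938))) (.node 2 (.node 1 (.leaf
  115) (.leaf
  542)) (.node 1 (.leaf
  149) (.leaf
  370)))) (.node 4 (.node 2 (.node 1 (.leaf
  660) (.leaf
  394)) (.node 1 (.leaf
  1014) (.leaf
  628))) (.node 2 (.node 1 (.leaf
  127) (.leaf
  658)) (.node 1 (.leaf
  953) (.leaf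
  246))))))) (.node 32 (.node 16 (.node 8 (.node 4 (.node 2 (.node 1 (.leaf
  141) (.leaf
  106)) (.node 1 (.leaf
  269) (.leaf
  621))) (.node 2 (.node 1 (.leaf
  513) (.leaf
  154)) (.node 1 (.leaf
  869) (.leaf
  18)))) (.node 4 (.node 2 (.node 1 (.leaf
  996) (.leaf
  450)) (.node 1 (.leaf
  826) (.leaf
  661))) (.node 2 (.node 1 (.leaf
  371) (.leaf
  526)) (.node 1 (.leaf
  145) (.leaf
  746))))) (.node 8 (.node 4 (.node 2 (.node 1 (.leaf
  854) (.leaf
  25)) (.node 1 (.leaf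
  97) (.leaf
  134))) (.node 2 (.node 1 (.leaf
  374) (.leaf
  533)) (.node 1 (.leaf
  776) (.leaf
  440)))) (.node 4 (.node 2 (.node 1 (.leaf
  981) (.leaf
  748)) (.node 1 (.leaf
  264) (.leaf
  125))) (.node 2 (.node 1 (.leaf
  535) (.leaf
  155)) (.node 1 (.leaf
  321) (.leaf
  747)))))) (.node 16 (.node 8 (.node 4 (.node 2 (.node 1 (.leaf
  231) (.leaf
  527)) (.node 1 (.leaf
  782) (.leaf
  111))) (.node 2 (.node 1 (.leaf
  22) (.leaf
  243)) (.node 1 (.leaf
  427) (.leaf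
  754)))) (.node 4 (.node 2 (.node 1 (.leaf
  850) (.leaf
  358)) (.node 1 (.leaf
  909) (.leaf
  520))) (.node 2 (.node 1 (.leaf
  468) (.leaf
  9)) (.node 1 (.leaf
  752) (.leaf
  237))))) (.node 8 (.node 4 (.node 2 (.node 1 (.leaf
  413) (.leaf
  852)) (.node 1 (.leaf
  487) (.leaf
  907))) (.node 2 (.node 1 (.leaf
  536) (.leaf
  342)) (.node 1 (.leaf
  302) (.leaf
  498)))) (.node 4 (.node 2 (.node 1 (.leaf
  866) (.leaf
  315)) (.node 1 (.leaf
  765) (.leaf
  392))) (.node 2 (.node 1 (.leaf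
  636) (.leaf
  112)) (.node 1 (.leaf
  666) (.leaf
  249))))))))) (.node 128 (.node 64 (.node 32 (.node 16 (.node 8 (.node 4 (.node 2 (.node 1 (.leaf
  469) (.leaf
  624)) (.node 1 (.leaf
  411) (.leaf
  761))) (.node 2 (.node 1 (.leaf
  999) (.leaf
  2)) (.node 1 (.leaf
  110) (.leaf
  326)))) (.node 4 (.node 2 (.node 1 (.leaf
  541) (.leaf
  455)) (.node 1 (.leaf
  808) (.leaf
  280))) (.node 2 (.node 1 (.leaf
  248) (.leaf
  117)) (.node 1 (.leaf
  539) (.leaf
  147))))) (.node 8 (.node 4 (.node 2 (.node 1 (.leaf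
  355) (.leaf
  657)) (.node 1 (.leaf
  744) (.leaf
  524))) (.node 2 (.node 1 (.leaf
  781) (.leaf
  108)) (.node 1 (.leaf
  447) (.leaf
  630)))) (.node 4 (.node 2 (.node 1 (.leaf
  318) (.leaf
  962)) (.node 1 (.leaf
  480) (.leaf
  148))) (.node 2 (.node 1 (.leaf
  883) (.leaf
  758)) (.node 1 (.leaf
  531) (.leaf
  832)))))) (.node 16 (.node 8 (.node 4 (.node 2 (.node 1 (.leaf
  157) (.leaf
  620)) (.node 1 (.leaf
  241) (.leaf
  925))) (.node 2 (.node 1 (.leaf
  122) (.leaf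
  796)) (.node 1 (.leaf
  299) (.leaf
  963)))) (.node 4 (.node 2 (.node 1 (.leaf
  762) (.leaf
  408)) (.node 1 (.leaf
  250) (.leaf
  514))) (.node 2 (.node 1 (.leaf
  31) (.leaf
  464)) (.node 1 (.leaf
  353) (.leaf
  926))))) (.node 8 (.node 4 (.node 2 (.node 1 (.leaf
  445) (.leaf
  814)) (.node 1 (.leaf
  855) (.leaf
  904))) (.node 2 (.node 1 (.leaf
  341) (.leaf
  833)) (.node 1 (.leaf
  135) (.leaf
  1011)))) (.node 4 (.node 2 (.node 1 (.leaf
  6) (.leaf
  760)) (.node 1 (.leaf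
  226) (.leaf
  428))) (.node 2 (.node 1 (.leaf
  627) (.leaf
  941)) (.node 1 (.leaf
  11) (.leaf
  994))))))) (.node 32 (.node 16 (.node 8 (.node 4 (.node 2 (.node 1 (.leaf
  130) (.leaf
  29)) (.node 1 (.leaf
  466) (.leaf
  649))) (.node 2 (.node 1 (.leaf
  740) (.leaf
  236)) (.node 1 (.leaf
  828) (.leaf
  100)))) (.node 4 (.node 2 (.node 1 (.leaf
  957) (.leaf
  286)) (.node 1 (.leaf
  626) (.leaf
  429))) (.node 2 (.node 1 (.leaf
  481) (.leaf
  920)) (.node 1 (.leaf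
  319) (.leaf
  225))))) (.node 8 (.node 4 (.node 2 (.node 1 (.leaf
  849) (.leaf
  910)) (.node 1 (.leaf
  523) (.leaf
  471))) (.node 2 (.node 1 (.leaf
  839) (.leaf
  5)) (.node 1 (.leaf
  1013) (.leaf
  99)))) (.node 4 (.node 2 (.node 1 (.leaf
  303) (.leaf
  608)) (.node 1 (.leaf
  939) (.leaf
  619))) (.node 2 (.node 1 (.leaf
  285) (.leaf
  960)) (.node 1 (.leaf
  369) (.leaf
  652)))))) (.node 16 (.node 8 (.node 4 (.node 2 (.node 1 (.leaf
  451) (.leaf
  323)) (.node 1 (.leaf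
  943) (.leaf
  414))) (.node 2 (.node 1 (.leaf
  777) (.leaf
  980)) (.node 1 (.leaf
  749) (.leaf
  265)))) (.node 4 (.node 2 (.node 1 (.leaf
  499) (.leaf
  646)) (.node 1 (.leaf
  812) (.leaf
  266))) (.node 2 (.node 1 (.leaf
  1008) (.leaf
  759)) (.node 1 (.leaf
  654) (.leaf
  500))))) (.node 8 (.node 4 (.node 2 (.node 1 (.leaf
  517) (.leaf
  638)) (.node 1 (.leaf
  664) (.leaf
  251))) (.node 2 (.node 1 (.leaf
  618) (.leaf
  296)) (.node 1 (.leaf
  736) (.leaf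
  425)))) (.node 4 (.node 2 (.node 1 (.leaf
  375) (.leaf
  647)) (.node 1 (.leaf
  320) (.leaf
  107))) (.node 2 (.node 1 (.leaf
  882) (.leaf
  343)) (.node 1 (.leaf
  485) (.leaf
  27)))))))) (.node 64 (.node 32 (.node 16 (.node 8 (.node 4 (.node 2 (.node 1 (.leaf
  232) (.leaf
  12)) (.node 1 (.leaf
  958) (.leaf
  118))) (.node 2 (.node 1 (.leaf
  831) (.leaf
  283)) (.node 1 (.leaf
  993) (.leaf
  753)))) (.node 4 (.node 2 (.node 1 (.leaf
  424) (.leaf
  521)) (.node 1 (.leaf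
  19) (.leaf
  409))) (.node 2 (.node 1 (.leaf
  763) (.leaf
  663)) (.node 1 (.leaf
  324) (.leaf
  543))))) (.node 8 (.node 4 (.node 2 (.node 1 (.leaf
  453) (.leaf
  282)) (.node 1 (.leaf
  921) (.leaf
  671))) (.node 2 (.node 1 (.leaf
  633) (.leaf
  977)) (.node 1 (.leaf
  530) (.leaf
  827)))) (.node 4 (.node 2 (.node 1 (.leaf
  123) (.leaf
  868)) (.node 1 (.leaf
  454) (.leaf
  952))) (.node 2 (.node 1 (.leaf
  532) (.leaf
  128)) (.node 1 (.leaf
  751) (.leaf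
  103)))))) (.node 16 (.node 8 (.node 4 (.node 2 (.node 1 (.leaf
  864) (.leaf
  516)) (.node 1 (.leaf
  501) (.leaf
  398))) (.node 2 (.node 1 (.leaf
  337) (.leaf
  609)) (.node 1 (.leaf
  571) (.leaf
  86)))) (.node 4 (.node 2 (.node 1 (.leaf
  733) (.leaf
  840)) (.node 1 (.leaf
  221) (.leaf
  164))) (.node 2 (.node 1 (.leaf
  64) (.leaf
  545)) (.node 1 (.leaf
  176) (.leaf
  917))))) (.node 8 (.node 4 (.node 2 (.node 1 (.leaf
  788) (.leaf
  491)) (.node 1 (.leaf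
  971) (.leaf
  346))) (.node 2 (.node 1 (.leaf
  186) (.leaf
  547)) (.node 1 (.leaf
  95) (.leaf
  602)))) (.node 4 (.node 2 (.node 1 (.leaf
  361) (.leaf
  721)) (.node 1 (.leaf
  35) (.leaf
  700))) (.node 2 (.node 1 (.leaf
  437) (.leaf
  566)) (.node 1 (.leaf
  308) (.leaf
  770))))))) (.node 32 (.node 16 (.node 8 (.node 4 (.node 2 (.node 1 (.leaf
  490) (.leaf
  180)) (.node 1 (.leaf
  945) (.leaf
  694))) (.node 2 (.node 1 (.leaf
  76) (.leaf
  595)) (.node 1 (.leaf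
  506) (.leaf
  708)))) (.node 4 (.node 2 (.node 1 (.leaf
  845) (.leaf
  311)) (.node 1 (.leaf
  912) (.leaf
  388))) (.node 2 (.node 1 (.leaf
  206) (.leaf
  710)) (.node 1 (.leaf
  41) (.leaf
  463))))) (.node 8 (.node 4 (.node 2 (.node 1 (.leaf
  842) (.leaf
  438)) (.node 1 (.leaf
  919) (.leaf
  262))) (.node 2 (.node 1 (.leaf
  381) (.leaf
  419)) (.node 1 (.leaf
  893) (.leaf
  360)))) (.node 4 (.node 2 (.node 1 (.leaf
  712) (.leaf
  474)) (.node 1 (.leaf
  585) (.leaf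
  182))) (.node 2 (.node 1 (.leaf
  685) (.leaf
  902)) (.node 1 (.leaf
  60) (.leaf
  389)))))) (.node 16 (.node 8 (.node 4 (.node 2 (.node 1 (.leaf
  582) (.leaf
  56)) (.node 1 (.leaf
  459) (.leaf
  718))) (.node 2 (.node 1 (.leaf
  692) (.leaf
  593)) (.node 1 (.leaf
  1017) (.leaf
  198)))) (.node 4 (.node 2 (.node 1 (.leaf
  170) (.leaf
  673)) (.node 1 (.leaf
  276) (.leaf
  552))) (.node 2 (.node 1 (.leaf
  405) (.leaf
  61)) (.node 1 (.leaf
  903) (.leaf
  167))))) (.node 8 (.node 4 (.node 2 (.node 1 (.leaf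
  683) (.leaf
  67)) (.node 1 (.leaf
  294) (.leaf
  546))) (.node 2 (.node 1 (.leaf
  603) (.leaf
  702)) (.node 1 (.leaf
  898) (.leaf
  189)))) (.node 4 (.node 2 (.node 1 (.leaf
  379) (.leaf
  846)) (.node 1 (.leaf
  421) (.leaf
  71))) (.node 2 (.node 1 (.leaf
  1020) (.leaf
  580)) (.node 1 (.leaf
  191) (.leaf
  672)))))))))) (.node 256 (.node 128 (.node 64 (.node 32 (.node 16 (.node 8 (.node 4 (.node 2 (.node 1 (.leaf
  951) (.leaf
  66)) (.node 1 (.leaf
  735) (.leaf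
  166))) (.node 2 (.node 1 (.leaf
  380) (.leaf
  598)) (.node 1 (.leaf
  558) (.leaf
  713)))) (.node 4 (.node 2 (.node 1 (.leaf
  862) (.leaf
  90)) (.node 1 (.leaf
  291) (.leaf
  913))) (.node 2 (.node 1 (.leaf
  511) (.leaf
  163)) (.node 1 (.leaf
  801) (.leaf
  88))))) (.node 8 (.node 4 (.node 2 (.node 1 (.leaf
  724) (.leaf
  874)) (.node 1 (.leaf
  292) (.leaf
  784))) (.node 2 (.node 1 (.leaf
  504) (.leaf
  931)) (.node 1 (.leaf
  987) (.leaf
  774)))) (.node 4 (.node 2 (.node 1 (.leaf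
  274) (.leaf
  973)) (.node 1 (.leaf
  214) (.leaf
  586))) (.node 2 (.node 1 (.leaf
  48) (.leaf
  706)) (.node 1 (.leaf
  800) (.leaf
  216)))))) (.node 16 (.node 8 (.node 4 (.node 2 (.node 1 (.leaf
  876) (.leaf
  81)) (.node 1 (.leaf
  406) (.leaf
  568))) (.node 2 (.node 1 (.leaf
  181) (.leaf
  817)) (.node 1 (.leaf
  344) (.leaf
  1007)))) (.node 4 (.node 2 (.node 1 (.leaf
  364) (.leaf
  990)) (.node 1 (.leaf
  432) (.leaf
  82))) (.node 2 (.node 1 (.leaf
  879) (.leaf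
  805)) (.node 1 (.leaf
  918) (.leaf
  494))))) (.node 8 (.node 4 (.node 2 (.node 1 (.leaf
  843) (.leaf
  351)) (.node 1 (.leaf
  295) (.leaf
  507))) (.node 2 (.node 1 (.leaf
  928) (.leaf
  306)) (.node 1 (.leaf
  703) (.leaf
  385)))) (.node 4 (.node 2 (.node 1 (.leaf
  574) (.leaf
  80)) (.node 1 (.leaf
  728) (.leaf
  857))) (.node 2 (.node 1 (.leaf
  219) (.leaf
  476)) (.node 1 (.leaf
  560) (.leaf
  402))))))) (.node 32 (.node 16 (.node 8 (.node 4 (.node 2 (.node 1 (.leaf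
  696) (.leaf
  807)) (.node 1 (.leaf
  34) (.leaf
  79))) (.node 2 (.node 1 (.leaf
  725) (.leaf
  335)) (.node 1 (.leaf
  604) (.leaf
  1001)))) (.node 4 (.node 2 (.node 1 (.leaf
  218) (.leaf
  856)) (.node 1 (.leaf
  790) (.leaf
  489))) (.node 2 (.node 1 (.leaf
  969) (.leaf
  731)) (.node 1 (.leaf
  288) (.leaf
  508))))) (.node 8 (.node 4 (.node 2 (.node 1 (.leaf
  160) (.leaf
  802)) (.node 1 (.leaf
  309) (.leaf
  573))) (.node 2 (.node 1 (.leaf
  390) (.leaf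
  601)) (.node 1 (.leaf
  986) (.leaf
  201)))) (.node 4 (.node 2 (.node 1 (.leaf
  475) (.leaf
  194)) (.node 1 (.leaf
  1002) (.leaf
  435))) (.node 2 (.node 1 (.leaf
  901) (.leaf
  37)) (.node 1 (.leaf
  821) (.leaf
  949)))))) (.node 16 (.node 8 (.node 4 (.node 2 (.node 1 (.leaf
  478) (.leaf
  873)) (.node 1 (.leaf
  378) (.leaf
  420))) (.node 2 (.node 1 (.leaf
  70) (.leaf
  1021)) (.node 1 (.leaf
  775) (.leaf
  47)))) (.node 4 (.node 2 (.node 1 (.leaf
  1022) (.leaf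
  386)) (.node 1 (.leaf
  93) (.leaf
  39))) (.node 2 (.node 1 (.leaf
  212) (.leaf
  50)) (.node 1 (.leaf
  704) (.leaf
  195))))) (.node 8 (.node 4 (.node 2 (.node 1 (.leaf
  989) (.leaf
  73)) (.node 1 (.leaf
  860) (.leaf
  899))) (.node 2 (.node 1 (.leaf
  46) (.leaf
  950)) (.node 1 (.leaf
  592) (.leaf
  930)))) (.node 4 (.node 2 (.node 1 (.leaf
  786) (.leaf
  544)) (.node 1 (.leaf
  723) (.leaf
  565))) (.node 2 (.node 1 (.leaf
  461) (.leaf
  590)) (.node 1 (.leaf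
  332) (.leaf
  1004)))))))) (.node 64 (.node 32 (.node 16 (.node 8 (.node 4 (.node 2 (.node 1 (.leaf
  401) (.leaf
  89)) (.node 1 (.leaf
  861) (.leaf
  162))) (.node 2 (.node 1 (.leaf
  553) (.leaf
  878)) (.node 1 (.leaf
  83) (.leaf
  63)))) (.node 4 (.node 2 (.node 1 (.leaf
  946) (.leaf
  183)) (.node 1 (.leaf
  819) (.leaf
  1005))) (.node 2 (.node 1 (.leaf
  488) (.leaf
  55)) (.node 1 (.leaf
  209) (.leaf
  416))))) (.node 8 (.node 4 (.node 2 (.node 1 (.leaf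
  184) (.leaf
  329)) (.node 1 (.leaf
  576) (.leaf
  277))) (.node 2 (.node 1 (.leaf
  816) (.leaf
  458)) (.node 1 (.leaf
  188) (.leaf
  68)))) (.node 4 (.node 2 (.node 1 (.leaf
  607) (.leaf
  272)) (.node 1 (.leaf
  890) (.leaf
  932))) (.node 2 (.node 1 (.leaf
  200) (.leaf
  179)) (.node 1 (.leaf
  362) (.leaf
  722)))))) (.node 16 (.node 8 (.node 4 (.node 2 (.node 1 (.leaf
  591) (.leaf
  975)) (.node 1 (.leaf
  693) (.leaf
  52))) (.node 2 (.node 1 (.leaf
  556) (.leaf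
  290)) (.node 1 (.leaf
  699) (.leaf
  579)))) (.node 4 (.node 2 (.node 1 (.leaf
  62) (.leaf
  473)) (.node 1 (.leaf
  863) (.leaf
  436))) (.node 2 (.node 1 (.leaf
  348) (.leaf
  818)) (.node 1 (.leaf
  697) (.leaf
  563))))) (.node 8 (.node 4 (.node 2 (.node 1 (.leaf
  567) (.leaf
  677)) (.node 1 (.leaf
  205) (.leaf
  279))) (.node 2 (.node 1 (.leaf
  33) (.leaf
  439)) (.node 1 (.leaf
  564) (.leaf
  682)))) (.node 4 (.node 2 (.node 1 (.leaf
  363) (.leaf
  1003)) (.node 1 (.leaf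
  605) (.leaf
  334))) (.node 2 (.node 1 (.leaf
  174) (.leaf
  678)) (.node 1 (.leaf
  74) (.leaf
  773))))))) (.node 32 (.node 16 (.node 8 (.node 4 (.node 2 (.node 1 (.leaf
  384) (.leaf
  210)) (.node 1 (.leaf
  875) (.leaf
  94))) (.node 2 (.node 1 (.leaf
  891) (.leaf
  213)) (.node 1 (.leaf
  72) (.leaf
  260)))) (.node 4 (.node 2 (.node 1 (.leaf
  557) (.leaf
  933)) (.node 1 (.leaf
  804) (.leaf
  771))) (.node 2 (.node 1 (.leaf
  687) (.leaf
  258)) (.node 1 (.leaf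
  988) (.leaf
  877))))) (.node 8 (.node 4 (.node 2 (.node 1 (.leaf
  717) (.leaf
  456)) (.node 1 (.leaf
  859) (.leaf
  422))) (.node 2 (.node 1 (.leaf
  554) (.leaf
  278)) (.node 1 (.leaf
  823) (.leaf
  331)))) (.node 4 (.node 2 (.node 1 (.leaf
  915) (.leaf
  948)) (.node 1 (.leaf
  479) (.leaf
  872))) (.node 2 (.node 1 (.leaf
  594) (.leaf
  675)) (.node 1 (.leaf
  175) (.leaf
  716)))))) (.node 16 (.node 8 (.node 4 (.node 2 (.node 1 (.leaf
  190) (.leaf
  91)) (.node 1 (.leaf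
  934) (.leaf
  888))) (.node 2 (.node 1 (.leaf
  275) (.leaf
  460)) (.node 1 (.leaf
  734) (.leaf
  695)))) (.node 4 (.node 2 (.node 1 (.leaf
  691) (.leaf
  215)) (.node 1 (.leaf
  587) (.leaf
  49))) (.node 2 (.node 1 (.leaf
  674) (.leaf
  289)) (.node 1 (.leaf
  391) (.leaf
  711))))) (.node 8 (.node 4 (.node 2 (.node 1 (.leaf
  709) (.leaf
  197)) (.node 1 (.leaf
  844) (.leaf
  310))) (.node 2 (.node 1 (.leaf
  207) (.leaf
  40)) (.node 1 (.leaf
  84) (.leaf
  720)))) (.node 4 (.node 2 (.node 1 (.leaf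
  858) (.leaf
  192)) (.node 1 (.leaf
  1000) (.leaf
  57))) (.node 2 (.node 1 (.leaf
  789) (.leaf
  970)) (.node 1 (.leaf
  347) (.leaf
  187))))))))) (.node 128 (.node 64 (.node 32 (.node 16 (.node 8 (.node 4 (.node 2 (.node 1 (.leaf
  382) (.leaf
  261)) (.node 1 (.leaf
  555) (.leaf
  581))) (.node 2 (.node 1 (.leaf
  203) (.leaf
  54)) (.node 1 (.leaf
  569) (.leaf
  208)))) (.node 4 (.node 2 (.node 1 (.leaf
  417) (.leaf
  689)) (.node 1 (.leaf
  714) (.leaf
  772))) (.node 2 (.node 1 (.leaf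
  44) (.leaf
  510)) (.node 1 (.leaf
  161) (.leaf
  686))))) (.node 8 (.node 4 (.node 2 (.node 1 (.leaf
  69) (.leaf
  551)) (.node 1 (.leaf
  330) (.leaf
  193))) (.node 2 (.node 1 (.leaf
  572) (.leaf
  509)) (.node 1 (.leaf
  889) (.leaf
  730)))) (.node 4 (.node 2 (.node 1 (.leaf
  345) (.leaf
  947)) (.node 1 (.leaf
  365) (.leaf
  991))) (.node 2 (.node 1 (.leaf
  1006) (.leaf
  51)) (.node 1 (.leaf
  935) (.leaf
  350)))))) (.node 16 (.node 8 (.node 4 (.node 2 (.node 1 (.leaf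
  42) (.leaf
  549)) (.node 1 (.leaf
  403) (.leaf
  75))) (.node 2 (.node 1 (.leaf
  457) (.leaf
  895)) (.node 1 (.leaf
  472) (.leaf
  985)))) (.node 4 (.node 2 (.node 1 (.leaf
  376) (.leaf
  822)) (.node 1 (.leaf
  679) (.leaf
  217))) (.node 2 (.node 1 (.leaf
  259) (.leaf
  929)) (.node 1 (.leaf
  897) (.leaf
  1023))))) (.node 8 (.node 4 (.node 2 (.node 1 (.leaf
  806) (.leaf
  896)) (.node 1 (.leaf
  223) (.leaf
  726))) (.node 2 (.node 1 (.leaf
  377) (.leaf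
  423)) (.node 1 (.leaf
  495) (.leaf
  168)))) (.node 4 (.node 2 (.node 1 (.leaf
  45) (.leaf
  202)) (.node 1 (.leaf
  596) (.leaf
  1018))) (.node 2 (.node 1 (.leaf
  561) (.leaf
  984)) (.node 1 (.leaf
  803) (.leaf
  305))))))) (.node 32 (.node 16 (.node 8 (.node 4 (.node 2 (.node 1 (.leaf
  578) (.leaf
  622)) (.node 1 (.leaf
  668) (.leaf
  634))) (.node 2 (.node 1 (.leaf
  136) (.leaf
  650)) (.node 1 (.leaf
  356) (.leaf
  798)))) (.node 4 (.node 2 (.node 1 (.leaf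
  641) (.leaf
  138)) (.node 1 (.leaf
  614) (.leaf
  240))) (.node 2 (.node 1 (.leaf
  924) (.leaf
  537)) (.node 1 (.leaf
  156) (.leaf
  28))))) (.node 8 (.node 4 (.node 2 (.node 1 (.leaf
  629) (.leaf
  780)) (.node 1 (.leaf
  109) (.leaf
  313))) (.node 2 (.node 1 (.leaf
  834) (.leaf
  270)) (.node 1 (.leaf
  813) (.leaf
  239)))) (.node 4 (.node 2 (.node 1 (.leaf
  515) (.leaf
  30)) (.node 1 (.leaf
  395) (.leaf
  766))) (.node 2 (.node 1 (.leaf
  8) (.leaf
  129)) (.node 1 (.leaf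
  20) (.leaf
  497)))))) (.node 16 (.node 8 (.node 4 (.node 2 (.node 1 (.leaf
  644) (.leaf
  316)) (.node 1 (.leaf
  639) (.leaf
  399))) (.node 2 (.node 1 (.leaf
  452) (.leaf
  632)) (.node 1 (.leaf
  119) (.leaf
  670)))) (.node 4 (.node 2 (.node 1 (.leaf
  906) (.leaf
  254)) (.node 1 (.leaf
  133) (.leaf
  98))) (.node 2 (.node 1 (.leaf
  665) (.leaf
  611)) (.node 1 (.leaf
  124) (.leaf
  467))))) (.node 8 (.node 4 (.node 2 (.node 1 (.leaf
  426) (.leaf
  372)) (.node 1 (.leaf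
  750) (.leaf
  522))) (.node 2 (.node 1 (.leaf
  105) (.leaf
  336)) (.node 1 (.leaf
  739) (.leaf
  867)))) (.node 4 (.node 2 (.node 1 (.leaf
  144) (.leaf
  653)) (.node 1 (.leaf
  430) (.leaf
  836))) (.node 2 (.node 1 (.leaf
  616) (.leaf
  340)) (.node 1 (.leaf
  486) (.leaf
  795)))))))) (.node 64 (.node 32 (.node 16 (.node 8 (.node 4 (.node 2 (.node 1 (.leaf
  312) (.leaf
  936)) (.node 1 (.leaf
  976) (.leaf
  966))) (.node 2 (.node 1 (.leaf
  21) (.leaf
  887)) (.node 1 (.leaf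
  811) (.leaf
  152)))) (.node 4 (.node 2 (.node 1 (.leaf
  871) (.leaf
  16)) (.node 1 (.leaf
  955) (.leaf
  244))) (.node 2 (.node 1 (.leaf
  737) (.leaf
  297)) (.node 1 (.leaf
  442) (.leaf
  113))))) (.node 8 (.node 4 (.node 2 (.node 1 (.leaf
  983) (.leaf
  778)) (.node 1 (.leaf
  338) (.leaf
  961))) (.node 2 (.node 1 (.leaf
  151) (.leaf
  880)) (.node 1 (.leaf
  410) (.leaf
  503)))) (.node 4 (.node 2 (.node 1 (.leaf
  809) (.leaf
  281)) (.node 1 (.leaf
  908) (.leaf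
  851))) (.node 2 (.node 1 (.leaf
  373) (.leaf
  534)) (.node 1 (.leaf
  397) (.leaf
  884)))))) (.node 16 (.node 8 (.node 4 (.node 2 (.node 1 (.leaf
  612) (.leaf
  300)) (.node 1 (.leaf
  496) (.leaf
  121))) (.node 2 (.node 1 (.leaf
  159) (.leaf
  825)) (.node 1 (.leaf
  610) (.leaf
  301)))) (.node 4 (.node 2 (.node 1 (.leaf
  287) (.leaf
  617)) (.node 1 (.leaf
  518) (.leaf
  448))) (.node 2 (.node 1 (.leaf
  655) (.leaf
  412)) (.node 1 (.leaf
  797) (.leaf
  643))))) (.node 8 (.node 4 (.node 2 (.node 1 (.leaf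
  235) (.leaf
  992)) (.node 1 (.leaf
  322) (.leaf
  830))) (.node 2 (.node 1 (.leaf
  645) (.leaf
  247)) (.node 1 (.leaf
  755) (.leaf
  927)))) (.node 4 (.node 2 (.node 1 (.leaf
  120) (.leaf
  230)) (.node 1 (.leaf
  519) (.leaf
  17))) (.node 2 (.node 1 (.leaf
  14) (.leaf
  756)) (.node 1 (.leaf
  835) (.leaf
  158))))))) (.node 32 (.node 16 (.node 8 (.node 4 (.node 2 (.node 1 (.leaf
  3) (.leaf
  245)) (.node 1 (.leaf
  954) (.leaf
  13))) (.node 2 (.node 1 (.leaf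
  625) (.leaf
  886)) (.node 1 (.leaf
  1010) (.leaf
  368)))) (.node 4 (.node 2 (.node 1 (.leaf
  4) (.leaf
  1012)) (.node 1 (.leaf
  284) (.leaf
  298))) (.node 2 (.node 1 (.leaf
  131) (.leaf
  995)) (.node 1 (.leaf
  959) (.leaf
  482))))) (.node 8 (.node 4 (.node 2 (.node 1 (.leaf
  10) (.leaf
  662)) (.node 1 (.leaf
  101) (.leaf
  998))) (.node 2 (.node 1 (.leaf
  824) (.leaf
  224)) (.node 1 (.leaf
  982) (.leaf
  881)))) (.node 4 (.node 2 (.node 1 (.leaf
  667) (.leaf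
  637)) (.node 1 (.leaf
  140) (.leaf
  150))) (.node 2 (.node 1 (.leaf
  779) (.leaf
  267)) (.node 1 (.leaf
  942) (.leaf
  449)))))) (.node 16 (.node 8 (.node 4 (.node 2 (.node 1 (.leaf
  431) (.leaf
  415)) (.node 1 (.leaf
  470) (.leaf
  937))) (.node 2 (.node 1 (.leaf
  529) (.leaf
  142)) (.node 1 (.leaf
  870) (.leaf
  829)))) (.node 4 (.node 2 (.node 1 (.leaf
  268) (.leaf
  815)) (.node 1 (.leaf
  325) (.leaf
  738))) (.node 2 (.node 1 (.leaf
  465) (.leaf
  396)) (.node 1 (.leaf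
  742) (.leaf
  126))))) (.node 8 (.node 4 (.node 2 (.node 1 (.leaf
  911) (.leaf
  848)) (.node 1 (.leaf
  794) (.leaf
  659))) (.node 2 (.node 1 (.leaf
  252) (.leaf
  153)) (.node 1 (.leaf
  339) (.leaf
  965)))) (.node 4 (.node 2 (.node 1 (.leaf
  233) (.leaf
  238)) (.node 1 (.leaf
  102) (.leaf
  1009))) (.node 2 (.node 1 (.leaf
  263) (.leaf
  719)) (.node 1 (.leaf
  407) (.leaf
  583)))))))))))

end Cfsg.Agent.Co3Type.Data
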