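import Cfsg.Agent.Lib.Co3Type.Code
import Cfsg.Agent.Lib.Co3Type.ClassData

/-!
# The involutions of the double cover of `Sp₆(2)`

Besides the central one there are two classes: the one of `y` (630) and the one of `b` (7560); the central
involution is a square in the centraliser of `b`, and `b` is not.
-/

set_option autoImplicit false
set_option maxRecDepth 100000
set_option Elab.async false
set_option linter.style.haveILetI false

namespace Cfsg.Agent.Co3Type.Model

noncomputable section

/-- The second representative. -/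
def bW : W := el Data.bC

/-- The image of a point under a word of coded elements. -/
def cw : List ℕ → ℕ → ℕ
  | [], v => v
  | a :: l, v => cw l (app a v)

/-- Words of coded elements agree. -/
def cEq (l l' : List ℕ) : Bool :=
  (l.all fun a => Nat.blt a 2903040) && (l'.all fun a => Nat.blt a 2903040) && bpt.all fun v => cw l v == cw l' v

theorem cw_spec : ∀ (l : List ℕ), (∀ a ∈ l, a < 2903040) → ∀ v : Fin 240,
    ((((((l.map el).prod : W) : Equiv.Perm (Fin 240)))⁻¹ v : Fin 240) : ℕ) = cw l v
  | [], _, v => by simp [cw]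
  | a :: l, h, v => by
    rw [List.map_cons, List.prod_cons, Subgroup.coe_mul, mul_inv_rev, Equiv.Perm.mul_apply, cw,
      cw_spec l (fun b hb => h b (List.mem_cons_of_mem _ hb)), el_app (h a List.mem_cons_self)]

theorem of_cEq {l l' : List ℕ} (h : cEq l l' = true) : (l.map el).prod = (l'.map el).prod := by
  simp only [cEq, Bool.and_eq_true, List.all_eq_true, Nat.blt_eq, beq_iff_eq] at h
  obtain ⟨⟨h1, h2⟩, h⟩ := h
  exact eq_of_base fun v hv => Fin.ext (by rw [cw_spec l h1, cw_spec l' h2]; exact h v hv)

theorem cEq_iff {l l' : List ℕ} (h1 : ∀ a ∈ l, a < 2903040) (h2 : ∀ a ∈ l', a < 2903040) :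
    cEq l l' = true ↔ (l.map el).prod = (l'.map el).prod := by
  refine ⟨of_cEq, fun e => ?_⟩
  simp only [cEq, Bool.and_eq_true, List.all_eq_true, Nat.blt_eq, beq_iff_eq]
  refine ⟨⟨h1, h2⟩, fun v hv => ?_⟩
  have hv' : v < 240 := by fin_cases hv <;> norm_num
  rw [← cw_spec l h1 ⟨v, hv'⟩, ← cw_spec l' h2 ⟨v, hv'⟩, e]

/-- The named codes. -/
def baseB : Bool :=
  cEq [0] [] && cEq [630] [0, 630] && wordEq [rI 0, qI 1] [7] && wordEq [rI 0, qI 2] [1235] &&
    wordEq [rI 0, qI 0] []

theorem base_ok : baseB = true := by decide +kernel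

theorem el_zero : el 0 = 1 := by
  have h := base_ok
  simp only [baseB, Bool.and_eq_true] at h
  simpa using of_cEq h.1.1.1.1

theorem elD_one : elD 1 = zW := by
  have h := base_ok
  simp only [baseB, Bool.and_eq_true] at h
  simpa [elD, zW] using of_wordEq h.1.1.2

theorem elD_two : elD 2 = yW := by
  have h := base_ok
  simp only [baseB, Bool.and_eq_true] at h
  simpa [elD, yW] using of_wordEq h.1.2

theorem el_630 : el 630 = zW := by rw [← one_mul 630, ← elD_eq, elD_one]

theorem el_1260 : el 1260 = yW := by rw [show 1260 = 2 * 630 from rfl, ← elD_eq, elD_two]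

/-- The check of the Sylow 2-subgroup and of the classes. -/
def sylB : Bool :=
  (Data.sylGen.all fun g => Nat.blt g 2903040) && Nat.beq Data.sylGen.length 5 &&
  cEq [Data.sylT.get 0] [] &&
  (allB 1024 fun i => Nat.blt (Data.sylT.get i) 2903040 && (allB 5 fun j =>
    Nat.blt (Data.sylMul.get (5 * i + j)) 1024 &&
      cEq [Data.sylT.get i, Data.sylGen.getD j 0] [Data.sylT.get (Data.sylMul.get (5 * i + j))])) &&
  (allB 1024 fun i => Nat.beq i 0 || (Nat.blt (Data.sylPar.get i / 8) i && Nat.blt (Data.sylPar.get i % 8) 5 &&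
    Nat.beq (Data.sylMul.get (5 * (Data.sylPar.get i / 8) + Data.sylPar.get i % 8)) i)) &&
  (allB 1024 fun i => Nat.blt (Data.sylRank.get i) 1024 && (Data.sylOrd.get (Data.sylRank.get i) == i)) &&
  (allB 1023 fun j => Nat.blt (Data.sylT.get (Data.sylOrd.get j)) (Data.sylT.get (Data.sylOrd.get (j + 1)))) &&
  allB 1024 fun i =>
    let w := Data.invWit.get i
    let x := (w - 1) / 2
    let u := Data.sylT.get i
    cEq [u] [] || cEq [u] [630] || !(cEq [u, u] []) || (!(Nat.beq w 0) &&
      cEq [x, u] [if (w - 1) % 2 == 0 then 1260 else Data.bC, x])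

theorem syl_ok : sylB = true := by decide +kernel

/-- An involution other than the central one is conjugate to one of the two representatives. -/
theorem involution_cases {u : W} (hu : u * u = 1) (h1 : u ≠ 1) (hz : u ≠ zW) :
    ∃ h : W, h * u * h⁻¹ = yW ∨ h * u * h⁻¹ = bW := by
  haveI : Fact (Nat.Prime 2) := ⟨Nat.prime_two⟩
  have hok := syl_ok
  simp only [sylB, Bool.and_eq_true, List.all_eq_true, Nat.blt_eq] at hok
  obtain ⟨⟨⟨⟨⟨⟨⟨hg, hl⟩, h0⟩, hmul⟩, hpar⟩, hrk⟩, hord⟩, hinv⟩ := hok
  have hl' : Data.sylGen.length = 5 := Nat.eq_of_beq_eq_true hl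
  let sy : ℕ → W := fun i => el (Data.sylT.get i)
  let gs : Fin 5 → W := fun j => el (Data.sylGen.getD j 0)
  set S := Subgroup.closure (Set.range gs)
  have hT : ∀ i < 1024, Data.sylT.get i < 2903040 := fun i hi => by
    have := allB_spec hmul i hi; simp only [Bool.and_eq_true, Nat.blt_eq] at this; exact this.1
  have hstep : ∀ i < 1024, ∀ j : Fin 5, ∃ k < 1024, sy i * gs j = sy k ∧ Data.sylMul.get (5 * i + j) = k :=
    fun i hi j => by
    have := allB_spec hmul i hi
    simp only [Bool.and_eq_true] at this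
    have := allB_spec this.2 j j.2
    simp only [Bool.and_eq_true, Nat.blt_eq] at this
    exact ⟨_, this.1, by simpa [sy, gs] using of_cEq this.2, rfl⟩
  have hle : ∀ g ∈ S, ∃ i < 1024, g = sy i := by
    intro g hg'
    haveI : Finite W := inferInstance
    have hg'' : g ∈ Submonoid.closure (Set.range gs) := by
      rw [← Subgroup.closure_toSubmonoid_of_finite]; exact hg'
    induction hg'' using Submonoid.closure_induction_right with
    | one => exact ⟨0, by norm_num, by simpa [sy] using (of_cEq h0).symm⟩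
    | mul_right x hx y hy ih =>
      obtain ⟨i, hi, rfl⟩ := ih (by
        show x ∈ S
        rw [← Subgroup.mem_toSubmonoid, Subgroup.closure_toSubmonoid_of_finite]; exact hx)
      obtain ⟨j, rfl⟩ := hy
      obtain ⟨k, hk, e, -⟩ := hstep i hi j
      exact ⟨k, hk, e⟩
  have hge : ∀ i < 1024, sy i ∈ S := by
    intro i
    induction i using Nat.strong_induction_on with
    | _ i ih =>
      intro hi
      by_cases hi0 : i = 0
      · subst hi0
        rw [show sy 0 = 1 by simpa [sy] using of_cEq h0]; exact S.one_mem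
      have := allB_spec hpar i hi
      simp only [Bool.and_eq_true, Bool.or_eq_true, Nat.blt_eq, Nat.beq_eq, hi0, false_or] at this
      obtain ⟨⟨hp, hj⟩, he⟩ := this
      obtain ⟨k, -, e, hk⟩ := hstep _ (hp.trans hi) ⟨_, hj⟩
      rw [show i = k from he.symm.trans hk, ← e]
      exact S.mul_mem (ih _ hp (hp.trans hi)) (Subgroup.subset_closure ⟨_, rfl⟩)
  have hcard : Nat.card S = 1024 := by
    have hinj : Function.Bijective fun i : Fin 1024 => (⟨sy i, hge i i.2⟩ : S) := by
      refine ⟨fun i j e => Fin.ext ?_, fun g => ?_⟩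
      · refine inj_of_order (rk := fun d => Data.sylRank.get d) (o := fun j => Data.sylOrd.get j)
          (f := fun i => Data.sylT.get i) (fun d hd => ?_) (fun k hk => ?_) i.2 j.2 ?_
        · have := allB_spec hrk d hd
          simpa [Bool.and_eq_true] using this
        · simpa using allB_spec hord k (by omega)
        · exact el_injective (hT i i.2) (hT j j.2) (congrArg Subtype.val e)
      · obtain ⟨i, hi, e⟩ := hle g g.2
        exact ⟨⟨i, hi⟩, Subtype.ext e.symm⟩
    rw [← Nat.card_congr (Equiv.ofBijective _ hinj), Nat.card_eq_fintype_card, Fintype.card_fin]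
  have hSyl : Nat.card S = 2 ^ (Nat.card W).factorization 2 := by
    rw [hcard, card_W, show (2903040 : ℕ) = 2 ^ 10 * 2835 by norm_num,
      Nat.factorization_mul (by norm_num) (by norm_num), Finsupp.add_apply, Nat.prime_two.factorization_pow,
      Nat.factorization_eq_zero_of_not_dvd (show ¬ 2 ∣ 2835 by norm_num), Finsupp.single_eq_same]
    norm_num
  let P := Sylow.ofCard S hSyl
  have hu2 : IsPGroup 2 (Subgroup.zpowers u) := IsPGroup.of_card (n := 1) (by
    rw [Nat.card_zpowers, pow_one]; exact orderOf_eq_prime (by rw [pow_two, hu]) h1)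
  obtain ⟨R, hR⟩ := hu2.exists_le_sylow
  obtain ⟨g, hgR⟩ := MulAction.exists_smul_eq W R P
  have hmem : g * u * g⁻¹ ∈ (P : Subgroup W) := by
    rw [← hgR]; exact ⟨u, hR (Subgroup.mem_zpowers u), rfl⟩
  obtain ⟨i, hi, e⟩ := hle _ hmem
  have hw := allB_spec hinv i hi
  simp only [Bool.or_eq_true, Bool.and_eq_true, Bool.not_eq_true'] at hw
  rcases hw with ((hw | hw) | hw) | ⟨-, hw⟩
  · exfalso
    have : g * u * g⁻¹ = 1 := e.trans (by simpa using of_cEq hw)
    exact h1 (conj_eq_one_iff.1 this)
  · exfalso
    have : g * u * g⁻¹ = zW := e.trans (by simpa [el_630] using of_cEq hw)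
    refine hz ?_
    have hc := (rels.2.1 g).eq
    calc u = g⁻¹ * (g * u * g⁻¹) * g := by group
      _ = g⁻¹ * (zW * g) := by rw [this, mul_assoc]
      _ = zW := by rw [← hc, inv_mul_cancel_left]
  · exfalso
    rw [← Bool.not_eq_true] at hw
    refine hw ((cEq_iff (by simpa using hT i hi) (by simp)).2 ?_)
    simp only [List.map_cons, List.map_nil, List.prod_cons, List.prod_nil, mul_one]
    change sy i * sy i = 1
    rw [← e, show g * u * g⁻¹ * (g * u * g⁻¹) = g * (u * u) * g⁻¹ by group, hu, mul_one, mul_inv_cancel]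
  · refine ⟨el ((Data.invWit.get i - 1) / 2) * g, ?_⟩
    have h := of_cEq hw
    split_ifs at h <;>
      simp only [List.map_cons, List.map_nil, List.prod_cons, List.prod_nil, mul_one, el_1260] at h <;>
      rw [show el (Data.sylT.get i) = g * u * g⁻¹ from e.symm] at h
    · left; rw [mul_inv_rev, ← mul_assoc, ← mul_inv_eq_iff_eq_mul.2 h]; group
    · right; rw [mul_inv_rev, ← mul_assoc, bW, ← mul_inv_eq_iff_eq_mul.2 h]; group

/-- The check of the centraliser of the second representative. -/
def centBB : Bool :=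
  Nat.blt Data.bC 2903040 && Nat.blt Data.rootC 2903040 &&
  (Data.centB.all fun h => Nat.blt h 2903040 && cEq [h, Data.bC] [Data.bC, h] && !(cEq [h, h] [Data.bC])) &&
  decide (Data.centB.Nodup) && Nat.beq Data.centB.length 384 &&
  cEq [Data.rootC, Data.bC] [Data.bC, Data.rootC] && cEq [Data.rootC, Data.rootC] [630] &&
  (allB 7560 fun n => cEq [Data.bConj.get n, Data.bConjInv.get n] []) &&
  allB 7559 fun n =>
    Nat.blt (pack4 (cw [Data.bConjInv.get n, Data.bC, Data.bConj.get n]))
      (pack4 (cw [Data.bConjInv.get (n + 1), Data.bC, Data.bConj.get (n + 1)]))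

theorem centB_ok : centBB = true := by decide +kernel

theorem centB_spec : Nat.card (Subgroup.centralizer ({bW} : Set W)) ≤ 384 ∧
    (∀ h : W, Commute h bW → h * h ≠ bW) ∧ (∃ r : W, Commute r bW ∧ r * r = zW) := by
  have hok := centB_ok
  simp only [centBB, Bool.and_eq_true, List.all_eq_true, decide_eq_true_eq, Nat.blt_eq, Bool.not_eq_true'] at hok
  obtain ⟨⟨⟨⟨⟨⟨⟨⟨hb, hr⟩, hl⟩, hnd⟩, hlen⟩, hc1⟩, hc2⟩, hci⟩, hmono⟩ := hok
  have hlen' : Data.centB.length = 384 := Nat.eq_of_beq_eq_true hlen
  -- the orbit has at least 7560 members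
  have horb : 7560 ≤ Nat.card (MulAction.orbit (ConjAct W) bW) := by
    let f : Fin 7560 → MulAction.orbit (ConjAct W) bW := fun n =>
      ⟨ConjAct.toConjAct ((el (Data.bConj.get n))⁻¹) • bW, MulAction.mem_orbit _ _⟩
    have hf : Function.Injective f := fun m n e => by
      have e' : (el (Data.bConj.get m))⁻¹ * bW * el (Data.bConj.get m) =
          (el (Data.bConj.get n))⁻¹ * bW * el (Data.bConj.get n) := by
        simpa [f, ConjAct.smul_def] using congrArg Subtype.val e
      let F : ℕ → ℕ := fun n => pack4 (cw [Data.bConjInv.get n, Data.bC, Data.bConj.get n])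
      refine Fin.ext (inj_of_order (rk := id) (o := id) (f := F) (fun d hd => ⟨hd, rfl⟩)
        (fun k hk => by simpa [F] using allB_spec hmono k (by omega)) m.2 n.2 ?_)
      have key : ∀ k < 7560, ∀ v : Fin 240, cw [Data.bConjInv.get k, Data.bC, Data.bConj.get k] v =
          ((((((el (Data.bConj.get k))⁻¹ * bW * el (Data.bConj.get k) : W)) : Equiv.Perm (Fin 240))⁻¹ v : Fin 240) : ℕ) :=
        fun k hk v => by
        have h := allB_spec hci k hk
        have hinv := eq_inv_of_mul_eq_one_right (show el (Data.bConj.get k) * el (Data.bConjInv.get k) = 1 by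
          simpa using of_cEq h)
        simp only [cEq, Bool.and_eq_true, List.all_eq_true, Nat.blt_eq] at h
        rw [← cw_spec _ (by simp [hb, h.1.1]) v]
        simp [← hinv, bW, mul_assoc]
      simp only [F, pack4]
      rw [key m m.2 ⟨0, by norm_num⟩, key n n.2 ⟨0, by norm_num⟩, key m m.2 ⟨2, by norm_num⟩,
        key n n.2 ⟨2, by norm_num⟩, key m m.2 ⟨3, by norm_num⟩, key n n.2 ⟨3, by norm_num⟩,
        key m m.2 ⟨4, by norm_num⟩, key n n.2 ⟨4, by norm_num⟩, e']
    have := Nat.card_le_card_of_injective f hf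
    rwa [Nat.card_eq_fintype_card, Fintype.card_fin] at this
  have hle : Nat.card (Subgroup.centralizer ({bW} : Set W)) ≤ 384 := by
    haveI : Finite W := inferInstance
    haveI : Finite (ConjAct W) := Finite.of_equiv W ConjAct.toConjAct.toEquiv
    have h : Nat.card (MulAction.orbit (ConjAct W) bW) * Nat.card (MulAction.stabilizer (ConjAct W) bW) = 2903040 := by
      rw [← Nat.card_prod]
      exact (Nat.card_congr (MulAction.orbitProdStabilizerEquivGroup (ConjAct W) bW)).trans
        ((Nat.card_congr ConjAct.ofConjAct.toEquiv).trans card_W)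
    have hcs : Nat.card (Subgroup.centralizer ({bW} : Set W)) ≤ Nat.card (MulAction.stabilizer (ConjAct W) bW) := by
      rw [Subgroup.centralizer_eq_comap_stabilizer]
      exact Nat.card_le_card_of_injective (fun x => ⟨ConjAct.toConjAct x.1, x.2⟩)
        fun x y e => Subtype.ext (ConjAct.toConjAct.injective (congrArg Subtype.val e))
    refine hcs.trans (Nat.le_of_mul_le_mul_left ?_ (show 0 < 7560 by norm_num))
    calc 7560 * Nat.card (MulAction.stabilizer (ConjAct W) bW)
        ≤ Nat.card (MulAction.orbit (ConjAct W) bW) * Nat.card (MulAction.stabilizer (ConjAct W) bW) :=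
          Nat.mul_le_mul_right _ horb
      _ = 2903040 := h
      _ = 7560 * 384 := by norm_num
  refine ⟨hle, fun h hh => ?_, ⟨el Data.rootC, ?_, ?_⟩⟩
  · let g : Fin 384 → Subgroup.centralizer ({bW} : Set W) := fun i =>
      ⟨el (Data.centB.get (i.cast hlen'.symm)), Subgroup.mem_centralizer_singleton_iff.2
        (by simpa [bW] using of_cEq (hl _ (List.get_mem _ _)).1.2)⟩
    have hg : Function.Injective g := fun i j e => by
      have := el_injective (hl _ (List.get_mem _ _)).1.1 (hl _ (List.get_mem _ _)).1.1 (congrArg Subtype.val e)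
      simpa using (List.nodup_iff_injective_get.1 hnd) this
    haveI : Finite W := inferInstance
    have hb' : Function.Bijective g := (Nat.bijective_iff_injective_and_card g).2
      ⟨hg, le_antisymm (Nat.card_le_card_of_injective g hg) (by rw [Nat.card_fin]; exact hle)⟩
    obtain ⟨i, hi⟩ := hb'.2 ⟨h, Subgroup.mem_centralizer_singleton_iff.2 hh.eq⟩
    have hie : el (Data.centB.get (i.cast hlen'.symm)) = h := congrArg Subtype.val hi
    intro e
    obtain ⟨⟨hlt, -⟩, hne⟩ := hl _ (List.get_mem Data.centB (i.cast hlen'.symm))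
    rw [← Bool.not_eq_true] at hne
    refine hne ((cEq_iff (fun a ha => ?_) (fun a ha => ?_)).2 ?_)
    · simp only [List.mem_cons, List.not_mem_nil, or_false, or_self] at ha; exact ha ▸ hlt
    · simp only [List.mem_cons, List.not_mem_nil, or_false] at ha; exact ha ▸ hb
    · simp only [List.map_cons, List.map_nil, List.prod_cons, List.prod_nil, mul_one]
      rw [hie]; exact e
  · simpa [Commute, SemiconjBy, bW] using of_cEq hc1
  · simpa [el_630] using of_cEq hc2

end

end Cfsg.Agent.Co3Type.Model
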