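import Cfsg.Agent.Lib.CosetCert.Check

/-!
The derivations bounding the group generated by the centraliser and the cycling element: seven double cosets.
Produced by a search outside Lean; every entry is checked where it is used.
-/

set_option autoImplicit false
set_option maxRecDepth 100000

namespace Cfsg.Agent.Co3Type.Data

open Cfsg.Agent.CosetCert (Tree)

/-- The representatives: the earlier one and the code of the element in between. -/
def defs : List (ℕ × ℕ) :=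
  [(0, 0), (0, 0), (1, 1), (1, 8), (1, 24), (2, 8), (4, 83)]

/-- The numbers of points of the orbits. -/
def orbN : List ℕ :=
  [1, 630, 30240, 8960, 80640, 48384, 1920]

/-- The derived facts with their rules. -/
def facts : List (List ℕ × List ℕ × List ℕ × List ℕ) :=
  [
  ([1, 0, 1, 1], [0], [], []),
  ([1, 0, 2, 2], [0], [], []),
  ([1, 0, 3, 3], [0], [], []),
  ([1, 0, 4, 4], [0], [], []),
  ([1, 0, 5, 5], [0], [], []),
  ([1, 0, 6, 6], [0], [], []),
  ([1, 0, 7, 7], [0], [], []),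
  ([0, 0, 0, 0, 1, 0], [2], [], []),
  ([1, 1, 1890, 630], [1], [0], []),
  ([1, 1, 630, 1260], [1], [1], []),
  ([1, 1, 6930, 2520], [1], [2], []),
  ([1, 1, 8190, 5040], [1], [3], []),
  ([1, 1, 1638000, 807030], [1], [4], []),
  ([1, 1, 640080, 514080], [1], [5], []),
  ([1, 1, 2321550, 1159200], [1], [6], []),
  ([0, 1, 1, 0, 2, 0], [2], [], []),
  ([0, 1, 8, 0, 3, 0], [2], [], []),
  ([0, 1, 24, 0, 4, 0], [2], [], []),
  ([0, 1, 231843, 231843, 0, 0], [3, 7], [], []),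
  ([0, 0, 5, 0, 1, 5], [5, 7, 4], [], []),
  ([0, 0, 27, 0, 1, 27], [5, 19, 3], [], []),
  ([0, 0, 80, 0, 1, 80], [5, 20, 6], [], []),
  ([0, 0, 159, 0, 1, 159], [5, 21, 5], [], []),
  ([0, 0, 256, 0, 1, 256], [5, 22, 4], [], []),
  ([0, 1, 11, 222069, 1, 256], [4, 7, 23], [0, 1, 6, 4, 3, 4], []),
  ([0, 1, 353450, 0, 2, 2520], [5, 15, 10], [], []),
  ([0, 1, 867902, 0, 2, 1167390], [5, 25, 14], [], []),
  ([0, 1, 1444626, 0, 2, 2269260], [5, 26, 13], [], []),
  ([0, 1, 1134936, 995654, 2, 2285241], [4, 24, 27], [0, 5, 6, 5, 6], [4, 6]),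
  ([0, 1, 773164, 222069, 1, 773687], [5, 24, 14], [], []),
  ([0, 1, 2197479, 222069, 1, 588001], [5, 29, 13], [], []),
  ([0, 1, 215460, 646383, 1, 1063443], [4, 24, 30], [2, 4, 3, 4, 3, 4], [4, 6, 2, 4]),
  ([1, 2, 1890, 1260], [8, 9], [0], []),
  ([1, 1, 3780, 7560], [7, 10, 11], [], []),
  ([1, 2, 5670, 7560], [8, 33], [0, 1, 2], []),
  ([1, 1, 1760850, 887040], [7, 10, 12], [], []),
  ([1, 1, 361620, 217350], [7, 35, 14], [], []),
  ([1, 2, 1093680, 217350], [8, 36], [6, 4, 3, 4, 5, 5, 3], []),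
  ([1, 1, 1639890, 806400], [7, 8, 12], [], []),
  ([1, 1, 2597490, 2097270], [7, 38, 12], [], []),
  ([1, 1, 2593080, 2102310], [7, 39, 11], [], []),
  ([1, 1, 82530, 40950], [7, 40, 12], [], []),
  ([1, 2, 121590, 40950], [8, 41], [0, 1, 4, 4, 2, 4], []),
  ([1, 1, 641970, 514710], [7, 8, 13], [], []),
  ([1, 1, 1215900, 1326780], [7, 43, 14], [], []),
  ([1, 1, 2260440, 1260630], [7, 44, 13], [], []),
  ([1, 1, 1336230, 2324070], [7, 45, 13], [], []),
  ([1, 2, 1165500, 2324070], [8, 46], [1, 6, 5, 6, 5, 5, 6], []),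
  ([0, 2, 8, 0, 5, 0], [2], [], []),
  ([0, 2, 231843, 231858, 1, 0], [3, 15], [], []),
  ([0, 2, 773164, 216952, 2, 2520], [4, 15, 25], [4, 4, 3, 4, 2], [6]),
  ([0, 1, 1705630, 222069, 1, 1972174], [5, 24, 12], [], []),
  ([0, 1, 2202984, 222069, 1, 785453], [5, 51, 11], [], []),
  ([0, 1, 332736, 222069, 1, 1760269], [5, 52, 14], [], []),
  ([0, 2, 15169, 2428227, 1, 1760269], [4, 15, 53], [2, 4, 4], [4, 6]),
  ([0, 2, 2112014, 216952, 2, 43470], [5, 50, 42], [], []),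
  ([0, 2, 801360, 255783, 2, 41580], [4, 50, 55], [1, 5, 6], [4, 6, 2, 4]),
  ([0, 1, 2228610, 995654, 2, 1049836], [5, 28, 12], [], []),
  ([0, 1, 1089566, 995654, 2, 2719354], [5, 57, 12], [], []),
  ([0, 1, 2239905, 995654, 2, 1260668], [5, 58, 14], [], []),
  ([0, 1, 2012797, 995654, 2, 1133467], [5, 59, 12], [], []),
  ([0, 1, 1320717, 995654, 2, 1049829], [5, 60, 14], [], []),
  ([0, 2, 11, 123179, 2, 1049829], [4, 15, 61], [0, 1, 6, 4, 2, 4, 4], []),
  ([0, 1, 2631464, 0, 3, 1159200], [5, 16, 14], [], []),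
  ([0, 1, 2124299, 0, 3, 1804950], [5, 63, 12], [], []),
  ([0, 1, 1612868, 0, 3, 2749320], [5, 64, 13], [], []),
  ([0, 2, 411371, 2520782, 3, 2072911], [4, 28, 65], [0, 2, 3, 4, 6], [4]),
  ([0, 1, 670347, 0, 4, 630], [5, 17, 8], [], []),
  ([0, 1, 936094, 0, 4, 1159830], [5, 67, 14], [], []),
  ([0, 1, 1891920, 0, 4, 1804320], [5, 68, 12], [], []),
  ([0, 2, 898225, 645322, 4, 2864821], [4, 28, 69], [2, 4, 5, 3, 5, 6], [4, 3]),
  ([0, 1, 2826175, 0, 4, 807030], [5, 17, 12], [], []),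
  ([0, 1, 2898243, 0, 4, 1458450], [5, 71, 13], [], []),
  ([0, 1, 2011159, 0, 4, 1453410], [5, 72, 11], [], []),
  ([0, 1, 2873379, 0, 4, 1617840], [5, 73, 13], [], []),
  ([0, 2, 580442, 2656972, 4, 928201], [4, 28, 74], [3, 4, 6, 5, 6], [4, 4]),
  ([0, 1, 317601, 0, 3, 514080], [5, 16, 13], [], []),
  ([0, 1, 706352, 0, 3, 517860], [5, 76, 10], [], []),
  ([0, 2, 1634636, 2299265, 3, 788341], [4, 28, 77], [1, 4, 5, 6, 2, 5, 5], [4, 5]),
  ([0, 1, 2431220, 995654, 2, 2710569], [5, 28, 11], [], []),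
  ([0, 1, 2121604, 995654, 2, 1131245], [5, 79, 13], [], []),
  ([0, 1, 1596735, 995654, 2, 1250358], [5, 80, 14], [], []),
  ([0, 1, 714346, 995654, 2, 2472427], [5, 81, 12], [], []),
  ([0, 2, 343057, 2578690, 2, 434109], [4, 28, 82], [0, 2, 3, 4, 2, 4], [4, 6]),
  ([0, 2, 1964102, 645322, 4, 2895061], [5, 70, 32], [], []),
  ([0, 2, 424626, 645322, 4, 55536], [5, 84, 37], [], []),
  ([0, 2, 430326, 645322, 4, 472549], [5, 85, 34], [], []),
  ([0, 2, 1771035, 2113398, 4, 395620], [4, 62, 86], [5, 6, 4, 5, 6], [4, 6]),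
  ([0, 2, 1454609, 0, 5, 217350], [5, 48, 37], [], []),
  ([0, 2, 1636482, 0, 5, 214830], [5, 88, 34], [], []),
  ([0, 2, 1480407, 0, 5, 173880], [5, 89, 42], [], []),
  ([0, 2, 2219571, 2299265, 5, 734619], [4, 83, 90], [1, 4, 5, 6, 2, 5, 5], [4, 5]),
  ([0, 2, 523723, 2113398, 4, 203053], [5, 87, 42], [], []),
  ([0, 2, 2242649, 922851, 4, 718844], [4, 83, 92], [0, 1, 2, 6, 4, 6, 2], [4, 6]),
  ([0, 2, 2599246, 922851, 4, 988472], [5, 93, 32], [], []),
  ([0, 2, 1668504, 922851, 4, 2036507], [5, 94, 34], [], []),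
  ([0, 2, 1273391, 922851, 4, 981272], [5, 95, 47], [], []),
  ([0, 2, 2108927, 2795816, 4, 2128898], [4, 83, 96], [0, 4, 4, 5, 6, 4, 2, 4], [4, 3, 4]),
  ([0, 2, 1810392, 0, 5, 1260], [5, 48, 32], [], []),
  ([0, 2, 2062826, 0, 5, 218610], [5, 98, 37], [], []),
  ([0, 2, 1475857, 0, 5, 177660], [5, 99, 42], [], []),
  ([0, 2, 1959991, 0, 5, 1559250], [5, 100, 47], [], []),
  ([0, 2, 50959, 1426522, 5, 2748099], [4, 83, 101], [1, 4, 4, 6, 4, 5], [4, 4, 5]),
  ([0, 1, 308188, 995654, 2, 2311799], [5, 79, 12], [], []),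
  ([0, 1, 1263198, 995654, 2, 2460404], [5, 103, 13], [], []),
  ([0, 1, 2320877, 995654, 2, 1283407], [5, 104, 13], [], []),
  ([0, 1, 20993, 995654, 2, 973599], [5, 105, 14], [], []),
  ([0, 3, 1032151, 2857622, 2, 973599], [4, 16, 106], [0, 5, 5, 6, 4, 3], [5]),
  ([1, 1, 5040, 3150], [7, 8, 10], [], []),
  ([1, 1, 1758960, 887670], [7, 108, 12], [], []),
  ([1, 1, 1755180, 889560], [7, 109, 10], [], []),
  ([1, 1, 357840, 215460], [7, 110, 14], [], []),
  ([1, 3, 350910, 215460], [8, 111], [3, 4, 6], []),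
  ([0, 3, 404137, 2857622, 2, 2426856], [5, 107, 112], [], []),
  ([0, 2, 1042004, 2520782, 3, 2082991], [5, 66, 32], [], []),
  ([0, 2, 415171, 2520782, 3, 793266], [5, 114, 37], [], []),
  ([0, 2, 419585, 2520782, 3, 218659], [5, 115, 34], [], []),
  ([0, 2, 2603590, 2520782, 3, 1860264], [5, 116, 47], [], []),
  ([0, 2, 90738, 2520782, 3, 803346], [5, 66, 37], [], []),
  ([0, 2, 1298646, 2520782, 3, 1738219], [5, 118, 42], [], []),
  ([0, 2, 1568500, 2127826, 3, 1670740], [4, 62, 119], [0, 2, 4, 2, 3, 4], [6, 4]),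
  ([1, 3, 1491684, 1166725], [6, 117, 120], [1, 2, 4, 2, 4, 2], []),
  ([0, 3, 2835200, 2857622, 2, 884330], [5, 113, 121], [], []),
  ([0, 3, 2833859, 2857622, 2, 323227], [5, 122, 112], [], []),
  ([0, 2, 1459893, 1696129, 2, 665114], [4, 107, 123], [1, 3, 4, 5, 2, 4], [4, 4]),
  ([0, 3, 1795212, 2857622, 2, 1472849], [5, 107, 121], [], []),
  ([1, 3, 1890, 1260], [8, 9], [0], []),
  ([0, 3, 803017, 2857622, 2, 31253], [5, 125, 126], [], []),
  ([1, 1, 8820, 5670], [7, 8, 11], [], []),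
  ([1, 1, 1720530, 846720], [7, 128, 12], [], []),
  ([1, 1, 1716120, 852390], [7, 129, 11], [], []),
  ([1, 1, 2688210, 2169090], [7, 130, 12], [], []),
  ([1, 1, 1858500, 1780380], [7, 131, 14], [], []),
  ([1, 3, 1971270, 1780380], [8, 132], [5, 2, 4, 3, 4, 6, 2], []),
  ([0, 3, 886197, 2857622, 2, 12251], [5, 127, 133], [], []),
  ([0, 3, 620883, 2857622, 2, 18278], [5, 134, 121], [], []),
  ([0, 2, 2881509, 816992, 2, 1935871], [4, 107, 135], [2, 4, 6, 5, 5, 3, 6, 5], [4, 5]),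
  ([0, 1, 337893, 0, 4, 2520], [5, 17, 10], [], []),
  ([0, 1, 2046868, 0, 4, 887040], [5, 137, 12], [], []),
  ([0, 1, 40009, 0, 4, 2106720], [5, 138, 12], [], []),
  ([0, 3, 1705630, 2702377, 4, 2106720], [4, 16, 139], [5, 6, 4, 2, 5, 5, 6], [4]),
  ([0, 3, 2571397, 2702377, 4, 1140300], [5, 140, 112], [], []),
  ([0, 3, 2491386, 2702377, 4, 86905], [5, 141, 121], [], []),
  ([0, 3, 60186, 2702377, 4, 2555939], [5, 142, 112], [], []),
  ([1, 1, 639450, 519750], [7, 13, 11], [], []),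
  ([1, 1, 880110, 1498770], [7, 144, 12], [], []),
  ([1, 1, 885780, 1499400], [7, 145, 10], [], []),
  ([1, 1, 2490390, 2707740], [7, 146, 12], [], []),
  ([1, 3, 2462040, 2707740], [8, 147], [4, 3, 4, 5, 2, 3], []),
  ([0, 3, 1658395, 2702377, 4, 1733160], [5, 143, 148], [], []),
  ([0, 2, 1479409, 2310191, 4, 944514], [4, 107, 149], [4, 5, 5, 6], [4, 2, 4]),
  ([0, 3, 1432087, 2702377, 4, 1008000], [5, 141, 148], [], []),
  ([0, 3, 632432, 2702377, 4, 1619065], [5, 151, 121], [], []),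
  ([0, 3, 2270266, 2702377, 4, 488909], [5, 152, 112], [], []),
  ([0, 3, 2630832, 2702377, 4, 2226877], [5, 153, 121], [], []),
  ([0, 2, 2836142, 2204452, 4, 2333913], [4, 107, 154], [1, 4, 5, 2], [4, 2, 5]),
  ([0, 3, 231843, 1776002, 1, 0], [3, 16], [], []),
  ([0, 1, 1810392, 0, 3, 630], [5, 16, 8], [], []),
  ([0, 1, 5685, 0, 3, 3150], [5, 157, 10], [], []),
  ([0, 3, 2171864, 2410084, 3, 3150], [4, 16, 158], [0, 1, 4, 6, 4, 6], [5, 5]),
  ([0, 3, 711424, 2702377, 4, 831600], [5, 141, 133], [], []),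
  ([0, 3, 693630, 1198893, 4, 835380], [4, 159, 160], [4, 4, 2, 4, 2], [4, 6, 2, 4]),
  ([0, 1, 299602, 995654, 2, 2309279], [5, 103, 11], [], []),
  ([0, 1, 2583787, 995654, 2, 2481194], [5, 162, 13], [], []),
  ([0, 1, 872883, 995654, 2, 2515844], [5, 163, 14], [], []),
  ([0, 3, 11, 127894, 2, 2515844], [4, 16, 164], [1, 4, 2, 4, 5, 5, 3], []),
  ([0, 2, 14918, 2113398, 4, 211243], [5, 92, 34], [], []),
  ([0, 2, 2189840, 2113398, 4, 939128], [5, 166, 47], [], []),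
  ([0, 3, 237701, 719203, 4, 2095220], [4, 78, 167], [3, 5, 5, 6, 4, 5], [6, 4]),
  ([0, 2, 2806492, 0, 5, 18270], [5, 88, 37], [], []),
  ([0, 3, 1433231, 2588294, 5, 2477886], [4, 78, 169], [0, 2, 4, 3, 4, 2, 3, 4], [4, 4, 5]),
  ([0, 3, 2745280, 2588294, 5, 989979], [5, 170, 112], [], []),
  ([0, 3, 451716, 2588294, 5, 1161961], [5, 171, 148], [], []),
  ([0, 3, 1476557, 2588294, 5, 833238], [5, 172, 121], [], []),
  ([0, 3, 2163632, 2588294, 5, 1471617], [5, 173, 148], [], []),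
  ([0, 3, 1028933, 122932, 5, 1117799], [4, 159, 174], [0, 1, 6, 4, 2], [4]),
  ([0, 2, 2043059, 2299265, 3, 778261], [5, 78, 32], [], []),
  ([0, 2, 1163918, 2299265, 3, 2068386], [5, 176, 37], [], []),
  ([0, 2, 1124637, 2299265, 3, 572289], [5, 177, 37], [], []),
  ([0, 5, 1416574, 1178084, 3, 572289], [4, 48, 178], [2, 4, 4, 5, 5, 2], [4, 6, 4]),
  ([0, 3, 2722391, 2588294, 5, 926540], [5, 170, 121], [], []),
  ([0, 3, 2707802, 2588294, 5, 357247], [5, 180, 112], [], []),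
  ([0, 3, 639565, 2588294, 5, 812134], [5, 181, 121], [], []),
  ([0, 4, 512306, 1385381, 5, 1054470], [4, 140, 182], [6, 5, 5, 6], [4, 5]),
  ([0, 2, 2336083, 2113398, 4, 2308802], [5, 87, 34], [], []),
  ([0, 2, 1314038, 2113398, 4, 2891803], [5, 184, 47], [], []),
  ([0, 2, 2733688, 2113398, 4, 773542], [5, 185, 42], [], []),
  ([0, 2, 805226, 2113398, 4, 2008695], [5, 186, 37], [], []),
  ([0, 4, 768071, 646481, 4, 2560266], [4, 70, 187], [4, 6, 4, 3, 5], [4, 4]),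
  ([0, 2, 96411, 645322, 4, 46086], [5, 70, 37], [], []),
  ([0, 2, 729542, 645322, 4, 1880799], [5, 189, 37], [], []),
  ([0, 4, 975284, 1097840, 4, 1961832], [4, 70, 190], [6, 4, 2, 6], [4, 6]),
  ([1, 4, 1890, 1260], [8, 9], [0], []),
  ([0, 4, 986328, 1097840, 4, 1971912], [5, 191, 192], [], []),
  ([1, 1, 1718640, 847350], [7, 11, 12], [], []),
  ([1, 1, 1718010, 851760], [7, 194, 11], [], []),
  ([1, 1, 2686320, 2168460], [7, 195, 12], [], []),
  ([1, 1, 1857870, 1781010], [7, 196, 14], [], []),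
  ([1, 4, 2800350, 1781010], [8, 197], [2, 4, 3, 4, 6, 2, 5], []),
  ([0, 4, 2494615, 1097840, 4, 191751], [5, 193, 198], [], []),
  ([1, 1, 341460, 236880], [7, 12, 14], [], []),
  ([1, 1, 336420, 240030], [7, 200, 10], [], []),
  ([1, 1, 318150, 1074150], [7, 201, 13], [], []),
  ([1, 1, 1495620, 1709820], [7, 202, 14], [], []),
  ([1, 4, 876960, 1709820], [8, 203], [1, 2, 3, 4, 2, 5], []),
  ([0, 4, 2311782, 1097840, 4, 901541], [5, 199, 204], [], []),
  ([1, 1, 5040, 3150], [7, 8, 10], [], []),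
  ([1, 1, 3150, 8190], [7, 206, 11], [], []),
  ([1, 1, 1678320, 927990], [7, 207, 12], [], []),
  ([1, 1, 331380, 228060], [7, 208, 14], [], []),
  ([1, 1, 325710, 230580], [7, 209, 10], [], []),
  ([1, 4, 439110, 230580], [8, 210], [6, 2, 4, 3, 4, 2], []),
  ([0, 4, 152947, 1097840, 4, 225771], [5, 205, 211], [], []),
  ([0, 4, 2093807, 1846454, 4, 2197758], [4, 188, 212], [1, 3, 4], [6, 4]),
  ([0, 4, 1185998, 1846454, 4, 1293720], [5, 213, 192], [], []),
  ([0, 4, 560581, 1846454, 4, 1300759], [5, 214, 198], [], []),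
  ([0, 4, 120386, 1846454, 4, 1339809], [5, 215, 204], [], []),
  ([0, 4, 1200675, 1846454, 4, 1874551], [5, 216, 211], [], []),
  ([0, 5, 323829, 1654190, 4, 175036], [4, 183, 217], [0, 1, 2, 4, 6, 4], [4, 5]),
  ([1, 2, 973350, 176400], [7, 37, 42], [], []),
  ([1, 2, 137340, 59220], [7, 219, 37], [], []),
  ([1, 2, 1271340, 2290680], [7, 220, 47], [], []),
  ([1, 5, 1275120, 2290680], [8, 221], [0, 1, 5, 5, 6, 5], []),
  ([0, 5, 1151712, 1654190, 4, 1271109], [5, 218, 222], [], []),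
  ([0, 3, 1629184, 2588294, 5, 192412], [5, 171, 133], [], []),
  ([0, 3, 2418554, 2588294, 5, 2467176], [5, 170, 126], [], []),
  ([0, 3, 1792131, 2588294, 5, 969189], [5, 225, 112], [], []),
  ([0, 3, 2780839, 2588294, 5, 182332], [5, 226, 133], [], []),
  ([0, 3, 1032616, 2588294, 5, 2773684], [5, 227, 121], [], []),
  ([0, 3, 715684, 838316, 5, 145755], [4, 159, 228], [4, 5, 2, 4, 3], [4, 3]),
  ([1, 5, 1721148, 151507], [6, 224, 229], [2, 6, 4, 2, 6], []),
  ([0, 5, 235093, 1654190, 4, 799731], [5, 223, 230], [], []),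
  ([0, 5, 1879799, 1654190, 4, 2301059], [5, 231, 230], [], []),
  ([0, 5, 2122345, 1654190, 4, 1494024], [5, 232, 222], [], []),
  ([0, 5, 1184664, 1654190, 4, 1672299], [5, 233, 230], [], []),
  ([0, 5, 2523138, 1654190, 4, 1405515], [5, 234, 222], [], []),
  ([0, 5, 2429712, 1654190, 4, 1769418], [5, 235, 230], [], []),
  ([0, 5, 902160, 1654190, 4, 2826550], [5, 236, 230], [], []),
  ([0, 3, 959207, 1697619, 4, 58610], [4, 179, 237], [4, 2, 5, 5, 6], [5, 5]),
  ([0, 4, 83, 0, 6, 0], [2], [], []),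
  ([0, 4, 231843, 231901, 1, 0], [3, 17], [], []),
  ([0, 1, 1047929, 0, 3, 514710], [5, 157, 13], [], []),
  ([0, 1, 1031567, 0, 3, 519120], [5, 241, 11], [], []),
  ([0, 4, 11, 2675649, 3, 519120], [4, 17, 242], [5, 3, 5, 6, 5, 6], []),
  ([0, 1, 1779161, 0, 4, 3150], [5, 67, 10], [], []),
  ([0, 1, 910406, 0, 4, 887670], [5, 244, 12], [], []),
  ([0, 1, 983171, 0, 4, 2107350], [5, 245, 12], [], []),
  ([0, 1, 689495, 0, 4, 2113020], [5, 246, 11], [], []),
  ([0, 4, 1705630, 2704686, 4, 2113020], [4, 17, 247], [6, 2, 4, 5, 3, 6, 5], [4]),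
  ([0, 3, 2722110, 2410084, 3, 1900710], [5, 159, 133], [], []),
  ([0, 3, 65328, 2410084, 3, 946260], [5, 249, 112], [], []),
  ([0, 4, 2474640, 297363, 3, 2239650], [4, 140, 250], [2, 4, 4, 2, 4], [4, 6, 2, 4]),
  ([0, 1, 1403349, 995654, 2, 2160623], [5, 28, 10], [], []),
  ([0, 1, 971054, 995654, 2, 2115789], [5, 252, 12], [], []),
  ([0, 1, 1156772, 995654, 2, 2421563], [5, 253, 12], [], []),
  ([0, 1, 1004026, 995654, 2, 2628097], [5, 254, 10], [], []),
  ([0, 1, 1083987, 995654, 2, 2201100], [5, 255, 11], [], []),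
  ([0, 4, 2855292, 66862, 2, 2201100], [4, 17, 256], [1, 3, 4, 6, 5], [4, 2]),
  ([0, 1, 1045101, 995654, 2, 222022], [5, 28, 14], [], []),
  ([0, 1, 513384, 995654, 2, 407875], [5, 258, 10], [], []),
  ([0, 1, 1059457, 995654, 2, 1016070], [5, 259, 13], [], []),
  ([0, 4, 2202984, 481440, 2, 1016070], [4, 17, 260], [1, 2, 6, 4, 3, 4], [4, 3]),
  ([0, 2, 2328695, 2113398, 4, 2268482], [5, 87, 32], [], []),
  ([0, 2, 654691, 2113398, 4, 565949], [5, 262, 37], [], []),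
  ([0, 2, 1952007, 2113398, 4, 698342], [5, 263, 47], [], []),
  ([0, 2, 2339394, 2113398, 4, 2583533], [5, 264, 37], [], []),
  ([0, 4, 800114, 1449019, 4, 668471], [4, 70, 265], [1, 3, 5, 6, 5], [4]),
  ([0, 2, 650272, 2113398, 4, 585479], [5, 184, 37], [], []),
  ([0, 2, 1285929, 2113398, 4, 154190], [5, 267, 42], [], []),
  ([0, 2, 2328256, 2113398, 4, 2683342], [5, 268, 47], [], []),
  ([0, 2, 455126, 2113398, 4, 685106], [5, 269, 37], [], []),
  ([0, 4, 2188382, 2465567, 4, 1890328], [4, 70, 270], [4, 4, 3, 4, 6, 5], [4, 3]),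
  ([0, 2, 676136, 2113398, 4, 782275], [5, 87, 37], [], []),
  ([0, 2, 325400, 2113398, 4, 2806356], [5, 272, 47], [], []),
  ([0, 2, 1124846, 2113398, 4, 1219673], [5, 273, 37], [], []),
  ([0, 4, 2515624, 2569844, 4, 2863632], [4, 70, 274], [1, 2, 4, 3, 4, 5, 3, 4], [4, 5]),
  ([0, 2, 1161922, 123179, 2, 1266349], [5, 62, 37], [], []),
  ([0, 4, 2545306, 155023, 2, 1111939], [4, 70, 276], [0, 3, 4, 2, 4, 2], [4, 2, 6]),
  ([0, 2, 1944579, 0, 5, 40950], [5, 48, 42], [], []),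
  ([0, 4, 2603073, 37324, 5, 1134438], [4, 75, 278], [3, 4, 4, 2, 4], [4, 5]),
  ([0, 2, 2597017, 2113398, 4, 2352803], [5, 272, 37], [], []),
  ([0, 4, 670096, 1450445, 4, 2766609], [4, 75, 280], [6, 5, 6, 4, 5], [4, 6]),
  ([0, 4, 417346, 971646, 3, 1864789], [3, 168], [], []),
  ([0, 3, 1480048, 2857622, 2, 934984], [5, 123, 121], [], []),
  ([0, 4, 2295863, 2569090, 2, 1069590], [4, 140, 283], [1, 4, 5, 5, 2], [4]),
  ([0, 3, 602396, 719203, 4, 2838280], [5, 168, 126], [], []),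
  ([0, 3, 2732370, 719203, 4, 295006], [5, 285, 121], [], []),
  ([0, 4, 2327776, 175217, 4, 308106], [4, 140, 286], [1, 6, 5, 6, 4, 5, 6], [4, 2, 6]),
  ([0, 3, 1493304, 2857622, 2, 181151], [5, 123, 133], [], []),
  ([0, 4, 1290851, 2249649, 2, 499963], [4, 140, 288], [0, 3, 4, 2, 4, 5, 3], [4, 5, 6]),
  ([0, 3, 865124, 2857622, 2, 1380469], [5, 122, 126], [], []),
  ([0, 4, 723931, 1158417, 2, 545320], [4, 168, 290], [1, 5, 6, 4, 4], []),
  ([0, 3, 719542, 122932, 5, 2398005], [5, 175, 126], [], []),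
  ([0, 3, 9255, 122932, 5, 2396449], [5, 292, 148], [], []),
  ([0, 3, 1005857, 122932, 5, 1431952], [5, 293, 133], [], []),
  ([0, 3, 1300838, 122932, 5, 2147601], [5, 294, 121], [], []),
  ([0, 3, 1346837, 122932, 5, 2447915], [5, 295, 126], [], []),
  ([0, 4, 2269876, 2647451, 5, 2749104], [4, 168, 296], [1, 2, 3, 4, 4], [4]),
  ([0, 3, 562266, 719203, 4, 851469], [5, 168, 133], [], []),
  ([0, 4, 1043979, 2183653, 4, 2097317], [4, 168, 298], [5, 6, 4, 2, 4], [4, 6]),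
  ([0, 3, 167206, 2702377, 4, 1527120], [5, 140, 148], [], []),
  ([0, 3, 34415, 2702377, 4, 1963080], [5, 300, 112], [], []),
  ([0, 4, 504190, 2884700, 4, 537379], [4, 168, 301], [4, 2, 4, 2, 5], [5, 5]),
  ([0, 3, 509470, 122932, 5, 1223234], [5, 175, 148], [], []),
  ([0, 3, 328609, 122932, 5, 2207296], [5, 303, 133], [], []),
  ([0, 3, 2236433, 122932, 5, 1996007], [5, 304, 121], [], []),
  ([0, 3, 2391378, 122932, 5, 1893586], [5, 305, 126], [], []),
  ([0, 4, 914126, 2626521, 5, 825132], [4, 168, 306], [0, 3, 4, 4, 2], [4, 2, 3]),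
  ([0, 4, 192341, 1385381, 5, 1593741], [5, 183, 192], [], []),
  ([0, 4, 2718749, 1385381, 5, 1395300], [5, 308, 204], [], []),
  ([0, 4, 886077, 1385381, 5, 2666640], [5, 309, 211], [], []),
  ([0, 4, 411853, 1385381, 5, 366510], [5, 310, 198], [], []),
  ([0, 4, 832627, 1422616, 5, 2042062], [4, 188, 311], [2, 4, 5, 3, 6, 5, 6], [4, 4, 6]),
  ([0, 4, 358850, 155023, 2, 2674759], [5, 277, 192], [], []),
  ([0, 4, 2611116, 155023, 2, 2070043], [5, 313, 198], [], []),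
  ([0, 4, 2482424, 155023, 2, 630942], [5, 314, 204], [], []),
  ([0, 4, 453517, 155023, 2, 445460], [5, 315, 211], [], []),
  ([0, 4, 1957857, 2342811, 2, 2447622], [4, 188, 316], [0, 1, 4, 4, 6, 4, 6], [4, 5, 5]),
  ([0, 4, 346798, 2884700, 4, 2793199], [5, 302, 192], [], []),
  ([0, 4, 869901, 2884700, 4, 2536873], [5, 318, 198], [], []),
  ([0, 4, 1187060, 2884700, 4, 1008827], [5, 319, 211], [], []),
  ([0, 4, 1722482, 2884700, 4, 1208147], [5, 320, 204], [], []),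
  ([0, 4, 511842, 2884700, 4, 1154730], [5, 321, 198], [], []),
  ([0, 4, 317985, 2550769, 4, 1864650], [4, 188, 322], [4, 4, 5, 6, 4], [4, 5, 6]),
  ([0, 4, 2707210, 1385381, 5, 47091], [5, 183, 204], [], []),
  ([0, 4, 2479503, 1385381, 5, 2879571], [5, 324, 211], [], []),
  ([0, 4, 2780011, 2893088, 5, 269507], [4, 188, 325], [4, 4, 6, 5, 5, 2, 4], [4, 2, 5, 5]),
  ([0, 4, 2240788, 1385381, 5, 2429130], [5, 183, 198], [], []),
  ([0, 4, 1598035, 1385381, 5, 1382691], [5, 327, 204], [], []),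
  ([0, 4, 96202, 1385381, 5, 1768251], [5, 328, 211], [], []),
  ([0, 4, 2252667, 1267922, 5, 1536700], [4, 275, 329], [2, 3, 4, 2, 4, 3], [4, 3, 6]),
  ([0, 4, 1450679, 1097840, 4, 1711864], [5, 193, 204], [], []),
  ([0, 4, 686191, 1097840, 4, 859715], [5, 331, 211], [], []),
  ([0, 4, 1317040, 2353679, 4, 4257], [4, 275, 332], [1, 2, 5, 6, 4], [4, 6, 2]),
  ([0, 4, 286099, 2183653, 4, 2106767], [5, 299, 192], [], []),
  ([0, 4, 922124, 2183653, 4, 252782], [5, 334, 211], [], []),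
  ([0, 4, 379012, 2183653, 4, 1402429], [5, 335, 198], [], []),
  ([0, 4, 1219423, 1192246, 4, 120963], [4, 191, 336], [0, 6, 5, 6, 5], [4, 2, 3, 4]),
  ([0, 4, 234533, 2183653, 4, 1001437], [5, 299, 198], [], []),
  ([0, 4, 2775104, 2183653, 4, 1037245], [5, 338, 211], [], []),
  ([0, 4, 1266384, 2183653, 4, 629069], [5, 339, 198], [], []),
  ([0, 4, 905836, 51498, 4, 1896129], [4, 281, 340], [4, 4, 2, 6, 4, 5], [4, 2, 4]),
  ([0, 4, 713117, 1450445, 4, 2874968], [5, 281, 198], [], []),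
  ([0, 4, 2313522, 1450445, 4, 538850], [5, 342, 211], [], []),
  ([0, 4, 2738767, 1450445, 4, 2393123], [5, 343, 204], [], []),
  ([0, 4, 694834, 1450445, 4, 2411921], [5, 344, 198], [], []),
  ([0, 4, 1728455, 2888925, 4, 2191268], [4, 281, 345], [2, 5, 6, 4, 2, 5, 6], [4, 2, 6]),
  ([0, 4, 483460, 0, 6, 1709820], [5, 239, 204], [], []),
  ([0, 4, 1167858, 0, 6, 2322810], [5, 347, 198], [], []),
  ([0, 4, 11539, 678209, 6, 1103807], [4, 299, 348], [1, 4, 5, 5, 6, 4, 6], [4, 5, 5]),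
  ([0, 2, 2273835, 2656972, 4, 1316949], [5, 75, 42], [], []),
  ([0, 5, 1103992, 2637747, 4, 1316949], [4, 48, 350], [2, 6, 4, 3, 5], [4, 6, 2, 4]),
  ([0, 5, 1102468, 1178084, 3, 551436], [5, 179, 230], [], []),
  ([0, 5, 2856520, 1178084, 3, 2549891], [5, 352, 222], [], []),
  ([0, 5, 2436820, 1178084, 3, 504387], [5, 353, 230], [], []),
  ([0, 5, 1687067, 1178084, 3, 742692], [5, 354, 230], [], []),
  ([0, 5, 2568019, 1178084, 3, 1059401], [5, 355, 222], [], []),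
  ([0, 5, 2124921, 1178084, 3, 250617], [5, 356, 230], [], []),
  ([0, 5, 1022745, 1178084, 3, 1623452], [5, 357, 222], [], []),
  ([0, 5, 2835052, 1178084, 3, 1141641], [5, 358, 230], [], []),
  ([0, 5, 2088322, 1178084, 3, 203130], [5, 359, 230], [], []),
  ([0, 5, 1517704, 1178084, 3, 2247590], [5, 360, 222], [], []),
  ([0, 5, 2518124, 1178084, 3, 1284351], [5, 361, 230], [], []),
  ([0, 4, 558551, 2820857, 3, 1940822], [4, 351, 362], [5, 5, 6, 5], [6, 4]),
  ([0, 5, 2792681, 1654190, 4, 2724688], [5, 218, 230], [], []),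
  ([0, 5, 255609, 1654190, 4, 1243587], [5, 364, 230], [], []),
  ([0, 5, 967361, 1654190, 4, 2329914], [5, 365, 222], [], []),
  ([0, 5, 2786837, 1654190, 4, 1161419], [5, 366, 230], [], []),
  ([0, 4, 748223, 1731559, 4, 1728093], [4, 351, 367], [0, 2, 4, 4, 6, 4, 5], [4, 4, 6]),
  ([0, 5, 231843, 1776002, 2, 0], [3, 48], [], []),
  ([0, 2, 5055, 0, 5, 7560], [5, 48, 34], [], []),
  ([0, 5, 2171864, 2412604, 5, 7560], [4, 48, 370], [1, 4, 6, 4, 6], [5, 5]),
  ([0, 5, 1339818, 2655324, 5, 40950], [4, 48, 278], [1, 5, 2, 4, 3], [4, 2, 3]),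
  ([0, 2, 2676859, 2578690, 2, 1239441], [5, 83, 37], [], []),
  ([0, 2, 2461341, 2578690, 2, 2568877], [5, 373, 47], [], []),
  ([0, 5, 2855292, 1074994, 2, 2568877], [4, 48, 374], [4, 4, 5, 5, 3, 4, 4], [4, 2]),
  ([0, 2, 190364, 2578690, 2, 424029], [5, 83, 32], [], []),
  ([0, 2, 2617319, 2578690, 2, 2146034], [5, 376, 47], [], []),
  ([0, 2, 475635, 2578690, 2, 2245627], [5, 377, 37], [], []),
  ([0, 2, 683436, 2578690, 2, 1367906], [5, 378, 47], [], []),
  ([0, 5, 2202984, 2686203, 2, 1367906], [4, 48, 379], [0, 4, 2, 6, 5], [4, 3]),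
  ([0, 3, 677547, 2588294, 5, 1480409], [5, 226, 121], [], []),
  ([0, 3, 627965, 2588294, 5, 1258555], [5, 381, 112], [], []),
  ([0, 3, 2595315, 2588294, 5, 2118661], [5, 382, 121], [], []),
  ([0, 3, 2747298, 2588294, 5, 1276969], [5, 383, 148], [], []),
  ([0, 5, 597881, 2144769, 5, 1721482], [4, 170, 384], [2, 4, 6, 2, 4, 5, 6], []),
  ([0, 3, 1775369, 2702377, 4, 1885555], [5, 140, 121], [], []),
  ([0, 3, 1776673, 2702377, 4, 1397369], [5, 386, 112], [], []),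
  ([0, 3, 1540946, 2702377, 4, 1066417], [5, 387, 121], [], []),
  ([0, 3, 6275, 2702377, 4, 1376353], [5, 388, 126], [], []),
  ([0, 5, 2523399, 2438921, 4, 1399722], [4, 170, 389], [1, 5, 3, 5, 6, 4, 2], [5]),
  ([0, 3, 91013, 2588294, 5, 1521989], [5, 171, 121], [], []),
  ([0, 3, 186266, 2588294, 5, 1256035], [5, 391, 112], [], []),
  ([0, 5, 677962, 274193, 5, 2774328], [4, 170, 392], [1, 6, 4], [4, 3]),
  ([0, 3, 1706339, 2410084, 3, 1164205], [5, 159, 121], [], []),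
  ([0, 3, 2322049, 2410084, 3, 193876], [5, 394, 148], [], []),
  ([0, 3, 2514298, 2410084, 3, 1210260], [5, 395, 112], [], []),
  ([0, 5, 979793, 283643, 3, 1410665], [4, 170, 396], [1, 6, 4, 2, 3], [4, 2, 3]),
  ([0, 5, 2111946, 2733537, 4, 724627], [3, 297], [], []),
  ([0, 5, 2365154, 943107, 4, 292378], [3, 307], [], []),
  ([0, 4, 1634712, 1267922, 5, 2539949], [5, 330, 204], [], []),
  ([0, 4, 723307, 1267922, 5, 1084728], [5, 400, 211], [], []),
  ([0, 4, 2638825, 1267922, 5, 981408], [5, 401, 198], [], []),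
  ([0, 5, 2541698, 595831, 5, 2400763], [4, 279, 402], [0, 4, 2, 4, 2, 5], [4, 2, 3, 4]),
  ([0, 4, 2489162, 2893088, 5, 342678], [5, 326, 198], [], []),
  ([0, 4, 1871924, 2893088, 5, 1016419], [5, 404, 211], [], []),
  ([0, 5, 1408491, 505426, 5, 1363597], [4, 183, 405], [2, 4, 3, 4, 2, 5, 5], [4, 4]),
  ([0, 5, 765812, 746548, 4, 34815], [4, 183, 199], [6, 4, 2, 5, 5], [4, 6]),
  ([0, 4, 772300, 1267922, 5, 1736120], [5, 330, 192], [], []),
  ([0, 4, 2318270, 1267922, 5, 515429], [5, 408, 204], [], []),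
  ([0, 4, 87636, 1267922, 5, 301024], [5, 409, 211], [], []),
  ([0, 5, 2167707, 2164557, 5, 1379167], [4, 183, 410], [6, 2, 5, 5, 6], [4, 2, 4]),
  ([0, 4, 2483570, 2569844, 4, 1582380], [5, 275, 204], [], []),
  ([0, 4, 2280583, 2569844, 4, 2118819], [5, 412, 211], [], []),
  ([0, 4, 624432, 2569844, 4, 2543211], [5, 413, 198], [], []),
  ([0, 5, 48868, 535210, 4, 369074], [4, 183, 414], [5, 6, 4, 5, 6], [4, 2, 6]),
  ([0, 4, 350114, 0, 6, 1260], [5, 239, 192], [], []),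
  ([0, 5, 1732981, 281245, 6, 723367], [4, 297, 416], [1, 6, 5, 5, 6, 4, 5], [4, 6, 2]),
  ([1, 6, 1271970, 1781010], [8, 198], [5, 5, 3, 6, 5], []),
  ([1, 4, 439740, 229320], [7, 192, 211], [], []),
  ([1, 4, 1317330, 1407420], [7, 419, 204], [], []),
  ([1, 6, 2821140, 1407420], [8, 420], [5, 6, 5, 2, 4, 5], []),
  ([0, 4, 317354, 327856, 6, 1415430], [4, 188, 416], [2, 4, 3, 4, 4, 5, 5], [4, 2, 5, 6]),
  ([1, 6, 1002579, 253209], [6, 416, 422], [2, 6, 5, 5, 6, 5], []),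
  ([0, 6, 231843, 231984, 4, 0], [3, 239], [], []),
  ([0, 4, 210409, 2569844, 4, 822333], [5, 275, 198], [], []),
  ([0, 4, 707726, 2569844, 4, 2580172], [5, 425, 204], [], []),
  ([0, 4, 2169291, 2569844, 4, 1476715], [5, 426, 211], [], []),
  ([0, 6, 11, 208674, 4, 1476715], [4, 239, 427], [2, 4, 6, 5, 5, 3, 6, 5], []),
  ([0, 4, 49906, 646481, 4, 1294918], [5, 188, 192], [], []),
  ([0, 6, 1032151, 325545, 4, 1294918], [4, 239, 429], [4, 5, 5, 6], [5]),
  ([0, 6, 2855292, 1550092, 4, 252782], [4, 239, 335], [5, 5, 6, 4, 2, 5, 2], [4, 2]),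
  ([0, 6, 2202984, 471766, 4, 2536873], [4, 239, 319], [0, 4, 2, 4], [4, 3]),
  ([0, 4, 2878665, 175217, 4, 720525], [5, 287, 198], [], []),
  ([0, 4, 2486274, 175217, 4, 212319], [5, 433, 204], [], []),
  ([0, 6, 1119819, 2307390, 4, 212319], [4, 239, 434], [5, 5, 6, 5, 6, 4], [4, 2, 4]),
  ([0, 4, 97457, 2647451, 5, 1953381], [5, 297, 192], [], []),
  ([0, 6, 2098162, 866029, 5, 1953381], [4, 239, 436], [6, 5, 5, 3, 4, 4], [4, 2, 5])]

/-- The coverage of the cosets in one orbit. -/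
def cov0 : Tree :=
  (.node 315 (.node 157 (.node 78 (.node 39 (.node 19 (.node 9 (.node 4 (.node 2 (.node 1 (.leaf
  33030144) (.leaf
  4831838209)) (.node 1 (.leaf
  4836556802) (.leaf
  4841275395))) (.node 2 (.node 1 (.leaf
  4845993988) (.leaf
  89653253)) (.node 1 (.leaf
  4855431174) (.node 1 (.leaf
  4860149767) (.leaf
  9668395016))))) (.node 5 (.node 2 (.node 1 (.leaf
  9673113609) (.leaf
  9677832202)) (.node 1 (.leaf
  9682550795) (.node 1 (.leaf
  9687269388) (.leaf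
  9691987981)))) (.node 2 (.node 1 (.leaf
  14504951822) (.leaf
  14514389007)) (.node 1 (.leaf
  14519107600) (.node 1 (.leaf
  14523826193) (.leaf
  19327352850)))))) (.node 10 (.node 5 (.node 2 (.node 1 (.leaf
  19341508627) (.leaf
  19346227220)) (.node 1 (.leaf
  19350945813) (.node 1 (.leaf
  19355664406) (.leaf
  24168628247)))) (.node 2 (.node 1 (.leaf
  24178065432) (.leaf
  24182784025)) (.node 1 (.leaf
  24187502618) (.node 1 (.leaf
  94371867) (.leaf
  29019340828))))) (.node 5 (.node 2 (.node 1 (.leaf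
  33851179037) (.leaf
  38678298654)) (.node 1 (.leaf
  43495981087) (.node 1 (.leaf
  43500699680) (.leaf
  43505418273)))) (.node 2 (.node 1 (.leaf
  43510136866) (.leaf
  43514855459)) (.node 1 (.leaf
  48318382116) (.node 1 (.leaf
  48332537893) (.leaf
  48337256486))))))) (.node 19 (.node 9 (.node 4 (.node 2 (.node 1 (.leaf
  48341975079) (.leaf
  48346693672)) (.node 1 (.leaf
  53154938921) (.leaf
  53159657514))) (.node 2 (.node 1 (.leaf
  53169094699) (.leaf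
  53173813292)) (.node 1 (.leaf
  53178531885) (.node 1 (.leaf
  57996214318) (.leaf
  58005651503))))) (.node 5 (.node 2 (.node 1 (.leaf
  58010370096) (.leaf
  62832771121)) (.node 1 (.leaf
  62842208306) (.node 1 (.leaf
  67669327923) (.leaf
  72496447540)))) (.node 2 (.node 1 (.leaf
  72501166133) (.leaf
  72505884726)) (.node 1 (.leaf
  77323567159) (.node 1 (.leaf
  77337722936) (.leaf
  82169561145)))))) (.node 10 (.node 5 (.node 2 (.node 1 (.leaf
  86996680762) (.leaf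
  91833237563)) (.node 1 (.leaf
  96646201404) (.node 1 (.leaf
  96655638589) (.leaf
  96660357182)))) (.node 2 (.node 1 (.leaf
  96665075775) (.leaf
  101482758208)) (.node 1 (.leaf
  101496913985) (.node 1 (.leaf
  106328752194) (.leaf
  111155871811))))) (.node 5 (.node 2 (.node 1 (.leaf
  115964117060) (.leaf
  115982991429)) (.node 1 (.leaf
  115987710022) (.node 1 (.leaf
  115992428615) (.leaf
  120810111048)))) (.node 2 (.node 1 (.leaf
  120819548233) (.leaf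
  120824266826)) (.node 1 (.leaf
  125646667851) (.node 1 (.leaf
  125656105036) (.leaf
  130483224653)))))))) (.node 39 (.node 19 (.node 9 (.node 4 (.node 2 (.node 1 (.leaf
  135296188494) (.leaf
  135300907087)) (.node 1 (.leaf
  99090512) (.leaf
  140146901073))) (.node 2 (.node 1 (.leaf
  144978739282) (.leaf
  149805858899)) (.node 1 (.leaf
  154618822740) (.node 1 (.leaf
  154632978517) (.leaf
  154637697110))))) (.node 5 (.node 2 (.node 1 (.leaf
  154642415703) (.leaf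
  154647134296)) (.node 1 (.leaf
  159469535321) (.node 1 (.leaf
  159474253914) (.leaf
  159478972507)))) (.node 2 (.node 1 (.leaf
  164296654940) (.leaf
  164310810717)) (.node 1 (.leaf
  169142648926) (.node 1 (.leaf
  173969768543) (.leaf
  178796888160)))))) (.node 10 (.node 5 (.node 2 (.node 1 (.leaf
  178801606753) (.leaf
  183614570594)) (.node 1 (.leaf
  183628726371) (.node 1 (.leaf
  183633444964) (.leaf
  188455845989)))) (.node 2 (.node 1 (.leaf
  188470001766) (.leaf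
  193301839975)) (.node 1 (.leaf
  198128959592) (.node 1 (.leaf
  202956079209) (.leaf
  202960797802))))) (.node 5 (.node 2 (.node 1 (.leaf
  207787917419) (.leaf
  207792636012)) (.node 1 (.leaf
  212615037037) (.node 1 (.leaf
  212624474222) (.leaf
  212629192815)))) (.node 2 (.node 1 (.leaf
  217451593840) (.leaf
  217461031025)) (.node 1 (.leaf
  222288150642) (.node 1 (.leaf
  227101114483) (.leaf
  227105833076))))))) (.node 20 (.node 10 (.node 5 (.node 2 (.node 1 (.leaf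
  227119988853) (.leaf
  227124707446)) (.node 1 (.leaf
  231956545655) (.node 1 (.leaf
  236783665272) (.leaf
  241620222073)))) (.node 2 (.node 1 (.leaf
  246447341690) (.leaf
  251274461307)) (.node 1 (.leaf
  256101580924) (.node 1 (.leaf
  256115736701) (.leaf
  260947574910))))) (.node 5 (.node 2 (.node 1 (.leaf
  265774694527) (.leaf
  270587658368)) (.node 1 (.leaf
  270592376961) (.node 1 (.leaf
  270611251330) (.leaf
  275438370947)))) (.node 2 (.node 1 (.leaf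
  280270209156) (.leaf
  285097328773)) (.node 1 (.leaf
  289933885574) (.node 1 (.leaf
  299588124807) (.leaf
  299602280584)))))) (.node 10 (.node 5 (.node 2 (.node 1 (.leaf
  304434118793) (.leaf
  309261238410)) (.node 1 (.leaf
  314074202251) (.node 1 (.leaf
  314078920844) (.leaf
  314097795213)))) (.node 2 (.node 1 (.leaf
  318924914830) (.leaf
  323756753039)) (.node 1 (.leaf
  328583872656) (.node 1 (.leaf
  333415710865) (.leaf
  333420429458))))) (.node 5 (.node 2 (.node 1 (.leaf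
  338242830483) (.leaf
  343088824468)) (.node 1 (.leaf
  352728907925) (.node 1 (.leaf
  352733626518) (.leaf
  352747782295)))) (.node 2 (.node 1 (.leaf
  352752500888) (.leaf
  367248015513)) (.node 1 (.leaf
  372075135130) (.node 1 (.leaf
  381724655771) (.leaf
  381743530140))))))))) (.node 79 (.node 39 (.node 19 (.node 9 (.node 4 (.node 2 (.node 1 (.leaf
  386547056797) (.leaf
  386575368350)) (.node 1 (.leaf
  103809183) (.leaf
  396229607584))) (.node 2 (.node 1 (.leaf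
  401061445793) (.leaf
  405888565410)) (.node 1 (.leaf
  410720403619) (.node 1 (.leaf
  410725122212) (.leaf
  410729840805))))) (.node 5 (.node 2 (.node 1 (.leaf
  415542804646) (.leaf
  415561679015)) (.node 1 (.leaf
  415566397608) (.node 1 (.leaf
  420398235817) (.leaf
  425230074026)))) (.node 2 (.node 1 (.leaf
  430057193643) (.leaf
  434879594668)) (.node 1 (.leaf
  434893750445) (.node 1 (.leaf
  439725588654) (.leaf
  444552708271)))))) (.node 10 (.node 5 (.node 2 (.node 1 (.leaf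
  449365672112) (.leaf
  449389265073)) (.node 1 (.leaf
  454216384690) (.node 1 (.leaf
  459048222899) (.leaf
  463875342516)))) (.node 2 (.node 1 (.leaf
  468702462133) (.leaf
  473548456118)) (.node 1 (.leaf
  478370857143) (.node 1 (.leaf
  478375575736) (.leaf
  483197976761))))) (.node 5 (.node 2 (.node 1 (.leaf
  483207413946) (.leaf
  488034533563)) (.node 1 (.leaf
  488043970748) (.node 1 (.leaf
  492856934589) (.leaf
  492875808958)))) (.node 2 (.node 1 (.leaf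
  497702928575) (.leaf
  502534766784)) (.node 1 (.leaf
  507361886401) (.node 1 (.leaf
  512189006018) (.leaf
  517035000003))))))) (.node 20 (.node 10 (.node 5 (.node 2 (.node 1 (.leaf
  521852682436) (.leaf
  526698676421)) (.node 1 (.leaf
  531506921670) (.node 1 (.leaf
  531511640263) (.leaf
  531525796040)))) (.node 2 (.node 1 (.leaf
  531530514633) (.leaf
  546026029258)) (.node 1 (.leaf
  550853148875) (.node 1 (.leaf
  560502669516) (.leaf
  560516825293))))) (.node 5 (.node 2 (.node 1 (.leaf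
  560521543886) (.leaf
  565325070543)) (.node 1 (.leaf
  565348663504) (.node 1 (.leaf
  565353382097) (.leaf
  570185220306)))) (.node 2 (.node 1 (.leaf
  575012339923) (.leaf
  579844178132)) (.node 1 (.leaf
  584671297749) (.node 1 (.leaf
  589507854550) (.leaf
  594334974167)))))) (.node 10 (.node 5 (.node 2 (.node 1 (.leaf
  603984494808) (.leaf
  603989213401)) (.node 1 (.leaf
  604008087770) (.node 1 (.leaf
  608835207387) (.leaf
  613667045596)))) (.node 2 (.node 1 (.leaf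
  618494165213) (.leaf
  623316566238)) (.node 1 (.leaf
  623335440607) (.node 1 (.leaf
  628167278816) (.leaf
  632994398433))))) (.node 5 (.node 2 (.node 1 (.leaf
  637821518050) (.leaf
  642653356259)) (.node 1 (.leaf
  647480475876) (.node 1 (.leaf
  657134715109) (.leaf
  657139433702)))) (.node 2 (.node 1 (.leaf
  657158308071) (.leaf
  666817265896)) (.node 1 (.leaf
  676466786537) (.node 1 (.leaf
  676485660906) (.leaf
  681289187563)))))))) (.node 39 (.node 19 (.node 9 (.node 4 (.node 2 (.node 1 (.leaf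
  681317499116) (.leaf
  686144618733)) (.node 1 (.leaf
  690971738350) (.leaf
  695803576559))) (.node 2 (.node 1 (.leaf
  705462534384) (.leaf
  710308528369)) (.node 1 (.leaf
  715116773618) (.node 1 (.leaf
  715121492211) (.leaf
  724785168628))))) (.node 5 (.node 2 (.node 1 (.leaf
  724799324405) (.leaf
  724804042998)) (.node 1 (.leaf
  729607569655) (.node 1 (.leaf
  729631162616) (.leaf
  729635881209)))) (.node 2 (.node 1 (.leaf
  753766760698) (.leaf
  753780916475)) (.node 1 (.leaf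
  753795072252) (.node 1 (.leaf
  758622191869) (.leaf
  763458748670)))))) (.node 10 (.node 5 (.node 2 (.node 1 (.leaf
  768285868287) (.leaf
  108527872)) (.node 1 (.leaf
  777940107521) (.node 1 (.leaf
  782771945730) (.leaf
  787594346755)))) (.node 2 (.node 1 (.leaf
  792445059332) (.leaf
  802113454341)) (.node 1 (.leaf
  806940573958) (.node 1 (.leaf
  811767693575) (.leaf
  811777130760))))) (.node 5 (.node 2 (.node 1 (.leaf
  816604250377) (.leaf
  821436088586)) (.node 1 (.leaf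
  826267926795) (.node 1 (.leaf
  831095046412) (.leaf
  835912728845)))) (.node 2 (.node 1 (.leaf
  835936321806) (.leaf
  840763441423)) (.node 1 (.leaf
  845595279632) (.node 1 (.leaf
  855263674641) (.leaf
  860090794258))))))) (.node 20 (.node 10 (.node 5 (.node 2 (.node 1 (.leaf
  864917913875) (.leaf
  869749752084)) (.node 1 (.leaf
  874576871701) (.node 1 (.leaf
  879403991318) (.leaf
  889081823511)))) (.node 2 (.node 1 (.leaf
  893908943128) (.leaf
  893918380313)) (.node 1 (.leaf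
  898731344154) (.node 1 (.leaf
  898745499931) (.leaf
  903572619548))))) (.node 5 (.node 2 (.node 1 (.leaf
  908413894941) (.leaf
  918049259806)) (.node 1 (.leaf
  918077571359) (.node 1 (.leaf
  922904690976) (.leaf
  927731810593)))) (.node 2 (.node 1 (.leaf
  932563648802) (.leaf
  942213169443)) (.node 1 (.leaf
  942217888036) (.node 1 (.leaf
  951876845861) (.leaf
  951881564454)))))) (.node 10 (.node 5 (.node 2 (.node 1 (.leaf
  961545240871) (.leaf
  961559396648)) (.node 1 (.leaf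
  961564115241) (.node 1 (.leaf
  966367641898) (.leaf
  966391234859)))) (.node 2 (.node 1 (.leaf
  966395953452) (.leaf
  990526832941)) (.node 1 (.leaf
  990550425902) (.node 1 (.leaf
  990555144495) (.leaf
  995386982704))))) (.node 5 (.node 2 (.node 1 (.leaf
  1000214102321) (.leaf
  1005045940530)) (.node 1 (.leaf
  1005050659123) (.node 1 (.leaf
  1009882497332) (.leaf
  1014709616949)))) (.node 2 (.node 1 (.leaf
  1048518328630) (.leaf
  1048537202999)) (.node 1 (.leaf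
  1053369041208) (.node 1 (.leaf
  1058196160825) (.leaf
  1063023280442)))))))))) (.node 157 (.node 78 (.node 39 (.node 19 (.node 9 (.node 4 (.node 2 (.node 1 (.leaf
  1067855118651) (.leaf
  1072682238268)) (.node 1 (.leaf
  1077514076477) (.leaf
  1077528232254))) (.node 2 (.node 1 (.leaf
  1082355351871) (.leaf
  1087187190080)) (.node 1 (.leaf
  1092014309697) (.node 1 (.leaf
  1096841429314) (.leaf
  0x10080d80143))))) (.node 5 (.node 2 (.node 1 (.leaf
  0x101a0480144) (.leaf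
  0x101a0900145)) (.node 1 (.leaf
  0x102c0900146) (.node 1 (.leaf
  0x102c1b00147) (.leaf
  0x103e0000148)))) (.node 2 (.node 1 (.leaf
  0x103e1b00149) (.leaf
  0x1074000014a)) (.node 1 (.leaf
  0x10740d8014b) (.node 1 (.leaf
  0x10741b0014c) (.leaf
  0x1086168014d)))))) (.node 10 (.node 5 (.node 2 (.node 1 (.leaf
  0x10981b0014e) (.leaf
  0x10aa168014f)) (.node 1 (.leaf
  0x10f20480150) (.node 1 (.leaf
  0x10f20900151) (.leaf
  0x11160900152)))) (.node 2 (.node 1 (.leaf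
  0x11280000153) (.leaf
  0x113a0000154)) (.node 1 (.leaf
  0x113a0d80155) (.node 1 (.leaf
  0x113a1680156) (.leaf
  0x113a1b00157))))) (.node 5 (.node 2 (.node 1 (.leaf
  0x11701680158) (.leaf
  0x11701b00159)) (.node 1 (.leaf
  0x11a60d8015a) (.node 1 (.leaf
  0x11a61b0015b) (.leaf
  0x11b8120015c)))) (.node 2 (.node 1 (.leaf
  0x11b81b0015d) (.leaf
  0x11ca168015e)) (.node 1 (.leaf
  0x11dc120015f) (.node 1 (.leaf
  0x11ee1680160) (.leaf
  0x12001200161))))))) (.node 19 (.node 9 (.node 4 (.node 2 (.node 1 (.leaf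
  0x12240480162) (.leaf
  0x12360480163)) (.node 1 (.leaf
  0x125a1200164) (.leaf
  0x125a1b00165))) (.node 2 (.node 1 (.leaf
  0x127e1200166) (.leaf
  0x127e1b00167)) (.node 1 (.leaf
  0x12901b00168) (.node 1 (.leaf
  0x12a21680169) (.leaf
  0x12b4120016a))))) (.node 5 (.node 2 (.node 1 (.leaf
  0x12c6120016b) (.leaf
  0x12d8120016c)) (.node 1 (.leaf
  0x12ea0d8016d) (.node 1 (.leaf
  0x12fc1b0016e) (.leaf
  0x130e168016f)))) (.node 2 (.node 1 (.leaf
  0x13441680170) (.leaf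
  0x13561200171)) (.node 1 (.leaf
  0x13680d80172) (.node 1 (.leaf
  0x137a0d80173) (.leaf
  0x138c0900174)))))) (.node 10 (.node 5 (.node 2 (.node 1 (.leaf
  0x139e0000175) (.leaf
  0x13b01200176)) (.node 1 (.leaf
  0x13c20d80177) (.node 1 (.leaf
  0x13c21b00178) (.leaf
  0x13e60000179)))) (.node 2 (.node 1 (.leaf
  0x13e6168017a) (.leaf
  0x142e1b0017b)) (.node 1 (.leaf
  0x1440168017c) (.node 1 (.leaf
  0x1488090017d) (.leaf
  0x149a000017e))))) (.node 5 (.node 2 (.node 1 (.leaf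
  0x14ac090017f) (.leaf
  0x14be0000180)) (.node 1 (.leaf
  0x14d00000181) (.node 1 (.leaf
  0x14d00d80182) (.leaf
  0x14d01680183)))) (.node 2 (.node 1 (.leaf
  0x14d01b00184) (.leaf
  0x15061680185)) (.node 1 (.leaf
  0x15061b00186) (.node 1 (.leaf
  0x153c1680187) (.leaf
  0x153c1b00188)))))))) (.node 39 (.node 19 (.node 9 (.node 4 (.node 2 (.node 1 (.leaf
  0x154e1b00189) (.leaf
  0x1560168018a)) (.node 1 (.leaf
  0x15961b0018b) (.leaf
  0x15a8168018c))) (.node 2 (.node 1 (.leaf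
  0x15de0d8018d) (.leaf
  0x15de1b0018e)) (.node 1 (.leaf
  0x15f0168018f) (.node 1 (.leaf
  0x16021680190) (.leaf
  0x16141200191))))) (.node 5 (.node 2 (.node 1 (.leaf
  0x16260d80192) (.leaf
  0x16380d80193)) (.node 1 (.leaf
  0x164a0900194) (.node 1 (.leaf
  0x165c1200195) (.leaf
  0x165c1b00196)))) (.node 2 (.node 1 (.leaf
  0x166e1680197) (.leaf
  0x16801200198)) (.node 1 (.leaf
  0x16921200199) (.node 1 (.leaf
  0x16a40d8019a) (.leaf
  0x16b6048019b)))))) (.node 10 (.node 5 (.node 2 (.node 1 (.leaf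
  0x16b6090019c) (.leaf
  0x16c8048019d)) (.node 1 (.leaf
  0x16c8090019e) (.node 1 (.leaf
  0x16da090019f) (.leaf
  0x16ec00001a0)))) (.node 2 (.node 1 (.leaf
  0x16fe00001a1) (.leaf
  0x16fe0d801a2)) (.node 1 (.leaf
  0x16fe1b001a3) (.node 1 (.leaf
  0x17221b001a4) (.leaf
  0x17460d801a5))))) (.node 5 (.node 2 (.node 1 (.leaf
  0x17461b001a6) (.leaf
  0x175812001a7)) (.node 1 (.leaf
  0x17581b001a8) (.node 1 (.leaf
  0x176a16801a9) (.leaf
  0x178e16801aa)))) (.node 2 (.node 1 (.leaf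
  0x17b209001ab) (.leaf
  0x17c400001ac)) (.node 1 (.leaf
  0x17d600001ad) (.node 1 (.leaf
  0x17d60d801ae) (.leaf
  0x17fa0d801af))))))) (.node 20 (.node 10 (.node 5 (.node 2 (.node 1 (.leaf
  0x17fa16801b0) (.leaf
  0x17fa1b001b1)) (.node 1 (.leaf
  0x180c12001b2) (.node 1 (.leaf
  0x180c16801b3) (.leaf
  0x180c1b001b4)))) (.node 2 (.node 1 (.leaf
  0x186612001b5) (.leaf
  0x18661b001b6)) (.node 1 (.leaf
  0x187816801b7) (.node 1 (.leaf
  0x188a16801b8) (.leaf
  0x188a1b001b9))))) (.node 5 (.node 2 (.node 1 (.leaf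
  0x189c16801ba) (.leaf
  0x18ae12001bb)) (.node 1 (.leaf
  0x18c00d801bc) (.node 1 (.leaf
  0x18d212001bd) (.leaf
  0x191a1b001be)))) (.node 2 (.node 1 (.leaf
  0x193e0d801bf) (.leaf
  0x193e1b001c0)) (.node 1 (.leaf
  0x196216801c1) (.node 1 (.leaf
  0x197412001c2) (.leaf
  0x19860d801c3)))))) (.node 10 (.node 5 (.node 2 (.node 1 (.leaf
  0x19980d801c4) (.leaf
  0x19aa0d801c5)) (.node 1 (.leaf
  0x19bc09001c6) (.node 1 (.leaf
  0x19e012001c7) (.leaf
  0x19f212001c8)))) (.node 2 (.node 1 (.leaf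
  0x1a040d801c9) (.leaf
  0x1a1609001ca)) (.node 1 (.leaf
  0x1a2809001cb) (.node 1 (.leaf
  0x1a3a00001cc) (.leaf
  0x1a5e0d801cd))))) (.node 5 (.node 2 (.node 1 (.leaf
  0x1a7009001ce) (.leaf
  0x1a701b001cf)) (.node 1 (.leaf
  0x1a9416801d0) (.node 1 (.leaf
  0x1ab816801d1) (.leaf
  0x1adc00001d2)))) (.node 2 (.node 1 (.leaf
  0x1adc0d801d3) (.leaf
  0x1b0000001d4)) (.node 1 (.leaf
  0x1b000d801d5) (.node 1 (.leaf
  0x1b240d801d6) (.leaf
  0x1b2416801d7))))))))) (.node 79 (.node 39 (.node 19 (.node 9 (.node 4 (.node 2 (.node 1 (.leaf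
  0x1b241b001d8) (.leaf
  0x1b3616801d9)) (.node 1 (.leaf
  0x1b361b001da) (.leaf
  0x1b901b001db))) (.node 2 (.node 1 (.leaf
  0x1ba216801dc) (.leaf
  0x1bfc12001dd)) (.node 1 (.leaf
  0x1bfc1b001de) (.node 1 (.leaf
  0x1c0e16801df) (.leaf
  0x1c2012001e0))))) (.node 5 (.node 2 (.node 1 (.leaf
  0x1c3212001e1) (.leaf
  0x1c440d801e2)) (.node 1 (.leaf
  0x1c5609001e3) (.node 1 (.leaf
  0x1c6809001e4) (.leaf
  0x1c7a00001e5)))) (.node 2 (.node 1 (.leaf
  0x1c8c16801e6) (.leaf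
  0x1c8c1b001e7)) (.node 1 (.leaf
  0x1c9e16801e8) (.node 1 (.leaf
  0x1cb012001e9) (.leaf
  0x1cc20d801ea)))))) (.node 10 (.node 5 (.node 2 (.node 1 (.leaf
  0x1cd40d801eb) (.leaf
  0x1ce604801ec)) (.node 1 (.leaf
  0x1ce609001ed) (.node 1 (.leaf
  0x1cf809001ee) (.leaf
  0x1d0a00001ef)))) (.node 2 (.node 1 (.leaf
  0x1d1c09001f0) (.leaf
  0x1d2e00001f1)) (.node 1 (.leaf
  0x1d4000001f2) (.node 1 (.leaf
  0x1d640d801f3) (.leaf
  0x1d641b001f4))))) (.node 5 (.node 2 (.node 1 (.leaf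
  0x1d7612001f5) (.leaf
  0x1d761b001f6)) (.node 1 (.leaf
  0x1dac12001f7) (.node 1 (.leaf
  0x1dac1b001f8) (.leaf
  0x1dbe16801f9)))) (.node 2 (.node 1 (.leaf
  0x1dd016801fa) (.leaf
  0x1dd01b001fb)) (.node 1 (.leaf
  0x1de216801fc) (.node 1 (.leaf
  0x1e1800001fd) (.leaf
  0x1e180d801fe))))))) (.node 20 (.node 10 (.node 5 (.node 2 (.node 1 (.leaf
  0x1e3c0d801ff) (.leaf
  0x1e4e1200200)) (.node 1 (.leaf
  0x1e600900201) (.node 1 (.leaf
  0x1e601200202) (.leaf
  0x1e601680203)))) (.node 2 (.node 1 (.leaf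
  0x1e601b00204) (.leaf
  0x1e961680205)) (.node 1 (.leaf
  0x1e961b00206) (.node 1 (.leaf
  0x1ea81200207) (.leaf
  0x1ecc1680208))))) (.node 5 (.node 2 (.node 1 (.leaf
  0x1ecc1b00209) (.leaf
  0x1ede168020a)) (.node 1 (.leaf
  0x1ef0120020b) (.node 1 (.leaf
  0x1f6e168020c) (.leaf
  0x1f80090020d)))) (.node 2 (.node 1 (.leaf
  0x1f801b0020e) (.leaf
  0x1f92168020f)) (.node 1 (.leaf
  0x1fa41200210) (.node 1 (.leaf
  0x1fb60d80211) (.leaf
  0x1fc80900212)))))) (.node 10 (.node 5 (.node 2 (.node 1 (.leaf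
  0x1fda0900213) (.leaf
  0x1fec0900214)) (.node 1 (.leaf
  0x1ffe0000215) (.node 1 (.leaf
  0x20340900216) (.leaf
  0x20460000217)))) (.node 2 (.node 1 (.leaf
  0x20580000218) (.leaf
  0x207c0900219)) (.node 1 (.leaf
  0x208e000021a) (.node 1 (.leaf
  0x208e1b0021b) (.leaf
  0x20d60d8021c))))) (.node 5 (.node 2 (.node 1 (.leaf
  0x20fa0d8021d) (.leaf
  0x211e090021e)) (.node 1 (.leaf
  0x211e168021f) (.node 1 (.leaf
  0x211e1b00220) (.leaf
  0x21541200221)))) (.node 2 (.node 1 (.leaf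
  0x219c1680222) (.leaf
  0x219c1b00223)) (.node 1 (.leaf
  0x21ae1680224) (.node 1 (.leaf
  0x21c01200225) (.leaf
  0x21e40d80226)))))))) (.node 39 (.node 19 (.node 9 (.node 4 (.node 2 (.node 1 (.leaf
  0x21f60900227) (.leaf
  0x22080000228)) (.node 1 (.leaf
  0x221a0000229) (.leaf
  0x2298090022a))) (.node 2 (.node 1 (.leaf
  0x22aa090022b) (.leaf
  0x22bc000022c)) (.node 1 (.leaf
  0x22ce000022d) (.node 1 (.leaf
  0x22f2000022e) (.leaf
  0x2328090022f))))) (.node 5 (.node 2 (.node 1 (.leaf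
  0x23281200230) (.leaf
  0x23281b00231)) (.node 1 (.leaf
  0x234c1680232) (.node 1 (.leaf
  0x234c1b00233) (.leaf
  0x23701680234)))) (.node 2 (.node 1 (.leaf
  0x23701b00235) (.leaf
  0x23821680236)) (.node 1 (.leaf
  0x23dc0d80237) (.node 1 (.leaf
  0x23ee1200238) (.leaf
  0x24000900239)))))) (.node 10 (.node 5 (.node 2 (.node 1 (.leaf
  0x2400120023a) (.leaf
  0x2412168023b)) (.node 1 (.leaf
  0x2424120023c) (.node 1 (.leaf
  0x2424168023d) (.leaf
  0x24241b0023e)))) (.node 2 (.node 1 (.leaf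
  0x2436168023f) (.leaf
  0x24361b00240)) (.node 1 (.leaf
  0x24481200241) (.node 1 (.leaf
  0x246c1200242) (.leaf
  0x24fc0000243))))) (.node 5 (.node 2 (.node 1 (.leaf
  0x24fc1b00244) (.leaf
  0x250e1680245)) (.node 1 (.leaf
  0x25320d80246) (.node 1 (.leaf
  0x25440900247) (.leaf
  0x25560000248)))) (.node 2 (.node 1 (.leaf
  0x25680000249) (.leaf
  0x257a000024a)) (.node 1 (.leaf
  0x259e000024b) (.node 1 (.leaf
  0x25d4000024c) (.leaf
  0x25e61b0024d))))))) (.node 20 (.node 10 (.node 5 (.node 2 (.node 1 (.leaf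
  0x260a090024e) (.leaf
  0x261c090024f)) (.node 1 (.leaf
  0x262e1680250) (.node 1 (.leaf
  0x262e1b00251) (.leaf
  0x26401200252)))) (.node 2 (.node 1 (.leaf
  0x26be0900253) (.leaf
  0x26d00000254)) (.node 1 (.leaf
  0x27060000255) (.node 1 (.leaf
  0x27180000256) (.leaf
  0x27601200257))))) (.node 5 (.node 2 (.node 1 (.leaf
  0x27601b00258) (.leaf
  0x27721680259)) (.node 1 (.leaf
  0x27721b0025a) (.node 1 (.leaf
  0x27f0090025b) (.leaf
  0x27f0120025c)))) (.node 2 (.node 1 (.leaf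
  0x2814120025d) (.leaf
  0x2826168025e)) (.node 1 (.leaf
  0x284a168025f) (.node 1 (.leaf
  0x284a1b00260) (.leaf
  0x285c1200261)))))) (.node 10 (.node 5 (.node 2 (.node 1 (.leaf
  0x28801200262) (.leaf
  0x28c81b00263)) (.node 1 (.leaf
  0x28da1680264) (.node 1 (.leaf
  0x28fe0900265) (.leaf
  0x29100000266)))) (.node 2 (.node 1 (.leaf
  0x29b21200267) (.leaf
  0x29e80000268)) (.node 1 (.leaf
  0x2a301680269) (.node 1 (.leaf
  0x2a301b0026a) (.leaf
  0x2a78120026b))))) (.node 5 (.node 2 (.node 1 (.leaf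
  0x2a9c0d8026c) (.leaf
  0x2a9c168026d)) (.node 1 (.leaf
  0x2ac0120026e) (.node 1 (.leaf
  0x2ae40d8026f) (.leaf
  0x2b081680270)))) (.node 2 (.node 1 (.leaf
  0x2b2c0000271) (.leaf
  0x2b500d80272)) (.node 1 (.leaf
  0x2b980d80273) (.node 1 (.leaf
  0x2baa1680274) (.leaf
  0x2bce0d80275)))))))))))

/-- Where each coset is covered. -/
def covAt0 : Tree :=
  (.node 315 (.node 157 (.node 78 (.node 39 (.node 19 (.node 9 (.node 4 (.node 2 (.node 1 (.leaf
  0) (.leaf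
  1)) (.node 1 (.leaf
  2) (.leaf
  3))) (.node 2 (.node 1 (.leaf
  4) (.leaf
  5)) (.node 1 (.leaf
  6) (.node 1 (.leaf
  7) (.leaf
  8))))) (.node 5 (.node 2 (.node 1 (.leaf
  9) (.leaf
  10)) (.node 1 (.leaf
  11) (.node 1 (.leaf
  12) (.leaf
  13)))) (.node 2 (.node 1 (.leaf
  14) (.leaf
  15)) (.node 1 (.leaf
  16) (.node 1 (.leaf
  17) (.leaf
  18)))))) (.node 10 (.node 5 (.node 2 (.node 1 (.leaf
  19) (.leaf
  20)) (.node 1 (.leaf
  21) (.node 1 (.leaf
  22) (.leaf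
  23)))) (.node 2 (.node 1 (.leaf
  24) (.leaf
  25)) (.node 1 (.leaf
  26) (.node 1 (.leaf
  27) (.leaf
  28))))) (.node 5 (.node 2 (.node 1 (.leaf
  29) (.leaf
  30)) (.node 1 (.leaf
  31) (.node 1 (.leaf
  32) (.leaf
  33)))) (.node 2 (.node 1 (.leaf
  34) (.leaf
  35)) (.node 1 (.leaf
  36) (.node 1 (.leaf
  37) (.leaf
  38))))))) (.node 19 (.node 9 (.node 4 (.node 2 (.node 1 (.leaf
  39) (.leaf
  40)) (.node 1 (.leaf
  41) (.leaf
  42))) (.node 2 (.node 1 (.leaf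
  43) (.leaf
  44)) (.node 1 (.leaf
  45) (.node 1 (.leaf
  46) (.leaf
  47))))) (.node 5 (.node 2 (.node 1 (.leaf
  48) (.leaf
  49)) (.node 1 (.leaf
  50) (.node 1 (.leaf
  51) (.leaf
  52)))) (.node 2 (.node 1 (.leaf
  53) (.leaf
  54)) (.node 1 (.leaf
  55) (.node 1 (.leaf
  56) (.leaf
  57)))))) (.node 10 (.node 5 (.node 2 (.node 1 (.leaf
  58) (.leaf
  59)) (.node 1 (.leaf
  60) (.node 1 (.leaf
  61) (.leaf
  62)))) (.node 2 (.node 1 (.leaf
  63) (.leaf
  64)) (.node 1 (.leaf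
  65) (.node 1 (.leaf
  66) (.leaf
  67))))) (.node 5 (.node 2 (.node 1 (.leaf
  68) (.leaf
  69)) (.node 1 (.leaf
  70) (.node 1 (.leaf
  71) (.leaf
  72)))) (.node 2 (.node 1 (.leaf
  73) (.leaf
  74)) (.node 1 (.leaf
  75) (.node 1 (.leaf
  76) (.leaf
  77)))))))) (.node 39 (.node 19 (.node 9 (.node 4 (.node 2 (.node 1 (.leaf
  78) (.leaf
  79)) (.node 1 (.leaf
  80) (.leaf
  81))) (.node 2 (.node 1 (.leaf
  82) (.leaf
  83)) (.node 1 (.leaf
  84) (.node 1 (.leaf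
  85) (.leaf
  86))))) (.node 5 (.node 2 (.node 1 (.leaf
  87) (.leaf
  88)) (.node 1 (.leaf
  89) (.node 1 (.leaf
  90) (.leaf
  91)))) (.node 2 (.node 1 (.leaf
  92) (.leaf
  93)) (.node 1 (.leaf
  94) (.node 1 (.leaf
  95) (.leaf
  96)))))) (.node 10 (.node 5 (.node 2 (.node 1 (.leaf
  97) (.leaf
  98)) (.node 1 (.leaf
  99) (.node 1 (.leaf
  100) (.leaf
  101)))) (.node 2 (.node 1 (.leaf
  102) (.leaf
  103)) (.node 1 (.leaf
  104) (.node 1 (.leaf
  105) (.leaf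
  106))))) (.node 5 (.node 2 (.node 1 (.leaf
  107) (.leaf
  108)) (.node 1 (.leaf
  109) (.node 1 (.leaf
  110) (.leaf
  111)))) (.node 2 (.node 1 (.leaf
  112) (.leaf
  113)) (.node 1 (.leaf
  114) (.node 1 (.leaf
  115) (.leaf
  116))))))) (.node 20 (.node 10 (.node 5 (.node 2 (.node 1 (.leaf
  117) (.leaf
  118)) (.node 1 (.leaf
  119) (.node 1 (.leaf
  120) (.leaf
  121)))) (.node 2 (.node 1 (.leaf
  122) (.leaf
  123)) (.node 1 (.leaf
  124) (.node 1 (.leaf
  125) (.leaf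
  126))))) (.node 5 (.node 2 (.node 1 (.leaf
  127) (.leaf
  128)) (.node 1 (.leaf
  129) (.node 1 (.leaf
  130) (.leaf
  131)))) (.node 2 (.node 1 (.leaf
  132) (.leaf
  133)) (.node 1 (.leaf
  134) (.node 1 (.leaf
  135) (.leaf
  136)))))) (.node 10 (.node 5 (.node 2 (.node 1 (.leaf
  137) (.leaf
  138)) (.node 1 (.leaf
  139) (.node 1 (.leaf
  140) (.leaf
  141)))) (.node 2 (.node 1 (.leaf
  142) (.leaf
  143)) (.node 1 (.leaf
  144) (.node 1 (.leaf
  145) (.leaf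
  146))))) (.node 5 (.node 2 (.node 1 (.leaf
  147) (.leaf
  148)) (.node 1 (.leaf
  149) (.node 1 (.leaf
  150) (.leaf
  151)))) (.node 2 (.node 1 (.leaf
  152) (.leaf
  153)) (.node 1 (.leaf
  154) (.node 1 (.leaf
  155) (.leaf
  156))))))))) (.node 79 (.node 39 (.node 19 (.node 9 (.node 4 (.node 2 (.node 1 (.leaf
  157) (.leaf
  158)) (.node 1 (.leaf
  159) (.leaf
  160))) (.node 2 (.node 1 (.leaf
  161) (.leaf
  162)) (.node 1 (.leaf
  163) (.node 1 (.leaf
  164) (.leaf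
  165))))) (.node 5 (.node 2 (.node 1 (.leaf
  166) (.leaf
  167)) (.node 1 (.leaf
  168) (.node 1 (.leaf
  169) (.leaf
  170)))) (.node 2 (.node 1 (.leaf
  171) (.leaf
  172)) (.node 1 (.leaf
  173) (.node 1 (.leaf
  174) (.leaf
  175)))))) (.node 10 (.node 5 (.node 2 (.node 1 (.leaf
  176) (.leaf
  177)) (.node 1 (.leaf
  178) (.node 1 (.leaf
  179) (.leaf
  180)))) (.node 2 (.node 1 (.leaf
  181) (.leaf
  182)) (.node 1 (.leaf
  183) (.node 1 (.leaf
  184) (.leaf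
  185))))) (.node 5 (.node 2 (.node 1 (.leaf
  186) (.leaf
  187)) (.node 1 (.leaf
  188) (.node 1 (.leaf
  189) (.leaf
  190)))) (.node 2 (.node 1 (.leaf
  191) (.leaf
  192)) (.node 1 (.leaf
  193) (.node 1 (.leaf
  194) (.leaf
  195))))))) (.node 20 (.node 10 (.node 5 (.node 2 (.node 1 (.leaf
  196) (.leaf
  197)) (.node 1 (.leaf
  198) (.node 1 (.leaf
  199) (.leaf
  200)))) (.node 2 (.node 1 (.leaf
  201) (.leaf
  202)) (.node 1 (.leaf
  203) (.node 1 (.leaf
  204) (.leaf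
  205))))) (.node 5 (.node 2 (.node 1 (.leaf
  206) (.leaf
  207)) (.node 1 (.leaf
  208) (.node 1 (.leaf
  209) (.leaf
  210)))) (.node 2 (.node 1 (.leaf
  211) (.leaf
  212)) (.node 1 (.leaf
  213) (.node 1 (.leaf
  214) (.leaf
  215)))))) (.node 10 (.node 5 (.node 2 (.node 1 (.leaf
  216) (.leaf
  217)) (.node 1 (.leaf
  218) (.node 1 (.leaf
  219) (.leaf
  220)))) (.node 2 (.node 1 (.leaf
  221) (.leaf
  222)) (.node 1 (.leaf
  223) (.node 1 (.leaf
  224) (.leaf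
  225))))) (.node 5 (.node 2 (.node 1 (.leaf
  226) (.leaf
  227)) (.node 1 (.leaf
  228) (.node 1 (.leaf
  229) (.leaf
  230)))) (.node 2 (.node 1 (.leaf
  231) (.leaf
  232)) (.node 1 (.leaf
  233) (.node 1 (.leaf
  234) (.leaf
  235)))))))) (.node 39 (.node 19 (.node 9 (.node 4 (.node 2 (.node 1 (.leaf
  236) (.leaf
  237)) (.node 1 (.leaf
  238) (.leaf
  239))) (.node 2 (.node 1 (.leaf
  240) (.leaf
  241)) (.node 1 (.leaf
  242) (.node 1 (.leaf
  243) (.leaf
  244))))) (.node 5 (.node 2 (.node 1 (.leaf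
  245) (.leaf
  246)) (.node 1 (.leaf
  247) (.node 1 (.leaf
  248) (.leaf
  249)))) (.node 2 (.node 1 (.leaf
  250) (.leaf
  251)) (.node 1 (.leaf
  252) (.node 1 (.leaf
  253) (.leaf
  254)))))) (.node 10 (.node 5 (.node 2 (.node 1 (.leaf
  255) (.leaf
  256)) (.node 1 (.leaf
  257) (.node 1 (.leaf
  258) (.leaf
  259)))) (.node 2 (.node 1 (.leaf
  260) (.leaf
  261)) (.node 1 (.leaf
  262) (.node 1 (.leaf
  263) (.leaf
  264))))) (.node 5 (.node 2 (.node 1 (.leaf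
  265) (.leaf
  266)) (.node 1 (.leaf
  267) (.node 1 (.leaf
  268) (.leaf
  269)))) (.node 2 (.node 1 (.leaf
  270) (.leaf
  271)) (.node 1 (.leaf
  272) (.node 1 (.leaf
  273) (.leaf
  274))))))) (.node 20 (.node 10 (.node 5 (.node 2 (.node 1 (.leaf
  275) (.leaf
  276)) (.node 1 (.leaf
  277) (.node 1 (.leaf
  278) (.leaf
  279)))) (.node 2 (.node 1 (.leaf
  280) (.leaf
  281)) (.node 1 (.leaf
  282) (.node 1 (.leaf
  283) (.leaf
  284))))) (.node 5 (.node 2 (.node 1 (.leaf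
  285) (.leaf
  286)) (.node 1 (.leaf
  287) (.node 1 (.leaf
  288) (.leaf
  289)))) (.node 2 (.node 1 (.leaf
  290) (.leaf
  291)) (.node 1 (.leaf
  292) (.node 1 (.leaf
  293) (.leaf
  294)))))) (.node 10 (.node 5 (.node 2 (.node 1 (.leaf
  295) (.leaf
  296)) (.node 1 (.leaf
  297) (.node 1 (.leaf
  298) (.leaf
  299)))) (.node 2 (.node 1 (.leaf
  300) (.leaf
  301)) (.node 1 (.leaf
  302) (.node 1 (.leaf
  303) (.leaf
  304))))) (.node 5 (.node 2 (.node 1 (.leaf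
  305) (.leaf
  306)) (.node 1 (.leaf
  307) (.node 1 (.leaf
  308) (.leaf
  309)))) (.node 2 (.node 1 (.leaf
  310) (.leaf
  311)) (.node 1 (.leaf
  312) (.node 1 (.leaf
  313) (.leaf
  314)))))))))) (.node 157 (.node 78 (.node 39 (.node 19 (.node 9 (.node 4 (.node 2 (.node 1 (.leaf
  315) (.leaf
  316)) (.node 1 (.leaf
  317) (.leaf
  318))) (.node 2 (.node 1 (.leaf
  319) (.leaf
  320)) (.node 1 (.leaf
  321) (.node 1 (.leaf
  322) (.leaf
  323))))) (.node 5 (.node 2 (.node 1 (.leaf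
  324) (.leaf
  325)) (.node 1 (.leaf
  326) (.node 1 (.leaf
  327) (.leaf
  328)))) (.node 2 (.node 1 (.leaf
  329) (.leaf
  330)) (.node 1 (.leaf
  331) (.node 1 (.leaf
  332) (.leaf
  333)))))) (.node 10 (.node 5 (.node 2 (.node 1 (.leaf
  334) (.leaf
  335)) (.node 1 (.leaf
  336) (.node 1 (.leaf
  337) (.leaf
  338)))) (.node 2 (.node 1 (.leaf
  339) (.leaf
  340)) (.node 1 (.leaf
  341) (.node 1 (.leaf
  342) (.leaf
  343))))) (.node 5 (.node 2 (.node 1 (.leaf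
  344) (.leaf
  345)) (.node 1 (.leaf
  346) (.node 1 (.leaf
  347) (.leaf
  348)))) (.node 2 (.node 1 (.leaf
  349) (.leaf
  350)) (.node 1 (.leaf
  351) (.node 1 (.leaf
  352) (.leaf
  353))))))) (.node 19 (.node 9 (.node 4 (.node 2 (.node 1 (.leaf
  354) (.leaf
  355)) (.node 1 (.leaf
  356) (.leaf
  357))) (.node 2 (.node 1 (.leaf
  358) (.leaf
  359)) (.node 1 (.leaf
  360) (.node 1 (.leaf
  361) (.leaf
  362))))) (.node 5 (.node 2 (.node 1 (.leaf
  363) (.leaf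
  364)) (.node 1 (.leaf
  365) (.node 1 (.leaf
  366) (.leaf
  367)))) (.node 2 (.node 1 (.leaf
  368) (.leaf
  369)) (.node 1 (.leaf
  370) (.node 1 (.leaf
  371) (.leaf
  372)))))) (.node 10 (.node 5 (.node 2 (.node 1 (.leaf
  373) (.leaf
  374)) (.node 1 (.leaf
  375) (.node 1 (.leaf
  376) (.leaf
  377)))) (.node 2 (.node 1 (.leaf
  378) (.leaf
  379)) (.node 1 (.leaf
  380) (.node 1 (.leaf
  381) (.leaf
  382))))) (.node 5 (.node 2 (.node 1 (.leaf
  383) (.leaf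
  384)) (.node 1 (.leaf
  385) (.node 1 (.leaf
  386) (.leaf
  387)))) (.node 2 (.node 1 (.leaf
  388) (.leaf
  389)) (.node 1 (.leaf
  390) (.node 1 (.leaf
  391) (.leaf
  392)))))))) (.node 39 (.node 19 (.node 9 (.node 4 (.node 2 (.node 1 (.leaf
  393) (.leaf
  394)) (.node 1 (.leaf
  395) (.leaf
  396))) (.node 2 (.node 1 (.leaf
  397) (.leaf
  398)) (.node 1 (.leaf
  399) (.node 1 (.leaf
  400) (.leaf
  401))))) (.node 5 (.node 2 (.node 1 (.leaf
  402) (.leaf
  403)) (.node 1 (.leaf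
  404) (.node 1 (.leaf
  405) (.leaf
  406)))) (.node 2 (.node 1 (.leaf
  407) (.leaf
  408)) (.node 1 (.leaf
  409) (.node 1 (.leaf
  410) (.leaf
  411)))))) (.node 10 (.node 5 (.node 2 (.node 1 (.leaf
  412) (.leaf
  413)) (.node 1 (.leaf
  414) (.node 1 (.leaf
  415) (.leaf
  416)))) (.node 2 (.node 1 (.leaf
  417) (.leaf
  418)) (.node 1 (.leaf
  419) (.node 1 (.leaf
  420) (.leaf
  421))))) (.node 5 (.node 2 (.node 1 (.leaf
  422) (.leaf
  423)) (.node 1 (.leaf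
  424) (.node 1 (.leaf
  425) (.leaf
  426)))) (.node 2 (.node 1 (.leaf
  427) (.leaf
  428)) (.node 1 (.leaf
  429) (.node 1 (.leaf
  430) (.leaf
  431))))))) (.node 20 (.node 10 (.node 5 (.node 2 (.node 1 (.leaf
  432) (.leaf
  433)) (.node 1 (.leaf
  434) (.node 1 (.leaf
  435) (.leaf
  436)))) (.node 2 (.node 1 (.leaf
  437) (.leaf
  438)) (.node 1 (.leaf
  439) (.node 1 (.leaf
  440) (.leaf
  441))))) (.node 5 (.node 2 (.node 1 (.leaf
  442) (.leaf
  443)) (.node 1 (.leaf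
  444) (.node 1 (.leaf
  445) (.leaf
  446)))) (.node 2 (.node 1 (.leaf
  447) (.leaf
  448)) (.node 1 (.leaf
  449) (.node 1 (.leaf
  450) (.leaf
  451)))))) (.node 10 (.node 5 (.node 2 (.node 1 (.leaf
  452) (.leaf
  453)) (.node 1 (.leaf
  454) (.node 1 (.leaf
  455) (.leaf
  456)))) (.node 2 (.node 1 (.leaf
  457) (.leaf
  458)) (.node 1 (.leaf
  459) (.node 1 (.leaf
  460) (.leaf
  461))))) (.node 5 (.node 2 (.node 1 (.leaf
  462) (.leaf
  463)) (.node 1 (.leaf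
  464) (.node 1 (.leaf
  465) (.leaf
  466)))) (.node 2 (.node 1 (.leaf
  467) (.leaf
  468)) (.node 1 (.leaf
  469) (.node 1 (.leaf
  470) (.leaf
  471))))))))) (.node 79 (.node 39 (.node 19 (.node 9 (.node 4 (.node 2 (.node 1 (.leaf
  472) (.leaf
  473)) (.node 1 (.leaf
  474) (.leaf
  475))) (.node 2 (.node 1 (.leaf
  476) (.leaf
  477)) (.node 1 (.leaf
  478) (.node 1 (.leaf
  479) (.leaf
  480))))) (.node 5 (.node 2 (.node 1 (.leaf
  481) (.leaf
  482)) (.node 1 (.leaf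
  483) (.node 1 (.leaf
  484) (.leaf
  485)))) (.node 2 (.node 1 (.leaf
  486) (.leaf
  487)) (.node 1 (.leaf
  488) (.node 1 (.leaf
  489) (.leaf
  490)))))) (.node 10 (.node 5 (.node 2 (.node 1 (.leaf
  491) (.leaf
  492)) (.node 1 (.leaf
  493) (.node 1 (.leaf
  494) (.leaf
  495)))) (.node 2 (.node 1 (.leaf
  496) (.leaf
  497)) (.node 1 (.leaf
  498) (.node 1 (.leaf
  499) (.leaf
  500))))) (.node 5 (.node 2 (.node 1 (.leaf
  501) (.leaf
  502)) (.node 1 (.leaf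
  503) (.node 1 (.leaf
  504) (.leaf
  505)))) (.node 2 (.node 1 (.leaf
  506) (.leaf
  507)) (.node 1 (.leaf
  508) (.node 1 (.leaf
  509) (.leaf
  510))))))) (.node 20 (.node 10 (.node 5 (.node 2 (.node 1 (.leaf
  511) (.leaf
  512)) (.node 1 (.leaf
  513) (.node 1 (.leaf
  514) (.leaf
  515)))) (.node 2 (.node 1 (.leaf
  516) (.leaf
  517)) (.node 1 (.leaf
  518) (.node 1 (.leaf
  519) (.leaf
  520))))) (.node 5 (.node 2 (.node 1 (.leaf
  521) (.leaf
  522)) (.node 1 (.leaf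
  523) (.node 1 (.leaf
  524) (.leaf
  525)))) (.node 2 (.node 1 (.leaf
  526) (.leaf
  527)) (.node 1 (.leaf
  528) (.node 1 (.leaf
  529) (.leaf
  530)))))) (.node 10 (.node 5 (.node 2 (.node 1 (.leaf
  531) (.leaf
  532)) (.node 1 (.leaf
  533) (.node 1 (.leaf
  534) (.leaf
  535)))) (.node 2 (.node 1 (.leaf
  536) (.leaf
  537)) (.node 1 (.leaf
  538) (.node 1 (.leaf
  539) (.leaf
  540))))) (.node 5 (.node 2 (.node 1 (.leaf
  541) (.leaf
  542)) (.node 1 (.leaf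
  543) (.node 1 (.leaf
  544) (.leaf
  545)))) (.node 2 (.node 1 (.leaf
  546) (.leaf
  547)) (.node 1 (.leaf
  548) (.node 1 (.leaf
  549) (.leaf
  550)))))))) (.node 39 (.node 19 (.node 9 (.node 4 (.node 2 (.node 1 (.leaf
  551) (.leaf
  552)) (.node 1 (.leaf
  553) (.leaf
  554))) (.node 2 (.node 1 (.leaf
  555) (.leaf
  556)) (.node 1 (.leaf
  557) (.node 1 (.leaf
  558) (.leaf
  559))))) (.node 5 (.node 2 (.node 1 (.leaf
  560) (.leaf
  561)) (.node 1 (.leaf
  562) (.node 1 (.leaf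
  563) (.leaf
  564)))) (.node 2 (.node 1 (.leaf
  565) (.leaf
  566)) (.node 1 (.leaf
  567) (.node 1 (.leaf
  568) (.leaf
  569)))))) (.node 10 (.node 5 (.node 2 (.node 1 (.leaf
  570) (.leaf
  571)) (.node 1 (.leaf
  572) (.node 1 (.leaf
  573) (.leaf
  574)))) (.node 2 (.node 1 (.leaf
  575) (.leaf
  576)) (.node 1 (.leaf
  577) (.node 1 (.leaf
  578) (.leaf
  579))))) (.node 5 (.node 2 (.node 1 (.leaf
  580) (.leaf
  581)) (.node 1 (.leaf
  582) (.node 1 (.leaf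
  583) (.leaf
  584)))) (.node 2 (.node 1 (.leaf
  585) (.leaf
  586)) (.node 1 (.leaf
  587) (.node 1 (.leaf
  588) (.leaf
  589))))))) (.node 20 (.node 10 (.node 5 (.node 2 (.node 1 (.leaf
  590) (.leaf
  591)) (.node 1 (.leaf
  592) (.node 1 (.leaf
  593) (.leaf
  594)))) (.node 2 (.node 1 (.leaf
  595) (.leaf
  596)) (.node 1 (.leaf
  597) (.node 1 (.leaf
  598) (.leaf
  599))))) (.node 5 (.node 2 (.node 1 (.leaf
  600) (.leaf
  601)) (.node 1 (.leaf
  602) (.node 1 (.leaf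
  603) (.leaf
  604)))) (.node 2 (.node 1 (.leaf
  605) (.leaf
  606)) (.node 1 (.leaf
  607) (.node 1 (.leaf
  608) (.leaf
  609)))))) (.node 10 (.node 5 (.node 2 (.node 1 (.leaf
  610) (.leaf
  611)) (.node 1 (.leaf
  612) (.node 1 (.leaf
  613) (.leaf
  614)))) (.node 2 (.node 1 (.leaf
  615) (.leaf
  616)) (.node 1 (.leaf
  617) (.node 1 (.leaf
  618) (.leaf
  619))))) (.node 5 (.node 2 (.node 1 (.leaf
  620) (.leaf
  621)) (.node 1 (.leaf
  622) (.node 1 (.leaf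
  623) (.leaf
  624)))) (.node 2 (.node 1 (.leaf
  625) (.leaf
  626)) (.node 1 (.leaf
  627) (.node 1 (.leaf
  628) (.leaf
  629)))))))))))

/-- The coverage of the cosets in one orbit. -/
def cov1 : Tree :=
  (.node 315 (.node 157 (.node 78 (.node 39 (.node 19 (.node 9 (.node 4 (.node 2 (.node 1 (.leaf
  70778881) (.leaf
  4870113298)) (.node 1 (.leaf
  117964820) (.leaf
  4889782651))) (.node 2 (.node 1 (.leaf
  4893696160) (.leaf
  4901322339)) (.node 1 (.leaf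
  9711417349) (.node 1 (.leaf
  9724011897) (.leaf
  9725479150))))) (.node 5 (.node 2 (.node 1 (.leaf
  9734362726) (.leaf
  14557370440)) (.node 1 (.leaf
  122683784) (.node 1 (.leaf
  19380310076) (.leaf
  19388256667)))) (.node 2 (.node 1 (.leaf
  19390219430) (.leaf
  19395609606)) (.node 1 (.leaf
  24206387335) (.node 1 (.leaf
  24223493467) (.leaf
  29050709422)))))) (.node 10 (.node 5 (.node 2 (.node 1 (.leaf
  33892260315) (.leaf
  38706914327)) (.node 1 (.leaf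
  38714994034) (.node 1 (.leaf
  38717584552) (.leaf
  38725024789)))) (.node 2 (.node 1 (.leaf
  43549835686) (.leaf
  48379683251)) (.node 1 (.leaf
  53212334094) (.node 1 (.leaf
  58039137287) (.leaf
  127402020))))) (.node 5 (.node 2 (.node 1 (.leaf
  62879489246) (.leaf
  67695815173)) (.node 1 (.leaf
  67711452242) (.node 1 (.leaf
  67713327126) (.leaf
  72527954230)))) (.node 2 (.node 1 (.leaf
  72542053870) (.leaf
  72546350099)) (.node 1 (.leaf
  77357174793) (.node 1 (.leaf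
  77371226262) (.leaf
  82203340802))))))) (.node 19 (.node 9 (.node 4 (.node 2 (.node 1 (.leaf
  87042625664) (.leaf
  91855282634)) (.node 1 (.leaf
  106350035506) (.leaf
  106363758735))) (.node 2 (.node 1 (.leaf
  111201326084) (.leaf
  116025942246)) (.node 1 (.leaf
  120863362264) (.node 1 (.leaf
  130526027114) (.leaf
  154683955558))))) (.node 5 (.node 2 (.node 1 (.leaf
  75497480) (.leaf
  740819346)) (.node 1 (.leaf
  236809478715) (.node 1 (.leaf
  236814843372) (.leaf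
  236821214455)))) (.node 2 (.node 1 (.leaf
  358613073) (.leaf
  297271880)) (.node 1 (.leaf
  745537551) (.node 1 (.leaf
  241648182772) (.leaf
  241649088799)))))) (.node 10 (.node 5 (.node 2 (.node 1 (.leaf
  1137180911) (.leaf
  241661152704)) (.node 1 (.leaf
  246476790092) (.node 1 (.leaf
  246483745116) (.leaf
  246489122877)))) (.node 2 (.node 1 (.leaf
  246491375796) (.leaf
  251313956423)) (.node 1 (.leaf
  251321053293) (.node 1 (.leaf
  251322272055) (.leaf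
  256135419253))))) (.node 5 (.node 2 (.node 1 (.leaf
  256140121157) (.leaf
  256147406374)) (.node 1 (.leaf
  256151049576) (.node 1 (.leaf
  256154178994) (.leaf
  363331706)))) (.node 2 (.node 1 (.leaf
  260971742218) (.leaf
  260983480600)) (.node 1 (.leaf
  260989387181) (.node 1 (.leaf
  265801747953) (.leaf
  301990457)))))))) (.node 39 (.node 19 (.node 9 (.node 4 (.node 2 (.node 1 (.leaf
  265814494532) (.leaf
  270639107673)) (.node 1 (.leaf
  270644776000) (.leaf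
  270651768416))) (.node 2 (.node 1 (.leaf
  275474831917) (.leaf
  275483951405)) (.node 1 (.leaf
  280294599708) (.node 1 (.leaf
  280298840143) (.leaf
  280304753057))))) (.node 5 (.node 2 (.node 1 (.leaf
  280308218444) (.leaf
  280316616304)) (.node 1 (.leaf
  1141899521) (.node 1 (.leaf
  285142412890) (.leaf
  285145975273)))) (.node 2 (.node 1 (.leaf
  289969094862) (.leaf
  289974407691)) (.node 1 (.leaf
  294801962369) (.node 1 (.leaf
  299634586966) (.leaf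
  304470750263)))))) (.node 10 (.node 5 (.node 2 (.node 1 (.leaf
  304475911337) (.leaf
  309296347466)) (.node 1 (.leaf
  309299830255) (.node 1 (.leaf
  314118768128) (.leaf
  314122935830)))) (.node 2 (.node 1 (.leaf
  314129772677) (.leaf
  314131198417)) (.node 1 (.leaf
  318964945159) (.node 1 (.leaf
  318969647581) (.leaf
  323789815834))))) (.node 5 (.node 2 (.node 1 (.leaf
  323795350111) (.leaf
  328617457677)) (.node 1 (.leaf
  328629892637) (.node 1 (.leaf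
  333455137326) (.leaf
  338277706877)))) (.node 2 (.node 1 (.leaf
  338283630627) (.leaf
  338291174869)) (.node 1 (.leaf
  338296212546) (.node 1 (.leaf
  343124627895) (.leaf
  347941771790))))))) (.node 20 (.node 10 (.node 5 (.node 2 (.node 1 (.leaf
  347953388786) (.leaf
  347955751961)) (.node 1 (.leaf
  352782152848) (.node 1 (.leaf
  352785779002) (.leaf
  357621115351)))) (.node 2 (.node 1 (.leaf
  362437222880) (.leaf
  362443313381)) (.node 1 (.leaf
  367277569041) (.node 1 (.leaf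
  372110810509) (.leaf
  376938359125))))) (.node 5 (.node 2 (.node 1 (.leaf
  376940917208) (.leaf
  306708548)) (.node 1 (.leaf
  381762783388) (.node 1 (.leaf
  381779318052) (.leaf
  386606534186)))) (.node 2 (.node 1 (.leaf
  396270287166) (.leaf
  401093726797)) (.node 1 (.leaf
  401103841907) (.node 1 (.leaf
  405931936805) (.leaf
  420417638005)))))) (.node 10 (.node 5 (.node 2 (.node 1 (.leaf
  420424473028) (.leaf
  420434423141)) (.node 1 (.leaf
  420440251459) (.node 1 (.leaf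
  425265142132) (.leaf
  430091744507)))) (.node 2 (.node 1 (.leaf
  430096109816) (.leaf
  444587751587)) (.node 1 (.leaf
  449415711760) (.node 1 (.leaf
  454256752828) (.leaf
  459080301931))))) (.node 5 (.node 2 (.node 1 (.leaf
  459082968511) (.leaf
  463906825753)) (.node 1 (.leaf
  473585790036) (.node 1 (.leaf
  478399819345) (.leaf
  478412585372)))) (.node 2 (.node 1 (.leaf
  478416232963) (.leaf
  478422552975)) (.node 1 (.leaf
  488068725129) (.node 1 (.leaf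
  488079059019) (.leaf
  492913206457))))))))) (.node 79 (.node 39 (.node 19 (.node 9 (.node 4 (.node 2 (.node 1 (.leaf
  502561417598) (.leaf
  502563652653)) (.node 1 (.leaf
  541222043170) (.leaf
  541225086365))) (.node 2 (.node 1 (.leaf
  541229185122) (.leaf
  546060306839)) (.node 1 (.leaf
  550878065099) (.node 1 (.leaf
  550892182034) (.leaf
  570219022491))))) (.node 5 (.node 2 (.node 1 (.leaf
  579872505121) (.leaf
  579884542125)) (.node 1 (.leaf
  604028808409) (.node 1 (.leaf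
  604048931170) (.leaf
  647529304211)))) (.node 2 (.node 1 (.leaf
  695834392820) (.leaf
  715162460299)) (.node 1 (.leaf
  720004835856) (.node 1 (.leaf
  777974974003) (.leaf
  811818369464)))))) (.node 10 (.node 5 (.node 2 (.node 1 (.leaf
  80216088) (.leaf
  316145691)) (.node 1 (.leaf
  646447317) (.node 1 (.leaf
  855290536130) (.leaf
  335020657)))) (.node 2 (.node 1 (.leaf
  855298236540) (.leaf
  855304700087)) (.node 1 (.leaf
  1151336489) (.node 1 (.leaf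
  860119641302) (.leaf
  860124773877))))) (.node 5 (.node 2 (.node 1 (.leaf
  860129825941) (.leaf
  320864800)) (.node 1 (.leaf
  864951522465) (.node 1 (.leaf
  651166324) (.leaf
  864961629592)))) (.node 2 (.node 1 (.leaf
  864968879550) (.leaf
  869789092304)) (.node 1 (.leaf
  869794474340) (.node 1 (.leaf
  869799196053) (.leaf
  874613545512))))))) (.node 20 (.node 10 (.node 5 (.node 2 (.node 1 (.leaf
  874618472682) (.leaf
  874624025931)) (.node 1 (.leaf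
  339738867) (.node 1 (.leaf
  874631579930) (.leaf
  879443697890)))) (.node 2 (.node 1 (.leaf
  879449071168) (.leaf
  879459246658)) (.node 1 (.leaf
  884275749413) (.node 1 (.leaf
  884284257309) (.leaf
  884289884191))))) (.node 5 (.node 2 (.node 1 (.leaf
  889113296014) (.leaf
  1156055096)) (.node 1 (.leaf
  889123581437) (.node 1 (.leaf
  889128677961) (.leaf
  893950129235)))) (.node 2 (.node 1 (.leaf
  893957129752) (.leaf
  898771762705)) (.node 1 (.leaf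
  898775967337) (.node 1 (.leaf
  898781737205) (.leaf
  898786382910)))))) (.node 10 (.node 5 (.node 2 (.node 1 (.leaf
  898788676936) (.leaf
  903609416972)) (.node 1 (.leaf
  903615859764) (.node 1 (.leaf
  908433493424) (.leaf
  325582878)))) (.node 2 (.node 1 (.leaf
  908448885219) (.leaf
  918097515860)) (.node 1 (.leaf
  918103874793) (.node 1 (.leaf
  655884607) (.leaf
  918111989267))))) (.node 5 (.node 2 (.node 1 (.leaf
  922944818751) (.leaf
  927771716058)) (.node 1 (.leaf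
  927778361849) (.node 1 (.leaf
  932593029418) (.leaf
  932596981802)))) (.node 2 (.node 1 (.leaf
  932605061211) (.leaf
  932609784399)) (.node 1 (.leaf
  937442130377) (.node 1 (.leaf
  942269067317) (.leaf
  947092523285)))))))) (.node 39 (.node 19 (.node 9 (.node 4 (.node 2 (.node 1 (.leaf
  947100773887) (.leaf
  947108541511)) (.node 1 (.leaf
  951931136391) (.leaf
  951935628328))) (.node 2 (.node 1 (.leaf
  951941494924) (.leaf
  956754554230)) (.node 1 (.leaf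
  956759400050) (.node 1 (.leaf
  956766109158) (.leaf
  956773689648))))) (.node 5 (.node 2 (.node 1 (.leaf
  961583038527) (.leaf
  344457415)) (.node 1 (.leaf
  961597356455) (.node 1 (.leaf
  966415402049) (.leaf
  971257042013)))) (.node 2 (.node 1 (.leaf
  971263781297) (.leaf
  976090872223)) (.node 1 (.leaf
  976097098050) (.node 1 (.leaf
  980912975904) (.leaf
  980915673340)))))) (.node 10 (.node 5 (.node 2 (.node 1 (.leaf
  980931948803) (.leaf
  985754679381)) (.node 1 (.leaf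
  990590661226) (.node 1 (.leaf
  990594371051) (.leaf
  995410120098)))) (.node 2 (.node 1 (.leaf
  995429087757) (.leaf
  1160774003)) (.node 1 (.leaf
  1005086228568) (.node 1 (.leaf
  1014746908936) (.leaf
  1019566109886))))) (.node 5 (.node 2 (.node 1 (.leaf
  1019571354908) (.leaf
  1019577548237)) (.node 1 (.leaf
  1029238039004) (.node 1 (.leaf
  1029240286511) (.leaf
  1029251175483)))) (.node 2 (.node 1 (.leaf
  1034074018015) (.leaf
  1034081593417)) (.node 1 (.leaf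
  1038900885725) (.node 1 (.leaf
  1038913565245) (.leaf
  1043728990400))))))) (.node 20 (.node 10 (.node 5 (.node 2 (.node 1 (.leaf
  1043740283433) (.leaf
  1048556865822)) (.node 1 (.leaf
  1063061725238) (.node 1 (.leaf
  1082393595197) (.leaf
  1087213953551)))) (.node 2 (.node 1 (.leaf
  1087220169155) (.leaf
  1087233583354)) (.node 1 (.leaf
  1092045777234) (.node 1 (.leaf
  1092047891952) (.leaf
  1092058016339))))) (.node 5 (.node 2 (.node 1 (.leaf
  0x102c3183097) (.leaf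
  0x103e3cf518e)) (.node 1 (.leaf
  0x10503d3e1df) (.node 1 (.leaf
  0x106233ee946) (.leaf
  0x10623db4e44)))) (.node 2 (.node 1 (.leaf
  0x106242f804e) (.leaf
  0x10aa2dae5d4)) (.node 1 (.leaf
  0x10aa3399a4a) (.node 1 (.leaf
  0x10aa3fa9207) (.leaf
  0x10ce35c85c2)))))) (.node 10 (.node 5 (.node 2 (.node 1 (.leaf
  0x110432d9dd2) (.leaf
  0x113a39d362b)) (.node 1 (.leaf
  349176387) (.node 1 (.leaf
  0x119431eb081) (.leaf
  0x11943b4de17)))) (.node 2 (.node 1 (.leaf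
  0x1194425fdfa) (.leaf
  0x126c3100206)) (.node 1 (.leaf
  1165492499) (.node 1 (.leaf
  0x12a2328a046) (.leaf
  84934659))))) (.node 5 (.node 2 (.node 1 (.leaf
  113246219) (.leaf
  240648412)) (.node 1 (.leaf
  0x15843c198d3) (.node 1 (.leaf
  136839322) (.leaf
  0x15962d5e084)))) (.node 2 (.node 1 (.leaf
  245367288) (.leaf
  0x15963826161)) (.node 1 (.leaf
  0x15963bed109) (.node 1 (.leaf
  0x15964327c31) (.leaf
  0x15a83ed64fe)))))))))) (.node 157 (.node 78 (.node 39 (.node 19 (.node 9 (.node 4 (.node 2 (.node 1 (.leaf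
  0x15ba369cdfe) (.leaf
  141557799)) (.node 1 (.leaf
  0x15cc35805b6) (.leaf
  0x15cc3746d35))) (.node 2 (.node 1 (.leaf
  0x15cc3e1dd06) (.leaf
  0x15cc415400c)) (.node 1 (.leaf
  0x15de36c1098) (.node 1 (.leaf
  0x15de3caa90d) (.leaf
  250085472))))) (.node 5 (.node 2 (.node 1 (.leaf
  0x15f03d134f1) (.leaf
  0x15f0401f9d9)) (.node 1 (.leaf
  0x160233fdcb0) (.node 1 (.leaf
  0x16023ab556f) (.leaf
  0x16024365533)))) (.node 2 (.node 1 (.leaf
  0x16142d03426) (.leaf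
  0x1614381194e)) (.node 1 (.leaf
  0x164a3af6549) (.node 1 (.leaf
  0x165c36c10e7) (.leaf
  0x166e36de82f)))))) (.node 10 (.node 5 (.node 2 (.node 1 (.leaf
  0x166e3d1f0ca) (.leaf
  0x16803ee9512)) (.node 1 (.leaf
  0x1680406b58b) (.node 1 (.leaf
  0x16a4388a061) (.leaf
  0x173437b8ce8)))) (.node 2 (.node 1 (.leaf
  0x177c3b78100) (.leaf
  0x17b2366a0f9)) (.node 1 (.leaf
  132120882) (.node 1 (.leaf
  0x180c240f466) (.leaf
  1189085523))))) (.node 5 (.node 2 (.node 1 (.leaf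
  372768818) (.leaf
  268960044)) (.node 1 (.leaf
  0x180c3bb2547) (.node 1 (.leaf
  1217397297) (.leaf
  0x181e2dc2ca2)))) (.node 2 (.node 1 (.leaf
  0x181e3247c70) (.leaf
  0x181e363384c)) (.node 1 (.leaf
  0x181e3e9a8a4) (.node 1 (.leaf
  0x181e426e56d) (.leaf
  0x18303182c6f))))))) (.node 19 (.node 9 (.node 4 (.node 2 (.node 1 (.leaf
  1193804000) (.leaf
  0x18303d5665d)) (.node 1 (.leaf
  0x1830422bcdb) (.leaf
  486015094))) (.node 2 (.node 1 (.leaf
  377487754) (.leaf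
  0x18423fb4543)) (.node 1 (.leaf
  0x18542dcc489) (.node 1 (.leaf
  0x18543280d26) (.leaf
  273678632))))) (.node 5 (.node 2 (.node 1 (.leaf
  0x18543da308a) (.leaf
  0x1854401fc6e)) (.node 1 (.leaf
  0x186630fd022) (.node 1 (.leaf
  0x186635d99cc) (.leaf
  0x18663e56586)))) (.node 2 (.node 1 (.leaf
  0x18663f6e1c7) (.leaf
  1222115892)) (.node 1 (.leaf
  0x187836028c4) (.node 1 (.leaf
  0x18783d40dbc) (.leaf
  0x188a3186922)))))) (.node 10 (.node 5 (.node 2 (.node 1 (.leaf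
  0x188a3a0021e) (.leaf
  0x188a3ac8e54)) (.node 1 (.leaf
  0x188a4298a0c) (.node 1 (.leaf
  0x189c38119aa) (.leaf
  0x189c3f1dd23)))) (.node 2 (.node 1 (.leaf
  0x18ae36e9ccc) (.leaf
  0x18ae3cb24b6)) (.node 1 (.leaf
  0x18ae3f94916) (.node 1 (.leaf
  0x18c03590e30) (.leaf
  0x18c03af888d))))) (.node 5 (.node 2 (.node 1 (.leaf
  0x18c04198609) (.leaf
  0x18d231001ea)) (.node 1 (.leaf
  0x18d2364f899) (.node 1 (.leaf
  0x18d23e080ac) (.leaf
  0x18e438a48aa)))) (.node 2 (.node 1 (.leaf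
  0x18f62d42938) (.leaf
  1198522460)) (.node 1 (.leaf
  0x18f63c5f97f) (.node 1 (.leaf
  0x18f64229d2b) (.leaf
  0x19083df6894)))))))) (.node 39 (.node 19 (.node 9 (.node 4 (.node 2 (.node 1 (.leaf
  0x190841ada37) (.leaf
  0x191a3a57cae)) (.node 1 (.leaf
  0x191a3c9f8ab) (.leaf
  0x192c2e860d2))) (.node 2 (.node 1 (.leaf
  764412256) (.leaf
  0x192c38eb50a)) (.node 1 (.leaf
  490733616) (.node 1 (.leaf
  0x192c423706c) (.leaf
  0x193e3d1f071))))) (.node 5 (.node 2 (.node 1 (.leaf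
  382206267) (.leaf
  0x1950360dd34)) (.node 1 (.leaf
  0x19503c839f6) (.node 1 (.leaf
  0x196236ec12e) (.leaf
  0x19623d98067)))) (.node 2 (.node 1 (.leaf
  0x19623f94cbd) (.leaf
  0x197438e8550)) (.node 1 (.leaf
  0x19743ce804d) (.node 1 (.leaf
  0x19743f1dc91) (.leaf
  0x1986317d05f)))))) (.node 10 (.node 5 (.node 2 (.node 1 (.leaf
  0x19863545a15) (.leaf
  0x19863ee6a5b)) (.node 1 (.leaf
  278397183) (.node 1 (.leaf
  0x19983e46da0) (.leaf
  0x1998417025e)))) (.node 2 (.node 1 (.leaf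
  0x19aa3733593) (.leaf
  0x19aa3c70905)) (.node 1 (.leaf
  0x19bc3888ceb) (.node 1 (.leaf
  0x19bc41e8221) (.leaf
  0x19ce3a45a01))))) (.node 5 (.node 2 (.node 1 (.leaf
  0x19ce40aecb3) (.leaf
  0x19e02e0b18c)) (.node 1 (.leaf
  0x19e03242cc9) (.node 1 (.leaf
  0x19e041d0d17) (.leaf
  0x19f22ddc9a8)))) (.node 2 (.node 1 (.leaf
  0x1a043819cda) (.leaf
  1226834347)) (.node 1 (.leaf
  0x1a1630488c3) (.node 1 (.leaf
  0x1a163243580) (.leaf
  0x1a163a4c520))))))) (.node 20 (.node 10 (.node 5 (.node 2 (.node 1 (.leaf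
  0x1a163d3cc7b) (.leaf
  0x1a164112df7)) (.node 1 (.leaf
  0x1a282fb6d04) (.node 1 (.leaf
  0x1a284320578) (.leaf
  0x1a3a398bde8)))) (.node 2 (.node 1 (.leaf
  0x1a4c302aa4e) (.leaf
  0x1a4c38d5970)) (.node 1 (.leaf
  0x1a4c3db4e1b) (.node 1 (.leaf
  0x1a4c41d1c64) (.leaf
  0x1a70397ddfc))))) (.node 5 (.node 2 (.node 1 (.leaf
  0x1a703b0f50f) (.leaf
  0x1a8239f00af)) (.node 1 (.leaf
  0x1a82431351b) (.node 1 (.leaf
  0x1aa6349166f) (.leaf
  0x1aa63afddde)))) (.node 2 (.node 1 (.leaf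
  0x1ab83cdf257) (.leaf
  0x1ab8406899a)) (.node 1 (.leaf
  0x1aca39668c6) (.node 1 (.leaf
  0x1aca3b63a24) (.leaf
  0x1adc39cbd45)))))) (.node 10 (.node 5 (.node 2 (.node 1 (.leaf
  0x1adc404e4e1) (.leaf
  0x1b12385ca1c)) (.node 1 (.leaf
  0x1b123c44ccd) (.node 1 (.leaf
  0x1b242d0c54f) (.leaf
  0x1b243306050)))) (.node 2 (.node 1 (.leaf
  0x1b243946c72) (.leaf
  0x1b243c60158)) (.node 1 (.leaf
  0x1b2440c1e55) (.node 1 (.leaf
  0x1b3642c8de7) (.leaf
  0x1b4842e78d4))))) (.node 5 (.node 2 (.node 1 (.leaf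
  0x1b5a3cec584) (.leaf
  0x1b5a430f551)) (.node 1 (.leaf
  1203241396) (.node 1 (.leaf
  0x1b6c31de4b2) (.leaf
  0x1b6c3ebf638)))) (.node 2 (.node 1 (.leaf
  0x1b6c42cda23) (.leaf
  0x1b7e2e43214)) (.node 1 (.leaf
  0x1b903a74608) (.node 1 (.leaf
  0x1b903af65b9) (.leaf
  0x1ba2424ae68))))))))) (.node 79 (.node 39 (.node 19 (.node 9 (.node 4 (.node 2 (.node 1 (.leaf
  0x1bb43782c65) (.leaf
  0x1bc631e5599)) (.node 1 (.leaf
  0x1bc6370d82e) (.leaf
  0x1bc63ef255e))) (.node 2 (.node 1 (.leaf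
  0x1bd8422b9d6) (.leaf
  0x1bea3dee877)) (.node 1 (.leaf
  769130653) (.node 1 (.leaf
  0x1c0e3c9f90b) (.leaf
  495452747))))) (.node 5 (.node 2 (.node 1 (.leaf
  0x1c204126646) (.leaf
  0x1c32392bd77)) (.node 1 (.leaf
  386925100) (.node 1 (.leaf
  0x1c8c358fe6c) (.leaf
  0x1c8c3690463)))) (.node 2 (.node 1 (.leaf
  0x1c8c3af6596) (.leaf
  0x1c9e3ea263c)) (.node 1 (.leaf
  0x1c9e42711e2) (.node 1 (.leaf
  0x1cc2357d21a) (.leaf
  0x1cc23903ccf)))))) (.node 10 (.node 5 (.node 2 (.node 1 (.leaf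
  0x1cc23dbaa50) (.leaf
  0x1cd43d0d1e5)) (.node 1 (.leaf
  0x1cd4410f262) (.node 1 (.leaf
  0x1cf83886c92) (.leaf
  0x1cf83b33190)))) (.node 2 (.node 1 (.leaf
  0x1d0a37dd9cf) (.leaf
  0x1d0a3e1a8b1)) (.node 1 (.leaf
  0x1d1c2d7e60a) (.node 1 (.leaf
  0x1d1c32811d3) (.leaf
  0x1d1c3d6d1a5))))) (.node 5 (.node 2 (.node 1 (.leaf
  0x1d1c41d1cba) (.leaf
  283116097)) (.node 1 (.leaf
  0x1d40405609e) (.node 1 (.leaf
  0x1d523df0878) (.leaf
  0x1d642ede483)))) (.node 2 (.node 1 (.leaf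
  0x1d6433fda04) (.leaf
  0x1d6436080d1)) (.node 1 (.leaf
  0x1d643f9a079) (.node 1 (.leaf
  0x1d763cdf22f) (.leaf
  0x1d8839cb940))))))) (.node 20 (.node 10 (.node 5 (.node 2 (.node 1 (.leaf
  0x1d884198cfd) (.leaf
  0x1d9a39a5e61)) (.node 1 (.leaf
  0x1dbe388682c) (.node 1 (.leaf
  0x1de243009b5) (.leaf
  0x1df43c7e119)))) (.node 2 (.node 1 (.leaf
  0x1e063780888) (.leaf
  0x1e182ede1e1)) (.node 1 (.leaf
  0x1e183b4f66e) (.node 1 (.leaf
  0x1e3c32cc1bd) (.leaf
  0x1e3c39d3656))))) (.node 5 (.node 2 (.node 1 (.leaf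
  0x1e72328dd1d) (.leaf
  0x1e7242cf1c1)) (.node 1 (.leaf
  0x1e843819d3c) (.node 1 (.leaf
  0x1e843aac039) (.leaf
  0x1e964247e6b)))) (.node 2 (.node 1 (.leaf
  0x1ea83814531) (.leaf
  0x1ea83dbedaf)) (.node 1 (.leaf
  0x1eba430d475) (.node 1 (.leaf
  0x1ecc3fe7868) (.leaf
  0x1ede317d4a7)))))) (.node 10 (.node 5 (.node 2 (.node 1 (.leaf
  0x1ede34b84b8) (.leaf
  0x1ede3df20e3)) (.node 1 (.leaf
  0x1ede432356c) (.node 1 (.leaf
  0x1f02399d5c8) (.leaf
  0x1f023e1b963)))) (.node 2 (.node 1 (.leaf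
  0x1f143c07665) (.leaf
  0x1f264365082)) (.node 1 (.leaf
  0x1f5c36f9525) (.node 1 (.leaf
  0x1f6e355607e) (.leaf
  0x1f6e3cb416e))))) (.node 5 (.node 2 (.node 1 (.leaf
  0x1f6e4229cd0) (.leaf
  0x1f8042d69a4)) (.node 1 (.leaf
  0x1fb63ed3994) (.node 1 (.leaf
  0x1fda370117a) (.leaf
  0x1fec3030a67)))) (.node 2 (.node 1 (.leaf
  0x1fec3e50627) (.leaf
  0x2010386323a)) (.node 1 (.leaf
  0x2046324146b) (.node 1 (.leaf
  0x205839f01f3) (.leaf
  0x20583b32582)))))))) (.node 39 (.node 19 (.node 9 (.node 4 (.node 2 (.node 1 (.leaf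
  0x206a39cf057) (.leaf
  0x206a3e3dce4)) (.node 1 (.leaf
  0x207c3b36d41) (.leaf
  0x20a03ab39fb))) (.node 2 (.node 1 (.leaf
  1207959939) (.leaf
  0x20b23ba3635)) (.node 1 (.leaf
  0x20c43699664) (.node 1 (.leaf
  0x20c43b33139) (.leaf
  0x20d62f78910))))) (.node 5 (.node 2 (.node 1 (.leaf
  0x20d631e015d) (.leaf
  0x20d63f3a85a)) (.node 1 (.leaf
  0x20e830fd45e) (.node 1 (.leaf
  0x20e8388a0a5) (.leaf
  0x211e2fb8914)))) (.node 2 (.node 1 (.leaf
  0x211e3a91e45) (.leaf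
  0x211e429b821)) (.node 1 (.leaf
  0x21423048c6a) (.node 1 (.leaf
  0x21423207833) (.leaf
  0x214242e8236)))))) (.node 10 (.node 5 (.node 2 (.node 1 (.leaf
  0x21543e91d29) (.leaf
  0x21663e42e52)) (.node 1 (.leaf
  0x21782f835c5) (.node 1 (.leaf
  0x2178358fe6d) (.leaf
  0x2178433d59e)))) (.node 2 (.node 1 (.leaf
  0x218a3e5e9ed) (.leaf
  773849421)) (.node 1 (.leaf
  0x21c03bed169) (.node 1 (.leaf
  500170955) (.leaf
  0x2208303e5f2))))) (.node 5 (.node 2 (.node 1 (.leaf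
  0x222c3c8d456) (.leaf
  0x223e30c5d0e)) (.node 1 (.leaf
  0x223e3cb4511) (.node 1 (.leaf
  0x223e4108c74) (.leaf
  0x2250419d159)))) (.node 2 (.node 1 (.leaf
  0x22863bb90f6) (.leaf
  0x22983be695a)) (.node 1 (.leaf
  0x229843698bf) (.node 1 (.leaf
  0x22aa424f0ec) (.leaf
  0x22e03bdbc7f))))))) (.node 20 (.node 10 (.node 5 (.node 2 (.node 1 (.leaf
  0x22e0430d0c8) (.leaf
  0x22f22f0c5a9)) (.node 1 (.leaf
  0x22f2378d8c5) (.node 1 (.leaf
  0x22f23aa24f0) (.leaf
  0x23043ce0d7d)))) (.node 2 (.node 1 (.leaf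
  0x230441d104a) (.leaf
  0x2316431d8b5)) (.node 1 (.leaf
  0x23283db4dce) (.node 1 (.leaf
  0x233a2d9ea3e) (.leaf
  0x233a3480567))))) (.node 5 (.node 2 (.node 1 (.leaf
  0x234c2e83886) (.leaf
  0x234c37b6902)) (.node 1 (.leaf
  0x235e36a103a) (.node 1 (.leaf
  287834349) (.leaf
  0x23703c5f869)))) (.node 2 (.node 1 (.leaf
  0x23823b33591) (.leaf
  0x23ca3c395bb)) (.node 1 (.leaf
  0x24122d20202) (.node 1 (.leaf
  0x24124171a1f) (.leaf
  0x245a2d8d57c)))))) (.node 10 (.node 5 (.node 2 (.node 1 (.leaf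
  0x246c38d0059) (.leaf
  0x247e3f7e9c6)) (.node 1 (.leaf
  0x24c6376a5ba) (.node 1 (.leaf
  0x24ea3cdf658) (.leaf
  0x24fc3724d57)))) (.node 2 (.node 1 (.leaf
  0x25323ee6a5c) (.leaf
  0x255633fdc73)) (.node 1 (.leaf
  0x25563ee9171) (.node 1 (.leaf
  0x258c399515f) (.leaf
  0x25e63846c9f))))) (.node 5 (.node 2 (.node 1 (.leaf
  0x261c369042b) (.leaf
  0x262e3c7c8d7)) (.node 1 (.leaf
  0x266436a11a3) (.node 1 (.leaf
  0x273c41b3527) (.leaf
  0x27de39c59e4)))) (.node 2 (.node 1 (.leaf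
  0x280237474c1) (.leaf
  0x28b63cbe9ac)) (.node 1 (.leaf
  0x29b23cb2185) (.node 1 (.leaf
  0x2a4239844bb) (.leaf
  146276352)))))))))))

/-- Where each coset is covered. -/
def covAt1 : Tree :=
  (.node 315 (.node 157 (.node 78 (.node 39 (.node 19 (.node 9 (.node 4 (.node 2 (.node 1 (.leaf
  629) (.leaf
  0)) (.node 1 (.leaf
  38) (.leaf
  304))) (.node 2 (.node 1 (.leaf
  43) (.leaf
  6)) (.node 1 (.leaf
  15) (.node 1 (.leaf
  27) (.leaf
  48))))) (.node 5 (.node 2 (.node 1 (.leaf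
  36) (.leaf
  73)) (.node 1 (.leaf
  305) (.node 1 (.leaf
  320) (.leaf
  108)))) (.node 2 (.node 1 (.leaf
  26) (.leaf
  55)) (.node 1 (.leaf
  144) (.node 1 (.leaf
  124) (.leaf
  1)))))) (.node 10 (.node 5 (.node 2 (.node 1 (.leaf
  35) (.leaf
  2)) (.node 1 (.leaf
  23) (.node 1 (.leaf
  32) (.leaf
  20)))) (.node 2 (.node 1 (.leaf
  176) (.leaf
  118)) (.node 1 (.leaf
  106) (.node 1 (.leaf
  177) (.leaf
  84))))) (.node 5 (.node 2 (.node 1 (.leaf
  204) (.leaf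
  220)) (.node 1 (.leaf
  205) (.node 1 (.leaf
  253) (.leaf
  566)))) (.node 2 (.node 1 (.leaf
  365) (.leaf
  112)) (.node 1 (.leaf
  28) (.node 1 (.leaf
  135) (.leaf
  329))))))) (.node 19 (.node 9 (.node 4 (.node 2 (.node 1 (.leaf
  316) (.leaf
  239)) (.node 1 (.leaf
  183) (.leaf
  230))) (.node 2 (.node 1 (.leaf
  620) (.leaf
  513)) (.node 1 (.leaf
  158) (.node 1 (.leaf
  474) (.leaf
  333))))) (.node 5 (.node 2 (.node 1 (.leaf
  399) (.leaf
  313)) (.node 1 (.leaf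
  344) (.node 1 (.leaf
  568) (.leaf
  218)))) (.node 2 (.node 1 (.leaf
  234) (.leaf
  277)) (.node 1 (.leaf
  96) (.node 1 (.leaf
  207) (.leaf
  524)))))) (.node 10 (.node 5 (.node 2 (.node 1 (.leaf
  602) (.leaf
  269)) (.node 1 (.leaf
  12) (.node 1 (.leaf
  62) (.leaf
  215)))) (.node 2 (.node 1 (.leaf
  245) (.leaf
  80)) (.node 1 (.leaf
  248) (.node 1 (.leaf
  114) (.leaf
  139))))) (.node 5 (.node 2 (.node 1 (.leaf
  128) (.leaf
  68)) (.node 1 (.leaf
  303) (.node 1 (.leaf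
  237) (.leaf
  10)))) (.node 2 (.node 1 (.leaf
  271) (.leaf
  595)) (.node 1 (.leaf
  155) (.node 1 (.leaf
  350) (.leaf
  409)))))))) (.node 39 (.node 19 (.node 9 (.node 4 (.node 2 (.node 1 (.leaf
  290) (.leaf
  85)) (.node 1 (.leaf
  456) (.leaf
  53))) (.node 2 (.node 1 (.leaf
  31) (.leaf
  210)) (.node 1 (.leaf
  149) (.node 1 (.leaf
  256) (.leaf
  580))))) (.node 5 (.node 2 (.node 1 (.leaf
  551) (.leaf
  262)) (.node 1 (.leaf
  610) (.node 1 (.leaf
  561) (.leaf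
  231)))) (.node 2 (.node 1 (.leaf
  389) (.leaf
  249)) (.node 1 (.leaf
  562) (.node 1 (.leaf
  411) (.leaf
  323)))))) (.node 10 (.node 5 (.node 2 (.node 1 (.leaf
  337) (.leaf
  161)) (.node 1 (.leaf
  485) (.node 1 (.leaf
  440) (.leaf
  472)))) (.node 2 (.node 1 (.leaf
  342) (.leaf
  406)) (.node 1 (.leaf
  529) (.node 1 (.leaf
  604) (.leaf
  567))))) (.node 5 (.node 2 (.node 1 (.leaf
  548) (.leaf
  400)) (.node 1 (.leaf
  65) (.node 1 (.leaf
  364) (.leaf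
  353)))) (.node 2 (.node 1 (.leaf
  349) (.leaf
  401)) (.node 1 (.leaf
  457) (.node 1 (.leaf
  616) (.leaf
  583))))))) (.node 20 (.node 10 (.node 5 (.node 2 (.node 1 (.leaf
  528) (.leaf
  357)) (.node 1 (.leaf
  477) (.node 1 (.leaf
  504) (.leaf
  508)))) (.node 2 (.node 1 (.leaf
  72) (.leaf
  432)) (.node 1 (.leaf
  181) (.node 1 (.leaf
  111) (.leaf
  539))))) (.node 5 (.node 2 (.node 1 (.leaf
  589) (.leaf
  39)) (.node 1 (.leaf
  298) (.node 1 (.leaf
  537) (.leaf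
  505)))) (.node 2 (.node 1 (.leaf
  309) (.leaf
  102)) (.node 1 (.leaf
  600) (.node 1 (.leaf
  16) (.leaf
  516)))))) (.node 10 (.node 5 (.node 2 (.node 1 (.leaf
  360) (.leaf
  363)) (.node 1 (.leaf
  172) (.node 1 (.leaf
  240) (.leaf
  382)))) (.node 2 (.node 1 (.leaf
  206) (.leaf
  42)) (.node 1 (.leaf
  119) (.node 1 (.leaf
  410) (.leaf
  494))))) (.node 5 (.node 2 (.node 1 (.leaf
  170) (.leaf
  392)) (.node 1 (.leaf
  186) (.node 1 (.leaf
  37) (.leaf
  285)))) (.node 2 (.node 1 (.leaf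
  321) (.leaf
  385)) (.node 1 (.leaf
  308) (.node 1 (.leaf
  165) (.leaf
  129))))))))) (.node 79 (.node 39 (.node 19 (.node 9 (.node 4 (.node 2 (.node 1 (.leaf
  478) (.leaf
  503)) (.node 1 (.leaf
  619) (.leaf
  4))) (.node 2 (.node 1 (.leaf
  188) (.leaf
  348)) (.node 1 (.leaf
  143) (.node 1 (.leaf
  351) (.leaf
  563))))) (.node 5 (.node 2 (.node 1 (.leaf
  14) (.leaf
  530)) (.node 1 (.leaf
  22) (.node 1 (.leaf
  97) (.leaf
  387)))) (.node 2 (.node 1 (.leaf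
  395) (.leaf
  386)) (.node 1 (.leaf
  167) (.node 1 (.leaf
  394) (.leaf
  443)))))) (.node 10 (.node 5 (.node 2 (.node 1 (.leaf
  326) (.leaf
  497)) (.node 1 (.leaf
  465) (.node 1 (.leaf
  422) (.leaf
  63)))) (.node 2 (.node 1 (.leaf
  596) (.leaf
  379)) (.node 1 (.leaf
  182) (.node 1 (.leaf
  531) (.leaf
  156))))) (.node 5 (.node 2 (.node 1 (.leaf
  501) (.leaf
  628)) (.node 1 (.leaf
  145) (.node 1 (.leaf
  407) (.leaf
  264)))) (.node 2 (.node 1 (.leaf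
  587) (.leaf
  274)) (.node 1 (.leaf
  625) (.node 1 (.leaf
  179) (.leaf
  429))))))) (.node 20 (.node 10 (.node 5 (.node 2 (.node 1 (.leaf
  370) (.leaf
  592)) (.node 1 (.leaf
  449) (.node 1 (.leaf
  246) (.leaf
  590)))) (.node 2 (.node 1 (.leaf
  424) (.leaf
  334)) (.node 1 (.leaf
  578) (.node 1 (.leaf
  378) (.leaf
  454))))) (.node 5 (.node 2 (.node 1 (.leaf
  92) (.leaf
  490)) (.node 1 (.leaf
  541) (.node 1 (.leaf
  507) (.leaf
  396)))) (.node 2 (.node 1 (.leaf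
  307) (.leaf
  461)) (.node 1 (.leaf
  178) (.node 1 (.leaf
  184) (.leaf
  621)))))) (.node 10 (.node 5 (.node 2 (.node 1 (.leaf
  45) (.leaf
  168)) (.node 1 (.leaf
  427) (.node 1 (.leaf
  356) (.leaf
  306)))) (.node 2 (.node 1 (.leaf
  272) (.leaf
  29)) (.node 1 (.leaf
  270) (.node 1 (.leaf
  354) (.leaf
  452))))) (.node 5 (.node 2 (.node 1 (.leaf
  200) (.leaf
  532)) (.node 1 (.leaf
  552) (.node 1 (.leaf
  123) (.leaf
  44)))) (.node 2 (.node 1 (.leaf
  332) (.leaf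
  338)) (.node 1 (.leaf
  223) (.node 1 (.leaf
  196) (.leaf
  419)))))))) (.node 39 (.node 19 (.node 9 (.node 4 (.node 2 (.node 1 (.leaf
  588) (.leaf
  603)) (.node 1 (.leaf
  8) (.leaf
  58))) (.node 2 (.node 1 (.leaf
  593) (.leaf
  324)) (.node 1 (.leaf
  117) (.node 1 (.leaf
  198) (.leaf
  171))))) (.node 5 (.node 2 (.node 1 (.leaf
  214) (.leaf
  585)) (.node 1 (.leaf
  52) (.node 1 (.leaf
  142) (.leaf
  340)))) (.node 2 (.node 1 (.leaf
  281) (.leaf
  141)) (.node 1 (.leaf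
  254) (.node 1 (.leaf
  511) (.leaf
  314)))))) (.node 10 (.node 5 (.node 2 (.node 1 (.leaf
  414) (.leaf
  339)) (.node 1 (.leaf
  89) (.node 1 (.leaf
  601) (.leaf
  255)))) (.node 2 (.node 1 (.leaf
  434) (.leaf
  418)) (.node 1 (.leaf
  319) (.node 1 (.leaf
  104) (.leaf
  263))))) (.node 5 (.node 2 (.node 1 (.leaf
  312) (.leaf
  398)) (.node 1 (.leaf
  479) (.node 1 (.leaf
  217) (.leaf
  322)))) (.node 2 (.node 1 (.leaf
  581) (.leaf
  442)) (.node 1 (.leaf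
  559) (.node 1 (.leaf
  582) (.leaf
  335))))))) (.node 20 (.node 10 (.node 5 (.node 2 (.node 1 (.leaf
  302) (.leaf
  564)) (.node 1 (.leaf
  235) (.node 1 (.leaf
  380) (.leaf
  425)))) (.node 2 (.node 1 (.leaf
  74) (.leaf
  515)) (.node 1 (.leaf
  199) (.node 1 (.leaf
  444) (.leaf
  265))))) (.node 5 (.node 2 (.node 1 (.leaf
  521) (.leaf
  276)) (.node 1 (.leaf
  57) (.node 1 (.leaf
  431) (.leaf
  166)))) (.node 2 (.node 1 (.leaf
  372) (.leaf
  377)) (.node 1 (.leaf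
  130) (.node 1 (.leaf
  538) (.leaf
  361)))))) (.node 10 (.node 5 (.node 2 (.node 1 (.leaf
  623) (.leaf
  362)) (.node 1 (.leaf
  570) (.node 1 (.leaf
  229) (.leaf
  391)))) (.node 2 (.node 1 (.leaf
  345) (.leaf
  83)) (.node 1 (.leaf
  405) (.node 1 (.leaf
  268) (.leaf
  244))))) (.node 5 (.node 2 (.node 1 (.leaf
  526) (.leaf
  341)) (.node 1 (.leaf
  328) (.node 1 (.leaf
  403) (.leaf
  318)))) (.node 2 (.node 1 (.leaf
  33) (.leaf
  66)) (.node 1 (.leaf
  388) (.node 1 (.leaf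
  558) (.leaf
  120)))))))))) (.node 157 (.node 78 (.node 39 (.node 19 (.node 9 (.node 4 (.node 2 (.node 1 (.leaf
  402) (.leaf
  523)) (.node 1 (.leaf
  278) (.leaf
  132))) (.node 2 (.node 1 (.leaf
  224) (.leaf
  510)) (.node 1 (.leaf
  553) (.node 1 (.leaf
  252) (.leaf
  359))))) (.node 5 (.node 2 (.node 1 (.leaf
  78) (.leaf
  451)) (.node 1 (.leaf
  288) (.node 1 (.leaf
  346) (.leaf
  216)))) (.node 2 (.node 1 (.leaf
  331) (.leaf
  98)) (.node 1 (.leaf
  197) (.node 1 (.leaf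
  60) (.leaf
  576)))))) (.node 10 (.node 5 (.node 2 (.node 1 (.leaf
  330) (.leaf
  455)) (.node 1 (.leaf
  408) (.node 1 (.leaf
  463) (.leaf
  282)))) (.node 2 (.node 1 (.leaf
  343) (.leaf
  222)) (.node 1 (.leaf
  126) (.node 1 (.leaf
  95) (.leaf
  614))))) (.node 5 (.node 2 (.node 1 (.leaf
  458) (.leaf
  584)) (.node 1 (.leaf
  586) (.node 1 (.leaf
  17) (.leaf
  61)))) (.node 2 (.node 1 (.leaf
  560) (.leaf
  475)) (.node 1 (.leaf
  618) (.node 1 (.leaf
  397) (.leaf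
  311))))))) (.node 19 (.node 9 (.node 4 (.node 2 (.node 1 (.leaf
  169) (.leaf
  535)) (.node 1 (.leaf
  193) (.leaf
  138))) (.node 2 (.node 1 (.leaf
  47) (.leaf
  599)) (.node 1 (.leaf
  70) (.node 1 (.leaf
  577) (.leaf
  46))))) (.node 5 (.node 2 (.node 1 (.leaf
  146) (.leaf
  533)) (.node 1 (.leaf
  352) (.node 1 (.leaf
  540) (.leaf
  327)))) (.node 2 (.node 1 (.leaf
  438) (.leaf
  617)) (.node 1 (.leaf
  21) (.node 1 (.leaf
  261) (.leaf
  140)))))) (.node 10 (.node 5 (.node 2 (.node 1 (.leaf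
  67) (.leaf
  241)) (.node 1 (.leaf
  482) (.node 1 (.leaf
  435) (.leaf
  7)))) (.node 2 (.node 1 (.leaf
  544) (.leaf
  3)) (.node 1 (.leaf
  609) (.node 1 (.leaf
  594) (.leaf
  157))))) (.node 5 (.node 2 (.node 1 (.leaf
  390) (.leaf
  430)) (.node 1 (.leaf
  94) (.node 1 (.leaf
  550) (.leaf
  555)))) (.node 2 (.node 1 (.leaf
  462) (.leaf
  627)) (.node 1 (.leaf
  367) (.node 1 (.leaf
  238) (.leaf
  11)))))))) (.node 39 (.node 19 (.node 9 (.node 4 (.node 2 (.node 1 (.leaf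
  154) (.leaf
  358)) (.node 1 (.leaf
  336) (.leaf
  423))) (.node 2 (.node 1 (.leaf
  125) (.leaf
  286)) (.node 1 (.leaf
  153) (.node 1 (.leaf
  495) (.leaf
  605))))) (.node 5 (.node 2 (.node 1 (.leaf
  49) (.leaf
  417)) (.node 1 (.leaf
  543) (.node 1 (.leaf
  194) (.leaf
  486)))) (.node 2 (.node 1 (.leaf
  162) (.leaf
  190)) (.node 1 (.leaf
  473) (.node 1 (.leaf
  448) (.leaf
  13)))))) (.node 10 (.node 5 (.node 2 (.node 1 (.leaf
  151) (.leaf
  160)) (.node 1 (.leaf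
  574) (.node 1 (.leaf
  251) (.leaf
  415)))) (.node 2 (.node 1 (.leaf
  86) (.leaf
  259)) (.node 1 (.leaf
  622) (.node 1 (.leaf
  542) (.leaf
  500))))) (.node 5 (.node 2 (.node 1 (.leaf
  24) (.leaf
  247)) (.node 1 (.leaf
  426) (.node 1 (.leaf
  591) (.leaf
  376)))) (.node 2 (.node 1 (.leaf
  428) (.leaf
  626)) (.node 1 (.leaf
  75) (.node 1 (.leaf
  18) (.leaf
  527))))))) (.node 20 (.node 10 (.node 5 (.node 2 (.node 1 (.leaf
  219) (.leaf
  250)) (.node 1 (.leaf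
  71) (.node 1 (.leaf
  25) (.leaf
  464)))) (.node 2 (.node 1 (.leaf
  514) (.leaf
  317)) (.node 1 (.leaf
  115) (.node 1 (.leaf
  175) (.leaf
  470))))) (.node 5 (.node 2 (.node 1 (.leaf
  612) (.leaf
  606)) (.node 1 (.leaf
  371) (.node 1 (.leaf
  519) (.leaf
  191)))) (.node 2 (.node 1 (.leaf
  147) (.leaf
  59)) (.node 1 (.leaf
  522) (.node 1 (.leaf
  294) (.leaf
  280)))))) (.node 10 (.node 5 (.node 2 (.node 1 (.leaf
  137) (.leaf
  572)) (.node 1 (.leaf
  611) (.node 1 (.leaf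
  368) (.leaf
  534)))) (.node 2 (.node 1 (.leaf
  233) (.leaf
  40)) (.node 1 (.leaf
  163) (.node 1 (.leaf
  366) (.leaf
  266))))) (.node 5 (.node 2 (.node 1 (.leaf
  597) (.leaf
  496)) (.node 1 (.leaf
  192) (.node 1 (.leaf
  103) (.leaf
  295)))) (.node 2 (.node 1 (.leaf
  499) (.leaf
  291)) (.node 1 (.leaf
  113) (.node 1 (.leaf
  476) (.leaf
  121))))))))) (.node 79 (.node 39 (.node 19 (.node 9 (.node 4 (.node 2 (.node 1 (.leaf
  127) (.leaf
  325)) (.node 1 (.leaf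
  227) (.leaf
  19))) (.node 2 (.node 1 (.leaf
  267) (.leaf
  105)) (.node 1 (.leaf
  446) (.node 1 (.leaf
  287) (.leaf
  122))))) (.node 5 (.node 2 (.node 1 (.leaf
  517) (.leaf
  488)) (.node 1 (.leaf
  221) (.node 1 (.leaf
  624) (.leaf
  492)))) (.node 2 (.node 1 (.leaf
  243) (.leaf
  460)) (.node 1 (.leaf
  436) (.node 1 (.leaf
  91) (.leaf
  384)))))) (.node 10 (.node 5 (.node 2 (.node 1 (.leaf
  258) (.leaf
  51)) (.node 1 (.leaf
  575) (.node 1 (.leaf
  34) (.leaf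
  99)))) (.node 2 (.node 1 (.leaf
  283) (.leaf
  76)) (.node 1 (.leaf
  579) (.node 1 (.leaf
  549) (.leaf
  56))))) (.node 5 (.node 2 (.node 1 (.leaf
  185) (.leaf
  404)) (.node 1 (.leaf
  433) (.node 1 (.leaf
  310) (.leaf
  228)))) (.node 2 (.node 1 (.leaf
  300) (.leaf
  554)) (.node 1 (.leaf
  441) (.node 1 (.leaf
  208) (.leaf
  315))))))) (.node 20 (.node 10 (.node 5 (.node 2 (.node 1 (.leaf
  236) (.leaf
  100)) (.node 1 (.leaf
  421) (.node 1 (.leaf
  607) (.leaf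
  152)))) (.node 2 (.node 1 (.leaf
  506) (.leaf
  30)) (.node 1 (.leaf
  301) (.node 1 (.leaf
  293) (.leaf
  469))))) (.node 5 (.node 2 (.node 1 (.leaf
  383) (.leaf
  498)) (.node 1 (.leaf
  93) (.node 1 (.leaf
  375) (.leaf
  260)))) (.node 2 (.node 1 (.leaf
  116) (.leaf
  279)) (.node 1 (.leaf
  173) (.node 1 (.leaf
  212) (.leaf
  164)))))) (.node 10 (.node 5 (.node 2 (.node 1 (.leaf
  225) (.leaf
  468)) (.node 1 (.leaf
  412) (.node 1 (.leaf
  101) (.leaf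
  299)))) (.node 2 (.node 1 (.leaf
  211) (.leaf
  148)) (.node 1 (.leaf
  489) (.node 1 (.leaf
  439) (.leaf
  453))))) (.node 5 (.node 2 (.node 1 (.leaf
  109) (.leaf
  373)) (.node 1 (.leaf
  608) (.node 1 (.leaf
  187) (.leaf
  420)))) (.node 2 (.node 1 (.leaf
  159) (.leaf
  467)) (.node 1 (.leaf
  450) (.node 1 (.leaf
  203) (.leaf
  69)))))))) (.node 39 (.node 19 (.node 9 (.node 4 (.node 2 (.node 1 (.leaf
  546) (.leaf
  195)) (.node 1 (.leaf
  275) (.leaf
  131))) (.node 2 (.node 1 (.leaf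
  296) (.leaf
  483)) (.node 1 (.leaf
  82) (.node 1 (.leaf
  110) (.leaf
  509))))) (.node 5 (.node 2 (.node 1 (.leaf
  381) (.leaf
  347)) (.node 1 (.leaf
  41) (.node 1 (.leaf
  174) (.leaf
  369)))) (.node 2 (.node 1 (.leaf
  556) (.leaf
  569)) (.node 1 (.leaf
  393) (.node 1 (.leaf
  466) (.leaf
  77)))))) (.node 10 (.node 5 (.node 2 (.node 1 (.leaf
  547) (.leaf
  50)) (.node 1 (.leaf
  487) (.node 1 (.leaf
  273) (.leaf
  598)))) (.node 2 (.node 1 (.leaf
  226) (.leaf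
  201)) (.node 1 (.leaf
  502) (.node 1 (.leaf
  202) (.leaf
  297))))) (.node 5 (.node 2 (.node 1 (.leaf
  289) (.leaf
  565)) (.node 1 (.leaf
  481) (.node 1 (.leaf
  64) (.leaf
  54)))) (.node 2 (.node 1 (.leaf
  209) (.leaf
  292)) (.node 1 (.leaf
  480) (.node 1 (.leaf
  87) (.leaf
  133))))))) (.node 20 (.node 10 (.node 5 (.node 2 (.node 1 (.leaf
  437) (.leaf
  232)) (.node 1 (.leaf
  491) (.node 1 (.leaf
  150) (.leaf
  571)))) (.node 2 (.node 1 (.leaf
  284) (.leaf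
  374)) (.node 1 (.leaf
  459) (.node 1 (.leaf
  520) (.leaf
  447))))) (.node 5 (.node 2 (.node 1 (.leaf
  613) (.leaf
  79)) (.node 1 (.leaf
  90) (.node 1 (.leaf
  413) (.leaf
  615)))) (.node 2 (.node 1 (.leaf
  355) (.leaf
  416)) (.node 1 (.leaf
  107) (.node 1 (.leaf
  81) (.leaf
  512)))))) (.node 10 (.node 5 (.node 2 (.node 1 (.leaf
  493) (.leaf
  5)) (.node 1 (.leaf
  557) (.node 1 (.leaf
  536) (.leaf
  9)))) (.node 2 (.node 1 (.leaf
  545) (.leaf
  471)) (.node 1 (.leaf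
  213) (.node 1 (.leaf
  257) (.leaf
  525))))) (.node 5 (.node 2 (.node 1 (.leaf
  484) (.leaf
  573)) (.node 1 (.leaf
  518) (.node 1 (.leaf
  445) (.leaf
  88)))) (.node 2 (.node 1 (.leaf
  180) (.leaf
  242)) (.node 1 (.leaf
  134) (.node 1 (.leaf
  189) (.leaf
  136)))))))))))

/-- The coverage of the cosets in one orbit. -/
def cov2 : Tree :=
  (.node 315 (.node 157 (.node 78 (.node 39 (.node 19 (.node 9 (.node 4 (.node 2 (.node 1 (.leaf
  226492424) (.leaf
  462422418)) (.node 1 (.leaf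
  1745879055) (.leaf
  9828050491))) (.node 2 (.node 1 (.leaf
  415236665) (.leaf
  467140814)) (.node 1 (.leaf
  14674009583) (.node 1 (.leaf
  19505441294) (.leaf
  419955060))))) (.node 5 (.node 2 (.node 1 (.leaf
  797442520) (.leaf
  29151478199)) (.node 1 (.leaf
  29169944086) (.node 1 (.leaf
  33987765682) (.leaf
  34000801283)))) (.node 2 (.node 1 (.leaf
  38815665776) (.leaf
  38831244681)) (.node 1 (.leaf
  1311768975) (.node 1 (.leaf
  9861911965) (.leaf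
  14697528848)))))) (.node 10 (.node 5 (.node 2 (.node 1 (.leaf
  19526184499) (.leaf
  24360773974)) (.node 1 (.leaf
  471859597) (.node 1 (.leaf
  34024516001) (.leaf
  38855281190)))) (.node 2 (.node 1 (.leaf
  424673817) (.leaf
  48520031595)) (.node 1 (.leaf
  53352544354) (.node 1 (.leaf
  58183616018) (.leaf
  63016448629))))) (.node 5 (.node 2 (.node 1 (.leaf
  67848563954) (.leaf
  72676010109)) (.node 1 (.leaf
  77508031739) (.node 1 (.leaf
  24381228405) (.leaf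
  29213451292)))) (.node 2 (.node 1 (.leaf
  34046034504) (.leaf
  38876711360)) (.node 1 (.leaf
  43708317983) (.node 1 (.leaf
  53373197559) (.leaf
  63035788636))))))) (.node 19 (.node 9 (.node 4 (.node 2 (.node 1 (.leaf
  72703041009) (.leaf
  101691686976)) (.node 1 (.leaf
  476577853) (.leaf
  111354972762))) (.node 2 (.node 1 (.leaf
  116189882648) (.leaf
  121017729034)) (.node 1 (.leaf
  130683824385) (.node 1 (.leaf
  140345403863) (.leaf
  150010137056))))) (.node 5 (.node 2 (.node 1 (.leaf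
  231211011) (.leaf
  235929754)) (.node 1 (.leaf
  241770727436) (.node 1 (.leaf
  259522814) (.leaf
  246584190048)))) (.node 2 (.node 1 (.leaf
  246650199407) (.leaf
  256312156670)) (.node 1 (.leaf
  254804017) (.node 1 (.leaf
  270743380006) (.leaf
  270759820622)))))) (.node 10 (.node 5 (.node 2 (.node 1 (.leaf
  270806542610) (.leaf
  275593329896)) (.node 1 (.leaf
  275639961049) (.node 1 (.leaf
  264241152) (.leaf
  292552715)))) (.node 2 (.node 1 (.leaf
  1302331594) (.leaf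
  304606222433)) (.node 1 (.leaf
  304629410003) (.node 1 (.leaf
  309399128305) (.leaf
  309416201263))))) (.node 5 (.node 2 (.node 1 (.leaf
  309439819059) (.leaf
  309461896324)) (.node 1 (.leaf
  314295673081) (.node 1 (.leaf
  319077183640) (.leaf
  319100749056)))) (.node 2 (.node 1 (.leaf
  323933512075) (.leaf
  323959464156)) (.node 1 (.leaf
  328766554151) (.node 1 (.leaf
  333619390902) (.leaf
  338407960752)))))))) (.node 39 (.node 19 (.node 9 (.node 4 (.node 2 (.node 1 (.leaf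
  343235348833) (.leaf
  343260464457)) (.node 1 (.leaf
  348092301543) (.leaf
  348118276365))) (.node 2 (.node 1 (.leaf
  357778523640) (.leaf
  372229556486)) (.node 1 (.leaf
  381914254645) (.node 1 (.leaf
  381940198665) (.leaf
  311427683))))) (.node 5 (.node 2 (.node 1 (.leaf
  537920102) (.leaf
  556793874)) (.node 1 (.leaf
  420569738617) (.node 1 (.leaf
  542638081) (.leaf
  425401538939)))) (.node 2 (.node 1 (.leaf
  430194083860) (.leaf
  430211727707)) (.node 1 (.leaf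
  561512664) (.node 1 (.leaf
  430256947658) (.leaf
  435044241536)))))) (.node 10 (.node 5 (.node 2 (.node 1 (.leaf
  435088256422) (.leaf
  547356677)) (.node 1 (.leaf
  439919838702) (.node 1 (.leaf
  449560637798) (.leaf
  449586136499)))) (.node 2 (.node 1 (.leaf
  454393641988) (.leaf
  459189604714)) (.node 1 (.leaf
  459203290131) (.node 1 (.leaf
  459249812997) (.leaf
  464033598002))))) (.node 5 (.node 2 (.node 1 (.leaf
  552075694) (.leaf
  488239860123)) (.node 1 (.leaf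
  502734456178) (.node 1 (.leaf
  330301915) (.leaf
  396362120)))) (.node 2 (.node 1 (.leaf
  891813909) (.leaf
  536536366140)) (.node 1 (.leaf
  401080326) (.node 1 (.leaf
  541366728727) (.leaf
  546158200841))))))) (.node 20 (.node 10 (.node 5 (.node 2 (.node 1 (.leaf
  896532482) (.leaf
  546199595176)) (.node 1 (.leaf
  546222435478) (.node 1 (.leaf
  551007903910) (.leaf
  551054738446)))) (.node 2 (.node 1 (.leaf
  405798948) (.leaf
  555885062374)) (.node 1 (.leaf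
  565526450398) (.node 1 (.leaf
  565549263879) (.leaf
  570355286098))))) (.node 5 (.node 2 (.node 1 (.leaf
  575153686838) (.leaf
  575166874767)) (.node 1 (.leaf
  575213725934) (.node 1 (.leaf
  579996951712) (.leaf
  594542288918)))) (.node 2 (.node 1 (.leaf
  604201871432) (.leaf
  618697327751)) (.node 1 (.leaf
  353894612) (.node 1 (.leaf
  652450732149) (.leaf
  652473258531)))))) (.node 10 (.node 5 (.node 2 (.node 1 (.leaf
  1651507365) (.leaf
  657306743148)) (.node 1 (.leaf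
  657329423711) (.node 1 (.leaf
  662123028922) (.leaf
  662137634926)))) (.node 2 (.node 1 (.leaf
  662161254480) (.leaf
  662187759814)) (.node 1 (.leaf
  666972549504) (.node 1 (.leaf
  667018928406) (.leaf
  671786262622))))) (.node 5 (.node 2 (.node 1 (.leaf
  671849456019) (.leaf
  681487847633)) (.node 1 (.leaf
  681512332419) (.node 1 (.leaf
  686321102309) (.leaf
  691113313725)))) (.node 2 (.node 1 (.leaf
  691131836988) (.leaf
  691175419153)) (.node 1 (.leaf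
  695962645850) (.node 1 (.leaf
  710505734593) (.leaf
  720165667270))))))))) (.node 79 (.node 39 (.node 19 (.node 9 (.node 4 (.node 2 (.node 1 (.leaf
  734661204568) (.leaf
  368050592)) (.node 1 (.leaf
  830472791) (.leaf
  768439486860))) (.node 2 (.node 1 (.leaf
  768461766801) (.leaf
  835191092)) (.node 1 (.leaf
  773296273597) (.node 1 (.leaf
  778086915213) (.leaf
  778101684529))))) (.node 5 (.node 2 (.node 1 (.leaf
  778124731566) (.leaf
  778148273726)) (.node 1 (.leaf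
  782933308924) (.node 1 (.leaf
  787750627718) (.leaf
  839909463)))) (.node 2 (.node 1 (.leaf
  787812997582) (.leaf
  797452469735)) (.node 1 (.leaf
  797478444398) (.node 1 (.leaf
  802283653166) (.leaf
  807079818616)))))) (.node 10 (.node 5 (.node 2 (.node 1 (.leaf
  807092335736) (.leaf
  807142542860)) (.node 1 (.leaf
  816805955803) (.node 1 (.leaf
  821635537317) (.leaf
  836131077411)))) (.node 2 (.node 1 (.leaf
  850629494083) (.leaf
  391643473)) (.node 1 (.leaf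
  1774190696) (.node 1 (.leaf
  1760035435) (.leaf
  884425294243))))) (.node 5 (.node 2 (.node 1 (.leaf
  884451108964) (.leaf
  889233803673)) (.node 1 (.leaf
  889258760281) (.node 1 (.leaf
  1778909483) (.leaf
  894051546242)))) (.node 2 (.node 1 (.leaf
  894067552370) (.leaf
  894091155711)) (.node 1 (.leaf
  1764753969) (.node 1 (.leaf
  898897707121) (.leaf
  898947672347))))))) (.node 20 (.node 10 (.node 5 (.node 2 (.node 1 (.leaf
  903729057249) (.leaf
  903754538017)) (.node 1 (.leaf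
  908550480342) (.node 1 (.leaf
  908561048864) (.leaf
  908610563437)))) (.node 2 (.node 1 (.leaf
  913440750700) (.leaf
  1783628391)) (.node 1 (.leaf
  918248686935) (.node 1 (.leaf
  923082091668) (.leaf
  923106290154))))) (.node 5 (.node 2 (.node 1 (.leaf
  927911380566) (.leaf
  932705223881)) (.node 1 (.leaf
  932723812922) (.node 1 (.leaf
  932770073727) (.leaf
  937555815785)))) (.node 2 (.node 1 (.leaf
  942433865063) (.leaf
  947215923740)) (.node 1 (.leaf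
  947242836545) (.node 1 (.leaf
  952073418947) (.leaf
  952097893751)))))) (.node 10 (.node 5 (.node 2 (.node 1 (.leaf
  956882255183) (.leaf
  961758059060)) (.node 1 (.leaf
  971376157754) (.node 1 (.leaf
  976207377626) (.leaf
  976229761611)))) (.node 2 (.node 1 (.leaf
  1788346884) (.leaf
  990748666270)) (.node 1 (.leaf
  1005245754749) (.node 1 (.leaf
  1014862471652) (.leaf
  1024527698215))))) (.node 5 (.node 2 (.node 1 (.leaf
  1029380900036) (.leaf
  1029406416392)) (.node 1 (.leaf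
  1034191142041) (.node 1 (.leaf
  1063229545928) (.leaf
  410517609)))) (.node 2 (.node 1 (.leaf
  1236271319) (.leaf
  868220971)) (.node 1 (.leaf
  1283457170) (.node 1 (.leaf
  434110657) (.leaf
  0x103ed5cee24)))))))) (.node 39 (.node 19 (.node 9 (.node 4 (.node 2 (.node 1 (.leaf
  0x10509a0b102) (.leaf
  1240989817)) (.node 1 (.leaf
  0x1050bf21985) (.leaf
  0x1050d4fdd05))) (.node 2 (.node 1 (.leaf
  1259864176) (.leaf
  0x1062bf2f4bb)) (.node 1 (.leaf
  872940008) (.node 1 (.leaf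
  0x1074990c86b) (.leaf
  1321205917))))) (.node 5 (.node 2 (.node 1 (.leaf
  0x1074bf1cc66) (.leaf
  1288175936)) (.node 1 (.leaf
  783286700) (.node 1 (.leaf
  0x1086aa00932) (.leaf
  0x1086d4000e0)))) (.node 2 (.node 1 (.leaf
  0x1098a6a1cf0) (.leaf
  0x1098bd754d2)) (.node 1 (.leaf
  0x10aaaa88832) (.node 1 (.leaf
  0x10aad6b64aa) (.leaf
  0x10bc99c511d)))))) (.node 10 (.node 5 (.node 2 (.node 1 (.leaf
  0x10bcaa48c77) (.leaf
  1245708555)) (.node 1 (.leaf
  0x10ced3c061e) (.node 1 (.leaf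
  0x10e0a894c33) (.leaf
  0x10e0bf12560)))) (.node 2 (.node 1 (.leaf
  0x10f299c406f) (.leaf
  0x10f2a8af8eb)) (.node 1 (.leaf
  1264582755) (.node 1 (.leaf
  0x10f2d440590) (.leaf
  0x1104a9dc4cf))))) (.node 5 (.node 2 (.node 1 (.leaf
  0x1104d440538) (.leaf
  0x1116a6f38c8)) (.node 1 (.leaf
  877658230) (.node 1 (.leaf
  0x1128becb8a2) (.leaf
  0x1128d6c0182)))) (.node 2 (.node 1 (.leaf
  0x113a9a81c30) (.leaf
  0x113aa8cd522)) (.node 1 (.leaf
  0x113ac000467) (.node 1 (.leaf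
  0x113ad53e9aa) (.leaf
  0x114c9a0c953))))))) (.node 20 (.node 10 (.node 5 (.node 2 (.node 1 (.leaf
  0x114ca84984d) (.leaf
  0x114cd4005de)) (.node 1 (.leaf
  1292894504) (.node 1 (.leaf
  0x115ec0d6519) (.leaf
  788005454)))) (.node 2 (.node 1 (.leaf
  0x1182d3c065b) (.leaf
  0x1194a9964bf)) (.node 1 (.leaf
  0x1194bfae84c) (.node 1 (.leaf
  0x11a6bdb0147) (.leaf
  0x11a6d47b970))))) (.node 5 (.node 2 (.node 1 (.leaf
  0x11b8aa8a0a4) (.leaf
  0x11dca9b5086)) (.node 1 (.leaf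
  0x11eed5dc839) (.node 1 (.leaf
  1250427084) (.leaf
  0x1224a8d3074)))) (.node 2 (.node 1 (.leaf
  0x1224c01e52c) (.leaf
  0x1236d535c5c)) (.node 1 (.leaf
  0x125abecec7b) (.node 1 (.leaf
  0x125ad50edd3) (.leaf
  0x126cbf21cb6)))))) (.node 10 (.node 5 (.node 2 (.node 1 (.leaf
  0x127e990cd58) (.leaf
  0x127eaa47c8a)) (.node 1 (.leaf
  1269301654) (.node 1 (.leaf
  0x1290a822550) (.leaf
  0x12a2d38ee50)))) (.node 2 (.node 1 (.leaf
  0x12b4aa66cba) (.leaf
  0x12b4c0eec89)) (.node 1 (.leaf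
  0x12c6be300f6) (.node 1 (.leaf
  0x12c6d45e1bc) (.leaf
  882376790))))) (.node 5 (.node 2 (.node 1 (.leaf
  0x12ead43e8b1) (.leaf
  0x1320d69207e)) (.node 1 (.leaf
  0x1356d47ba0a) (.node 1 (.leaf
  0x1368d74ed26) (.leaf
  0x137aa946917)))) (.node 2 (.node 1 (.leaf
  0x139ea85c12e) (.leaf
  0x13b0a7588d0)) (.node 1 (.leaf
  0x13c2a6b205f) (.node 1 (.leaf
  0x13d4c038022) (.leaf
  0x13d4d68edb4)))))))))) (.node 157 (.node 78 (.node 39 (.node 19 (.node 9 (.node 4 (.node 2 (.node 1 (.leaf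
  0x13e6a6dc58a) (.leaf
  0x140ac050cac)) (.node 1 (.leaf
  0x1464d6c00a7) (.leaf
  0x149ad6c310e))) (.node 2 (.node 1 (.leaf
  0x14d0d53ba36) (.leaf
  1274020106)) (.node 1 (.leaf
  0x1518a95d8af) (.node 1 (.leaf
  0x152abdd705a) (.leaf
  0x152ad5cedf6))))) (.node 5 (.node 2 (.node 1 (.leaf
  0x153ca7b81bb) (.leaf
  0x15f0d4ce904)) (.node 1 (.leaf
  429391953) (.node 1 (.leaf
  0x16fe90ca0ef) (.leaf
  0x16fe9a8cc6d)))) (.node 2 (.node 1 (.leaf
  0x16fea7735dd) (.leaf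
  0x16febe7d907)) (.node 1 (.leaf
  0x16fed74edd5) (.node 1 (.leaf
  0x1710994e07a) (.leaf
  0x1710aa86a2e)))))) (.node 10 (.node 5 (.node 2 (.node 1 (.leaf
  0x1710beb5d3a) (.leaf
  0x1710d59cd65)) (.node 1 (.leaf
  0x1722a7fcd4a) (.node 1 (.leaf
  0x1722bdb00e5) (.leaf
  0x1722d440197)))) (.node 2 (.node 1 (.leaf
  0x1734990224c) (.leaf
  0x1734a6b4444)) (.node 1 (.leaf
  0x1734bd950b9) (.node 1 (.leaf
  0x17469a79837) (.leaf
  0x1746a6dc57e))))) (.node 5 (.node 2 (.node 1 (.leaf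
  0x1746d711c23) (.leaf
  0x1758a70ddcb)) (.node 1 (.leaf
  0x1758be00955) (.node 1 (.leaf
  0x176aa94513e) (.leaf
  0x177c9d12968)))) (.node 2 (.node 1 (.leaf
  0x177ca948c0d) (.leaf
  0x178ed68edc4)) (.node 1 (.leaf
  0x17a0c17e810) (.node 1 (.leaf
  0x17b29d6e4ad) (.leaf
  0x17b2aa09c4f))))))) (.node 19 (.node 9 (.node 4 (.node 2 (.node 1 (.leaf
  0x17b2c0cbc25) (.leaf
  0x17c4a7acc1a)) (.node 1 (.leaf
  0x17c4d54ea22) (.leaf
  0x17d6bf0c454))) (.node 2 (.node 1 (.leaf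
  0x17e8bd3e890) (.leaf
  0x17fa990cc45)) (.node 1 (.leaf
  0x17faa9dbe51) (.node 1 (.leaf
  0x17fabf27d37) (.leaf
  0x17fad50059c))))) (.node 5 (.node 2 (.node 1 (.leaf
  0x180c9a819d1) (.leaf
  0x180ca99652d)) (.node 1 (.leaf
  0x181ed4d249b) (.node 1 (.leaf
  0x1842be5260b) (.leaf
  0x18aebd0d144)))) (.node 2 (.node 1 (.leaf
  0x18d2c0c5c19) (.leaf
  0x18e4c10ee60)) (.node 1 (.leaf
  0x18f6990ccf8) (.node 1 (.leaf
  0x18f6a7fccb4) (.leaf
  0x191abe15c9c)))))) (.node 10 (.node 5 (.node 2 (.node 1 (.leaf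
  0x192ca8ac65f) (.leaf
  438829535)) (.node 1 (.leaf
  443548144) (.node 1 (.leaf
  0x1a5e9c585da) (.leaf
  0x1a5ea6cd5e6)))) (.node 2 (.node 1 (.leaf
  0x1a5ec02681f) (.leaf
  0x1a5ed74e8c2)) (.node 1 (.leaf
  448266504) (.node 1 (.leaf
  0x1a70aab8ce9) (.leaf
  0x1a70bd0d9e3))))) (.node 5 (.node 2 (.node 1 (.leaf
  0x1a70d48bcd6) (.leaf
  0x1a82bd4e5a2)) (.node 1 (.leaf
  0x1a82d68e88e) (.node 1 (.leaf
  0x1a94990cdcd) (.leaf
  0x1a94be1bcea)))) (.node 2 (.node 1 (.leaf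
  0x1a94d64ec95) (.leaf
  0x1aa6990c835)) (.node 1 (.leaf
  0x1aa6a986e69) (.node 1 (.leaf
  0x1aa6d7cb83b) (.leaf
  0x1ab8a6bccfa)))))))) (.node 39 (.node 19 (.node 9 (.node 4 (.node 2 (.node 1 (.leaf
  452984993) (.leaf
  0x1adc9d6e45b)) (.node 1 (.leaf
  0x1adcd4d207c) (.leaf
  0x1aeed380447))) (.node 2 (.node 1 (.leaf
  0x1b00a85718e) (.leaf
  0x1b12d54ec49)) (.node 1 (.leaf
  0x1b24a77dd95) (.node 1 (.leaf
  0x1b24c064d64) (.leaf
  0x1b36bdc9915))))) (.node 5 (.node 2 (.node 1 (.leaf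
  0x1b36d5cece2) (.leaf
  0x1b489981ddc)) (.node 1 (.leaf
  0x1b48d39e0df) (.node 1 (.leaf
  0x1b5aa7acc3f) (.leaf
  0x1b6cd4c008c)))) (.node 2 (.node 1 (.leaf
  0x1b7ed3bb987) (.leaf
  0x1b90aa3c85d)) (.node 1 (.leaf
  0x1ba2c000028) (.node 1 (.leaf
  0x1ba2d3ebd2a) (.leaf
  0x1bb4aadea18)))))) (.node 10 (.node 5 (.node 2 (.node 1 (.leaf
  0x1beaa9d3a4f) (.leaf
  0x1bfcd4058be)) (.node 1 (.leaf
  0x1c0ea779e49) (.node 1 (.leaf
  0x1c0ec099903) (.leaf
  0x1c68d3a526a)))) (.node 2 (.node 1 (.leaf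
  0x1c7aa96203e) (.leaf
  0x1c9ea9c4dbe)) (.node 1 (.leaf
  0x1cb0aa7f0f3) (.node 1 (.leaf
  0x1cc2d41e053) (.leaf
  0x1d0ad3cedd0))))) (.node 5 (.node 2 (.node 1 (.leaf
  457703741) (.leaf
  0x1dbe941ad52)) (.node 1 (.leaf
  0x1dbe9a81a13) (.node 1 (.leaf
  0x1dbeaa46976) (.leaf
  0x1dbebd7b130)))) (.node 2 (.node 1 (.leaf
  0x1dbed3cec18) (.leaf
  0x1dd099c4458)) (.node 1 (.leaf
  0x1dd0aaffa0d) (.node 1 (.leaf
  0x1dd0c14c23d) (.leaf
  0x1dd0d64001b))))))) (.node 20 (.node 10 (.node 5 (.node 2 (.node 1 (.leaf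
  0x1de2a944a06) (.leaf
  0x1de2bd0d59f)) (.node 1 (.leaf
  0x1de2d7ce829) (.node 1 (.leaf
  0x1df4990c8f5) (.leaf
  0x1df4a8a4e74)))) (.node 2 (.node 1 (.leaf
  0x1df4be6a5d4) (.leaf
  0x1df4d5ce942)) (.node 1 (.leaf
  0x1e06990fdf9) (.node 1 (.leaf
  0x1e06aadd62b) (.leaf
  0x1e06d410841))))) (.node 5 (.node 2 (.node 1 (.leaf
  0x1e18a681a43) (.leaf
  0x1e18c09cd0c)) (.node 1 (.leaf
  0x1e2aa698a0f) (.node 1 (.leaf
  0x1e2ad4cb8d5) (.leaf
  0x1e3c993994b)))) (.node 2 (.node 1 (.leaf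
  0x1e3ca894c38) (.leaf
  0x1e3cd3bbc20)) (.node 1 (.leaf
  0x1e4ed38e91e) (.node 1 (.leaf
  0x1e60a7dddc2) (.leaf
  0x1e60c10ea40)))))) (.node 10 (.node 5 (.node 2 (.node 1 (.leaf
  0x1e729c3113f) (.leaf
  0x1e72aa09d54)) (.node 1 (.leaf
  0x1e72bde5642) (.node 1 (.leaf
  0x1e84a843c34) (.leaf
  0x1e84d48011a)))) (.node 2 (.node 1 (.leaf
  0x1e96bfbb998) (.leaf
  0x1ea8c00c1ff)) (.node 1 (.leaf
  0x1eba9d329eb) (.node 1 (.leaf
  0x1ebaaae6573) (.leaf
  0x1ebac0159f5))))) (.node 5 (.node 2 (.node 1 (.leaf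
  0x1ebad3c05fd) (.leaf
  0x1ecc99c412f)) (.node 1 (.leaf
  0x1eccaaf7a71) (.node 1 (.leaf
  0x1ef0d4ab948) (.leaf
  0x1f14a738da7)))) (.node 2 (.node 1 (.leaf
  0x1f26d730628) (.leaf
  0x1fa4aa0ce29)) (.node 1 (.leaf
  0x1fb6d3b8e11) (.node 1 (.leaf
  481296943) (.leaf
  0x211e9101594))))))))) (.node 79 (.node 39 (.node 19 (.node 9 (.node 4 (.node 2 (.node 1 (.leaf
  0x211e9a84145) (.leaf
  0x211ea70326e)) (.node 1 (.leaf
  0x211ec04c584) (.leaf
  0x211ed505da4))) (.node 2 (.node 1 (.leaf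
  0x21309a8ca01) (.leaf
  0x2130a87e227)) (.node 1 (.leaf
  0x2130bd08614) (.node 1 (.leaf
  0x2130d38009e) (.leaf
  0x2142a97e1ed))))) (.node 5 (.node 2 (.node 1 (.leaf
  0x2142be8861b) (.leaf
  0x2142d3800ec)) (.node 1 (.leaf
  0x21549a8193c) (.node 1 (.leaf
  0x2154aa06246) (.leaf
  0x2154c03ed5e)))) (.node 2 (.node 1 (.leaf
  0x2154d3cea1f) (.leaf
  0x21669a0c97f)) (.node 1 (.leaf
  0x2166aac7e65) (.node 1 (.leaf
  0x2166d68e8ed) (.leaf
  0x2178a68ca2c)))))) (.node 10 (.node 5 (.node 2 (.node 1 (.leaf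
  0x2178be5c914) (.leaf
  0x218aa74a26d)) (.node 1 (.leaf
  0x218ad505959) (.node 1 (.leaf
  0x219c9c8c9f3) (.leaf
  0x219ca7638fd)))) (.node 2 (.node 1 (.leaf
  0x219cd6dcd5d) (.leaf
  0x21aed505ccb)) (.node 1 (.leaf
  0x21c0aaaea61) (.node 1 (.leaf
  0x21c0bdf59fb) (.leaf
  0x21d29d425af))))) (.node 5 (.node 2 (.node 1 (.leaf
  0x21d2a76d14d) (.leaf
  0x21d2c148664)) (.node 1 (.leaf
  0x21d2d4ceda8) (.node 1 (.leaf
  0x21e4a89c1a9) (.leaf
  0x21e4d50ecc5)))) (.node 2 (.node 1 (.leaf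
  0x21f6a99a25d) (.leaf
  0x21f6bdf05b9)) (.node 1 (.leaf
  0x2208bd081c5) (.node 1 (.leaf
  0x2208d6b5971) (.leaf
  0x221a99c0a45))))))) (.node 20 (.node 10 (.node 5 (.node 2 (.node 1 (.leaf
  0x221aa8688e4) (.leaf
  0x221abe6c9e2)) (.node 1 (.leaf
  0x221ad680563) (.node 1 (.leaf
  0x222c9904129) (.leaf
  0x222ca9fd262)))) (.node 2 (.node 1 (.leaf
  0x222cd4ce8e1) (.leaf
  0x223ea95d90f)) (.node 1 (.leaf
  0x223ebe01637) (.node 1 (.leaf
  0x2250d5ce89f) (.leaf
  0x2262d7ce8b3))))) (.node 5 (.node 2 (.node 1 (.leaf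
  0x2274a98a602) (.leaf
  0x2274c064a52)) (.node 1 (.leaf
  0x2286bd4ec2c) (.node 1 (.leaf
  0x2286d62be1a) (.leaf
  0x2298a84617a)))) (.node 2 (.node 1 (.leaf
  0x22bca682254) (.leaf
  0x22ced460e35)) (.node 1 (.leaf
  0x22f2aabe4ab) (.node 1 (.leaf
  0x2304a97e5f2) (.leaf
  0x2304be35991)))))) (.node 10 (.node 5 (.node 2 (.node 1 (.leaf
  0x2316d38ea6c) (.leaf
  0x233ac16e925)) (.node 1 (.leaf
  0x233ad465609) (.node 1 (.leaf
  0x234cc134a5e) (.leaf
  0x235e99855cf)))) (.node 2 (.node 1 (.leaf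
  0x235ea90959a) (.leaf
  0x235ed380110)) (.node 1 (.leaf
  0x2370a9468b8) (.node 1 (.leaf
  0x2382d6dcd39) (.leaf
  0x2394a95e9cc))))) (.node 5 (.node 2 (.node 1 (.leaf
  0x2394bd7b941) (.leaf
  0x23a6bf8597c)) (.node 1 (.leaf
  0x23a6d38ea6f) (.node 1 (.leaf
  0x23b8aa47c6a) (.leaf
  0x23cad59253b)))) (.node 2 (.node 1 (.leaf
  0x2400d43e9c7) (.leaf
  0x2436d729e21)) (.node 1 (.leaf
  0x2448d3d025c) (.node 1 (.leaf
  0x245aa7b24cd) (.leaf
  0x247ea6b24b2)))))))) (.node 39 (.node 19 (.node 9 (.node 4 (.node 2 (.node 1 (.leaf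
  0x2490a8aee30) (.leaf
  0x24a2aa129ab)) (.node 1 (.leaf
  0x24b4bf8b8b5) (.leaf
  0x24b4d3d05f7))) (.node 2 (.node 1 (.leaf
  0x24c6a987c4a) (.leaf
  0x24eabd3ba15)) (.node 1 (.leaf
  0x2544d6c3255) (.node 1 (.leaf
  0x257ad579a38) (.leaf
  0x25b0d7804e3))))) (.node 5 (.node 2 (.node 1 (.leaf
  0x25d4aa52d83) (.leaf
  0x25f8a7bc873)) (.node 1 (.leaf
  0x260ac14b888) (.node 1 (.leaf
  0x260ad594668) (.leaf
  0x261ca6e6c65)))) (.node 2 (.node 1 (.leaf
  0x26d0d3dedb5) (.leaf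
  585105591)) (.node 1 (.leaf
  0x27de9096e20) (.node 1 (.leaf
  0x27de990c9b0) (.leaf
  0x27deaa0781e)))))) (.node 10 (.node 5 (.node 2 (.node 1 (.leaf
  0x27debecbc46) (.leaf
  0x27ded5d0a25)) (.node 1 (.leaf
  0x27f0a7fcc1d) (.node 1 (.leaf
  0x27f0c17e897) (.leaf
  0x2802c0f391c)))) (.node 2 (.node 1 (.leaf
  0x28149a8c8c7) (.leaf
  0x2814a94d881)) (.node 1 (.leaf
  0x2814be46c55) (.node 1 (.leaf
  0x2826990c82a) (.leaf
  0x2826a735436))))) (.node 5 (.node 2 (.node 1 (.leaf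
  0x284a9940cc0) (.leaf
  0x284aa733146)) (.node 1 (.leaf
  641729031) (.node 1 (.leaf
  0x28fe938564a) (.leaf
  0x28fe9d4ae17)))) (.node 2 (.node 1 (.leaf
  0x28feaaa3244) (.leaf
  0x28fec110e72)) (.node 1 (.leaf
  0x2910bebbcdd) (.node 1 (.leaf
  0x2922a9b0a3f) (.leaf
  0x2922be401d2))))))) (.node 20 (.node 10 (.node 5 (.node 2 (.node 1 (.leaf
  0x2934aa7d8fc) (.leaf
  0x2934bf48a53)) (.node 1 (.leaf
  0x2946d53e9b1) (.node 1 (.leaf
  0x2958d6b5dc9) (.leaf
  0x296abfb044e)))) (.node 2 (.node 1 (.leaf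
  0x297ca7635fa) (.leaf
  0x29b2c04ed13)) (.node 1 (.leaf
  0x29c4c0381c3) (.node 1 (.leaf
  707788969) (.leaf
  0x2a1e906321d))))) (.node 5 (.node 2 (.node 1 (.leaf
  0x2a1e9a0c9ad) (.leaf
  0x2a1ea9db843)) (.node 1 (.leaf
  0x2a1ec08bc4b) (.node 1 (.leaf
  0x2a1ed6909e9) (.leaf
  0x2a30aaf2042)))) (.node 2 (.node 1 (.leaf
  0x2a30bfeec93) (.leaf
  0x2a42c0c0121)) (.node 1 (.leaf
  0x2a549d42524) (.node 1 (.leaf
  0x2a54a8464d9) (.leaf
  0x2a54c05fca3)))))) (.node 10 (.node 5 (.node 2 (.node 1 (.leaf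
  0x2a6699c442d) (.leaf
  0x2a66a7b5411)) (.node 1 (.leaf
  0x2a8a99c08bc) (.node 1 (.leaf
  0x2a8aa73d8f4) (.leaf
  731382272)))) (.node 2 (.node 1 (.leaf
  0x2b3e91d724d) (.leaf
  0x2b3e9d4ae2d)) (.node 1 (.leaf
  0x2b3ea9eea47) (.node 1 (.leaf
  0x2b3ec0cc273) (.leaf
  0x2b50bd3b885))))) (.node 5 (.node 2 (.node 1 (.leaf
  0x2b62a7f0a59) (.leaf
  0x2b62bf12581)) (.node 1 (.leaf
  0x2b74a87654c) (.node 1 (.leaf
  0x2b74c003e2a) (.leaf
  0x2b86d47edf4)))) (.node 2 (.node 1 (.leaf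
  0x2b98d6c29ec) (.leaf
  0x2baac0f048b)) (.node 1 (.leaf
  0x2bbca8e69b8) (.node 1 (.leaf
  0x2bf2c03d162) (.leaf
  0x2c04c173dbf)))))))))))

/-- Where each coset is covered. -/
def covAt2 : Tree :=
  (.node 315 (.node 157 (.node 78 (.node 39 (.node 19 (.node 9 (.node 4 (.node 2 (.node 1 (.leaf
  61) (.leaf
  90)) (.node 1 (.leaf
  117) (.leaf
  48))) (.node 2 (.node 1 (.leaf
  102) (.leaf
  98)) (.node 1 (.leaf
  114) (.node 1 (.leaf
  125) (.leaf
  0))))) (.node 5 (.node 2 (.node 1 (.leaf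
  116) (.leaf
  44)) (.node 1 (.leaf
  62) (.node 1 (.leaf
  50) (.leaf
  349)))) (.node 2 (.node 1 (.leaf
  121) (.leaf
  2)) (.node 1 (.leaf
  351) (.node 1 (.leaf
  611) (.leaf
  88)))))) (.node 10 (.node 5 (.node 2 (.node 1 (.leaf
  104) (.leaf
  92)) (.node 1 (.leaf
  112) (.node 1 (.leaf
  131) (.leaf
  115)))) (.node 2 (.node 1 (.leaf
  427) (.leaf
  368)) (.node 1 (.leaf
  355) (.node 1 (.leaf
  431) (.leaf
  33))))) (.node 5 (.node 2 (.node 1 (.leaf
  572) (.leaf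
  569)) (.node 1 (.leaf
  378) (.node 1 (.leaf
  448) (.leaf
  197)))) (.node 2 (.node 1 (.leaf
  313) (.leaf
  344)) (.node 1 (.leaf
  122) (.node 1 (.leaf
  354) (.leaf
  56))))))) (.node 19 (.node 9 (.node 4 (.node 2 (.node 1 (.leaf
  75) (.leaf
  409)) (.node 1 (.leaf
  434) (.leaf
  578))) (.node 2 (.node 1 (.leaf
  232) (.leaf
  523)) (.node 1 (.leaf
  610) (.node 1 (.leaf
  174) (.leaf
  67))))) (.node 5 (.node 2 (.node 1 (.leaf
  270) (.leaf
  55)) (.node 1 (.leaf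
  252) (.node 1 (.leaf
  258) (.leaf
  455)))) (.node 2 (.node 1 (.leaf
  389) (.leaf
  579)) (.node 1 (.leaf
  342) (.node 1 (.leaf
  447) (.leaf
  287)))))) (.node 10 (.node 5 (.node 2 (.node 1 (.leaf
  218) (.leaf
  391)) (.node 1 (.leaf
  113) (.node 1 (.leaf
  41) (.leaf
  417)))) (.node 2 (.node 1 (.leaf
  405) (.leaf
  40)) (.node 1 (.leaf
  441) (.node 1 (.leaf
  604) (.leaf
  601))))) (.node 5 (.node 2 (.node 1 (.leaf
  340) (.leaf
  359)) (.node 1 (.leaf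
  570) (.node 1 (.leaf
  396) (.leaf
  132)))) (.node 2 (.node 1 (.leaf
  398) (.leaf
  555)) (.node 1 (.leaf
  602) (.node 1 (.leaf
  282) (.leaf
  275)))))))) (.node 39 (.node 19 (.node 9 (.node 4 (.node 2 (.node 1 (.leaf
  594) (.leaf
  353)) (.node 1 (.leaf
  142) (.leaf
  326))) (.node 2 (.node 1 (.leaf
  126) (.leaf
  420)) (.node 1 (.leaf
  357) (.node 1 (.leaf
  577) (.leaf
  304))))) (.node 5 (.node 2 (.node 1 (.leaf
  170) (.leaf
  428)) (.node 1 (.leaf
  188) (.node 1 (.leaf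
  322) (.leaf
  394)))) (.node 2 (.node 1 (.leaf
  291) (.leaf
  408)) (.node 1 (.leaf
  146) (.node 1 (.leaf
  312) (.leaf
  52)))))) (.node 10 (.node 5 (.node 2 (.node 1 (.leaf
  64) (.leaf
  26)) (.node 1 (.leaf
  262) (.node 1 (.leaf
  186) (.leaf
  564)))) (.node 2 (.node 1 (.leaf
  245) (.leaf
  272)) (.node 1 (.leaf
  183) (.node 1 (.leaf
  230) (.leaf
  544))))) (.node 5 (.node 2 (.node 1 (.leaf
  243) (.leaf
  201)) (.node 1 (.leaf
  328) (.node 1 (.leaf
  141) (.leaf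
  260)))) (.node 2 (.node 1 (.leaf
  240) (.leaf
  194)) (.node 1 (.leaf
  191) (.node 1 (.leaf
  561) (.leaf
  289))))))) (.node 20 (.node 10 (.node 5 (.node 2 (.node 1 (.leaf
  135) (.leaf
  267)) (.node 1 (.leaf
  255) (.node 1 (.leaf
  176) (.leaf
  237)))) (.node 2 (.node 1 (.leaf
  332) (.leaf
  292)) (.node 1 (.leaf
  395) (.node 1 (.leaf
  30) (.leaf
  306))))) (.node 5 (.node 2 (.node 1 (.leaf
  209) (.leaf
  96)) (.node 1 (.leaf
  576) (.node 1 (.leaf
  190) (.leaf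
  149)))) (.node 2 (.node 1 (.leaf
  69) (.leaf
  619)) (.node 1 (.leaf
  286) (.node 1 (.leaf
  133) (.leaf
  562)))))) (.node 10 (.node 5 (.node 2 (.node 1 (.leaf
  301) (.leaf
  296)) (.node 1 (.leaf
  626) (.node 1 (.leaf
  406) (.leaf
  164)))) (.node 2 (.node 1 (.leaf
  385) (.leaf
  128)) (.node 1 (.leaf
  358) (.node 1 (.leaf
  161) (.leaf
  233))))) (.node 5 (.node 2 (.node 1 (.leaf
  605) (.leaf
  204)) (.node 1 (.leaf
  388) (.node 1 (.leaf
  119) (.leaf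
  573)))) (.node 2 (.node 1 (.leaf
  71) (.leaf
  228)) (.node 1 (.leaf
  49) (.node 1 (.leaf
  365) (.leaf
  372))))))))) (.node 79 (.node 39 (.node 19 (.node 9 (.node 4 (.node 2 (.node 1 (.leaf
  244) (.leaf
  479)) (.node 1 (.leaf
  519) (.leaf
  130))) (.node 2 (.node 1 (.leaf
  393) (.leaf
  268)) (.node 1 (.leaf
  609) (.node 1 (.leaf
  285) (.leaf
  137))))) (.node 5 (.node 2 (.node 1 (.leaf
  120) (.leaf
  317)) (.node 1 (.leaf
  118) (.node 1 (.leaf
  598) (.leaf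
  253)))) (.node 2 (.node 1 (.leaf
  528) (.leaf
  316)) (.node 1 (.leaf
  352) (.node 1 (.leaf
  166) (.leaf
  321)))))) (.node 10 (.node 5 (.node 2 (.node 1 (.leaf
  77) (.leaf
  305)) (.node 1 (.leaf
  550) (.node 1 (.leaf
  520) (.leaf
  371)))) (.node 2 (.node 1 (.leaf
  553) (.leaf
  294)) (.node 1 (.leaf
  566) (.node 1 (.leaf
  538) (.leaf
  341))))) (.node 5 (.node 2 (.node 1 (.leaf
  300) (.leaf
  241)) (.node 1 (.leaf
  612) (.node 1 (.leaf
  163) (.leaf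
  413)))) (.node 2 (.node 1 (.leaf
  281) (.leaf
  580)) (.node 1 (.leaf
  234) (.node 1 (.leaf
  379) (.leaf
  214))))))) (.node 20 (.node 10 (.node 5 (.node 2 (.node 1 (.leaf
  226) (.leaf
  505)) (.node 1 (.leaf
  143) (.node 1 (.leaf
  575) (.leaf
  266)))) (.node 2 (.node 1 (.leaf
  207) (.leaf
  63)) (.node 1 (.leaf
  497) (.node 1 (.leaf
  288) (.leaf
  549))))) (.node 5 (.node 2 (.node 1 (.leaf
  5) (.leaf
  264)) (.node 1 (.leaf
  311) (.node 1 (.leaf
  148) (.leaf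
  251)))) (.node 2 (.node 1 (.leaf
  65) (.leaf
  134)) (.node 1 (.leaf
  445) (.node 1 (.leaf
  383) (.leaf
  231)))))) (.node 10 (.node 5 (.node 2 (.node 1 (.leaf
  94) (.leaf
  608)) (.node 1 (.leaf
  219) (.node 1 (.leaf
  178) (.leaf
  74)))) (.node 2 (.node 1 (.leaf
  587) (.leaf
  124)) (.node 1 (.leaf
  404) (.node 1 (.leaf
  249) (.leaf
  516))))) (.node 5 (.node 2 (.node 1 (.leaf
  402) (.leaf
  559)) (.node 1 (.leaf
  511) (.node 1 (.leaf
  337) (.leaf
  123)))) (.node 2 (.node 1 (.leaf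
  80) (.leaf
  59)) (.node 1 (.leaf
  381) (.node 1 (.leaf
  387) (.leaf
  261)))))))) (.node 39 (.node 19 (.node 9 (.node 4 (.node 2 (.node 1 (.leaf
  482) (.leaf
  489)) (.node 1 (.leaf
  129) (.leaf
  327))) (.node 2 (.node 1 (.leaf
  250) (.leaf
  66)) (.node 1 (.leaf
  29) (.node 1 (.leaf
  419) (.leaf
  613))))) (.node 5 (.node 2 (.node 1 (.leaf
  435) (.leaf
  302)) (.node 1 (.leaf
  37) (.node 1 (.leaf
  370) (.leaf
  70)))) (.node 2 (.node 1 (.leaf
  392) (.leaf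
  31)) (.node 1 (.leaf
  590) (.node 1 (.leaf
  495) (.leaf
  51)))))) (.node 10 (.node 5 (.node 2 (.node 1 (.leaf
  192) (.leaf
  72)) (.node 1 (.leaf
  45) (.node 1 (.leaf
  236) (.leaf
  415)))) (.node 2 (.node 1 (.leaf
  325) (.leaf
  239)) (.node 1 (.leaf
  83) (.node 1 (.leaf
  330) (.leaf
  380))))) (.node 5 (.node 2 (.node 1 (.leaf
  85) (.leaf
  320)) (.node 1 (.leaf
  256) (.node 1 (.leaf
  443) (.leaf
  81)))) (.node 2 (.node 1 (.leaf
  318) (.leaf
  517)) (.node 1 (.leaf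
  537) (.node 1 (.leaf
  153) (.leaf
  58))))))) (.node 20 (.node 10 (.node 5 (.node 2 (.node 1 (.leaf
  596) (.leaf
  491)) (.node 1 (.leaf
  401) (.node 1 (.leaf
  145) (.leaf
  309)))) (.node 2 (.node 1 (.leaf
  43) (.leaf
  278)) (.node 1 (.leaf
  456) (.node 1 (.leaf
  195) (.leaf
  574))))) (.node 5 (.node 2 (.node 1 (.leaf
  254) (.leaf
  449)) (.node 1 (.leaf
  36) (.node 1 (.leaf
  199) (.leaf
  606)))) (.node 2 (.node 1 (.leaf
  271) (.leaf
  180)) (.node 1 (.leaf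
  607) (.node 1 (.leaf
  532) (.leaf
  308)))))) (.node 10 (.node 5 (.node 2 (.node 1 (.leaf
  225) (.leaf
  277)) (.node 1 (.leaf
  514) (.node 1 (.leaf
  410) (.leaf
  189)))) (.node 2 (.node 1 (.leaf
  290) (.leaf
  364)) (.node 1 (.leaf
  310) (.node 1 (.leaf
  463) (.leaf
  426))))) (.node 5 (.node 2 (.node 1 (.leaf
  165) (.leaf
  248)) (.node 1 (.leaf
  68) (.node 1 (.leaf
  162) (.leaf
  84)))) (.node 2 (.node 1 (.leaf
  127) (.leaf
  361)) (.node 1 (.leaf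
  265) (.node 1 (.leaf
  539) (.leaf
  334)))))))))) (.node 157 (.node 78 (.node 39 (.node 19 (.node 9 (.node 4 (.node 2 (.node 1 (.leaf
  545) (.leaf
  483)) (.node 1 (.leaf
  422) (.leaf
  347))) (.node 2 (.node 1 (.leaf
  452) (.leaf
  246)) (.node 1 (.leaf
  541) (.node 1 (.leaf
  438) (.leaf
  181))))) (.node 5 (.node 2 (.node 1 (.leaf
  367) (.leaf
  472)) (.node 1 (.leaf
  581) (.node 1 (.leaf
  283) (.leaf
  465)))) (.node 2 (.node 1 (.leaf
  79) (.leaf
  336)) (.node 1 (.leaf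
  446) (.node 1 (.leaf
  622) (.leaf
  501)))))) (.node 10 (.node 5 (.node 2 (.node 1 (.leaf
  57) (.leaf
  216)) (.node 1 (.leaf
  298) (.node 1 (.leaf
  182) (.leaf
  423)))) (.node 2 (.node 1 (.leaf
  274) (.leaf
  453)) (.node 1 (.leaf
  346) (.node 1 (.leaf
  20) (.leaf
  203))))) (.node 5 (.node 2 (.node 1 (.leaf
  295) (.leaf
  493)) (.node 1 (.leaf
  154) (.node 1 (.leaf
  93) (.leaf
  38)))) (.node 2 (.node 1 (.leaf
  496) (.leaf
  485)) (.node 1 (.leaf
  139) (.node 1 (.leaf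
  259) (.leaf
  78))))))) (.node 19 (.node 9 (.node 4 (.node 2 (.node 1 (.leaf
  628) (.leaf
  513)) (.node 1 (.leaf
  400) (.leaf
  335))) (.node 2 (.node 1 (.leaf
  100) (.leaf
  211)) (.node 1 (.leaf
  348) (.node 1 (.leaf
  210) (.leaf
  103))))) (.node 5 (.node 2 (.node 1 (.leaf
  25) (.leaf
  138)) (.node 1 (.leaf
  200) (.node 1 (.leaf
  173) (.leaf
  53)))) (.node 2 (.node 1 (.leaf
  284) (.leaf
  509)) (.node 1 (.leaf
  109) (.node 1 (.leaf
  460) (.leaf
  8)))))) (.node 10 (.node 5 (.node 2 (.node 1 (.leaf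
  32) (.leaf
  425)) (.node 1 (.leaf
  215) (.node 1 (.leaf
  175) (.leaf
  89)))) (.node 2 (.node 1 (.leaf
  525) (.leaf
  91)) (.node 1 (.leaf
  542) (.node 1 (.leaf
  223) (.leaf
  343))))) (.node 5 (.node 2 (.node 1 (.leaf
  487) (.leaf
  144)) (.node 1 (.leaf
  621) (.node 1 (.leaf
  269) (.leaf
  560)))) (.node 2 (.node 1 (.leaf
  474) (.leaf
  238)) (.node 1 (.leaf
  169) (.node 1 (.leaf
  407) (.leaf
  111)))))))) (.node 39 (.node 19 (.node 9 (.node 4 (.node 2 (.node 1 (.leaf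
  15) (.leaf
  315)) (.node 1 (.leaf
  73) (.leaf
  160))) (.node 2 (.node 1 (.leaf
  21) (.leaf
  397)) (.node 1 (.leaf
  16) (.node 1 (.leaf
  263) (.leaf
  530))))) (.node 5 (.node 2 (.node 1 (.leaf
  1) (.leaf
  147)) (.node 1 (.leaf
  471) (.node 1 (.leaf
  399) (.leaf
  297)))) (.node 2 (.node 1 (.leaf
  338) (.leaf
  457)) (.node 1 (.leaf
  187) (.node 1 (.leaf
  536) (.leaf
  108)))))) (.node 10 (.node 5 (.node 2 (.node 1 (.leaf
  362) (.leaf
  17)) (.node 1 (.leaf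
  222) (.node 1 (.leaf
  433) (.leaf
  158)))) (.node 2 (.node 1 (.leaf
  22) (.leaf
  384)) (.node 1 (.leaf
  185) (.node 1 (.leaf
  475) (.leaf
  179))))) (.node 5 (.node 2 (.node 1 (.leaf
  97) (.leaf
  466)) (.node 1 (.leaf
  503) (.node 1 (.leaf
  504) (.leaf
  273)))) (.node 2 (.node 1 (.leaf
  552) (.leaf
  247)) (.node 1 (.leaf
  600) (.node 1 (.leaf
  107) (.leaf
  500))))))) (.node 20 (.node 10 (.node 5 (.node 2 (.node 1 (.leaf
  568) (.leaf
  592)) (.node 1 (.leaf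
  12) (.node 1 (.leaf
  101) (.leaf
  314)))) (.node 2 (.node 1 (.leaf
  565) (.leaf
  76)) (.node 1 (.leaf
  10) (.node 1 (.leaf
  627) (.leaf
  507))))) (.node 5 (.node 2 (.node 1 (.leaf
  140) (.leaf
  324)) (.node 1 (.leaf
  303) (.node 1 (.leaf
  151) (.leaf
  418)))) (.node 2 (.node 1 (.leaf
  629) (.leaf
  35)) (.node 1 (.leaf
  155) (.node 1 (.leaf
  450) (.leaf
  597)))))) (.node 10 (.node 5 (.node 2 (.node 1 (.leaf
  350) (.leaf
  508)) (.node 1 (.leaf
  156) (.node 1 (.leaf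
  546) (.leaf
  229)))) (.node 2 (.node 1 (.leaf
  593) (.leaf
  95)) (.node 1 (.leaf
  345) (.node 1 (.leaf
  540) (.leaf
  386))))) (.node 5 (.node 2 (.node 1 (.leaf
  171) (.leaf
  535)) (.node 1 (.leaf
  421) (.node 1 (.leaf
  363) (.leaf
  589)))) (.node 2 (.node 1 (.leaf
  293) (.leaf
  437)) (.node 1 (.leaf
  331) (.node 1 (.leaf
  198) (.leaf
  46))))))))) (.node 79 (.node 39 (.node 19 (.node 9 (.node 4 (.node 2 (.node 1 (.leaf
  9) (.leaf
  60)) (.node 1 (.leaf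
  376) (.leaf
  110))) (.node 2 (.node 1 (.leaf
  403) (.leaf
  329)) (.node 1 (.leaf
  276) (.node 1 (.leaf
  374) (.leaf
  47))))) (.node 5 (.node 2 (.node 1 (.leaf
  196) (.leaf
  512)) (.node 1 (.leaf
  382) (.node 1 (.leaf
  224) (.leaf
  150)))) (.node 2 (.node 1 (.leaf
  377) (.leaf
  172)) (.node 1 (.leaf
  242) (.node 1 (.leaf
  603) (.leaf
  205)))))) (.node 10 (.node 5 (.node 2 (.node 1 (.leaf
  459) (.leaf
  625)) (.node 1 (.leaf
  480) (.node 1 (.leaf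
  99) (.leaf
  6)))) (.node 2 (.node 1 (.leaf
  375) (.leaf
  39)) (.node 1 (.leaf
  529) (.node 1 (.leaf
  494) (.leaf
  624))))) (.node 5 (.node 2 (.node 1 (.leaf
  461) (.leaf
  323)) (.node 1 (.leaf
  554) (.node 1 (.leaf
  82) (.leaf
  439)))) (.node 2 (.node 1 (.leaf
  595) (.leaf
  499)) (.node 1 (.leaf
  168) (.node 1 (.leaf
  462) (.leaf
  54))))))) (.node 20 (.node 10 (.node 5 (.node 2 (.node 1 (.leaf
  458) (.leaf
  614)) (.node 1 (.leaf
  476) (.node 1 (.leaf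
  521) (.leaf
  13)))) (.node 2 (.node 1 (.leaf
  221) (.leaf
  105)) (.node 1 (.leaf
  432) (.node 1 (.leaf
  582) (.leaf
  227))))) (.node 5 (.node 2 (.node 1 (.leaf
  533) (.leaf
  307)) (.node 1 (.leaf
  366) (.node 1 (.leaf
  177) (.leaf
  429)))) (.node 2 (.node 1 (.leaf
  7) (.leaf
  444)) (.node 1 (.leaf
  18) (.node 1 (.leaf
  469) (.leaf
  27)))))) (.node 10 (.node 5 (.node 2 (.node 1 (.leaf
  424) (.leaf
  478)) (.node 1 (.leaf
  556) (.node 1 (.leaf
  11) (.leaf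
  584)))) (.node 2 (.node 1 (.leaf
  411) (.leaf
  24)) (.node 1 (.leaf
  524) (.node 1 (.leaf
  481) (.leaf
  212))))) (.node 5 (.node 2 (.node 1 (.leaf
  599) (.leaf
  257)) (.node 1 (.leaf
  486) (.node 1 (.leaf
  567) (.leaf
  547)))) (.node 2 (.node 1 (.leaf
  356) (.leaf
  136)) (.node 1 (.leaf
  235) (.node 1 (.leaf
  571) (.leaf
  23)))))))) (.node 39 (.node 19 (.node 9 (.node 4 (.node 2 (.node 1 (.leaf
  477) (.leaf
  467)) (.node 1 (.leaf
  468) (.leaf
  623))) (.node 2 (.node 1 (.leaf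
  440) (.leaf
  490)) (.node 1 (.leaf
  616) (.node 1 (.leaf
  333) (.leaf
  470))))) (.node 5 (.node 2 (.node 1 (.leaf
  551) (.leaf
  193)) (.node 1 (.leaf
  106) (.node 1 (.leaf
  19) (.leaf
  217)))) (.node 2 (.node 1 (.leaf
  527) (.leaf
  319)) (.node 1 (.leaf
  518) (.node 1 (.leaf
  558) (.leaf
  4)))))) (.node 10 (.node 5 (.node 2 (.node 1 (.leaf
  208) (.leaf
  3)) (.node 1 (.leaf
  152) (.node 1 (.leaf
  430) (.leaf
  167)))) (.node 2 (.node 1 (.leaf
  588) (.leaf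
  451)) (.node 1 (.leaf
  213) (.node 1 (.leaf
  454) (.leaf
  442))))) (.node 5 (.node 2 (.node 1 (.leaf
  585) (.leaf
  510)) (.node 1 (.leaf
  484) (.node 1 (.leaf
  617) (.leaf
  34)))) (.node 2 (.node 1 (.leaf
  414) (.leaf
  583)) (.node 1 (.leaf
  220) (.node 1 (.leaf
  339) (.leaf
  615))))))) (.node 20 (.node 10 (.node 5 (.node 2 (.node 1 (.leaf
  279) (.leaf
  412)) (.node 1 (.leaf
  299) (.node 1 (.leaf
  360) (.leaf
  522)))) (.node 2 (.node 1 (.leaf
  591) (.leaf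
  526)) (.node 1 (.leaf
  557) (.node 1 (.leaf
  206) (.leaf
  159))))) (.node 5 (.node 2 (.node 1 (.leaf
  157) (.leaf
  620)) (.node 1 (.leaf
  42) (.node 1 (.leaf
  280) (.leaf
  548)))) (.node 2 (.node 1 (.leaf
  506) (.leaf
  534)) (.node 1 (.leaf
  373) (.node 1 (.leaf
  369) (.leaf
  498)))))) (.node 10 (.node 5 (.node 2 (.node 1 (.leaf
  515) (.leaf
  86)) (.node 1 (.leaf
  502) (.node 1 (.leaf
  488) (.leaf
  87)))) (.node 2 (.node 1 (.leaf
  202) (.leaf
  563)) (.node 1 (.leaf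
  390) (.node 1 (.leaf
  416) (.leaf
  184))))) (.node 5 (.node 2 (.node 1 (.leaf
  531) (.leaf
  492)) (.node 1 (.leaf
  473) (.node 1 (.leaf
  543) (.leaf
  14)))) (.node 2 (.node 1 (.leaf
  464) (.leaf
  586)) (.node 1 (.leaf
  618) (.node 1 (.leaf
  436) (.leaf
  28)))))))))))

/-- The coverage of the cosets in one orbit. -/
def cov3 : Tree :=
  (.node 315 (.node 157 (.node 78 (.node 39 (.node 19 (.node 9 (.node 4 (.node 2 (.node 1 (.leaf
  736100355) (.leaf
  660603100)) (.node 1 (.leaf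
  665321839) (.leaf
  1415577856))) (.node 2 (.node 1 (.leaf
  712507489) (.leaf
  754974874)) (.node 1 (.leaf
  1420296587) (.node 1 (.leaf
  20028772448) (.leaf
  24788346121))))) (.node 5 (.node 2 (.node 1 (.leaf
  29519825205) (.leaf
  750256382)) (.node 1 (.leaf
  53679516824) (.node 1 (.leaf
  1174929918) (.leaf
  58683280560)))) (.node 2 (.node 1 (.leaf
  58610957514) (.leaf
  1179648438)) (.node 1 (.leaf
  63513508911) (.node 1 (.leaf
  73007655161) (.leaf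
  82669739020)))))) (.node 10 (.node 5 (.node 2 (.node 1 (.leaf
  759693312) (.leaf
  778567691)) (.node 1 (.leaf
  101997103153) (.node 1 (.leaf
  102167045361) (.leaf
  102099512589)))) (.node 2 (.node 1 (.leaf
  107002448376) (.leaf
  111661602121)) (.node 1 (.leaf
  111831293401) (.node 1 (.leaf
  111761741031) (.leaf
  116665838926))))) (.node 5 (.node 2 (.node 1 (.leaf
  504889555) (.leaf
  533201203)) (.node 1 (.leaf
  145656014886) (.node 1 (.leaf
  145586193540) (.leaf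
  150486482194)))) (.node 2 (.node 1 (.leaf
  150415442273) (.leaf
  155147872295)) (.node 1 (.leaf
  164910080232) (.node 1 (.leaf
  169815671046) (.leaf
  5404674517))))))) (.node 19 (.node 9 (.node 4 (.node 2 (.node 1 (.leaf
  1821376541) (.leaf
  670040430)) (.node 1 (.leaf
  19902388562) (.leaf
  717226526))) (.node 2 (.node 1 (.leaf
  29565957616) (.leaf
  34398393584)) (.node 1 (.leaf
  39226087885) (.node 1 (.leaf
  44058593365) (.leaf
  48893425909))))) (.node 5 (.node 2 (.node 1 (.leaf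
  1859125547) (.leaf
  58554363196)) (.node 1 (.leaf
  63388306448) (.node 1 (.leaf
  68218275338) (.leaf
  73051951517)))) (.node 2 (.node 1 (.leaf
  77881942108) (.leaf
  82712624665)) (.node 1 (.leaf
  87545392532) (.node 1 (.leaf
  92377762332) (.leaf
  97210138074)))))) (.node 10 (.node 5 (.node 2 (.node 1 (.leaf
  102040447507) (.leaf
  106873350614)) (.node 1 (.leaf
  111707206003) (.node 1 (.leaf
  116539587126) (.leaf
  121371487404)))) (.node 2 (.node 1 (.leaf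
  126202271045) (.leaf
  131032467509)) (.node 1 (.leaf
  135865947364) (.node 1 (.leaf
  140698950993) (.leaf
  589824342))))) (.node 5 (.node 2 (.node 1 (.leaf
  575668424) (.leaf
  155190668740)) (.node 1 (.leaf
  160022272066) (.node 1 (.leaf
  164853455121) (.leaf
  169689373938)))) (.node 2 (.node 1 (.leaf
  174519011918) (.leaf
  179351893451)) (.node 1 (.leaf
  184181115043) (.node 1 (.leaf
  189036558693) (.leaf
  188973317300)))))))) (.node 39 (.node 19 (.node 9 (.node 4 (.node 2 (.node 1 (.leaf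
  189070089401) (.leaf
  193869171742)) (.node 1 (.leaf
  1826095177) (.leaf
  193974261053))) (.node 2 (.node 1 (.leaf
  193902476358) (.leaf
  198701261221)) (.node 1 (.leaf
  674758992) (.node 1 (.leaf
  198806103264) (.leaf
  198736147645))))) (.node 5 (.node 2 (.node 1 (.leaf
  203468772784) (.leaf
  203639004251)) (.node 1 (.leaf
  203568798187) (.node 1 (.leaf
  721944952) (.leaf
  208470400051)))) (.node 2 (.node 1 (.leaf
  208399477142) (.leaf
  213196502495)) (.node 1 (.leaf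
  213132427590) (.node 1 (.leaf
  213301727563) (.leaf
  213232399765)))))) (.node 10 (.node 5 (.node 2 (.node 1 (.leaf
  217961483312) (.leaf
  218062977170)) (.node 1 (.leaf
  222794248642) (.node 1 (.leaf
  222893237311) (.leaf
  227692888118)))) (.node 2 (.node 1 (.leaf
  227625812342) (.leaf
  227724776490)) (.node 1 (.leaf
  232457414879) (.node 1 (.leaf
  232557121822) (.leaf
  237354632292))))) (.node 5 (.node 2 (.node 1 (.leaf
  237288849519) (.leaf
  1863844339)) (.node 1 (.leaf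
  237387686253) (.node 1 (.leaf
  242124330554) (.leaf
  242291558577)))) (.node 2 (.node 1 (.leaf
  242219527546) (.leaf
  247020666197)) (.node 1 (.leaf
  246956557784) (.node 1 (.leaf
  247122988130) (.leaf
  247055786449))))))) (.node 20 (.node 10 (.node 5 (.node 2 (.node 1 (.leaf
  251788785891) (.leaf
  251884739721)) (.node 1 (.leaf
  256683045263) (.node 1 (.leaf
  256618554716) (.leaf
  256715294781)))) (.node 2 (.node 1 (.leaf
  261515416944) (.leaf
  261450352935)) (.node 1 (.leaf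
  261617908271) (.node 1 (.leaf
  261547678763) (.leaf
  266283573562))))) (.node 5 (.node 2 (.node 1 (.leaf
  266381513230) (.leaf
  271112288502)) (.node 1 (.leaf
  271281674458) (.node 1 (.leaf
  271214594671) (.leaf
  275946039697)))) (.node 2 (.node 1 (.leaf
  276045035633) (.leaf
  280842224904)) (.node 1 (.leaf
  280778110211) (.node 1 (.leaf
  280875278526) (.leaf
  285675938904)))))) (.node 10 (.node 5 (.node 2 (.node 1 (.leaf
  285608830178) (.leaf
  285778895167)) (.node 1 (.leaf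
  285708603921) (.node 1 (.leaf
  290505925762) (.leaf
  290439967041)))) (.node 2 (.node 1 (.leaf
  290609770940) (.leaf
  290542005443)) (.node 1 (.leaf
  295275126183) (.node 1 (.leaf
  295442044322) (.leaf
  295370546200))))) (.node 5 (.node 2 (.node 1 (.leaf
  300173174030) (.leaf
  300106361147)) (.node 1 (.leaf
  300276935784) (.node 1 (.leaf
  300203131980) (.leaf
  304938489213)))) (.node 2 (.node 1 (.leaf
  305107081729) (.leaf
  305034347625)) (.node 1 (.leaf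
  309767034183) (.node 1 (.leaf
  309869906540) (.leaf
  314600993236))))))))) (.node 79 (.node 39 (.node 19 (.node 9 (.node 4 (.node 2 (.node 1 (.leaf
  314700562896) (.leaf
  319496706479)) (.node 1 (.leaf
  319434274369) (.leaf
  319530504572))) (.node 2 (.node 1 (.leaf
  324263271531) (.leaf
  324361559415)) (.node 1 (.leaf
  599261581) (.node 1 (.leaf
  329096508845) (.leaf
  329263776803))))) (.node 5 (.node 2 (.node 1 (.leaf
  329194700326) (.leaf
  1368391814)) (.node 1 (.leaf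
  580386935) (.node 1 (.leaf
  334096746842) (.leaf
  334026783856)))) (.node 2 (.node 1 (.leaf
  338758070720) (.leaf
  338930016323)) (.node 1 (.leaf
  338856512538) (.node 1 (.leaf
  343589272645) (.leaf
  343689935947)))))) (.node 10 (.node 5 (.node 2 (.node 1 (.leaf
  348421551400) (.leaf
  348591504696)) (.node 1 (.leaf
  348520466710) (.node 1 (.leaf
  353321358587) (.leaf
  353253915959)))) (.node 2 (.node 1 (.leaf
  353423205393) (.leaf
  353354664309)) (.node 1 (.leaf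
  358088687980) (.node 1 (.leaf
  358184851934) (.leaf
  362984018327))))) (.node 5 (.node 2 (.node 1 (.leaf
  362918849780) (.leaf
  363019218397)) (.node 1 (.leaf
  367748564331) (.node 1 (.leaf
  367847597101) (.leaf
  372583810656)))) (.node 2 (.node 1 (.leaf
  372682025342) (.leaf
  377458417241)) (.node 1 (.leaf
  387077153932) (.node 1 (.leaf
  387179128983) (.leaf
  392078691907))))))) (.node 20 (.node 10 (.node 5 (.node 2 (.node 1 (.leaf
  392006726023) (.leaf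
  1830814292)) (.node 1 (.leaf
  396740717093) (.node 1 (.leaf
  396842517844) (.leaf
  401742391336)))) (.node 2 (.node 1 (.leaf
  401617083694) (.leaf
  406502824081)) (.node 1 (.leaf
  703070443) (.node 1 (.leaf
  411279638973) (.leaf
  416068237799))))) (.node 5 (.node 2 (.node 1 (.leaf
  416168987216) (.leaf
  421068375161)) (.node 1 (.leaf
  420940940813) (.node 1 (.leaf
  425832740993) (.leaf
  425775286431)))) (.node 2 (.node 1 (.leaf
  726663750) (.leaf
  454822150680)) (.node 1 (.leaf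
  459599332703) (.node 1 (.leaf
  464484059201) (.leaf
  469389800732)))))) (.node 10 (.node 5 (.node 2 (.node 1 (.leaf
  474094433551) (.leaf
  483755693505)) (.node 1 (.leaf
  498252274285) (.node 1 (.leaf
  507913968865) (.leaf
  517535756578)))) (.node 2 (.node 1 (.leaf
  517635073585) (.leaf
  522538703416)) (.node 1 (.leaf
  522467350614) (.node 1 (.leaf
  522409611756) (.leaf
  1868563030))))) (.node 5 (.node 2 (.node 1 (.leaf
  527299049516) (.leaf
  532203906342)) (.node 1 (.leaf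
  536965433828) (.node 1 (.leaf
  536908876033) (.leaf
  546570140242)))) (.node 2 (.node 1 (.leaf
  551359188502) (.leaf
  551457410192)) (.node 1 (.leaf
  556361148913) (.node 1 (.leaf
  556235553325) (.leaf
  561022923015)))))))) (.node 39 (.node 19 (.node 9 (.node 4 (.node 2 (.node 1 (.leaf
  561122698735) (.leaf
  566025614400)) (.node 1 (.leaf
  570728217200) (.leaf
  585227902432))) (.node 2 (.node 1 (.leaf
  594945306882) (.leaf
  599721463223)) (.node 1 (.leaf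
  604609188373) (.node 1 (.leaf
  609511702783) (.leaf
  614217177659))))) (.node 5 (.node 2 (.node 1 (.leaf
  623879433618) (.leaf
  638378293688)) (.node 1 (.leaf
  647999336042) (.node 1 (.leaf
  648094188842) (.leaf
  652873006655)))) (.node 2 (.node 1 (.leaf
  662490739044) (.leaf
  662593397288)) (.node 1 (.leaf
  667496199723) (.node 1 (.leaf
  667368513090) (.leaf
  672158711337)))))) (.node 10 (.node 5 (.node 2 (.node 1 (.leaf
  672254719003) (.leaf
  677157701715)) (.node 1 (.leaf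
  677029016861) (.node 1 (.leaf
  681820854876) (.leaf
  681918371151)))) (.node 2 (.node 1 (.leaf
  686822445220) (.leaf
  686751712801)) (.node 1 (.leaf
  686695890426) (.node 1 (.leaf
  691484208542) (.leaf
  691580702935))))) (.node 5 (.node 2 (.node 1 (.leaf
  696483767834) (.leaf
  701191243160)) (.node 1 (.leaf
  710852088395) (.node 1 (.leaf
  715742544172) (.leaf
  720515825265)))) (.node 2 (.node 1 (.leaf
  725403884036) (.leaf
  730310151274)) (.node 1 (.leaf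
  735011403257) (.node 1 (.leaf
  749509399874) (.leaf
  759174068759))))))) (.node 20 (.node 10 (.node 5 (.node 2 (.node 1 (.leaf
  773668952277) (.leaf
  783329662409)) (.node 1 (.leaf
  792953605609) (.node 1 (.leaf
  632291745) (.leaf
  797956257871)))) (.node 2 (.node 1 (.leaf
  797883738329) (.leaf
  797828911341)) (.node 1 (.leaf
  802615677512) (.node 1 (.leaf
  802715601957) (.leaf
  807616824467))))) (.node 5 (.node 2 (.node 1 (.leaf
  807489431075) (.leaf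
  812278936733)) (.node 1 (.leaf
  812380792882) (.node 1 (.leaf
  1358954700) (.leaf
  1335361714)))) (.node 2 (.node 1 (.leaf
  822040635502) (.leaf
  826947000923)) (.node 1 (.leaf
  826817273133) (.node 1 (.leaf
  831707893266) (.leaf
  831647796748)))))) (.node 10 (.node 5 (.node 2 (.node 1 (.leaf
  846143558188) (.leaf
  855808887180)) (.node 1 (.leaf
  870358454300) (.node 1 (.leaf
  875133681977) (.leaf
  880025055521)))) (.node 2 (.node 1 (.leaf
  884928601646) (.leaf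
  889629539909)) (.node 1 (.leaf
  904127270193) (.node 1 (.leaf
  913792261742) (.leaf
  928284930380))))) (.node 5 (.node 2 (.node 1 (.leaf
  942781974737) (.leaf
  1835532893)) (.node 1 (.leaf
  957236363517) (.node 1 (.leaf
  957406036099) (.leaf
  971770563755)))) (.node 2 (.node 1 (.leaf
  981435028973) (.leaf
  991055641797)) (.node 1 (.leaf
  1000763345061) (.node 1 (.leaf
  1005593995443) (.leaf
  1073243613192)))))))))) (.node 157 (.node 78 (.node 39 (.node 19 (.node 9 (.node 4 (.node 2 (.node 1 (.leaf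
  1087761101300) (.leaf
  1087693181362)) (.node 1 (.leaf
  1097401810059) (.leaf
  0x100a24cf974))) (.node 2 (.node 1 (.leaf
  0x102e374080a) (.leaf
  0x10883b35647)) (.node 1 (.leaf
  0x10889b4b5d7) (.node 1 (.leaf
  0x10e29de900f) (.leaf
  0x118422f48fc))))) (.node 5 (.node 2 (.node 1 (.leaf
  0x11ba23fc5b1) (.leaf
  0x11de3afc434)) (.node 1 (.leaf
  0x11ddfac119f) (.node 1 (.leaf
  0x11de9ae6244) (.leaf
  0x120221e5829)))) (.node 2 (.node 1 (.leaf
  0x12142465df5) (.leaf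
  0x124a24f9dfd)) (.node 1 (.leaf
  0x12803920c4e) (.node 1 (.leaf
  0x12809cc7820) (.leaf
  637010253)))))) (.node 10 (.node 5 (.node 2 (.node 1 (.leaf
  0x13d6370c8cb) (.leaf
  0x13d5f8c4134)) (.node 1 (.leaf
  0x13d69d3f661) (.node 1 (.leaf
  0x13fa20900b8) (.leaf
  0x1442238b110)))) (.node 2 (.node 1 (.leaf
  0x1465fb6bcdb) (.leaf
  0x14782224a27)) (.node 1 (.leaf
  0x148a23ccc57) (.node 1 (.leaf
  792723647) (.leaf
  1344798836))))) (.node 5 (.node 2 (.node 1 (.leaf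
  0x181ff8c4467) (.leaf
  0x18209bc9c3a)) (.node 1 (.leaf
  1406140722) (.node 1 (.leaf
  0x182021924ba) (.leaf
  0x1831f90704d)))) (.node 2 (.node 1 (.leaf
  0x18329ddb169) (.leaf
  0x183256bf866)) (.node 1 (.leaf
  1349517372) (.node 1 (.leaf
  0x18449a631e1) (.leaf
  0x18445ade85f))))))) (.node 19 (.node 9 (.node 4 (.node 2 (.node 1 (.leaf
  0x1844219c119) (.leaf
  0x1855f965caf)) (.node 1 (.leaf
  0x18569b280aa) (.leaf
  0x185657ccd20))) (.node 2 (.node 1 (.leaf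
  0x185620a0807) (.leaf
  0x1867f881c6c)) (.node 1 (.leaf
  0x18689cc350b) (.node 1 (.leaf
  0x186821e5844) (.leaf
  0x187a37040d0))))) (.node 5 (.node 2 (.node 1 (.leaf
  0x1879f881cb6) (.leaf
  0x187a9dc7c7f)) (.node 1 (.leaf
  0x187a56b40cf) (.node 1 (.leaf
  0x188c9d4d267) (.leaf
  0x188c583a517)))) (.node 2 (.node 1 (.leaf
  0x188c2437cfa) (.leaf
  0x189df81050a)) (.node 1 (.leaf
  0x189e9a809e8) (.node 1 (.leaf
  0x189e5682072) (.leaf
  0x189e2080967)))))) (.node 10 (.node 5 (.node 2 (.node 1 (.leaf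
  0x18aff88ad1b) (.leaf
  0x18b09a68140)) (.node 1 (.leaf
  0x18c2374e417) (.node 1 (.leaf
  0x18c1f90b416) (.leaf
  0x18d4573926b)))) (.node 2 (.node 1 (.leaf
  0x18d424fbde6) (.leaf
  0x18e620a0c0d)) (.node 1 (.leaf
  0x18f83b42190) (.node 1 (.leaf
  0x18f85a37e24) (.leaf
  0x190a21ee43b))))) (.node 5 (.node 2 (.node 1 (.leaf
  0x191c2121d05) (.leaf
  0x192df849863)) (.node 1 (.leaf
  0x19409ccdd36) (.node 1 (.leaf
  0x195223ebce9) (.leaf
  0x19769df694a)))) (.node 2 (.node 1 (.leaf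
  0x1987f90c88a) (.leaf
  0x199a9a66999)) (.node 1 (.leaf
  0x19be2434847) (.node 1 (.leaf
  0x19f4379a18e) (.leaf
  0x1a1822024de)))))))) (.node 39 (.node 19 (.node 9 (.node 4 (.node 2 (.node 1 (.leaf
  0x1a2a243789b) (.leaf
  0x1a602081d3e)) (.node 1 (.leaf
  0x1b4a58a6622) (.leaf
  802161251))) (.node 2 (.node 1 (.leaf
  1061683814) (.leaf
  806879602)) (.node 1 (.leaf
  0x1bec9ce6cee) (.node 1 (.leaf
  0x1bec596e1ee) (.leaf
  849346721))))) (.node 5 (.node 2 (.node 1 (.leaf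
  1066402203) (.leaf
  0x1bfe9cad0a0)) (.node 1 (.leaf
  0x1bfe596e5ca) (.node 1 (.leaf
  0x1bfe21994ef) (.leaf
  811597830)))) (.node 2 (.node 1 (.leaf
  1056964612) (.leaf
  1844969765)) (.node 1 (.leaf
  0x1c229de9005) (.node 1 (.leaf
  0x1c2258fd00e) (.leaf
  0x1c222325a00)))))) (.node 10 (.node 5 (.node 2 (.node 1 (.leaf
  0x1c33fc00802) (.leaf
  0x1c349bc3cd8)) (.node 1 (.leaf
  0x1c3423ae584) (.node 1 (.leaf
  0x1c46380748e) (.leaf
  854065214)))) (.node 2 (.node 1 (.leaf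
  0x1c469dba64a) (.leaf
  0x1c465962895)) (.node 1 (.leaf
  0x1c589ce2415) (.node 1 (.leaf
  1071120403) (.leaf
  1797783849))))) (.node 5 (.node 2 (.node 1 (.leaf
  0x1c6a9ca7014) (.leaf
  0x1c6a2435a07)) (.node 1 (.leaf
  0x1c7c9e08880) (.node 1 (.leaf
  0x1c7c24ded7f) (.leaf
  0x1c8e3807051)))) (.node 2 (.node 1 (.leaf
  0x1c8df80f819) (.leaf
  0x1c8e9b72e4d)) (.node 1 (.leaf
  0x1c8e586c0e5) (.node 1 (.leaf
  816316883) (.leaf
  0x1cb223e5875))))))) (.node 20 (.node 10 (.node 5 (.node 2 (.node 1 (.leaf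
  0x1cc439499cf) (.leaf
  1849688480)) (.node 1 (.leaf
  0x1cc49aa2439) (.node 1 (.leaf
  0x1cc45944865) (.leaf
  0x1cd6215ae49)))) (.node 2 (.node 1 (.leaf
  0x1ce8240a9b4) (.leaf
  0x1cf9fc7a144)) (.node 1 (.leaf
  0x1cfa9d56d68) (.node 1 (.leaf
  0x1cfa5ad7a2a) (.leaf
  0x1d0c24cf9f6))))) (.node 5 (.node 2 (.node 1 (.leaf
  0x1d1e2201dfc) (.leaf
  0x1d303981614)) (.node 1 (.leaf
  0x1d2ffab4822) (.node 1 (.leaf
  0x1d309ba6c5e) (.leaf
  0x1d30586ea68)))) (.node 2 (.node 1 (.leaf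
  0x1d41f9084f3) (.leaf
  0x1d42580a07c)) (.node 1 (.leaf
  0x1d549d415c3) (.node 1 (.leaf
  0x1d545837ddc) (.leaf
  858783859)))))) (.node 10 (.node 5 (.node 2 (.node 1 (.leaf
  0x1d6656c69d2) (.leaf
  0x1d77faa6e53)) (.node 1 (.leaf
  0x1d789c885e3) (.node 1 (.leaf
  0x1d7822f4d8a) (.leaf
  0x1d8a224cd82)))) (.node 2 (.node 1 (.leaf
  1075839022) (.leaf
  0x1dae39815c5)) (.node 1 (.leaf
  1802502629) (.node 1 (.leaf
  0x1dae9aec87e) (.leaf
  0x1dae59014b5))))) (.node 5 (.node 2 (.node 1 (.leaf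
  0x1dc020e9a4c) (.leaf
  0x1dd1fc5ad15)) (.node 1 (.leaf
  0x1dd29bd31be) (.node 1 (.leaf
  0x1de422045ba) (.leaf
  0x1df63949a1b)))) (.node 2 (.node 1 (.leaf
  0x1df5f9c745a) (.leaf
  0x1df69d498ae)) (.node 1 (.leaf
  0x1df65a6ea55) (.node 1 (.leaf
  0x1e07f9840f8) (.leaf
  0x1e08580f037))))))))) (.node 79 (.node 39 (.node 19 (.node 9 (.node 4 (.node 2 (.node 1 (.leaf
  0x1e1a9e68dbf) (.leaf
  0x1e1a5756a0b)) (.node 1 (.leaf
  0x1e1a23e58cd) (.leaf
  0x1e2c5a5ad81))) (.node 2 (.node 1 (.leaf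
  0x1e3e9dc319c) (.leaf
  0x1e3e24141bb)) (.node 1 (.leaf
  0x1e4ff931dc7) (.node 1 (.leaf
  821035220) (.leaf
  0x1e50590f8d2))))) (.node 5 (.node 2 (.node 1 (.leaf
  0x1e61f88a4a2) (.leaf
  0x1e625abe0c6)) (.node 1 (.leaf
  0x1e73fb64257) (.node 1 (.leaf
  0x1e745706488) (.leaf
  0x1e869d30958)))) (.node 2 (.node 1 (.leaf
  0x1e86595aa3e) (.leaf
  0x1e8621ee1a4)) (.node 1 (.leaf
  0x1e97fba9635) (.node 1 (.leaf
  0x1e985ac21aa) (.leaf
  0x1ea9f9028bb)))))) (.node 10 (.node 5 (.node 2 (.node 1 (.leaf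
  0x1eaa9c0a143) (.leaf
  0x1ebbf9ce113)) (.node 1 (.leaf
  0x1ebc58ce01f) (.node 1 (.leaf
  0x1ece38044a7) (.leaf
  0x1ecdfb3cdce)))) (.node 2 (.node 1 (.leaf
  0x1ee023ae0c9) (.leaf
  0x1f0423fc5b9)) (.node 1 (.leaf
  0x1f16380fd04) (.node 1 (.leaf
  0x1f15fbff9c6) (.leaf
  0x1f165784cc1))))) (.node 5 (.node 2 (.node 1 (.leaf
  0x1f27fc27d63) (.leaf
  0x1f28580a08d)) (.node 1 (.leaf
  0x1f3a5a64db5) (.node 1 (.leaf
  0x1f4c9cc7e58) (.leaf
  0x1f4c58c3953)))) (.node 2 (.node 1 (.leaf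
  0x1f4c21c2237) (.leaf
  0x1f5dfba91fb)) (.node 1 (.leaf
  0x1f5e58c3980) (.node 1 (.leaf
  0x1f709b55d85) (.leaf
  0x1f9422019a8))))))) (.node 20 (.node 10 (.node 5 (.node 2 (.node 1 (.leaf
  0x1fca3a7f583) (.leaf
  0x1fc9fb0b5c8)) (.node 1 (.leaf
  0x1fca9b7b5e2) (.node 1 (.leaf
  0x1fca589d25e) (.leaf
  0x1fdc217f5a9)))) (.node 2 (.node 1 (.leaf
  0x200023fc557) (.leaf
  0x2023f923171)) (.node 1 (.leaf
  0x20249b33878) (.node 1 (.leaf
  0x2024578a476) (.leaf
  0x2035f80487b))))) (.node 5 (.node 2 (.node 1 (.leaf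
  0x2036574d923) (.leaf
  0x2047fbbd63c)) (.node 1 (.leaf
  0x2048574d84a) (.node 1 (.leaf
  1807221081) (.leaf
  0x206bfc67609)))) (.node 2 (.node 1 (.leaf
  0x206c5a0c960) (.leaf
  0x207e9d2b993)) (.node 1 (.leaf
  0x208ff9cb562) (.node 1 (.leaf
  0x2090598e054) (.leaf
  0x20a224decc4)))))) (.node 10 (.node 5 (.node 2 (.node 1 (.leaf
  0x20c5fc7fd14) (.leaf
  0x20c6580f450)) (.node 1 (.leaf
  0x20d858615f7) (.node 1 (.leaf
  0x20ea20cce1f) (.leaf
  0x20fc56c8586)))) (.node 2 (.node 1 (.leaf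
  0x210e9bd59ac) (.leaf
  0x2132220415d)) (.node 1 (.leaf
  0x216839e35ab) (.node 1 (.leaf
  0x2167fb451ea) (.leaf
  0x21689d7559a))))) (.node 5 (.node 2 (.node 1 (.leaf
  0x216858c3e62) (.leaf
  0x217a22f4d5e)) (.node 1 (.leaf
  0x218c21ee1a3) (.node 1 (.leaf
  0x21b0243ba08) (.leaf
  0x21e62437a02)))) (.node 2 (.node 1 (.leaf
  0x2252374a49e) (.leaf
  0x2251f90a894)) (.node 1 (.leaf
  0x22529b691cc) (.node 1 (.leaf
  0x22e22379859) (.leaf
  0x232a21b7821)))))))) (.node 39 (.node 19 (.node 9 (.node 4 (.node 2 (.node 1 (.leaf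
  0x234e20e4665) (.leaf
  0x244a3a50264)) (.node 1 (.leaf
  0x246e243be34) (.leaf
  0x24a42465e30))) (.node 2 (.node 1 (.leaf
  0x24ec37410ec) (.leaf
  0x24ebf986899)) (.node 1 (.leaf
  1811939826) (.node 1 (.leaf
  825753743) (.leaf
  1377828946))))) (.node 5 (.node 2 (.node 1 (.leaf
  0x274ff9060e6) (.leaf
  1429733806)) (.node 1 (.leaf
  0x27505a46848) (.node 1 (.leaf
  0x2761f903c96) (.leaf
  1382547891)))) (.node 2 (.node 1 (.leaf
  0x2762590d087) (.leaf
  0x27749cc4166)) (.node 1 (.leaf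
  0x277456ff1db) (.node 1 (.leaf
  0x27742487530) (.leaf
  0x2785fa9f188)))))) (.node 10 (.node 5 (.node 2 (.node 1 (.leaf
  0x27869dfe0a6) (.leaf
  1434452347)) (.node 1 (.leaf
  0x27989bf4409) (.node 1 (.leaf
  0x279822f492f) (.leaf
  0x27aa9e3fd6a)))) (.node 2 (.node 1 (.leaf
  0x27aa22f4cce) (.leaf
  0x27bc9dc68a8)) (.node 1 (.leaf
  1387266425) (.node 1 (.leaf
  0x27ce9cf1824) (.leaf
  0x27ce2487589))))) (.node 5 (.node 2 (.node 1 (.leaf
  0x27e0225ea75) (.leaf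
  0x27f221a28c2)) (.node 1 (.leaf
  0x2804373f63d) (.node 1 (.leaf
  0x2803f82f8ea) (.leaf
  0x28049ba2438)))) (.node 2 (.node 1 (.leaf
  0x2804598ae74) (.leaf
  0x28162467c6d)) (.node 1 (.leaf
  1439171123) (.node 1 (.leaf
  0x284c22cfa51) (.leaf
  0x285e37635ff))))))) (.node 20 (.node 10 (.node 5 (.node 2 (.node 1 (.leaf
  0x285e9ae685d) (.leaf
  0x285e57a711a)) (.node 1 (.leaf
  0x28823763239) (.node 1 (.leaf
  0x2881f82449c) (.leaf
  0x28829ba947d)))) (.node 2 (.node 1 (.leaf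
  1391985158) (.leaf
  0x28b8224ce4f)) (.node 1 (.leaf
  0x28ca373f203) (.node 1 (.leaf
  0x28ca9e078ad) (.leaf
  0x28ca571111f))))) (.node 5 (.node 2 (.node 1 (.leaf
  0x28dbfa1bd18) (.leaf
  0x28dc9cddc7a)) (.node 1 (.leaf
  0x28ee39420d6) (.node 1 (.leaf
  0x28fff881a69) (.leaf
  0x29129b6ad48)))) (.node 2 (.node 1 (.leaf
  0x2923fc43640) (.leaf
  0x2935fa2090c)) (.node 1 (.leaf
  1443889680) (.node 1 (.leaf
  0x29b3f90425f) (.leaf
  0x29c69d7d4f7)))))) (.node 10 (.node 5 (.node 2 (.node 1 (.leaf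
  0x29d7fb8825a) (.leaf
  1396703759)) (.node 1 (.leaf
  1123025243) (.node 1 (.leaf
  0x2b1c37a1da6) (.leaf
  0x2b1bfb7f605)))) (.node 2 (.node 1 (.leaf
  0x2b1c9d7fa32) (.leaf
  0x2b1c2467cc7)) (.node 1 (.leaf
  0x2b2e21a9924) (.node 1 (.leaf
  0x2b409a23412) (.leaf
  0x2b4024a9cdd))))) (.node 5 (.node 2 (.node 1 (.leaf
  0x2b529a28001) (.leaf
  0x2b5222d4485)) (.node 1 (.leaf
  0x2b6437cc8c0) (.node 1 (.leaf
  0x2b649cd7e72) (.leaf
  0x2b6457720b7)))) (.node 2 (.node 1 (.leaf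
  0x2b7639cacbc) (.leaf
  0x2b769a17e73)) (.node 1 (.leaf
  0x2b76597fca9) (.node 1 (.leaf
  0x2b88224ca1d) (.leaf
  0x2b99fc04220)))))))))))

/-- Where each coset is covered. -/
def covAt3 : Tree :=
  (.node 315 (.node 157 (.node 78 (.node 39 (.node 19 (.node 9 (.node 4 (.node 2 (.node 1 (.leaf
  19) (.leaf
  620)) (.node 1 (.leaf
  412) (.leaf
  0))) (.node 2 (.node 1 (.leaf
  407) (.leaf
  409)) (.node 1 (.leaf
  406) (.node 1 (.leaf
  358) (.leaf
  314))))) (.node 5 (.node 2 (.node 1 (.leaf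
  572) (.leaf
  319)) (.node 1 (.leaf
  20) (.node 1 (.leaf
  18) (.leaf
  379)))) (.node 2 (.node 1 (.leaf
  410) (.leaf
  322)) (.node 1 (.leaf
  50) (.node 1 (.leaf
  181) (.leaf
  618)))))) (.node 10 (.node 5 (.node 2 (.node 1 (.leaf
  420) (.leaf
  422)) (.node 1 (.leaf
  419) (.node 1 (.leaf
  376) (.leaf
  375)))) (.node 2 (.node 1 (.leaf
  146) (.leaf
  427)) (.node 1 (.leaf
  173) (.node 1 (.leaf
  255) (.leaf
  297))))) (.node 5 (.node 2 (.node 1 (.leaf
  39) (.leaf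
  79)) (.node 1 (.leaf
  493) (.node 1 (.leaf
  332) (.leaf
  550)))) (.node 2 (.node 1 (.leaf
  444) (.leaf
  165)) (.node 1 (.leaf
  578) (.node 1 (.leaf
  283) (.leaf
  31))))))) (.node 19 (.node 9 (.node 4 (.node 2 (.node 1 (.leaf
  35) (.leaf
  200)) (.node 1 (.leaf
  328) (.leaf
  103))) (.node 2 (.node 1 (.leaf
  125) (.leaf
  226)) (.node 1 (.leaf
  189) (.node 1 (.leaf
  457) (.leaf
  16))))) (.node 5 (.node 2 (.node 1 (.leaf
  97) (.leaf
  21)) (.node 1 (.leaf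
  287) (.node 1 (.leaf
  91) (.leaf
  325)))) (.node 2 (.node 1 (.leaf
  64) (.leaf
  101)) (.node 1 (.leaf
  471) (.node 1 (.leaf
  584) (.leaf
  434)))))) (.node 10 (.node 5 (.node 2 (.node 1 (.leaf
  345) (.leaf
  382)) (.node 1 (.leaf
  351) (.node 1 (.leaf
  121) (.leaf
  416)))) (.node 2 (.node 1 (.leaf
  100) (.leaf
  237)) (.node 1 (.leaf
  214) (.node 1 (.leaf
  70) (.leaf
  172))))) (.node 5 (.node 2 (.node 1 (.leaf
  361) (.leaf
  174)) (.node 1 (.leaf
  82) (.node 1 (.leaf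
  390) (.leaf
  562)))) (.node 2 (.node 1 (.leaf
  80) (.leaf
  523)) (.node 1 (.leaf
  175) (.node 1 (.leaf
  150) (.leaf
  348)))))))) (.node 39 (.node 19 (.node 9 (.node 4 (.node 2 (.node 1 (.leaf
  331) (.leaf
  279)) (.node 1 (.leaf
  532) (.leaf
  426))) (.node 2 (.node 1 (.leaf
  559) (.leaf
  256)) (.node 1 (.leaf
  529) (.node 1 (.leaf
  46) (.leaf
  223))))) (.node 5 (.node 2 (.node 1 (.leaf
  341) (.leaf
  136)) (.node 1 (.leaf
  549) (.node 1 (.leaf
  467) (.leaf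
  88)))) (.node 2 (.node 1 (.leaf
  53) (.leaf
  590)) (.node 1 (.leaf
  445) (.node 1 (.leaf
  353) (.leaf
  7)))))) (.node 10 (.node 5 (.node 2 (.node 1 (.leaf
  4) (.leaf
  115)) (.node 1 (.leaf
  384) (.node 1 (.leaf
  106) (.leaf
  435)))) (.node 2 (.node 1 (.leaf
  350) (.leaf
  344)) (.node 1 (.leaf
  149) (.node 1 (.leaf
  153) (.leaf
  271))))) (.node 5 (.node 2 (.node 1 (.leaf
  161) (.leaf
  359)) (.node 1 (.leaf
  586) (.node 1 (.leaf
  290) (.leaf
  107)))) (.node 2 (.node 1 (.leaf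
  170) (.leaf
  132)) (.node 1 (.leaf
  371) (.node 1 (.leaf
  451) (.leaf
  343))))))) (.node 20 (.node 10 (.node 5 (.node 2 (.node 1 (.leaf
  431) (.leaf
  519)) (.node 1 (.leaf
  168) (.node 1 (.leaf
  518) (.leaf
  207)))) (.node 2 (.node 1 (.leaf
  601) (.leaf
  520)) (.node 1 (.leaf
  448) (.node 1 (.leaf
  594) (.leaf
  460))))) (.node 5 (.node 2 (.node 1 (.leaf
  364) (.leaf
  424)) (.node 1 (.leaf
  209) (.node 1 (.leaf
  140) (.leaf
  308)))) (.node 2 (.node 1 (.leaf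
  32) (.leaf
  621)) (.node 1 (.leaf
  167) (.node 1 (.leaf
  565) (.leaf
  484)))))) (.node 10 (.node 5 (.node 2 (.node 1 (.leaf
  118) (.leaf
  388)) (.node 1 (.leaf
  317) (.node 1 (.leaf
  193) (.leaf
  502)))) (.node 2 (.node 1 (.leaf
  415) (.leaf
  558)) (.node 1 (.leaf
  232) (.node 1 (.leaf
  202) (.leaf
  98))))) (.node 5 (.node 2 (.node 1 (.leaf
  284) (.leaf
  547)) (.node 1 (.leaf
  418) (.node 1 (.leaf
  563) (.leaf
  194)))) (.node 2 (.node 1 (.leaf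
  11) (.leaf
  556)) (.node 1 (.leaf
  5) (.node 1 (.leaf
  393) (.leaf
  593))))))))) (.node 79 (.node 39 (.node 19 (.node 9 (.node 4 (.node 2 (.node 1 (.leaf
  286) (.leaf
  546)) (.node 1 (.leaf
  210) (.leaf
  403))) (.node 2 (.node 1 (.leaf
  401) (.leaf
  481)) (.node 1 (.leaf
  75) (.node 1 (.leaf
  260) (.leaf
  312))))) (.node 5 (.node 2 (.node 1 (.leaf
  570) (.leaf
  494)) (.node 1 (.leaf
  576) (.node 1 (.leaf
  627) (.leaf
  356)))) (.node 2 (.node 1 (.leaf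
  309) (.leaf
  62)) (.node 1 (.leaf
  598) (.node 1 (.leaf
  468) (.leaf
  355)))))) (.node 10 (.node 5 (.node 2 (.node 1 (.leaf
  13) (.leaf
  111)) (.node 1 (.leaf
  289) (.node 1 (.leaf
  313) (.leaf
  77)))) (.node 2 (.node 1 (.leaf
  461) (.leaf
  363)) (.node 1 (.leaf
  624) (.node 1 (.leaf
  337) (.leaf
  78))))) (.node 5 (.node 2 (.node 1 (.leaf
  347) (.leaf
  490)) (.node 1 (.leaf
  625) (.node 1 (.leaf
  86) (.leaf
  135)))) (.node 2 (.node 1 (.leaf
  342) (.leaf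
  622)) (.node 1 (.leaf
  500) (.node 1 (.leaf
  581) (.leaf
  143))))))) (.node 20 (.node 10 (.node 5 (.node 2 (.node 1 (.leaf
  530) (.leaf
  311)) (.node 1 (.leaf
  482) (.node 1 (.leaf
  616) (.leaf
  68)))) (.node 2 (.node 1 (.leaf
  496) (.leaf
  14)) (.node 1 (.leaf
  334) (.node 1 (.leaf
  288) (.leaf
  474))))) (.node 5 (.node 2 (.node 1 (.leaf
  575) (.leaf
  365)) (.node 1 (.leaf
  362) (.node 1 (.leaf
  305) (.leaf
  480)))) (.node 2 (.node 1 (.leaf
  29) (.leaf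
  479)) (.node 1 (.leaf
  275) (.node 1 (.leaf
  602) (.leaf
  264)))))) (.node 10 (.node 5 (.node 2 (.node 1 (.leaf
  413) (.leaf
  280)) (.node 1 (.leaf
  129) (.node 1 (.leaf
  339) (.leaf
  1)))) (.node 2 (.node 1 (.leaf
  619) (.leaf
  392)) (.node 1 (.leaf
  104) (.node 1 (.leaf
  85) (.leaf
  219))))) (.node 5 (.node 2 (.node 1 (.leaf
  137) (.leaf
  117)) (.node 1 (.leaf
  65) (.node 1 (.leaf
  429) (.leaf
  560)))) (.node 2 (.node 1 (.leaf
  27) (.leaf
  36)) (.node 1 (.leaf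
  386) (.node 1 (.leaf
  583) (.leaf
  203)))))))) (.node 39 (.node 19 (.node 9 (.node 4 (.node 2 (.node 1 (.leaf
  555) (.leaf
  281)) (.node 1 (.leaf
  399) (.leaf
  405))) (.node 2 (.node 1 (.leaf
  44) (.leaf
  22)) (.node 1 (.leaf
  72) (.node 1 (.leaf
  447) (.leaf
  186))))) (.node 5 (.node 2 (.node 1 (.leaf
  47) (.leaf
  128)) (.node 1 (.leaf
  609) (.node 1 (.leaf
  470) (.leaf
  17)))) (.node 2 (.node 1 (.leaf
  368) (.leaf
  179)) (.node 1 (.leaf
  323) (.node 1 (.leaf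
  307) (.leaf
  10)))))) (.node 10 (.node 5 (.node 2 (.node 1 (.leaf
  243) (.leaf
  3)) (.node 1 (.leaf
  229) (.node 1 (.leaf
  240) (.leaf
  134)))) (.node 2 (.node 1 (.leaf
  498) (.leaf
  383)) (.node 1 (.leaf
  37) (.node 1 (.leaf
  235) (.leaf
  133))))) (.node 5 (.node 2 (.node 1 (.leaf
  8) (.leaf
  369)) (.node 1 (.leaf
  360) (.node 1 (.leaf
  606) (.leaf
  23)))) (.node 2 (.node 1 (.leaf
  147) (.leaf
  216)) (.node 1 (.leaf
  338) (.node 1 (.leaf
  71) (.leaf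
  33))))))) (.node 20 (.node 10 (.node 5 (.node 2 (.node 1 (.leaf
  492) (.leaf
  531)) (.node 1 (.leaf
  463) (.node 1 (.leaf
  178) (.leaf
  367)))) (.node 2 (.node 1 (.leaf
  600) (.leaf
  354)) (.node 1 (.leaf
  591) (.node 1 (.leaf
  373) (.leaf
  215))))) (.node 5 (.node 2 (.node 1 (.leaf
  257) (.leaf
  105)) (.node 1 (.leaf
  599) (.node 1 (.leaf
  357) (.leaf
  299)))) (.node 2 (.node 1 (.leaf
  220) (.leaf
  521)) (.node 1 (.leaf
  617) (.node 1 (.leaf
  408) (.leaf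
  227)))))) (.node 10 (.node 5 (.node 2 (.node 1 (.leaf
  123) (.leaf
  176)) (.node 1 (.leaf
  421) (.node 1 (.leaf
  248) (.leaf
  48)))) (.node 2 (.node 1 (.leaf
  268) (.leaf
  292)) (.node 1 (.leaf
  201) (.node 1 (.leaf
  573) (.leaf
  568))))) (.node 5 (.node 2 (.node 1 (.leaf
  302) (.leaf
  346)) (.node 1 (.leaf
  30) (.node 1 (.leaf
  335) (.leaf
  9)))) (.node 2 (.node 1 (.leaf
  385) (.leaf
  180)) (.node 1 (.leaf
  177) (.node 1 (.leaf
  298) (.leaf
  126)))))))))) (.node 157 (.node 78 (.node 39 (.node 19 (.node 9 (.node 4 (.node 2 (.node 1 (.leaf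
  148) (.leaf
  49)) (.node 1 (.leaf
  81) (.leaf
  394))) (.node 2 (.node 1 (.leaf
  138) (.leaf
  374)) (.node 1 (.leaf
  141) (.node 1 (.leaf
  273) (.leaf
  491))))) (.node 5 (.node 2 (.node 1 (.leaf
  438) (.leaf
  63)) (.node 1 (.leaf
  94) (.node 1 (.leaf
  154) (.leaf
  604)))) (.node 2 (.node 1 (.leaf
  25) (.leaf
  387)) (.node 1 (.leaf
  95) (.node 1 (.leaf
  304) (.leaf
  333)))))) (.node 10 (.node 5 (.node 2 (.node 1 (.leaf
  28) (.leaf
  259)) (.node 1 (.leaf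
  84) (.node 1 (.leaf
  66) (.leaf
  41)))) (.node 2 (.node 1 (.leaf
  505) (.leaf
  199)) (.node 1 (.leaf
  113) (.node 1 (.leaf
  67) (.leaf
  516))))) (.node 5 (.node 2 (.node 1 (.leaf
  485) (.leaf
  524)) (.node 1 (.leaf
  169) (.node 1 (.leaf
  612) (.leaf
  120)))) (.node 2 (.node 1 (.leaf
  537) (.leaf
  542)) (.node 1 (.leaf
  213) (.node 1 (.leaf
  526) (.leaf
  34))))))) (.node 19 (.node 9 (.node 4 (.node 2 (.node 1 (.leaf
  528) (.leaf
  501)) (.node 1 (.leaf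
  250) (.leaf
  76))) (.node 2 (.node 1 (.leaf
  566) (.leaf
  372)) (.node 1 (.leaf
  439) (.node 1 (.leaf
  349) (.leaf
  574))))) (.node 5 (.node 2 (.node 1 (.leaf
  188) (.leaf
  183)) (.node 1 (.leaf
  109) (.node 1 (.leaf
  40) (.leaf
  2)))) (.node 2 (.node 1 (.leaf
  122) (.leaf
  517)) (.node 1 (.leaf
  398) (.node 1 (.leaf
  60) (.leaf
  318)))))) (.node 10 (.node 5 (.node 2 (.node 1 (.leaf
  182) (.leaf
  102)) (.node 1 (.leaf
  162) (.node 1 (.leaf
  90) (.leaf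
  577)))) (.node 2 (.node 1 (.leaf
  112) (.leaf
  571)) (.node 1 (.leaf
  160) (.node 1 (.leaf
  151) (.leaf
  191))))) (.node 5 (.node 2 (.node 1 (.leaf
  425) (.leaf
  508)) (.node 1 (.leaf
  475) (.node 1 (.leaf
  456) (.leaf
  511)))) (.node 2 (.node 1 (.leaf
  414) (.leaf
  509)) (.node 1 (.leaf
  535) (.node 1 (.leaf
  196) (.leaf
  569)))))))) (.node 39 (.node 19 (.node 9 (.node 4 (.node 2 (.node 1 (.leaf
  579) (.leaf
  455)) (.node 1 (.leaf
  6) (.leaf
  296))) (.node 2 (.node 1 (.leaf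
  163) (.leaf
  391)) (.node 1 (.leaf
  119) (.node 1 (.leaf
  380) (.leaf
  131))))) (.node 5 (.node 2 (.node 1 (.leaf
  245) (.leaf
  527)) (.node 1 (.leaf
  55) (.node 1 (.leaf
  96) (.leaf
  92)))) (.node 2 (.node 1 (.leaf
  185) (.leaf
  266)) (.node 1 (.leaf
  389) (.node 1 (.leaf
  540) (.leaf
  402)))))) (.node 10 (.node 5 (.node 2 (.node 1 (.leaf
  476) (.leaf
  52)) (.node 1 (.leaf
  263) (.node 1 (.leaf
  326) (.leaf
  433)))) (.node 2 (.node 1 (.leaf
  278) (.leaf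
  145)) (.node 1 (.leaf
  543) (.node 1 (.leaf
  487) (.leaf
  83))))) (.node 5 (.node 2 (.node 1 (.leaf
  613) (.leaf
  144)) (.node 1 (.leaf
  510) (.node 1 (.leaf
  515) (.leaf
  489)))) (.node 2 (.node 1 (.leaf
  538) (.leaf
  536)) (.node 1 (.leaf
  164) (.node 1 (.leaf
  561) (.leaf
  158))))))) (.node 20 (.node 10 (.node 5 (.node 2 (.node 1 (.leaf
  87) (.leaf
  324)) (.node 1 (.leaf
  316) (.node 1 (.leaf
  564) (.leaf
  437)))) (.node 2 (.node 1 (.leaf
  503) (.leaf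
  15)) (.node 1 (.leaf
  241) (.node 1 (.leaf
  246) (.leaf
  497))))) (.node 5 (.node 2 (.node 1 (.leaf
  465) (.leaf
  477)) (.node 1 (.leaf
  142) (.node 1 (.leaf
  204) (.leaf
  464)))) (.node 2 (.node 1 (.leaf
  472) (.leaf
  171)) (.node 1 (.leaf
  217) (.node 1 (.leaf
  99) (.leaf
  449)))))) (.node 10 (.node 5 (.node 2 (.node 1 (.leaf
  69) (.leaf
  458)) (.node 1 (.leaf
  499) (.node 1 (.leaf
  478) (.leaf
  512)))) (.node 2 (.node 1 (.leaf
  276) (.leaf
  404)) (.node 1 (.leaf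
  74) (.node 1 (.leaf
  548) (.leaf
  45))))) (.node 5 (.node 2 (.node 1 (.leaf
  495) (.leaf
  432)) (.node 1 (.leaf
  157) (.node 1 (.leaf
  116) (.leaf
  452)))) (.node 2 (.node 1 (.leaf
  430) (.leaf
  156)) (.node 1 (.leaf
  38) (.node 1 (.leaf
  59) (.leaf
  321))))))))) (.node 79 (.node 39 (.node 19 (.node 9 (.node 4 (.node 2 (.node 1 (.leaf
  114) (.leaf
  26)) (.node 1 (.leaf
  57) (.leaf
  567))) (.node 2 (.node 1 (.leaf
  450) (.leaf
  187)) (.node 1 (.leaf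
  184) (.node 1 (.leaf
  93) (.leaf
  239))))) (.node 5 (.node 2 (.node 1 (.leaf
  352) (.leaf
  513)) (.node 1 (.leaf
  454) (.node 1 (.leaf
  228) (.leaf
  459)))) (.node 2 (.node 1 (.leaf
  378) (.leaf
  205)) (.node 1 (.leaf
  370) (.node 1 (.leaf
  277) (.leaf
  539)))))) (.node 10 (.node 5 (.node 2 (.node 1 (.leaf
  89) (.leaf
  224)) (.node 1 (.leaf
  310) (.node 1 (.leaf
  400) (.leaf
  236)))) (.node 2 (.node 1 (.leaf
  43) (.leaf
  233)) (.node 1 (.leaf
  557) (.node 1 (.leaf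
  108) (.leaf
  315))))) (.node 5 (.node 2 (.node 1 (.leaf
  329) (.leaf
  441)) (.node 1 (.leaf
  533) (.node 1 (.leaf
  24) (.leaf
  272)))) (.node 2 (.node 1 (.leaf
  262) (.leaf
  507)) (.node 1 (.leaf
  442) (.node 1 (.leaf
  330) (.leaf
  12))))))) (.node 20 (.node 10 (.node 5 (.node 2 (.node 1 (.leaf
  589) (.leaf
  411)) (.node 1 (.leaf
  152) (.node 1 (.leaf
  545) (.leaf
  597)))) (.node 2 (.node 1 (.leaf
  270) (.leaf
  614)) (.node 1 (.leaf
  595) (.node 1 (.leaf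
  423) (.leaf
  544))))) (.node 5 (.node 2 (.node 1 (.leaf
  525) (.leaf
  51)) (.node 1 (.leaf
  473) (.node 1 (.leaf
  294) (.leaf
  208)))) (.node 2 (.node 1 (.leaf
  127) (.leaf
  611)) (.node 1 (.leaf
  607) (.node 1 (.leaf
  139) (.leaf
  293)))))) (.node 10 (.node 5 (.node 2 (.node 1 (.leaf
  58) (.leaf
  443)) (.node 1 (.leaf
  242) (.node 1 (.leaf
  231) (.leaf
  274)))) (.node 2 (.node 1 (.leaf
  212) (.leaf
  54)) (.node 1 (.leaf
  265) (.node 1 (.leaf
  466) (.leaf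
  56))))) (.node 5 (.node 2 (.node 1 (.leaf
  628) (.leaf
  42)) (.node 1 (.leaf
  534) (.node 1 (.leaf
  629) (.leaf
  261)))) (.node 2 (.node 1 (.leaf
  395) (.leaf
  285)) (.node 1 (.leaf
  381) (.node 1 (.leaf
  198) (.leaf
  166)))))))) (.node 39 (.node 19 (.node 9 (.node 4 (.node 2 (.node 1 (.leaf
  340) (.leaf
  251)) (.node 1 (.leaf
  254) (.leaf
  440))) (.node 2 (.node 1 (.leaf
  252) (.leaf
  295)) (.node 1 (.leaf
  234) (.node 1 (.leaf
  300) (.leaf
  124))))) (.node 5 (.node 2 (.node 1 (.leaf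
  554) (.leaf
  221)) (.node 1 (.leaf
  615) (.node 1 (.leaf
  587) (.leaf
  553)))) (.node 2 (.node 1 (.leaf
  488) (.leaf
  61)) (.node 1 (.leaf
  506) (.node 1 (.leaf
  222) (.leaf
  592)))))) (.node 10 (.node 5 (.node 2 (.node 1 (.leaf
  110) (.leaf
  244)) (.node 1 (.leaf
  522) (.node 1 (.leaf
  582) (.leaf
  486)))) (.node 2 (.node 1 (.leaf
  249) (.leaf
  605)) (.node 1 (.leaf
  159) (.node 1 (.leaf
  253) (.leaf
  195))))) (.node 5 (.node 2 (.node 1 (.leaf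
  327) (.leaf
  301)) (.node 1 (.leaf
  211) (.node 1 (.leaf
  320) (.leaf
  282)))) (.node 2 (.node 1 (.leaf
  436) (.leaf
  417)) (.node 1 (.leaf
  267) (.node 1 (.leaf
  462) (.leaf
  428))))))) (.node 20 (.node 10 (.node 5 (.node 2 (.node 1 (.leaf
  73) (.leaf
  596)) (.node 1 (.leaf
  206) (.node 1 (.leaf
  588) (.leaf
  230)))) (.node 2 (.node 1 (.leaf
  453) (.leaf
  197)) (.node 1 (.leaf
  469) (.node 1 (.leaf
  225) (.leaf
  483))))) (.node 5 (.node 2 (.node 1 (.leaf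
  504) (.leaf
  192)) (.node 1 (.leaf
  610) (.node 1 (.leaf
  291) (.leaf
  258)))) (.node 2 (.node 1 (.leaf
  306) (.leaf
  514)) (.node 1 (.leaf
  608) (.node 1 (.leaf
  190) (.leaf
  336)))))) (.node 10 (.node 5 (.node 2 (.node 1 (.leaf
  541) (.leaf
  396)) (.node 1 (.leaf
  552) (.node 1 (.leaf
  551) (.leaf
  397)))) (.node 2 (.node 1 (.leaf
  366) (.leaf
  446)) (.node 1 (.leaf
  603) (.node 1 (.leaf
  247) (.leaf
  377))))) (.node 5 (.node 2 (.node 1 (.leaf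
  155) (.leaf
  218)) (.node 1 (.leaf
  303) (.node 1 (.leaf
  130) (.leaf
  238)))) (.node 2 (.node 1 (.leaf
  269) (.leaf
  623)) (.node 1 (.leaf
  626) (.node 1 (.leaf
  585) (.leaf
  580)))))))))))

/-- The coverage of the cosets in one orbit. -/
def cov4 : Tree :=
  (.node 315 (.node 157 (.node 78 (.node 39 (.node 19 (.node 9 (.node 4 (.node 2 (.node 1 (.leaf
  1127743571) (.leaf
  1962934736)) (.node 1 (.leaf
  1637351674) (.leaf
  10626856334))) (.node 2 (.node 1 (.leaf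
  1642070484) (.leaf
  15461452331)) (.node 1 (.leaf
  1132462083) (.node 1 (.leaf
  1146617867) (.leaf
  39591122358))))) (.node 5 (.node 2 (.node 1 (.leaf
  39620723974) (.leaf
  39650464817)) (.node 1 (.leaf
  44449310091) (.node 1 (.leaf
  44482943449) (.leaf
  49252840702)))) (.node 2 (.node 1 (.leaf
  58981758163) (.leaf
  63778926823)) (.node 1 (.leaf
  1170211036) (.node 1 (.leaf
  83077973031) (.leaf
  83107992778)))))) (.node 10 (.node 5 (.node 2 (.node 1 (.leaf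
  83138273554) (.leaf
  87939202317)) (.node 1 (.leaf
  87969407014) (.node 1 (.leaf
  92769667226) (.leaf
  92804462921)))) (.node 2 (.node 1 (.leaf
  97602601313) (.leaf
  1184366592)) (.node 1 (.leaf
  1212678276) (.node 1 (.leaf
  131398278241) (.leaf
  131426858225))))) (.node 5 (.node 2 (.node 1 (.leaf
  131456584047) (.leaf
  136254275760)) (.node 1 (.leaf
  136287790176) (.node 1 (.leaf
  141089959144) (.leaf
  141123288313)))) (.node 2 (.node 1 (.leaf
  145917966645) (.leaf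
  1231553016)) (.node 1 (.leaf
  174883772463) (.node 1 (.leaf
  174908906803) (.leaf
  174942732798))))))) (.node 19 (.node 9 (.node 4 (.node 2 (.node 1 (.leaf
  179745071369) (.leaf
  179773784076)) (.node 1 (.leaf
  184573208910) (.leaf
  184608602368))) (.node 2 (.node 1 (.leaf
  189408838808) (.leaf
  1255145486)) (.node 1 (.leaf
  218339065858) (.node 1 (.leaf
  218370066794) (.leaf
  218397222972))))) (.node 5 (.node 2 (.node 1 (.leaf
  218429043847) (.leaf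
  223203195238)) (.node 1 (.leaf
  223230148631) (.node 1 (.leaf
  223260894280) (.leaf
  228061413394)))) (.node 2 (.node 1 (.leaf
  228092934310) (.leaf
  232862881960)) (.node 1 (.leaf
  232892252164) (.node 1 (.leaf
  232926250501) (.leaf
  237697207858)))))) (.node 10 (.node 5 (.node 2 (.node 1 (.leaf
  237727263150) (.leaf
  242557714433)) (.node 1 (.leaf
  247389752339) (.node 1 (.leaf
  252222319027) (.leaf
  1278738824)))) (.node 2 (.node 1 (.leaf
  305312494043) (.leaf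
  305343567070)) (.node 1 (.leaf
  305370142073) (.node 1 (.leaf
  305404558496) (.leaf
  310173344054))))) (.node 5 (.node 2 (.node 1 (.leaf
  310200322427) (.leaf
  310235274478)) (.node 1 (.leaf
  315034254356) (.node 1 (.leaf
  319838196757) (.leaf
  319864962395)))) (.node 2 (.node 1 (.leaf
  319898482122) (.leaf
  324699480071)) (.node 1 (.leaf
  329530983429) (.node 1 (.leaf
  334334488582) (.leaf
  334360194470)))))))) (.node 39 (.node 19 (.node 9 (.node 4 (.node 2 (.node 1 (.leaf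
  334394909166) (.leaf
  339195781142)) (.node 1 (.leaf
  887095397) (.leaf
  2024276104))) (.node 2 (.node 1 (.leaf
  392314107033) (.leaf
  392344911959)) (.node 1 (.leaf
  392378421761) (.node 1 (.leaf
  397146709188) (.leaf
  397174057265))))) (.node 5 (.node 2 (.node 1 (.leaf
  397210248517) (.leaf
  402005698084)) (.node 1 (.leaf
  402042109348) (.node 1 (.leaf
  406808804920) (.leaf
  406840030544)))) (.node 2 (.node 1 (.leaf
  406870729827) (.leaf
  411643853882)) (.node 1 (.leaf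
  411671763400) (.node 1 (.leaf
  416502632709) (.leaf
  416536672414)))))) (.node 10 (.node 5 (.node 2 (.node 1 (.leaf
  421308649699) (.leaf
  421337175342)) (.node 1 (.leaf
  421368645839) (.node 1 (.leaf
  426137808233) (.leaf
  426165081608)))) (.node 2 (.node 1 (.leaf
  431030988257) (.leaf
  435803994290)) (.node 1 (.leaf
  435832003854) (.node 1 (.leaf
  450297087588) (.leaf
  459962456322))))) (.node 5 (.node 2 (.node 1 (.leaf
  464854622823) (.leaf
  469622763704)) (.node 1 (.leaf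
  469652194870) (.node 1 (.leaf
  484122114473) (.leaf
  493784347691)))) (.node 2 (.node 1 (.leaf
  498617846203) (.leaf
  508278316177)) (.node 1 (.leaf
  522774098010) (.node 1 (.leaf
  532439087293) (.leaf
  1297612834))))))) (.node 20 (.node 10 (.node 5 (.node 2 (.node 1 (.leaf
  566235732362) (.leaf
  2005402219)) (.node 1 (.leaf
  1944060014) (.node 1 (.leaf
  566324236393) (.leaf
  571095872921)))) (.node 2 (.node 1 (.leaf
  571123976470) (.leaf
  571155235031)) (.node 1 (.leaf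
  2010120428) (.node 1 (.leaf
  575986466986) (.leaf
  580758122673))))) (.node 5 (.node 2 (.node 1 (.leaf
  580787870991) (.leaf
  1948779109)) (.node 1 (.leaf
  585590858292) (.node 1 (.leaf
  585616950631) (.leaf
  590449770841)))) (.node 2 (.node 1 (.leaf
  590481543656) (.leaf
  595253104138)) (.node 1 (.leaf
  595283304619) (.node 1 (.leaf
  595316027742) (.leaf
  600083679722)))))) (.node 10 (.node 5 (.node 2 (.node 1 (.leaf
  600115225727) (.leaf
  2014838985)) (.node 1 (.leaf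
  609747399976) (.node 1 (.leaf
  609776088609) (.leaf
  1953497190)))) (.node 2 (.node 1 (.leaf
  633905173908) (.leaf
  638800980116)) (.node 1 (.leaf
  643572690124) (.node 1 (.leaf
  643599438139) (.leaf
  658068526386))))) (.node 5 (.node 2 (.node 1 (.leaf
  667730093615) (.leaf
  672559947850)) (.node 1 (.leaf
  682223818917) (.node 1 (.leaf
  696719591605) (.leaf
  706384666975)))) (.node 2 (.node 1 (.leaf
  901251116) (.leaf
  910688634)) (.node 1 (.leaf
  740208807121) (.node 1 (.leaf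
  740237359193) (.leaf
  740267826715))))))))) (.node 79 (.node 39 (.node 19 (.node 9 (.node 4 (.node 2 (.node 1 (.leaf
  939000253) (.leaf
  1561854371)) (.node 1 (.leaf
  745102223743) (.leaf
  749900541518))) (.node 2 (.node 1 (.leaf
  749933277421) (.leaf
  754705161737)) (.node 1 (.leaf
  754733142282) (.node 1 (.leaf
  754765516946) (.leaf
  759535336721))))) (.node 5 (.node 2 (.node 1 (.leaf
  759564814555) (.leaf
  967311672)) (.node 1 (.leaf
  764428635339) (.node 1 (.leaf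
  769196905927) (.leaf
  769225600175)))) (.node 2 (.node 1 (.leaf
  1566572665) (.leaf
  774032556378)) (.node 1 (.leaf
  774060967436) (.node 1 (.leaf
  778923740536) (.leaf
  783696134571)))))) (.node 10 (.node 5 (.node 2 (.node 1 (.leaf
  783722805305) (.leaf
  798189756013)) (.node 1 (.leaf
  807855510917) (.node 1 (.leaf
  1000341991) (.leaf
  817516646605)))) (.node 2 (.node 1 (.leaf
  817547436418) (.leaf
  832012001773)) (.node 1 (.leaf
  841675136193) (.node 1 (.leaf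
  846508296438) (.leaf
  856171961627))))) (.node 5 (.node 2 (.node 1 (.leaf
  870668942422) (.leaf
  880331790444)) (.node 1 (.leaf
  1307050090) (.node 1 (.leaf
  1476919676) (.leaf
  914152361268)))) (.node 2 (.node 1 (.leaf
  914181564449) (.leaf
  914216011284)) (.node 1 (.leaf
  1481638284) (.node 1 (.leaf
  919015026007) (.leaf
  919048361348))))))) (.node 20 (.node 10 (.node 5 (.node 2 (.node 1 (.leaf
  923843968542) (.leaf
  923880796319)) (.node 1 (.leaf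
  928651316789) (.node 1 (.leaf
  928679194903) (.leaf
  928708694128)))) (.node 2 (.node 1 (.leaf
  933481303406) (.leaf
  933511224451)) (.node 1 (.leaf
  1486356704) (.node 1 (.leaf
  938374823109) (.leaf
  943145782641))))) (.node 5 (.node 2 (.node 1 (.leaf
  943174424671) (.leaf
  943208656946)) (.node 1 (.leaf
  947976615333) (.node 1 (.leaf
  948004988353) (.leaf
  952871909740)))) (.node 2 (.node 1 (.leaf
  957642899843) (.leaf
  957670960254)) (.node 1 (.leaf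
  972137494126) (.node 1 (.leaf
  981800761772) (.leaf
  1491075619)))))) (.node 10 (.node 5 (.node 2 (.node 1 (.leaf
  991461288051) (.leaf
  991489703379)) (.node 1 (.leaf
  1005960237607) (.node 1 (.leaf
  1015620824251) (.leaf
  1020456531271)))) (.node 2 (.node 1 (.leaf
  1030118604064) (.leaf
  1044615903396)) (.node 1 (.leaf
  1054275959922) (.node 1 (.leaf
  1316487711) (.leaf
  1088070152541))))) (.node 5 (.node 2 (.node 1 (.leaf
  1088102505592) (.leaf
  1088126784730)) (.node 1 (.leaf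
  1092931848238) (.node 1 (.leaf
  1092962483740) (.leaf
  1097793038772)))) (.node 2 (.node 1 (.leaf
  1097826063676) (.leaf
  0x100b7f0f4f0)) (.node 1 (.leaf
  0x100b9694a5c) (.node 1 (.leaf
  0x101d99440a7) (.leaf
  0x101db9771f3)))))))) (.node 39 (.node 19 (.node 9 (.node 4 (.node 2 (.node 1 (.leaf
  0x102f7be7c33) (.leaf
  0x102f9706141)) (.node 1 (.leaf
  0x1041b5dc604) (.leaf
  0x105396b165e))) (.node 2 (.node 1 (.leaf
  0x1089b5be177) (.leaf
  0x109b99c899a)) (.node 1 (.leaf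
  1325924758) (.node 1 (.leaf
  0x1119608aa50) (.leaf
  1613759051))))) (.node 5 (.node 2 (.node 1 (.leaf
  0x11199658586) (.leaf
  0x1119b8e75de)) (.node 1 (.leaf
  0x112b7efb241) (.node 1 (.leaf
  0x112b969148d) (.leaf
  0x112bb871a5b)))) (.node 2 (.node 1 (.leaf
  0x113d9897a6f) (.leaf
  1618477218)) (.node 1 (.leaf
  0x114f7f3b202) (.node 1 (.leaf
  0x114f9734476) (.leaf
  0x114fb8a3560)))))) (.node 10 (.node 5 (.node 2 (.node 1 (.leaf
  0x11617bb7256) (.leaf
  0x116196e8980)) (.node 1 (.leaf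
  0x117396f1215) (.node 1 (.leaf
  0x1173b8fdd53) (.leaf
  0x11857e1ddf2)))) (.node 2 (.node 1 (.leaf
  0x1185973c5aa) (.leaf
  0x1185b7840d2)) (.node 1 (.leaf
  0x11977f3963a) (.node 1 (.leaf
  0x11979714c50) (.leaf
  0x11a9b7f7258))))) (.node 5 (.node 2 (.node 1 (.leaf
  0x11bb7d3707b) (.leaf
  1623195805)) (.node 1 (.leaf
  0x11f17cc0e6c) (.node 1 (.leaf
  0x12157d29630) (.leaf
  0x1227b91adc6)))) (.node 2 (.node 1 (.leaf
  0x12397cf9558) (.leaf
  0x12399671477)) (.node 1 (.leaf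
  0x126f7f5be1a) (.node 1 (.leaf
  0x12937e6e5cc) (.leaf
  0x12a57db74eb))))))) (.node 20 (.node 10 (.node 5 (.node 2 (.node 1 (.leaf
  1627914814) (.leaf
  0x12ff7c56030)) (.node 1 (.leaf
  0x13237f5bdce) (.node 1 (.leaf
  1330643230) (.leaf
  0x13a16084c41)))) (.node 2 (.node 1 (.leaf
  0x13a17ed39f9) (.leaf
  0x13a19684d9f)) (.node 1 (.leaf
  0x13c59843e25) (.node 1 (.leaf
  0x13d796b15b0) (.leaf
  1340080271))))) (.node 5 (.node 2 (.node 1 (.leaf
  0x140d604c852) (.leaf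
  0x140d7caac80)) (.node 1 (.leaf
  0x140db6d6172) (.node 1 (.leaf
  0x141f7cafcd8) (.leaf
  0x141fb79659b)))) (.node 2 (.node 1 (.leaf
  863502452) (.leaf
  1453326527)) (.node 1 (.leaf
  1542980092) (.node 1 (.leaf
  1528823908) (.leaf
  0x1479b85b4fd)))))) (.node 10 (.node 5 (.node 2 (.node 1 (.leaf
  0x148b7d554ae) (.leaf
  1458045227)) (.node 1 (.leaf
  0x148bb61a246) (.node 1 (.leaf
  1547698531) (.leaf
  0x149db931914)))) (.node 2 (.node 1 (.leaf
  0x14af7da5910) (.leaf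
  0x14af995b8ac)) (.node 1 (.leaf
  1533542853) (.node 1 (.leaf
  0x14c17f3d143) (.leaf
  0x14c19841193))))) (.node 5 (.node 2 (.node 1 (.leaf
  0x14d39980db9) (.leaf
  0x14d3b714dfb)) (.node 1 (.leaf
  0x14e57dabd39) (.node 1 (.leaf
  0x14e596d6dbc) (.leaf
  1462763817)))) (.node 2 (.node 1 (.leaf
  0x14f77cf3123) (.leaf
  0x14f798c6cc6)) (.node 1 (.leaf
  1552417210) (.node 1 (.leaf
  0x151b7daf170) (.leaf
  0x151b99ad8e1)))))))))) (.node 157 (.node 78 (.node 39 (.node 19 (.node 9 (.node 4 (.node 2 (.node 1 (.leaf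
  0x15517ce1925) (.leaf
  0x15757eea54d)) (.node 1 (.leaf
  0x1587b9df05e) (.leaf
  0x15997d65c5c))) (.node 2 (.node 1 (.leaf
  0x1599994e4b3) (.leaf
  1467482575)) (.node 1 (.leaf
  0x15f37f1ca45) (.node 1 (.leaf
  0x16057f0d4d0) (.leaf
  0x16297e2bd51))))) (.node 5 (.node 2 (.node 1 (.leaf
  0x165f7d358ba) (.leaf
  0x16837ce7868)) (.node 1 (.leaf
  1354236460) (.node 1 (.leaf
  0x17016462661) (.leaf
  2043150531)))) (.node 2 (.node 1 (.leaf
  0x17019a62657) (.leaf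
  0x1701b9af48a)) (.node 1 (.leaf
  0x17137e5c14f) (.node 1 (.leaf
  0x171397941a0) (.leaf
  0x1713b95ccb6)))))) (.node 10 (.node 5 (.node 2 (.node 1 (.leaf
  2047869222) (.leaf
  0x1725b7b9c89)) (.node 1 (.leaf
  0x17377c4e540) (.node 1 (.leaf
  0x17379a14655) (.leaf
  0x1737b8aa51d)))) (.node 2 (.node 1 (.leaf
  0x17497ee0527) (.leaf
  0x174996ca5e4)) (.node 1 (.leaf
  0x176d7caed0b) (.node 1 (.leaf
  0x176d9707df7) (.leaf
  0x176db8ef06b))))) (.node 5 (.node 2 (.node 1 (.leaf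
  1363673699) (.leaf
  0x18456102e66)) (.node 1 (.leaf
  0x18457e62c24) (.node 1 (.leaf
  0x1845b6700e6) (.leaf
  0x18577eb0809)))) (.node 2 (.node 1 (.leaf
  0x1857b630496) (.leaf
  1373110333)) (.node 1 (.leaf
  0x18b16101040) (.node 1 (.leaf
  0x18b17db8e59) (.leaf
  0x18b19a62955))))))) (.node 19 (.node 9 (.node 4 (.node 2 (.node 1 (.leaf
  0x18b1b5aa810) (.leaf
  0x18c37e2354c)) (.node 1 (.leaf
  0x18d596340a9) (.leaf
  0x18d5b81d044))) (.node 2 (.node 1 (.leaf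
  0x18e77c15485) (.leaf
  0x18e799fc49b)) (.node 1 (.leaf
  0x18f97e10273) (.node 1 (.leaf
  0x18f9982e622) (.leaf
  0x190b96e8a1d))))) (.node 5 (.node 2 (.node 1 (.leaf
  0x190bb983c0d) (.leaf
  0x191db664d07)) (.node 1 (.leaf
  0x192f7bea862) (.node 1 (.leaf
  0x192f9700e19) (.leaf
  0x1989b81ed3a)))) (.node 2 (.node 1 (.leaf
  1401422440) (.leaf
  2057306549)) (.node 1 (.leaf
  0x19f57c68c4c) (.node 1 (.leaf
  0x19f599aca5d) (.leaf
  0x19f5b63757d)))))) (.node 10 (.node 5 (.node 2 (.node 1 (.leaf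
  0x1a077d9d52c) (.leaf
  0x1a07987c654)) (.node 1 (.leaf
  0x1a07b8dfd9e) (.node 1 (.leaf
  0x1a19970c990) (.leaf
  0x1a19b7b7871)))) (.node 2 (.node 1 (.leaf
  0x1a2b7cdc0ff) (.leaf
  0x1a2b96d19e5)) (.node 1 (.leaf
  0x1a2bb780467) (.node 1 (.leaf
  0x1a3d7be784d) (.leaf
  0x1a3d97d3922))))) (.node 5 (.node 2 (.node 1 (.leaf
  0x1a4f99d6919) (.leaf
  0x1a6199ace3c)) (.node 1 (.leaf
  0x1a7397da86f) (.node 1 (.leaf
  1410859077) (.leaf
  1576009807)))) (.node 2 (.node 1 (.leaf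
  1594884269) (.leaf
  0x1b3999f2cf8)) (.node 1 (.leaf
  0x1b39b722270) (.node 1 (.leaf
  0x1b4b7d51251) (.leaf
  0x1b4b981d419)))))))) (.node 39 (.node 19 (.node 9 (.node 4 (.node 2 (.node 1 (.leaf
  1580728754) (.leaf
  0x1b5d9a6ca60)) (.node 1 (.leaf
  1599603272) (.leaf
  0x1b6f7cfb0f7))) (.node 2 (.node 1 (.leaf
  0x1b6f9a3e0f4) (.leaf
  0x1b6fb6f8a00)) (.node 1 (.leaf
  0x1b817cec8b9) (.node 1 (.leaf
  0x1b8197d29dd) (.leaf
  0x1b9397344b4))))) (.node 5 (.node 2 (.node 1 (.leaf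
  0x1b93b98c5c0) (.leaf
  0x1ba57e2091f)) (.node 1 (.leaf
  0x1ba5968f4d9) (.node 1 (.leaf
  0x1ba5b669a4d) (.leaf
  1585447294)))) (.node 2 (.node 1 (.leaf
  0x1bb79980a2e) (.leaf
  0x1bc9b992168)) (.node 1 (.leaf
  1604321364) (.node 1 (.leaf
  0x1bdb9a13e47) (.leaf
  0x1c117dada39)))))) (.node 10 (.node 5 (.node 2 (.node 1 (.leaf
  0x1c357cbfa5f) (.leaf
  0x1c47b77ee4c)) (.node 1 (.leaf
  0x1c597bb119c) (.node 1 (.leaf
  0x1c5999f2e2d) (.leaf
  0x1c8f7d57cce)))) (.node 2 (.node 1 (.leaf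
  0x1cb37c5789c) (.leaf
  0x1cc57c94121)) (.node 1 (.leaf
  0x1ce97eb0c25) (.node 1 (.leaf
  0x1d1f7d7602d) (.leaf
  0x1d437c7601a))))) (.node 5 (.node 2 (.node 1 (.leaf
  1425014974) (.leaf
  1500512554)) (.node 1 (.leaf
  0x1dc17d26671) (.node 1 (.leaf
  0x1dc1960fa3d) (.leaf
  0x1dc1b72b01f)))) (.node 2 (.node 1 (.leaf
  1505231349) (.leaf
  0x1dd39671530)) (.node 1 (.leaf
  0x1dd3b89dde3) (.node 1 (.leaf
  0x1de599dc195) (.leaf
  0x1de5b5d8449))))))) (.node 20 (.node 10 (.node 5 (.node 2 (.node 1 (.leaf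
  0x1df77efb207) (.leaf
  0x1df796914ea)) (.node 1 (.leaf
  0x1df7b777028) (.node 1 (.leaf
  0x1e097cda243) (.leaf
  0x1e099812d1c)))) (.node 2 (.node 1 (.leaf
  0x1e1b9840a18) (.leaf
  1509949580)) (.node 1 (.leaf
  0x1e2d7e21e4a) (.node 1 (.leaf
  0x1e2d963f669) (.leaf
  0x1e2db7b983f))))) (.node 5 (.node 2 (.node 1 (.leaf
  0x1e3f7c2cdc2) (.leaf
  0x1e3f97c0c2a)) (.node 1 (.leaf
  0x1e51b8e4c81) (.node 1 (.leaf
  0x1e637e1b05d) (.leaf
  0x1e639a3e4f3)))) (.node 2 (.node 1 (.leaf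
  0x1e997e94a44) (.leaf
  0x1ebd7b2c9be)) (.node 1 (.leaf
  0x1ecfb8bed46) (.node 1 (.leaf
  0x1ee17ce924f) (.leaf
  1514668094)))))) (.node 10 (.node 5 (.node 2 (.node 1 (.leaf
  0x1f177e1c217) (.leaf
  0x1f3b7f24a49)) (.node 1 (.leaf
  0x1f4d7f6ae6a) (.node 1 (.leaf
  0x1f717e75548) (.leaf
  0x1fa77b75d03)))) (.node 2 (.node 1 (.leaf
  1519386906) (.leaf
  1448608370)) (.node 1 (.leaf
  0x2049612f4dd) (.node 1 (.leaf
  0x20497db5035) (.leaf
  0x2049972f0fc))))) (.node 5 (.node 2 (.node 1 (.leaf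
  0x2049b777458) (.leaf
  0x205b7beeda2)) (.node 1 (.leaf
  0x205b96b123f) (.node 1 (.leaf
  0x205bb7fea13) (.leaf
  0x206d990a9e6)))) (.node 2 (.node 1 (.leaf
  0x206db5af418) (.leaf
  0x207f7d08c1b)) (.node 1 (.leaf
  0x207f9658220) (.node 1 (.leaf
  0x207fb7fbc3b) (.leaf
  0x20917bef447))))))))) (.node 79 (.node 39 (.node 19 (.node 9 (.node 4 (.node 2 (.node 1 (.leaf
  0x20919a3b164) (.leaf
  0x20a398b28e9)) (.node 1 (.leaf
  0x20b597bccb7) (.leaf
  0x20c7988e0e2))) (.node 2 (.node 1 (.leaf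
  1005060413) (.leaf
  1009779026)) (.node 1 (.leaf
  0x218d7c6cd2f) (.node 1 (.leaf
  0x218d9813834) (.leaf
  1014497791))))) (.node 5 (.node 2 (.node 1 (.leaf
  0x219f99a2e42) (.leaf
  0x21b1960fa74)) (.node 1 (.leaf
  0x21b1b87b8d5) (.node 1 (.leaf
  0x21c37da3a40) (.leaf
  0x21c3981d097)))) (.node 2 (.node 1 (.leaf
  0x21c3b5f3446) (.leaf
  1019215928)) (.node 1 (.leaf
  0x21d5b7f0c29) (.node 1 (.leaf
  0x21e77b7e90c) (.leaf
  0x21f9b90b576)))))) (.node 10 (.node 5 (.node 2 (.node 1 (.leaf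
  0x220b99d2836) (.leaf
  1023934989)) (.node 1 (.leaf
  0x22659812855) (.node 1 (.leaf
  1472201101) (.leaf
  0x22d16332956)))) (.node 2 (.node 1 (.leaf
  0x22d17e7ed89) (.leaf
  0x22d1993c40f)) (.node 1 (.leaf
  0x22e37d2f203) (.node 1 (.leaf
  0x22e3982e63b) (.leaf
  0x22f59643a75))))) (.node 5 (.node 2 (.node 1 (.leaf
  0x22f5b963101) (.leaf
  0x23077ee8a5a)) (.node 1 (.leaf
  0x23079862893) (.node 1 (.leaf
  0x2307b5a104b) (.leaf
  0x2319969107d)))) (.node 2 (.node 1 (.leaf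
  0x2319b91140a) (.leaf
  0x232b7cb0118)) (.node 1 (.leaf
  0x233db75296b) (.node 1 (.leaf
  0x234f998e011) (.leaf
  0x2397b7c5e12))))))) (.node 20 (.node 10 (.node 5 (.node 2 (.node 1 (.leaf
  0x23a9981c4a3) (.leaf
  1495794111)) (.node 1 (.leaf
  0x241562eb562) (.node 1 (.leaf
  0x24157d96c08) (.leaf
  0x2415b5e2d65)))) (.node 2 (.node 1 (.leaf
  0x24277f33992) (.leaf
  0x2427b84f9d5)) (.node 1 (.leaf
  0x243999f6dc4) (.node 1 (.leaf
  0x2439b62e06d) (.leaf
  0x244b7cf30f2))))) (.node 5 (.node 2 (.node 1 (.leaf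
  0x244b9a40e33) (.leaf
  0x245d984b423)) (.node 1 (.leaf
  0x245db6f287a) (.node 1 (.leaf
  0x246f7ef80fb) (.leaf
  0x246f97d8210)))) (.node 2 (.node 1 (.leaf
  0x24937ef3db8) (.leaf
  0x24b77d65837)) (.node 1 (.leaf
  0x24db7cafc8b) (.node 1 (.leaf
  0x24ff7df84e5) (.leaf
  1524105681)))))) (.node 10 (.node 5 (.node 2 (.node 1 (.leaf
  0x255960ca490) (.leaf
  0x255996ca53e)) (.node 1 (.leaf
  0x2559b8d15d8) (.node 1 (.leaf
  0x256b96bfd4a) (.leaf
  0x256bb7c5a16)))) (.node 2 (.node 1 (.leaf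
  1538261443) (.leaf
  0x25c562eb513)) (.node 1 (.leaf
  1906311200) (.node 1 (.leaf
  0x25c5b6a2d08) (.leaf
  0x25d77cf8942))))) (.node 5 (.node 2 (.node 1 (.leaf
  0x25d7b84c9da) (.leaf
  0x25e99812dcd)) (.node 1 (.leaf
  1911029954) (.node 1 (.leaf
  0x25fb7c6f4f5) (.leaf
  0x25fb9980e06)))) (.node 2 (.node 1 (.leaf
  0x260d984b05b) (.leaf
  0x260db8e0cd6)) (.node 1 (.leaf
  0x261f7cf314b) (.node 1 (.leaf
  0x261f980260f) (.leaf
  0x26437ef61fa)))))))) (.node 39 (.node 19 (.node 9 (.node 4 (.node 2 (.node 1 (.leaf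
  0x26677f1d07c) (.leaf
  0x268b7cafc4e)) (.node 1 (.leaf
  0x26af7db3095) (.leaf
  1557135777))) (.node 2 (.node 1 (.leaf
  1925186086) (.leaf
  0x27097b75944)) (.node 1 (.leaf
  1887437292) (.node 1 (.leaf
  0x2709b88c5cb) (.leaf
  0x271b7f08e0b))))) (.node 5 (.node 2 (.node 1 (.leaf
  1929904628) (.leaf
  0x271bb5ad597)) (.node 1 (.leaf
  0x272db8e4051) (.node 1 (.leaf
  1892155459) (.leaf
  0x27517e19d37)))) (.node 2 (.node 1 (.leaf
  0x2763b9d1cef) (.leaf
  1934622786)) (.node 1 (.leaf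
  0x27877ebe92d) (.node 1 (.leaf
  0x27997f701d7) (.leaf
  1896874369)))))) (.node 10 (.node 5 (.node 2 (.node 1 (.leaf
  0x27cf7e73de0) (.leaf
  0x27e17c68a2a)) (.node 1 (.leaf
  1571291476) (.node 1 (.leaf
  0x284d63ee9eb) (.leaf
  0x284d7c15115)))) (.node 2 (.node 1 (.leaf
  0x284d98c99c9) (.leaf
  0x284db8dfdf0)) (.node 1 (.leaf
  0x285f7f559dc) (.node 1 (.leaf
  0x285f98c81b1) (.leaf
  0x285fb5a69df))))) (.node 5 (.node 2 (.node 1 (.leaf
  0x2871b7bd48e) (.leaf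
  0x2883b7b681e)) (.node 1 (.leaf
  0x28957c57cdf) (.node 1 (.leaf
  0x28a7b8140a1) (.leaf
  0x28b9b9df41d)))) (.node 2 (.node 1 (.leaf
  0x28cb7f70187) (.leaf
  0x28dd7ee05fd)) (.node 1 (.leaf
  0x28ef7c1ddd2) (.node 1 (.leaf
  0x29137c64998) (.leaf
  0x29257e71253))))))) (.node 20 (.node 10 (.node 5 (.node 2 (.node 1 (.leaf
  1590165877) (.leaf
  0x29916084c1c)) (.node 1 (.leaf
  0x29917d989b7) (.node 1 (.leaf
  0x29919601574) (.leaf
  0x29b59a30de9)))) (.node 2 (.node 1 (.leaf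
  0x29c796635ad) (.leaf
  1609040398)) (.node 1 (.leaf
  0x29fd62ab1ef) (.node 1 (.leaf
  0x29fdb5ae8bc) (.leaf
  0x2a0fb637524))))) (.node 5 (.node 2 (.node 1 (.leaf
  0x2a217bb41f1) (.leaf
  0x2a337d2755c)) (.node 1 (.leaf
  1632633197) (.node 1 (.leaf
  0x2a6960c3631) (.leaf
  0x2a697b60662)))) (.node 2 (.node 1 (.leaf
  0x2a6996631af) (.leaf
  0x2a69b73e504)) (.node 1 (.leaf
  0x2a7b7ce39e2) (.node 1 (.leaf
  0x2a7b96548e4) (.leaf
  0x2a7bb5dc1f6)))))) (.node 10 (.node 5 (.node 2 (.node 1 (.leaf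
  0x2a8db986cc8) (.leaf
  0x2a9fb986875)) (.node 1 (.leaf
  0x2ab17b55a52) (.node 1 (.leaf
  0x2ac3b899886) (.leaf
  0x2ad5b7b38d4)))) (.node 2 (.node 1 (.leaf
  0x2ae77ce3991) (.leaf
  0x2af97e1b082)) (.node 1 (.leaf
  0x2b0b7e1b1a8) (.node 1 (.leaf
  0x2b2f7ee01d6) (.leaf
  0x2b417ed8637))))) (.node 5 (.node 2 (.node 1 (.leaf
  1646788807) (.leaf
  0x2bad60cc8c0)) (.node 1 (.leaf
  0x2bad7d295a7) (.node 1 (.leaf
  0x2badb89de28) (.leaf
  0x2bbf7bf1a29)))) (.node 2 (.node 1 (.leaf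
  0x2bbfb595611) (.leaf
  1712849267)) (.node 1 (.leaf
  0x2c19618953f) (.node 1 (.leaf
  1736442269) (.leaf
  0x2c3d610718f)))))))))))

/-- Where each coset is covered. -/
def covAt4 : Tree :=
  (.node 315 (.node 157 (.node 78 (.node 39 (.node 19 (.node 9 (.node 4 (.node 2 (.node 1 (.leaf
  25) (.leaf
  59)) (.node 1 (.leaf
  45) (.leaf
  6))) (.node 2 (.node 1 (.leaf
  55) (.leaf
  75)) (.node 1 (.leaf
  76) (.node 1 (.leaf
  74) (.leaf
  514))))) (.node 5 (.node 2 (.node 1 (.leaf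
  348) (.leaf
  506)) (.node 1 (.leaf
  7) (.node 1 (.leaf
  40) (.leaf
  363)))) (.node 2 (.node 1 (.leaf
  44) (.leaf
  497)) (.node 1 (.leaf
  354) (.node 1 (.leaf
  509) (.leaf
  52)))))) (.node 10 (.node 5 (.node 2 (.node 1 (.leaf
  60) (.leaf
  70)) (.node 1 (.leaf
  71) (.node 1 (.leaf
  79) (.leaf
  50)))) (.node 2 (.node 1 (.leaf
  467) (.leaf
  392)) (.node 1 (.leaf
  421) (.node 1 (.leaf
  468) (.leaf
  591))))) (.node 5 (.node 2 (.node 1 (.leaf
  584) (.leaf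
  581)) (.node 1 (.leaf
  426) (.node 1 (.leaf
  538) (.leaf
  191)))) (.node 2 (.node 1 (.leaf
  116) (.leaf
  522)) (.node 1 (.leaf
  346) (.node 1 (.leaf
  419) (.leaf
  21))))))) (.node 19 (.node 9 (.node 4 (.node 2 (.node 1 (.leaf
  17) (.leaf
  434)) (.node 1 (.leaf
  488) (.leaf
  443))) (.node 2 (.node 1 (.leaf
  111) (.leaf
  152)) (.node 1 (.leaf
  420) (.node 1 (.leaf
  228) (.leaf
  36))))) (.node 5 (.node 2 (.node 1 (.leaf
  276) (.leaf
  10)) (.node 1 (.leaf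
  207) (.node 1 (.leaf
  236) (.leaf
  479)))) (.node 2 (.node 1 (.leaf
  460) (.leaf
  491)) (.node 1 (.leaf
  527) (.node 1 (.leaf
  487) (.leaf
  176)))))) (.node 10 (.node 5 (.node 2 (.node 1 (.leaf
  93) (.leaf
  470)) (.node 1 (.leaf
  47) (.node 1 (.leaf
  350) (.leaf
  451)))) (.node 2 (.node 1 (.leaf
  441) (.leaf
  351)) (.node 1 (.leaf
  279) (.node 1 (.leaf
  566) (.leaf
  563))))) (.node 5 (.node 2 (.node 1 (.leaf
  357) (.leaf
  386)) (.node 1 (.leaf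
  486) (.node 1 (.leaf
  471) (.leaf
  51)))) (.node 2 (.node 1 (.leaf
  431) (.leaf
  148)) (.node 1 (.leaf
  504) (.node 1 (.leaf
  370) (.leaf
  381)))))))) (.node 39 (.node 19 (.node 9 (.node 4 (.node 2 (.node 1 (.leaf
  552) (.leaf
  387)) (.node 1 (.leaf
  263) (.leaf
  562))) (.node 2 (.node 1 (.leaf
  285) (.leaf
  0)) (.node 1 (.leaf
  409) (.node 1 (.leaf
  493) (.leaf
  186))))) (.node 5 (.node 2 (.node 1 (.leaf
  83) (.leaf
  462)) (.node 1 (.leaf
  155) (.node 1 (.leaf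
  114) (.leaf
  546)))) (.node 2 (.node 1 (.leaf
  318) (.leaf
  445)) (.node 1 (.leaf
  317) (.node 1 (.leaf
  206) (.leaf
  31)))))) (.node 10 (.node 5 (.node 2 (.node 1 (.leaf
  27) (.leaf
  365)) (.node 1 (.leaf
  92) (.node 1 (.leaf
  293) (.leaf
  80)))) (.node 2 (.node 1 (.leaf
  141) (.leaf
  380)) (.node 1 (.leaf
  325) (.node 1 (.leaf
  120) (.leaf
  188))))) (.node 5 (.node 2 (.node 1 (.leaf
  343) (.leaf
  187)) (.node 1 (.leaf
  519) (.node 1 (.leaf
  119) (.leaf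
  385)))) (.node 2 (.node 1 (.leaf
  200) (.leaf
  377)) (.node 1 (.leaf
  223) (.node 1 (.leaf
  216) (.leaf
  290))))))) (.node 20 (.node 10 (.node 5 (.node 2 (.node 1 (.leaf
  611) (.leaf
  253)) (.node 1 (.leaf
  271) (.node 1 (.leaf
  226) (.leaf
  171)))) (.node 2 (.node 1 (.leaf
  523) (.leaf
  265)) (.node 1 (.leaf
  551) (.node 1 (.leaf
  505) (.leaf
  212))))) (.node 5 (.node 2 (.node 1 (.leaf
  137) (.leaf
  286)) (.node 1 (.leaf
  444) (.node 1 (.leaf
  616) (.leaf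
  202)))) (.node 2 (.node 1 (.leaf
  26) (.leaf
  358)) (.node 1 (.leaf
  613) (.node 1 (.leaf
  48) (.leaf
  81)))))) (.node 10 (.node 5 (.node 2 (.node 1 (.leaf
  335) (.leaf
  330)) (.node 1 (.leaf
  528) (.node 1 (.leaf
  438) (.leaf
  248)))) (.node 2 (.node 1 (.leaf
  580) (.leaf
  284)) (.node 1 (.leaf
  531) (.node 1 (.leaf
  113) (.leaf
  164))))) (.node 5 (.node 2 (.node 1 (.leaf
  503) (.leaf
  143)) (.node 1 (.leaf
  553) (.node 1 (.leaf
  349) (.leaf
  485)))) (.node 2 (.node 1 (.leaf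
  43) (.leaf
  82)) (.node 1 (.leaf
  22) (.node 1 (.leaf
  359) (.leaf
  417))))))))) (.node 79 (.node 39 (.node 19 (.node 9 (.node 4 (.node 2 (.node 1 (.leaf
  266) (.leaf
  96)) (.node 1 (.leaf
  197) (.leaf
  66))) (.node 2 (.node 1 (.leaf
  583) (.leaf
  251)) (.node 1 (.leaf
  511) (.node 1 (.leaf
  222) (.leaf
  149))))) (.node 5 (.node 2 (.node 1 (.leaf
  53) (.leaf
  234)) (.node 1 (.leaf
  54) (.node 1 (.leaf
  356) (.leaf
  125)))) (.node 2 (.node 1 (.leaf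
  134) (.leaf
  301)) (.node 1 (.leaf
  388) (.node 1 (.leaf
  295) (.leaf
  170)))))) (.node 10 (.node 5 (.node 2 (.node 1 (.leaf
  30) (.leaf
  126)) (.node 1 (.leaf
  103) (.node 1 (.leaf
  319) (.leaf
  401)))) (.node 2 (.node 1 (.leaf
  150) (.leaf
  333)) (.node 1 (.leaf
  474) (.node 1 (.leaf
  108) (.leaf
  399))))) (.node 5 (.node 2 (.node 1 (.leaf
  324) (.leaf
  219)) (.node 1 (.leaf
  598) (.node 1 (.leaf
  115) (.leaf
  422)))) (.node 2 (.node 1 (.leaf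
  291) (.leaf
  621)) (.node 1 (.leaf
  183) (.node 1 (.leaf
  543) (.leaf
  328))))))) (.node 20 (.node 10 (.node 5 (.node 2 (.node 1 (.leaf
  85) (.leaf
  204)) (.node 1 (.leaf
  311) (.node 1 (.leaf
  620) (.leaf
  610)))) (.node 2 (.node 1 (.leaf
  138) (.leaf
  18)) (.node 1 (.leaf
  168) (.node 1 (.leaf
  144) (.leaf
  180))))) (.node 5 (.node 2 (.node 1 (.leaf
  416) (.leaf
  99)) (.node 1 (.leaf
  322) (.node 1 (.leaf
  154) (.leaf
  261)))) (.node 2 (.node 1 (.leaf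
  14) (.leaf
  614)) (.node 1 (.leaf
  483) (.node 1 (.leaf
  547) (.leaf
  123)))))) (.node 10 (.node 5 (.node 2 (.node 1 (.leaf
  288) (.leaf
  404)) (.node 1 (.leaf
  227) (.node 1 (.leaf
  166) (.leaf
  16)))) (.node 2 (.node 1 (.leaf
  459) (.leaf
  64)) (.node 1 (.leaf
  582) (.node 1 (.leaf
  203) (.leaf
  314))))) (.node 5 (.node 2 (.node 1 (.leaf
  475) (.leaf
  97)) (.node 1 (.leaf
  608) (.node 1 (.leaf
  529) (.leaf
  347)))) (.node 2 (.node 1 (.leaf
  15) (.leaf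
  32)) (.node 1 (.leaf
  473) (.node 1 (.leaf
  433) (.leaf
  274)))))))) (.node 39 (.node 19 (.node 9 (.node 4 (.node 2 (.node 1 (.leaf
  124) (.leaf
  161)) (.node 1 (.leaf
  69) (.leaf
  565))) (.node 2 (.node 1 (.leaf
  232) (.leaf
  28)) (.node 1 (.leaf
  520) (.node 1 (.leaf
  446) (.leaf
  397))))) (.node 5 (.node 2 (.node 1 (.leaf
  544) (.leaf
  184)) (.node 1 (.leaf
  396) (.node 1 (.leaf
  389) (.leaf
  33)))) (.node 2 (.node 1 (.leaf
  2) (.leaf
  524)) (.node 1 (.leaf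
  461) (.node 1 (.leaf
  294) (.leaf
  13)))))) (.node 10 (.node 5 (.node 2 (.node 1 (.leaf
  378) (.leaf
  42)) (.node 1 (.leaf
  501) (.node 1 (.leaf
  106) (.leaf
  456)))) (.node 2 (.node 1 (.leaf
  606) (.leaf
  95)) (.node 1 (.leaf
  9) (.node 1 (.leaf
  364) (.leaf
  539))))) (.node 5 (.node 2 (.node 1 (.leaf
  39) (.leaf
  163)) (.node 1 (.leaf
  341) (.node 1 (.leaf
  489) (.leaf
  20)))) (.node 2 (.node 1 (.leaf
  104) (.leaf
  127)) (.node 1 (.leaf
  300) (.node 1 (.leaf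
  165) (.leaf
  19))))))) (.node 20 (.node 10 (.node 5 (.node 2 (.node 1 (.leaf
  537) (.leaf
  299)) (.node 1 (.leaf
  574) (.node 1 (.leaf
  122) (.leaf
  199)))) (.node 2 (.node 1 (.leaf
  507) (.leaf
  383)) (.node 1 (.leaf
  457) (.node 1 (.leaf
  185) (.leaf
  436))))) (.node 5 (.node 2 (.node 1 (.leaf
  338) (.leaf
  278)) (.node 1 (.leaf
  403) (.node 1 (.leaf
  221) (.leaf
  418)))) (.node 2 (.node 1 (.leaf
  382) (.leaf
  310)) (.node 1 (.leaf
  599) (.node 1 (.leaf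
  315) (.leaf
  334)))))) (.node 10 (.node 5 (.node 2 (.node 1 (.leaf
  339) (.leaf
  139)) (.node 1 (.leaf
  309) (.node 1 (.leaf
  423) (.leaf
  296)))) (.node 2 (.node 1 (.leaf
  373) (.leaf
  567)) (.node 1 (.leaf
  98) (.node 1 (.leaf
  478) (.leaf
  428))))) (.node 5 (.node 2 (.node 1 (.leaf
  86) (.leaf
  146)) (.node 1 (.leaf
  37) (.node 1 (.leaf
  190) (.leaf
  34)))) (.node 2 (.node 1 (.leaf
  67) (.leaf
  564)) (.node 1 (.leaf
  167) (.node 1 (.leaf
  307) (.leaf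
  367)))))))))) (.node 157 (.node 78 (.node 39 (.node 19 (.node 9 (.node 4 (.node 2 (.node 1 (.leaf
  145) (.leaf
  231)) (.node 1 (.leaf
  476) (.leaf
  532))) (.node 2 (.node 1 (.leaf
  627) (.leaf
  336)) (.node 1 (.leaf
  237) (.node 1 (.leaf
  540) (.leaf
  303))))) (.node 5 (.node 2 (.node 1 (.leaf
  556) (.leaf
  87)) (.node 1 (.leaf
  449) (.node 1 (.leaf
  220) (.leaf
  455)))) (.node 2 (.node 1 (.leaf
  23) (.leaf
  534)) (.node 1 (.leaf
  548) (.node 1 (.leaf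
  355) (.leaf
  316)))))) (.node 10 (.node 5 (.node 2 (.node 1 (.leaf
  41) (.leaf
  331)) (.node 1 (.leaf
  91) (.node 1 (.leaf
  323) (.leaf
  477)))) (.node 2 (.node 1 (.leaf
  258) (.leaf
  572)) (.node 1 (.leaf
  353) (.node 1 (.leaf
  495) (.leaf
  194))))) (.node 5 (.node 2 (.node 1 (.leaf
  270) (.leaf
  131)) (.node 1 (.leaf
  172) (.node 1 (.leaf
  72) (.leaf
  601)))) (.node 2 (.node 1 (.leaf
  225) (.leaf
  135)) (.node 1 (.leaf
  151) (.node 1 (.leaf
  254) (.leaf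
  24))))))) (.node 19 (.node 9 (.node 4 (.node 2 (.node 1 (.leaf
  513) (.leaf
  298)) (.node 1 (.leaf
  472) (.leaf
  515))) (.node 2 (.node 1 (.leaf
  49) (.leaf
  130)) (.node 1 (.leaf
  408) (.node 1 (.leaf
  100) (.leaf
  46))))) (.node 5 (.node 2 (.node 1 (.leaf
  508) (.leaf
  210)) (.node 1 (.leaf
  602) (.node 1 (.leaf
  201) (.leaf
  29)))) (.node 2 (.node 1 (.leaf
  313) (.leaf
  205)) (.node 1 (.leaf
  287) (.node 1 (.leaf
  626) (.leaf
  593)))))) (.node 10 (.node 5 (.node 2 (.node 1 (.leaf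
  590) (.leaf
  490)) (.node 1 (.leaf
  240) (.node 1 (.leaf
  174) (.leaf
  65)))) (.node 2 (.node 1 (.leaf
  153) (.leaf
  68)) (.node 1 (.leaf
  189) (.node 1 (.leaf
  372) (.leaf
  406))))) (.node 5 (.node 2 (.node 1 (.leaf
  159) (.leaf
  256)) (.node 1 (.leaf
  569) (.node 1 (.leaf
  181) (.leaf
  211)))) (.node 2 (.node 1 (.leaf
  195) (.leaf
  178)) (.node 1 (.leaf
  245) (.node 1 (.leaf
  585) (.leaf
  62)))))))) (.node 39 (.node 19 (.node 9 (.node 4 (.node 2 (.node 1 (.leaf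
  496) (.leaf
  117)) (.node 1 (.leaf
  11) (.leaf
  193))) (.node 2 (.node 1 (.leaf
  494) (.leaf
  3)) (.node 1 (.leaf
  629) (.node 1 (.leaf
  376) (.leaf
  615))))) (.node 5 (.node 2 (.node 1 (.leaf
  516) (.leaf
  304)) (.node 1 (.leaf
  142) (.node 1 (.leaf
  430) (.leaf
  242)))) (.node 2 (.node 1 (.leaf
  561) (.leaf
  588)) (.node 1 (.leaf
  121) (.node 1 (.leaf
  241) (.leaf
  289)))))) (.node 10 (.node 5 (.node 2 (.node 1 (.leaf
  414) (.leaf
  628)) (.node 1 (.leaf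
  375) (.node 1 (.leaf
  281) (.leaf
  332)))) (.node 2 (.node 1 (.leaf
  554) (.leaf
  463)) (.node 1 (.leaf
  158) (.node 1 (.leaf
  89) (.leaf
  208))))) (.node 5 (.node 2 (.node 1 (.leaf
  77) (.leaf
  622)) (.node 1 (.leaf
  617) (.node 1 (.leaf
  110) (.leaf
  260)))) (.node 2 (.node 1 (.leaf
  175) (.leaf
  214)) (.node 1 (.leaf
  595) (.node 1 (.leaf
  58) (.leaf
  605))))))) (.node 20 (.node 10 (.node 5 (.node 2 (.node 1 (.leaf
  283) (.leaf
  578)) (.node 1 (.leaf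
  393) (.node 1 (.leaf
  61) (.leaf
  230)))) (.node 2 (.node 1 (.leaf
  369) (.leaf
  8)) (.node 1 (.leaf
  592) (.node 1 (.leaf
  526) (.leaf
  305))))) (.node 5 (.node 2 (.node 1 (.leaf
  312) (.leaf
  112)) (.node 1 (.leaf
  308) (.node 1 (.leaf
  157) (.leaf
  448)))) (.node 2 (.node 1 (.leaf
  512) (.leaf
  402)) (.node 1 (.leaf
  209) (.node 1 (.leaf
  442) (.leaf
  536)))))) (.node 10 (.node 5 (.node 2 (.node 1 (.leaf
  518) (.leaf
  302)) (.node 1 (.leaf
  269) (.node 1 (.leaf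
  169) (.leaf
  94)))) (.node 2 (.node 1 (.leaf
  575) (.leaf
  73)) (.node 1 (.leaf
  558) (.node 1 (.leaf
  273) (.leaf
  542))))) (.node 5 (.node 2 (.node 1 (.leaf
  277) (.leaf
  320)) (.node 1 (.leaf
  1) (.node 1 (.leaf
  530) (.leaf
  587)))) (.node 2 (.node 1 (.leaf
  217) (.leaf
  4)) (.node 1 (.leaf
  517) (.node 1 (.leaf
  618) (.leaf
  568))))))))) (.node 79 (.node 39 (.node 19 (.node 9 (.node 4 (.node 2 (.node 1 (.leaf
  533) (.leaf
  12)) (.node 1 (.leaf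
  541) (.leaf
  63))) (.node 2 (.node 1 (.leaf
  577) (.leaf
  400)) (.node 1 (.leaf
  246) (.node 1 (.leaf
  579) (.leaf
  570))))) (.node 5 (.node 2 (.node 1 (.leaf
  102) (.leaf
  607)) (.node 1 (.leaf
  429) (.node 1 (.leaf
  340) (.leaf
  379)))) (.node 2 (.node 1 (.leaf
  466) (.leaf
  179)) (.node 1 (.leaf
  132) (.node 1 (.leaf
  594) (.leaf
  136)))))) (.node 10 (.node 5 (.node 2 (.node 1 (.leaf
  573) (.leaf
  557)) (.node 1 (.leaf
  182) (.node 1 (.leaf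
  78) (.leaf
  597)))) (.node 2 (.node 1 (.leaf
  576) (.leaf
  600)) (.node 1 (.leaf
  259) (.node 1 (.leaf
  235) (.leaf
  560))))) (.node 5 (.node 2 (.node 1 (.leaf
  427) (.leaf
  609)) (.node 1 (.leaf
  342) (.node 1 (.leaf
  35) (.leaf
  280)))) (.node 2 (.node 1 (.leaf
  550) (.leaf
  306)) (.node 1 (.leaf
  292) (.node 1 (.leaf
  586) (.leaf
  38))))))) (.node 20 (.node 10 (.node 5 (.node 2 (.node 1 (.leaf
  480) (.leaf
  398)) (.node 1 (.leaf
  84) (.node 1 (.leaf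
  252) (.leaf
  498)))) (.node 2 (.node 1 (.leaf
  238) (.leaf
  56)) (.node 1 (.leaf
  545) (.node 1 (.leaf
  432) (.leaf
  101))))) (.node 5 (.node 2 (.node 1 (.leaf
  162) (.leaf
  133)) (.node 1 (.leaf
  559) (.node 1 (.leaf
  173) (.leaf
  492)))) (.node 2 (.node 1 (.leaf
  596) (.leaf
  549)) (.node 1 (.leaf
  525) (.node 1 (.leaf
  625) (.leaf
  510)))))) (.node 10 (.node 5 (.node 2 (.node 1 (.leaf
  465) (.leaf
  192)) (.node 1 (.leaf
  257) (.node 1 (.leaf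
  535) (.leaf
  452)))) (.node 2 (.node 1 (.leaf
  437) (.leaf
  366)) (.node 1 (.leaf
  272) (.node 1 (.leaf
  156) (.leaf
  229))))) (.node 5 (.node 2 (.node 1 (.leaf
  362) (.leaf
  196)) (.node 1 (.leaf
  224) (.node 1 (.leaf
  469) (.leaf
  140)))) (.node 2 (.node 1 (.leaf
  361) (.leaf
  215)) (.node 1 (.leaf
  88) (.node 1 (.leaf
  282) (.leaf
  555)))))))) (.node 39 (.node 19 (.node 9 (.node 4 (.node 2 (.node 1 (.leaf
  218) (.leaf
  623)) (.node 1 (.leaf
  624) (.leaf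
  571))) (.node 2 (.node 1 (.leaf
  5) (.leaf
  326)) (.node 1 (.leaf
  415) (.node 1 (.leaf
  407) (.leaf
  147))))) (.node 5 (.node 2 (.node 1 (.leaf
  268) (.leaf
  603)) (.node 1 (.leaf
  57) (.node 1 (.leaf
  521) (.leaf
  129)))) (.node 2 (.node 1 (.leaf
  198) (.leaf
  109)) (.node 1 (.leaf
  619) (.node 1 (.leaf
  90) (.leaf
  411)))))) (.node 10 (.node 5 (.node 2 (.node 1 (.leaf
  262) (.leaf
  499)) (.node 1 (.leaf
  384) (.node 1 (.leaf
  425) (.leaf
  275)))) (.node 2 (.node 1 (.leaf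
  464) (.leaf
  484)) (.node 1 (.leaf
  247) (.node 1 (.leaf
  481) (.leaf
  435))))) (.node 5 (.node 2 (.node 1 (.leaf
  447) (.leaf
  321)) (.node 1 (.leaf
  297) (.node 1 (.leaf
  410) (.leaf
  395)))) (.node 2 (.node 1 (.leaf
  453) (.leaf
  439)) (.node 1 (.leaf
  244) (.node 1 (.leaf
  413) (.leaf
  405))))))) (.node 20 (.node 10 (.node 5 (.node 2 (.node 1 (.leaf
  160) (.leaf
  450)) (.node 1 (.leaf
  243) (.node 1 (.leaf
  391) (.leaf
  612)))) (.node 2 (.node 1 (.leaf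
  589) (.leaf
  374)) (.node 1 (.leaf
  337) (.node 1 (.leaf
  255) (.leaf
  329))))) (.node 5 (.node 2 (.node 1 (.leaf
  264) (.leaf
  352)) (.node 1 (.leaf
  502) (.node 1 (.leaf
  249) (.leaf
  233)))) (.node 2 (.node 1 (.leaf
  371) (.leaf
  239)) (.node 1 (.leaf
  412) (.node 1 (.leaf
  394) (.leaf
  327)))))) (.node 10 (.node 5 (.node 2 (.node 1 (.leaf
  604) (.leaf
  344)) (.node 1 (.leaf
  105) (.node 1 (.leaf
  128) (.leaf
  345)))) (.node 2 (.node 1 (.leaf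
  107) (.leaf
  368)) (.node 1 (.leaf
  440) (.node 1 (.leaf
  454) (.leaf
  118))))) (.node 5 (.node 2 (.node 1 (.leaf
  267) (.leaf
  177)) (.node 1 (.leaf
  213) (.node 1 (.leaf
  250) (.leaf
  390)))) (.node 2 (.node 1 (.leaf
  424) (.leaf
  458)) (.node 1 (.leaf
  360) (.node 1 (.leaf
  482) (.leaf
  500)))))))))))

/-- The coverage of the cosets in one orbit. -/
def cov5 : Tree :=
  (.node 315 (.node 157 (.node 78 (.node 39 (.node 19 (.node 9 (.node 4 (.node 2 (.node 1 (.leaf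
  1741160451) (.leaf
  1750597886)) (.node 1 (.leaf
  1755316662) (.leaf
  15544983754))) (.node 2 (.node 1 (.leaf
  1769472132) (.leaf
  25209191731)) (.node 1 (.leaf
  1793065464) (.node 1 (.leaf
  34871806193) (.leaf
  844628302))))) (.node 5 (.node 2 (.node 1 (.leaf
  1656226024) (.leaf
  5921242720)) (.node 1 (.leaf
  10751842891) (.node 1 (.leaf
  15584739883) (.leaf
  20417344598)))) (.node 2 (.node 1 (.leaf
  25245776174) (.leaf
  30081020393)) (.node 1 (.leaf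
  34911033878) (.node 1 (.leaf
  39742579876) (.leaf
  1660944982)))))) (.node 10 (.node 5 (.node 2 (.node 1 (.leaf
  49407793543) (.leaf
  54198471013)) (.node 1 (.leaf
  54236017069) (.node 1 (.leaf
  59033642088) (.leaf
  59071884704)))) (.node 2 (.node 1 (.leaf
  63863790911) (.leaf
  63900608668)) (.node 1 (.leaf
  68697442672) (.node 1 (.leaf
  68735214838) (.leaf
  73526248499))))) (.node 5 (.node 2 (.node 1 (.leaf
  73562895535) (.leaf
  78361266243)) (.node 1 (.leaf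
  78397538484) (.node 1 (.leaf
  83191678351) (.leaf
  83229796586)))) (.node 2 (.node 1 (.leaf
  88023617980) (.leaf
  88060982599)) (.node 1 (.leaf
  1665663076) (.node 1 (.leaf
  92892942821) (.leaf
  97686236639))))))) (.node 19 (.node 9 (.node 4 (.node 2 (.node 1 (.leaf
  97722309149) (.leaf
  102556804536)) (.node 1 (.leaf
  107350487106) (.leaf
  112221280862))) (.node 2 (.node 1 (.leaf
  117015032878) (.leaf
  121883035199)) (.node 1 (.leaf
  126678949997) (.node 1 (.leaf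
  131547947621) (.leaf
  136339363932))))) (.node 5 (.node 2 (.node 1 (.leaf
  141213026753) (.leaf
  146005173364)) (.node 1 (.leaf
  150876235381) (.node 1 (.leaf
  155666979285) (.leaf
  160537720409)))) (.node 2 (.node 1 (.leaf
  165330132162) (.leaf
  170202590820)) (.node 1 (.leaf
  174996737196) (.node 1 (.leaf
  1670382178) (.leaf
  184659561589)))))) (.node 10 (.node 5 (.node 2 (.node 1 (.leaf
  189527410192) (.leaf
  194323816740)) (.node 1 (.leaf
  199153275463) (.node 1 (.leaf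
  199191978423) (.leaf
  204026090041)))) (.node 2 (.node 1 (.leaf
  208820893854) (.leaf
  208858412567)) (.node 1 (.leaf
  213689280040) (.node 1 (.leaf
  218484570364) (.leaf
  218519213144))))) (.node 5 (.node 2 (.node 1 (.leaf
  223353946149) (.leaf
  228144202152)) (.node 1 (.leaf
  228186178644) (.node 1 (.leaf
  233016631779) (.leaf
  237810742481)))) (.node 2 (.node 1 (.leaf
  237847108989) (.leaf
  242678581568)) (.node 1 (.leaf
  247473823007) (.node 1 (.leaf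
  247509591423) (.leaf
  252343171366)))))))) (.node 39 (.node 19 (.node 9 (.node 4 (.node 2 (.node 1 (.leaf
  257137480012) (.leaf
  257173353570)) (.node 1 (.leaf
  262006879272) (.leaf
  266799741277))) (.node 2 (.node 1 (.leaf
  266837698591) (.leaf
  271668736412)) (.node 1 (.leaf
  276466008300) (.node 1 (.leaf
  1675100717) (.leaf
  281333915119))))) (.node 5 (.node 2 (.node 1 (.leaf
  286128817545) (.leaf
  286165073518)) (.node 1 (.leaf
  290999649670) (.node 1 (.leaf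
  295828920846) (.leaf
  300622910935)))) (.node 2 (.node 1 (.leaf
  305455357530) (.leaf
  305493411901)) (.node 1 (.leaf
  310324316642) (.node 1 (.leaf
  315120270414) (.leaf
  319952295963)))))) (.node 10 (.node 5 (.node 2 (.node 1 (.leaf
  319988278617) (.leaf
  324820067703)) (.node 1 (.leaf
  329614176809) (.node 1 (.leaf
  334444463662) (.leaf
  334484017652)))) (.node 2 (.node 1 (.leaf
  339317310956) (.leaf
  344112266469)) (.node 1 (.leaf
  348941743228) (.node 1 (.leaf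
  348980834499) (.leaf
  353810860582))))) (.node 5 (.node 2 (.node 1 (.leaf
  358607836630) (.leaf
  363438484687)) (.node 1 (.leaf
  363475003619) (.node 1 (.leaf
  368305235260) (.leaf
  373099820387)))) (.node 2 (.node 1 (.leaf
  377931658498) (.leaf
  377973000565)) (.node 1 (.leaf
  382800515437) (.node 1 (.leaf
  387594683889) (.leaf
  392427455000))))))) (.node 20 (.node 10 (.node 5 (.node 2 (.node 1 (.leaf
  392468187569) (.leaf
  397299431881)) (.node 1 (.leaf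
  402092696725) (.node 1 (.leaf
  406924857399) (.leaf
  406960364657)))) (.node 2 (.node 1 (.leaf
  411794947482) (.leaf
  1679818891)) (.node 1 (.leaf
  421418875968) (.node 1 (.leaf
  421456901540) (.leaf
  426287084821))))) (.node 5 (.node 2 (.node 1 (.leaf
  431081174288) (.leaf
  435913733443)) (.node 1 (.leaf
  435955093665) (.node 1 (.leaf
  440785006071) (.leaf
  445616414855)))) (.node 2 (.node 1 (.leaf
  450447355141) (.leaf
  460113695253)) (.node 1 (.leaf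
  464942560772) (.node 1 (.leaf
  469778174205) (.leaf
  479437352001)))))) (.node 10 (.node 5 (.node 2 (.node 1 (.leaf
  484270123397) (.leaf
  489101962279)) (.node 1 (.leaf
  498769255549) (.node 1 (.leaf
  503599720498) (.leaf
  508432597343)))) (.node 2 (.node 1 (.leaf
  518095932637) (.leaf
  527760233960)) (.node 1 (.leaf
  537421008979) (.node 1 (.leaf
  547084014669) (.leaf
  556748361756))))) (.node 5 (.node 2 (.node 1 (.leaf
  561579179436) (.leaf
  566410812513)) (.node 1 (.leaf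
  576076800056) (.node 1 (.leaf
  580908162169) (.leaf
  585742292273)))) (.node 2 (.node 1 (.leaf
  595402873370) (.leaf
  1684537905)) (.node 1 (.leaf
  605068872013) (.node 1 (.leaf
  614729399673) (.leaf
  619562932627))))))))) (.node 79 (.node 39 (.node 19 (.node 9 (.node 4 (.node 2 (.node 1 (.leaf
  624393426034) (.leaf
  634022498440)) (.node 1 (.leaf
  638852900900) (.leaf
  638889473206))) (.node 2 (.node 1 (.leaf
  643720026240) (.leaf
  648516029484)) (.node 1 (.leaf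
  653349540175) (.node 1 (.leaf
  653385785503) (.leaf
  658216861215))))) (.node 5 (.node 2 (.node 1 (.leaf
  663013903700) (.leaf
  667844829536)) (.node 1 (.leaf
  667882874067) (.node 1 (.leaf
  672712860242) (.leaf
  677509417207)))) (.node 2 (.node 1 (.leaf
  682341304923) (.leaf
  682378696869)) (.node 1 (.leaf
  687207126190) (.node 1 (.leaf
  711331485089) (.leaf
  716161629610)))))) (.node 10 (.node 5 (.node 2 (.node 1 (.leaf
  716201238784) (.leaf
  721030647388)) (.node 1 (.leaf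
  725826999624) (.node 1 (.leaf
  730659064400) (.leaf
  730695294039)))) (.node 2 (.node 1 (.leaf
  735527724126) (.leaf
  740321216618)) (.node 1 (.leaf
  1689256191) (.node 1 (.leaf
  745191615725) (.leaf
  750021254711))))) (.node 5 (.node 2 (.node 1 (.leaf
  754818035067) (.leaf
  759647327616)) (.node 1 (.leaf
  759684376684) (.node 1 (.leaf
  764516597939) (.leaf
  769350785177)))) (.node 2 (.node 1 (.leaf
  774182082101) (.leaf
  783808359918)) (.node 1 (.leaf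
  788675789832) (.node 1 (.leaf
  793508085775) (.leaf
  803134765481))))))) (.node 20 (.node 10 (.node 5 (.node 2 (.node 1 (.leaf
  808006173714) (.leaf
  812836074058)) (.node 1 (.leaf
  822463209007) (.node 1 (.leaf
  827333722122) (.leaf
  832165834757)))) (.node 2 (.node 1 (.leaf
  841787465278) (.leaf
  846661625857)) (.node 1 (.leaf
  851491258957) (.node 1 (.leaf
  861117381121) (.leaf
  865985434665))))) (.node 5 (.node 2 (.node 1 (.leaf
  870820056084) (.leaf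
  880443506264)) (.node 1 (.leaf
  885312498720) (.node 1 (.leaf
  1693974580) (.leaf
  899773055326)))) (.node 2 (.node 1 (.leaf
  904639947055) (.leaf
  909473170671)) (.node 1 (.leaf
  919099716205) (.node 1 (.leaf
  923933000200) (.leaf
  923969549775)))))) (.node 10 (.node 5 (.node 2 (.node 1 (.leaf
  928800278000) (.leaf
  933631747264)) (.node 1 (.leaf
  938424305211) (.node 1 (.leaf
  938462693778) (.leaf
  943294543284)))) (.node 2 (.node 1 (.leaf
  948125611268) (.leaf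
  952919799346)) (.node 1 (.leaf
  952959976899) (.node 1 (.leaf
  957789400401) (.leaf
  962624156884))))) (.node 5 (.node 2 (.node 1 (.leaf
  967419188848) (.leaf
  967455339890)) (.node 1 (.leaf
  972286495283) (.node 1 (.leaf
  977120663694) (.leaf
  981910849029)))) (.node 2 (.node 1 (.leaf
  981950494143) (.leaf
  986781559083)) (.node 1 (.leaf
  991614092408) (.node 1 (.leaf
  996408303217) (.leaf
  996445538715)))))))) (.node 39 (.node 19 (.node 9 (.node 4 (.node 2 (.node 1 (.leaf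
  1001277504006) (.leaf
  1006110393425)) (.node 1 (.leaf
  1010904836674) (.leaf
  1010941883714))) (.node 2 (.node 1 (.leaf
  1698693622) (.leaf
  1020603184295)) (.node 1 (.leaf
  1025400369679) (.node 1 (.leaf
  1025435503940) (.leaf
  1030266961095))))) (.node 5 (.node 2 (.node 1 (.leaf
  1035102144919) (.leaf
  1049560732895)) (.node 1 (.leaf
  1054392584375) (.node 1 (.leaf
  1068886759514) (.leaf
  1073719648650)))) (.node 2 (.node 1 (.leaf
  1088213475905) (.leaf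
  1093045892668)) (.node 1 (.leaf
  0x101de8d7e03) (.node 1 (.leaf
  0x102fe97a5dc) (.leaf
  0x1065eab2a3a)))))) (.node 10 (.node 5 (.node 2 (.node 1 (.leaf
  0x1077e8d9257) (.leaf
  0x10ade8579ff)) (.node 1 (.leaf
  0x10bfea9fa0b) (.node 1 (.leaf
  1703411746) (.leaf
  0x1107e9fadbb)))) (.node 2 (.node 1 (.leaf
  0x113de8d3220) (.leaf
  0x114fe9f2d2d)) (.node 1 (.leaf
  0x11620ca89a6) (.node 1 (.leaf
  0x11860bd8402) (.leaf
  0x11aa0d8e263))))) (.node 5 (.node 2 (.node 1 (.leaf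
  0x11ce0d30c13) (.leaf
  0x11f20d8e666)) (.node 1 (.leaf
  0x12160eec004) (.node 1 (.leaf
  1708130318) (.leaf
  0x125e0e62c9a)))) (.node 2 (.node 1 (.leaf
  1816657931) (.leaf
  0x1311e7e7549)) (.node 1 (.leaf
  0x13120f31243) (.node 1 (.leaf
  0x13240e1c49d) (.leaf
  0x1335e7cb13d))))))) (.node 20 (.node 10 (.node 5 (.node 2 (.node 1 (.leaf
  0x13360f25e1e) (.leaf
  0x1347e948138)) (.node 1 (.leaf
  0x13480dfa649) (.node 1 (.leaf
  0x135a0eff962) (.leaf
  0x136be96dc30)))) (.node 2 (.node 1 (.leaf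
  0x137e0cda191) (.leaf
  0x138fea4783e)) (.node 1 (.leaf
  0x13a1e7a6a00) (.node 1 (.leaf
  0x13a20b7418c) (.leaf
  0x13b40b7c5cc))))) (.node 5 (.node 2 (.node 1 (.leaf
  0x13c5e763594) (.leaf
  0x13c60cb122c)) (.node 1 (.leaf
  0x13d80cc19af) (.node 1 (.leaf
  0x13ea0e4f9b2) (.leaf
  0x13fbeadf8db)))) (.node 2 (.node 1 (.leaf
  0x140de8750cd) (.leaf
  0x140e0b7f0bb)) (.node 1 (.leaf
  0x14200baec76) (.node 1 (.leaf
  0x1431ea588b8) (.leaf
  0x1443eae1a21)))))) (.node 10 (.node 5 (.node 2 (.node 1 (.leaf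
  0x14440d3e501) (.leaf
  0x14560c6366f)) (.node 1 (.leaf
  0x14680c01dfe) (.node 1 (.leaf
  0x147a0de6423) (.leaf
  0x149e0dfa255)))) (.node 2 (.node 1 (.leaf
  0x14b00dee4c6) (.leaf
  0x14c20f0189b)) (.node 1 (.leaf
  0x14e5e96697a) (.node 1 (.leaf
  0x14f7e83600c) (.leaf
  0x14f80f24c4f))))) (.node 5 (.node 2 (.node 1 (.leaf
  0x150a0bc4d39) (.leaf
  0x151be91f865)) (.node 1 (.leaf
  0x152de859050) (.node 1 (.leaf
  0x152e0e68c0d) (.leaf
  0x15400c8e506)))) (.node 2 (.node 1 (.leaf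
  0x15520f4dc10) (.leaf
  0x15640f07907)) (.node 1 (.leaf
  0x1587e9bfa27) (.node 1 (.leaf
  0x159a0f1c129) (.leaf
  0x15ac0f611ea)))))))))) (.node 157 (.node 78 (.node 39 (.node 19 (.node 9 (.node 4 (.node 2 (.node 1 (.leaf
  0x15cfe9fa961) (.leaf
  0x15e1e8f453a)) (.node 1 (.leaf
  0x15e20b41d55) (.leaf
  0x15f40f018f4))) (.node 2 (.node 1 (.leaf
  0x16060d3f196) (.leaf
  0x1617e97d1c7)) (.node 1 (.leaf
  0x16180e68cc9) (.node 1 (.leaf
  0x162a0c6ddce) (.leaf
  0x163c0d084d9))))) (.node 5 (.node 2 (.node 1 (.leaf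
  0x1671e8db0a3) (.leaf
  0x1683e8f3c92)) (.node 1 (.leaf
  0x16b9e82f9fc) (.node 1 (.leaf
  0x16cbe7f9811) (.leaf
  0x16de0dd4957)))) (.node 2 (.node 1 (.leaf
  0x17020c5ac59) (.leaf
  1840251129)) (.node 1 (.leaf
  0x1749e81642f) (.node 1 (.leaf
  0x174a0d338eb) (.leaf
  0x175c0ddd248)))))) (.node 10 (.node 5 (.node 2 (.node 1 (.leaf
  0x176deb3b4e0) (.leaf
  0x176e0f0ae4c)) (.node 1 (.leaf
  0x177fe78b58d) (.node 1 (.leaf
  0x17800bb7e4e) (.leaf
  0x17920ddf541)))) (.node 2 (.node 1 (.leaf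
  0x17a3ea95819) (.leaf
  0x17b60ddf113)) (.node 1 (.leaf
  0x17c7e7e6877) (.node 1 (.leaf
  0x17d9e766d45) (.leaf
  0x17da0cb4a54))))) (.node 5 (.node 2 (.node 1 (.leaf
  0x17ec0dc45f3) (.leaf
  0x17fde77aa07)) (.node 1 (.leaf
  0x17fe0c9a5bd) (.node 1 (.leaf
  0x18100c13df2) (.leaf
  0x18220ba58d2)))) (.node 2 (.node 1 (.leaf
  0x1833eb428ab) (.leaf
  0x1845eb73e38)) (.node 1 (.leaf
  0x18460c7a4d5) (.node 1 (.leaf
  0x18580cc41f5) (.leaf
  0x1869ea88083))))))) (.node 19 (.node 9 (.node 4 (.node 2 (.node 1 (.leaf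
  0x187bea3b073) (.leaf
  0x187c0b7c4c1)) (.node 1 (.leaf
  0x188e0cede68) (.leaf
  0x18a00c01923))) (.node 2 (.node 1 (.leaf
  0x18b20e968e9) (.leaf
  0x18d60cff66c)) (.node 1 (.leaf
  0x18e80c83dd9) (.node 1 (.leaf
  0x18fa0b4705b) (.leaf
  0x191dea3e4b5))))) (.node 5 (.node 2 (.node 1 (.leaf
  0x192fe71948d) (.leaf
  0x19300e6dc3b)) (.node 1 (.leaf
  0x19420b05109) (.node 1 (.leaf
  0x1953e85617c) (.leaf
  0x1965e7b3031)))) (.node 2 (.node 1 (.leaf
  0x19660eb388c) (.leaf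
  0x19780d4f0e1)) (.node 1 (.leaf
  0x198a0dd7525) (.node 1 (.leaf
  0x199c0f1c5c8) (.leaf
  0x19bfe9da135)))))) (.node 10 (.node 5 (.node 2 (.node 1 (.leaf
  0x19d20c46435) (.leaf
  0x19e40d5b964)) (.node 1 (.leaf
  0x1a07eafa9ed) (.node 1 (.leaf
  0x1a19e93d571) (.leaf
  0x1a1a0e60cc4)))) (.node 2 (.node 1 (.leaf
  0x1a2c0d9d1c6) (.leaf
  0x1a3e0e51881)) (.node 1 (.leaf
  0x1a4fe9f1ce2) (.node 1 (.leaf
  0x1a500b4ada2) (.leaf
  0x1a620d77946))))) (.node 5 (.node 2 (.node 1 (.leaf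
  0x1a740e1e9de) (.leaf
  0x1aa9e7645ba)) (.node 1 (.leaf
  0x1abbe7f2836) (.node 1 (.leaf
  0x1af1e9db455) (.leaf
  0x1b03e86f870)))) (.node 2 (.node 1 (.leaf
  0x1b160c48421) (.leaf
  0x1b3a0cd11a3)) (.node 1 (.leaf
  1854406738) (.node 1 (.leaf
  0x1b81e95bd88) (.leaf
  0x1b820db4269)))))))) (.node 39 (.node 19 (.node 9 (.node 4 (.node 2 (.node 1 (.leaf
  0x1ba5e8f3cd6) (.leaf
  0x1ba60c211d4)) (.node 1 (.leaf
  0x1bb80d6ea46) (.leaf
  0x1bc9e89b973))) (.node 2 (.node 1 (.leaf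
  0x1bdbe8e68c5) (.leaf
  0x1bdc0b281d2)) (.node 1 (.leaf
  0x1bee0ba392a) (.node 1 (.leaf
  1873281167) (.leaf
  0x1c35eb2d1db))))) (.node 5 (.node 2 (.node 1 (.leaf
  0x1c360ef1a5f) (.leaf
  0x1c59e9f687a)) (.node 1 (.leaf
  0x1c5a0b971d8) (.node 1 (.leaf
  0x1c6c0ccc245) (.leaf
  0x1c7de7bb59d)))) (.node 2 (.node 1 (.leaf
  0x1c8fe9374cb) (.leaf
  0x1c900f47d81)) (.node 1 (.leaf
  0x1ca20e6d97e) (.node 1 (.leaf
  1877999802) (.leaf
  0x1ce9ea3c117)))))) (.node 10 (.node 5 (.node 2 (.node 1 (.leaf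
  0x1cea0c45622) (.leaf
  0x1cfc0dee150)) (.node 1 (.leaf
  0x1d0de8ff044) (.node 1 (.leaf
  0x1d0e0ec2d6b) (.leaf
  0x1d1feb648f0)))) (.node 2 (.node 1 (.leaf
  0x1d200ebc417) (.leaf
  0x1d320d4f1c4)) (.node 1 (.leaf
  0x1d43e93a0f2) (.node 1 (.leaf
  0x1d560eec51c) (.leaf
  0x1d67e868c3c))))) (.node 5 (.node 2 (.node 1 (.leaf
  0x1d79e9b1045) (.leaf
  0x1d7a0bfc86e)) (.node 1 (.leaf
  0x1d8c0e60893) (.node 1 (.leaf
  0x1d9de93a497) (.leaf
  0x1d9e0bb2449)))) (.node 2 (.node 1 (.leaf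
  0x1db00d15d0a) (.leaf
  0x1dc20cec0c8)) (.node 1 (.leaf
  0x1de5e906121) (.node 1 (.leaf
  0x1de60cec51b) (.leaf
  0x1df80ebe120))))))) (.node 20 (.node 10 (.node 5 (.node 2 (.node 1 (.leaf
  0x1e09ea555cd) (.leaf
  0x1e1be9ff4bf)) (.node 1 (.leaf
  0x1e1c0f7e128) (.node 1 (.leaf
  0x1e640f454f5) (.leaf
  0x1e760bec891)))) (.node 2 (.node 1 (.leaf
  0x1e880f455e6) (.leaf
  0x1eabe906176)) (.node 1 (.leaf
  0x1ebe0e6d847) (.node 1 (.leaf
  1882718342) (.leaf
  0x1f05e7e90cc))))) (.node 5 (.node 2 (.node 1 (.leaf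
  0x1f060d41a0c) (.leaf
  0x1f180e7845f)) (.node 1 (.leaf
  0x1f29e8f4534) (.node 1 (.leaf
  0x1f2a0f63927) (.leaf
  0x1f3be7eccd0)))) (.node 2 (.node 1 (.leaf
  0x1f3c0d5d4dc) (.leaf
  0x1f4e0e5f1eb)) (.node 1 (.leaf
  0x1f5fe97a61c) (.node 1 (.leaf
  0x1f720e5f590) (.leaf
  0x1f83eb2d18b)))))) (.node 10 (.node 5 (.node 2 (.node 1 (.leaf
  0x1f95ead351e) (.leaf
  0x1f960d83c85)) (.node 1 (.leaf
  0x1fa80d318d7) (.node 1 (.leaf
  0x1fb9e8f2d32) (.leaf
  0x1fba0dcd53b)))) (.node 2 (.node 1 (.leaf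
  0x1fcc0e9ba25) (.leaf
  0x1fde0bd99da)) (.node 1 (.leaf
  0x2001e8a812c) (.node 1 (.leaf
  0x20020b7948a) (.leaf
  0x20140e85224))))) (.node 5 (.node 2 (.node 1 (.leaf
  0x2025eb1d4e4) (.leaf
  0x2037e95381e)) (.node 1 (.leaf
  0x20380cdc103) (.node 1 (.leaf
  0x20800cc6d14) (.leaf
  0x20920c96c90)))) (.node 2 (.node 1 (.leaf
  0x20a40f46274) (.leaf
  0x20c7e8a8584)) (.node 1 (.leaf
  0x20da0b2391a) (.node 1 (.leaf
  1901592854) (.leaf
  0x21220c5487f))))))))) (.node 79 (.node 39 (.node 19 (.node 9 (.node 4 (.node 2 (.node 1 (.leaf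
  0x2133e9b4199) (.leaf
  0x21340c01d82)) (.node 1 (.leaf
  0x2157e7b347b) (.leaf
  1915748793))) (.node 2 (.node 1 (.leaf
  0x217be79861b) (.leaf
  0x217c0c5694a)) (.node 1 (.leaf
  0x218e0cae81a) (.node 1 (.leaf
  0x219feb3b13e) (.leaf
  0x21a00bcfca6))))) (.node 5 (.node 2 (.node 1 (.leaf
  0x21b1e91bddd) (.leaf
  0x21b20dca20a)) (.node 1 (.leaf
  0x21c40b5910c) (.node 1 (.leaf
  0x21d5e9f4ce6) (.leaf
  0x21e80d105c0)))) (.node 2 (.node 1 (.leaf
  0x21f9e8da46f) (.leaf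
  0x220beabe130)) (.node 1 (.leaf
  0x220c0bf7c66) (.node 1 (.leaf
  0x221e0d5c558) (.leaf
  0x222fe994956)))))) (.node 10 (.node 5 (.node 2 (.node 1 (.leaf
  0x22300d63661) (.leaf
  0x22420e6dce7)) (.node 1 (.leaf
  0x22540de650e) (.node 1 (.leaf
  0x2265e977519) (.leaf
  0x2277eb69039)))) (.node 2 (.node 1 (.leaf
  0x22780ce88a0) (.leaf
  0x228a0ebd015)) (.node 1 (.leaf
  0x229be8738b2) (.node 1 (.leaf
  0x22ade9e490d) (.leaf
  0x22ae0c7511d))))) (.node 5 (.node 2 (.node 1 (.leaf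
  0x22c00b7f653) (.leaf
  0x22e40b418fb)) (.node 1 (.leaf
  0x23080e71673) (.node 1 (.leaf
  0x232c0ccfe12) (.leaf
  1028653065)))) (.node 2 (.node 1 (.leaf
  1052246088) (.leaf
  1717568009)) (.node 1 (.leaf
  1089994855) (.node 1 (.leaf
  0x23bbe7a01c5) (.leaf
  1722286539))))))) (.node 20 (.node 10 (.node 5 (.node 2 (.node 1 (.leaf
  0x23cde8e6caa) (.leaf
  1094713853)) (.node 1 (.leaf
  0x23e00c9d44a) (.node 1 (.leaf
  1727004983) (.leaf
  0x24040b4a8d8)))) (.node 2 (.node 1 (.leaf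
  1099432441) (.leaf
  0x2427eb2c1b5)) (.node 1 (.leaf
  0x24280f23894) (.node 1 (.leaf
  1731723611) (.leaf
  0x244beae21ca))))) (.node 5 (.node 2 (.node 1 (.leaf
  0x244c0ca3e40) (.leaf
  1104150792)) (.node 1 (.leaf
  0x24700d2fe44) (.node 1 (.leaf
  0x2481eab0e34) (.leaf
  0x24940b7c0a9)))) (.node 2 (.node 1 (.leaf
  0x24a60ba5cbc) (.leaf
  0x24b7e847e3d)) (.node 1 (.leaf
  1108869738) (.node 1 (.leaf
  0x24ca0ccf5fa) (.leaf
  0x24dc0c79211)))))) (.node 10 (.node 5 (.node 2 (.node 1 (.leaf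
  0x25240eef018) (.leaf
  1113588144)) (.node 1 (.leaf
  0x256c0d3a01d) (.node 1 (.leaf
  1118306304) (.leaf
  1920467306)))) (.node 2 (.node 1 (.leaf
  0x25b3e9579b3) (.leaf
  0x25b40d7f66b)) (.node 1 (.leaf
  0x25c60ebd0f8) (.node 1 (.leaf
  0x25d7e7f0967) (.leaf
  0x25d80e9d0de))))) (.node 5 (.node 2 (.node 1 (.leaf
  0x25e9eb23968) (.leaf
  0x25ea0e641d1)) (.node 1 (.leaf
  0x25fc0e711ab) (.node 1 (.leaf
  0x260de7f2c16) (.leaf
  0x26200f0195c)))) (.node 2 (.node 1 (.leaf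
  0x2643eb20a30) (.leaf
  0x26440d3384b)) (.node 1 (.leaf
  0x26560ed4a51) (.node 1 (.leaf
  0x2667e7d6a19) (.leaf
  0x268bea1482d)))))))) (.node 39 (.node 19 (.node 9 (.node 4 (.node 2 (.node 1 (.leaf
  0x269de93f0ad) (.leaf
  0x269e0f2f42b)) (.node 1 (.leaf
  0x26b00ca0489) (.leaf
  0x26c20d4f112))) (.node 2 (.node 1 (.leaf
  0x26d40dc94da) (.leaf
  0x26f80cc195a)) (.node 1 (.leaf
  0x2709e962026) (.node 1 (.leaf
  0x270a0ce35e4) (.leaf
  0x271c0f1c598))))) (.node 5 (.node 2 (.node 1 (.leaf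
  0x272de757223) (.leaf
  0x2763e76699f)) (.node 1 (.leaf
  0x27760d10578) (.node 1 (.leaf
  0x27880b2b8be) (.leaf
  0x2799e753d6e)))) (.node 2 (.node 1 (.leaf
  1939341819) (.leaf
  0x27cfe826614)) (.node 1 (.leaf
  0x27d00e4fcfa) (.node 1 (.leaf
  0x27e20b2ec3f) (.leaf
  0x27f3e94858e)))))) (.node 10 (.node 5 (.node 2 (.node 1 (.leaf
  0x27f40b470a8) (.leaf
  0x2805ea3f595)) (.node 1 (.leaf
  0x28060ccf236) (.node 1 (.leaf
  0x28180bea518) (.leaf
  0x2829e9b1496)))) (.node 2 (.node 1 (.leaf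
  0x283c0db91c2) (.leaf
  0x284de96206b)) (.node 1 (.leaf
  0x285fea628ce) (.node 1 (.leaf
  0x28600c3f463) (.leaf
  0x28720d33d53))))) (.node 5 (.node 2 (.node 1 (.leaf
  0x2883e856552) (.leaf
  0x28840d7f25d)) (.node 1 (.leaf
  0x28960eba498) (.node 1 (.leaf
  0x28a80b474b1) (.leaf
  0x28b9e9b410b)))) (.node 2 (.node 1 (.leaf
  0x28cbe96747e) (.leaf
  0x28cc0e6dcee)) (.node 1 (.leaf
  0x28de0f2a806) (.node 1 (.leaf
  0x28efe8f3d0f) (.leaf
  0x2901e759cb0))))))) (.node 20 (.node 10 (.node 5 (.node 2 (.node 1 (.leaf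
  0x29020eb5122) (.leaf
  0x29140dfa22a)) (.node 1 (.leaf
  0x29380b4a94b) (.node 1 (.leaf
  0x295c0df1e72) (.leaf
  0x29800f3120d)))) (.node 2 (.node 1 (.leaf
  1958216038) (.leaf
  0x29ebe9579ae)) (.node 1 (.leaf
  0x29ec0d63667) (.node 1 (.leaf
  0x29fe0d338f3) (.leaf
  0x2a0fe730d69))))) (.node 5 (.node 2 (.node 1 (.leaf
  0x2a100f0a936) (.leaf
  0x2a21eaba1be)) (.node 1 (.leaf
  0x2a220f2add0) (.node 1 (.leaf
  0x2a340ef1d83) (.leaf
  0x2a45e7f9807)))) (.node 2 (.node 1 (.leaf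
  0x2a580d779a7) (.leaf
  0x2a7beab2e02)) (.node 1 (.leaf
  0x2a7c0ebd046) (.node 1 (.leaf
  0x2a8e0e2764f) (.leaf
  0x2a9fe76d613)))))) (.node 10 (.node 5 (.node 2 (.node 1 (.leaf
  0x2ac3ea2702a) (.leaf
  0x2ad5e96dc5d)) (.node 1 (.leaf
  0x2ad60baf069) (.node 1 (.leaf
  0x2ae80b2004c) (.leaf
  0x2afa0d2e96f)))) (.node 2 (.node 1 (.leaf
  0x2b0c0b47082) (.leaf
  0x2b300dc45a5)) (.node 1 (.leaf
  0x2b41e7e2460) (.node 1 (.leaf
  0x2b420ce6d9e) (.leaf
  0x2b540d611e0))))) (.node 5 (.node 2 (.node 1 (.leaf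
  0x2b65e7575e7) (.leaf
  0x2b9be827174)) (.node 1 (.leaf
  0x2bae0db916c) (.node 1 (.leaf
  0x2bc00c1b4b9) (.leaf
  0x2bd1eafc911)))) (.node 2 (.node 1 (.leaf
  1967653345) (.leaf
  0x2c07e95383a)) (.node 1 (.leaf
  0x2c1a0eee5d3) (.node 1 (.leaf
  0x2c2be8590a2) (.leaf
  0x2c2c0f2f0bd)))))))))))

/-- Where each coset is covered. -/
def covAt5 : Tree :=
  (.node 315 (.node 157 (.node 78 (.node 39 (.node 19 (.node 9 (.node 4 (.node 2 (.node 1 (.leaf
  534) (.leaf
  202)) (.node 1 (.leaf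
  263) (.leaf
  0))) (.node 2 (.node 1 (.leaf
  267) (.leaf
  200)) (.node 1 (.leaf
  587) (.node 1 (.leaf
  604) (.leaf
  193))))) (.node 5 (.node 2 (.node 1 (.leaf
  505) (.leaf
  199)) (.node 1 (.leaf
  270) (.node 1 (.leaf
  303) (.leaf
  308)))) (.node 2 (.node 1 (.leaf
  268) (.leaf
  194)) (.node 1 (.leaf
  310) (.node 1 (.leaf
  327) (.leaf
  196)))))) (.node 10 (.node 5 (.node 2 (.node 1 (.leaf
  265) (.leaf
  206)) (.node 1 (.leaf
  497) (.node 1 (.leaf
  544) (.leaf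
  417)))) (.node 2 (.node 1 (.leaf
  531) (.leaf
  339)) (.node 1 (.leaf
  478) (.node 1 (.leaf
  96) (.leaf
  146))))) (.node 5 (.node 2 (.node 1 (.leaf
  533) (.leaf
  463)) (.node 1 (.leaf
  82) (.node 1 (.leaf
  208) (.leaf
  388)))) (.node 2 (.node 1 (.leaf
  258) (.leaf
  298)) (.node 1 (.leaf
  159) (.node 1 (.leaf
  68) (.leaf
  557))))))) (.node 19 (.node 9 (.node 4 (.node 2 (.node 1 (.leaf
  138) (.leaf
  80)) (.node 1 (.leaf
  205) (.leaf
  610))) (.node 2 (.node 1 (.leaf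
  552) (.leaf
  162)) (.node 1 (.leaf
  550) (.node 1 (.leaf
  43) (.leaf
  331))))) (.node 5 (.node 2 (.node 1 (.leaf
  279) (.leaf
  367)) (.node 1 (.leaf
  140) (.node 1 (.leaf
  28) (.leaf
  209)))) (.node 2 (.node 1 (.leaf
  373) (.leaf
  385)) (.node 1 (.leaf
  120) (.node 1 (.leaf
  149) (.leaf
  495)))))) (.node 10 (.node 5 (.node 2 (.node 1 (.leaf
  626) (.leaf
  364)) (.node 1 (.leaf
  421) (.node 1 (.leaf
  93) (.leaf
  281)))) (.node 2 (.node 1 (.leaf
  568) (.leaf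
  124)) (.node 1 (.leaf
  136) (.node 1 (.leaf
  41) (.leaf
  30))))) (.node 5 (.node 2 (.node 1 (.leaf
  414) (.leaf
  422)) (.node 1 (.leaf
  607) (.node 1 (.leaf
  439) (.leaf
  506)))) (.node 2 (.node 1 (.leaf
  426) (.leaf
  513)) (.node 1 (.leaf
  547) (.node 1 (.leaf
  613) (.leaf
  145)))))))) (.node 39 (.node 19 (.node 9 (.node 4 (.node 2 (.node 1 (.leaf
  95) (.leaf
  304)) (.node 1 (.leaf
  307) (.leaf
  237))) (.node 2 (.node 1 (.leaf
  390) (.leaf
  144)) (.node 1 (.leaf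
  70) (.node 1 (.leaf
  386) (.leaf
  13))))) (.node 5 (.node 2 (.node 1 (.leaf
  180) (.leaf
  67)) (.node 1 (.leaf
  329) (.node 1 (.leaf
  248) (.leaf
  361)))) (.node 2 (.node 1 (.leaf
  47) (.leaf
  611)) (.node 1 (.leaf
  181) (.node 1 (.leaf
  443) (.leaf
  617)))))) (.node 10 (.node 5 (.node 2 (.node 1 (.leaf
  148) (.leaf
  79)) (.node 1 (.leaf
  578) (.node 1 (.leaf
  36) (.leaf
  306)))) (.node 2 (.node 1 (.leaf
  488) (.leaf
  508)) (.node 1 (.leaf
  22) (.node 1 (.leaf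
  612) (.leaf
  182))))) (.node 5 (.node 2 (.node 1 (.leaf
  576) (.leaf
  188)) (.node 1 (.leaf
  45) (.node 1 (.leaf
  423) (.leaf
  486)))) (.node 2 (.node 1 (.leaf
  387) (.leaf
  121)) (.node 1 (.leaf
  157) (.node 1 (.leaf
  354) (.leaf
  49))))))) (.node 20 (.node 10 (.node 5 (.node 2 (.node 1 (.leaf
  57) (.leaf
  292)) (.node 1 (.leaf
  341) (.node 1 (.leaf
  233) (.leaf
  150)))) (.node 2 (.node 1 (.leaf
  403) (.leaf
  474)) (.node 1 (.leaf
  104) (.node 1 (.leaf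
  139) (.leaf
  585))))) (.node 5 (.node 2 (.node 1 (.leaf
  471) (.leaf
  161)) (.node 1 (.leaf
  379) (.node 1 (.leaf
  615) (.leaf
  353)))) (.node 2 (.node 1 (.leaf
  4) (.leaf
  453)) (.node 1 (.leaf
  440) (.node 1 (.leaf
  131) (.leaf
  158)))))) (.node 10 (.node 5 (.node 2 (.node 1 (.leaf
  553) (.leaf
  460)) (.node 1 (.leaf
  123) (.node 1 (.leaf
  368) (.leaf
  363)))) (.node 2 (.node 1 (.leaf
  229) (.leaf
  400)) (.node 1 (.leaf
  466) (.node 1 (.leaf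
  436) (.leaf
  325))))) (.node 5 (.node 2 (.node 1 (.leaf
  424) (.leaf
  518)) (.node 1 (.leaf
  119) (.node 1 (.leaf
  574) (.leaf
  425)))) (.node 2 (.node 1 (.leaf
  582) (.leaf
  190)) (.node 1 (.leaf
  269) (.node 1 (.leaf
  301) (.leaf
  25))))))))) (.node 79 (.node 39 (.node 19 (.node 9 (.node 4 (.node 2 (.node 1 (.leaf
  273) (.leaf
  63)) (.node 1 (.leaf
  164) (.leaf
  496))) (.node 2 (.node 1 (.leaf
  129) (.leaf
  628)) (.node 1 (.leaf
  324) (.node 1 (.leaf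
  17) (.leaf
  172))))) (.node 5 (.node 2 (.node 1 (.leaf
  480) (.leaf
  241)) (.node 1 (.leaf
  570) (.node 1 (.leaf
  525) (.leaf
  511)))) (.node 2 (.node 1 (.leaf
  349) (.leaf
  55)) (.node 1 (.leaf
  551) (.node 1 (.leaf
  173) (.leaf
  29)))))) (.node 10 (.node 5 (.node 2 (.node 1 (.leaf
  589) (.leaf
  583)) (.node 1 (.leaf
  498) (.node 1 (.leaf
  189) (.leaf
  31)))) (.node 2 (.node 1 (.leaf
  362) (.leaf
  160)) (.node 1 (.leaf
  247) (.node 1 (.leaf
  293) (.leaf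
  623))))) (.node 5 (.node 2 (.node 1 (.leaf
  410) (.leaf
  291)) (.node 1 (.leaf
  526) (.node 1 (.leaf
  629) (.leaf
  563)))) (.node 2 (.node 1 (.leaf
  433) (.leaf
  217)) (.node 1 (.leaf
  355) (.node 1 (.leaf
  53) (.leaf
  105))))))) (.node 20 (.node 10 (.node 5 (.node 2 (.node 1 (.leaf
  377) (.leaf
  397)) (.node 1 (.leaf
  300) (.node 1 (.leaf
  244) (.leaf
  428)))) (.node 2 (.node 1 (.leaf
  321) (.leaf
  3)) (.node 1 (.leaf
  407) (.node 1 (.leaf
  441) (.leaf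
  290))))) (.node 5 (.node 2 (.node 1 (.leaf
  577) (.leaf
  108)) (.node 1 (.leaf
  446) (.node 1 (.leaf
  72) (.leaf
  348)))) (.node 2 (.node 1 (.leaf
  168) (.leaf
  225)) (.node 1 (.leaf
  351) (.node 1 (.leaf
  393) (.leaf
  454)))))) (.node 10 (.node 5 (.node 2 (.node 1 (.leaf
  515) (.leaf
  323)) (.node 1 (.leaf
  555) (.node 1 (.leaf
  289) (.leaf
  447)))) (.node 2 (.node 1 (.leaf
  142) (.leaf
  540)) (.node 1 (.leaf
  246) (.node 1 (.leaf
  334) (.leaf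
  369))))) (.node 5 (.node 2 (.node 1 (.leaf
  380) (.leaf
  109)) (.node 1 (.leaf
  462) (.node 1 (.leaf
  103) (.leaf
  484)))) (.node 2 (.node 1 (.leaf
  492) (.leaf
  9)) (.node 1 (.leaf
  358) (.node 1 (.leaf
  33) (.leaf
  332)))))))) (.node 39 (.node 19 (.node 9 (.node 4 (.node 2 (.node 1 (.leaf
  84) (.leaf
  184)) (.node 1 (.leaf
  586) (.leaf
  212))) (.node 2 (.node 1 (.leaf
  416) (.leaf
  7)) (.node 1 (.leaf
  419) (.node 1 (.leaf
  598) (.leaf
  318))))) (.node 5 (.node 2 (.node 1 (.leaf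
  435) (.leaf
  27)) (.node 1 (.leaf
  170) (.node 1 (.leaf
  538) (.leaf
  330)))) (.node 2 (.node 1 (.leaf
  567) (.leaf
  502)) (.node 1 (.leaf
  66) (.node 1 (.leaf
  135) (.leaf
  1)))))) (.node 10 (.node 5 (.node 2 (.node 1 (.leaf
  183) (.leaf
  176)) (.node 1 (.leaf
  295) (.node 1 (.leaf
  112) (.leaf
  464)))) (.node 2 (.node 1 (.leaf
  221) (.leaf
  132)) (.node 1 (.leaf
  309) (.node 1 (.leaf
  311) (.leaf
  522))))) (.node 5 (.node 2 (.node 1 (.leaf
  365) (.leaf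
  427)) (.node 1 (.leaf
  584) (.node 1 (.leaf
  483) (.leaf
  499)))) (.node 2 (.node 1 (.leaf
  493) (.leaf
  588)) (.node 1 (.leaf
  127) (.node 1 (.leaf
  624) (.leaf
  554))))))) (.node 20 (.node 10 (.node 5 (.node 2 (.node 1 (.leaf
  340) (.leaf
  465)) (.node 1 (.leaf
  126) (.node 1 (.leaf
  470) (.leaf
  411)))) (.node 2 (.node 1 (.leaf
  573) (.leaf
  494)) (.node 1 (.leaf
  469) (.node 1 (.leaf
  430) (.leaf
  420))))) (.node 5 (.node 2 (.node 1 (.leaf
  500) (.leaf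
  452)) (.node 1 (.leaf
  75) (.node 1 (.leaf
  431) (.leaf
  429)))) (.node 2 (.node 1 (.leaf
  590) (.leaf
  357)) (.node 1 (.leaf
  59) (.node 1 (.leaf
  370) (.leaf
  77)))))) (.node 10 (.node 5 (.node 2 (.node 1 (.leaf
  445) (.leaf
  434)) (.node 1 (.leaf
  313) (.node 1 (.leaf
  399) (.leaf
  232)))) (.node 2 (.node 1 (.leaf
  459) (.leaf
  261)) (.node 1 (.leaf
  14) (.node 1 (.leaf
  211) (.leaf
  487))))) (.node 5 (.node 2 (.node 1 (.leaf
  151) (.leaf
  455)) (.node 1 (.leaf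
  5) (.node 1 (.leaf
  444) (.leaf
  372)))) (.node 2 (.node 1 (.leaf
  600) (.leaf
  514)) (.node 1 (.leaf
  276) (.node 1 (.leaf
  305) (.leaf
  316)))))))))) (.node 157 (.node 78 (.node 39 (.node 19 (.node 9 (.node 4 (.node 2 (.node 1 (.leaf
  456) (.leaf
  110)) (.node 1 (.leaf
  274) (.leaf
  479))) (.node 2 (.node 1 (.leaf
  24) (.leaf
  74)) (.node 1 (.leaf
  338) (.node 1 (.leaf
  239) (.leaf
  128))))) (.node 5 (.node 2 (.node 1 (.leaf
  243) (.leaf
  342)) (.node 1 (.leaf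
  382) (.node 1 (.leaf
  35) (.leaf
  178)))) (.node 2 (.node 1 (.leaf
  271) (.leaf
  477)) (.node 1 (.leaf
  592) (.node 1 (.leaf
  78) (.leaf
  154)))))) (.node 10 (.node 5 (.node 2 (.node 1 (.leaf
  8) (.leaf
  163)) (.node 1 (.leaf
  413) (.node 1 (.leaf
  224) (.leaf
  580)))) (.node 2 (.node 1 (.leaf
  579) (.leaf
  166)) (.node 1 (.leaf
  317) (.node 1 (.leaf
  490) (.leaf
  328))))) (.node 5 (.node 2 (.node 1 (.leaf
  489) (.leaf
  97)) (.node 1 (.leaf
  556) (.node 1 (.leaf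
  519) (.leaf
  545)))) (.node 2 (.node 1 (.leaf
  81) (.leaf
  210)) (.node 1 (.leaf
  141) (.node 1 (.leaf
  167) (.leaf
  315))))))) (.node 19 (.node 9 (.node 4 (.node 2 (.node 1 (.leaf
  278) (.leaf
  111)) (.node 1 (.leaf
  374) (.leaf
  20))) (.node 2 (.node 1 (.leaf
  595) (.leaf
  539)) (.node 1 (.leaf
  541) (.node 1 (.leaf
  599) (.leaf
  535))))) (.node 5 (.node 2 (.node 1 (.leaf
  415) (.leaf
  622)) (.node 1 (.leaf
  114) (.node 1 (.leaf
  564) (.leaf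
  614)))) (.node 2 (.node 1 (.leaf
  26) (.leaf
  376)) (.node 1 (.leaf
  227) (.node 1 (.leaf
  396) (.leaf
  621)))))) (.node 10 (.node 5 (.node 2 (.node 1 (.leaf
  113) (.leaf
  438)) (.node 1 (.leaf
  98) (.node 1 (.leaf
  562) (.leaf
  155)))) (.node 2 (.node 1 (.leaf
  302) (.leaf
  186)) (.node 1 (.leaf
  366) (.node 1 (.leaf
  73) (.leaf
  409))))) (.node 5 (.node 2 (.node 1 (.leaf
  76) (.leaf
  187)) (.node 1 (.leaf
  408) (.node 1 (.leaf
  473) (.leaf
  603)))) (.node 2 (.node 1 (.leaf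
  468) (.leaf
  137)) (.node 1 (.leaf
  89) (.node 1 (.leaf
  19) (.leaf
  391)))))))) (.node 39 (.node 19 (.node 9 (.node 4 (.node 2 (.node 1 (.leaf
  87) (.leaf
  249)) (.node 1 (.leaf
  451) (.leaf
  283))) (.node 2 (.node 1 (.leaf
  336) (.leaf
  569)) (.node 1 (.leaf
  32) (.node 1 (.leaf
  450) (.leaf
  280))))) (.node 5 (.node 2 (.node 1 (.leaf
  219) (.leaf
  156)) (.node 1 (.leaf
  285) (.node 1 (.leaf
  571) (.leaf
  319)))) (.node 2 (.node 1 (.leaf
  245) (.leaf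
  559)) (.node 1 (.leaf
  472) (.node 1 (.leaf
  122) (.leaf
  235)))))) (.node 10 (.node 5 (.node 2 (.node 1 (.leaf
  83) (.leaf
  406)) (.node 1 (.leaf
  618) (.node 1 (.leaf
  561) (.leaf
  23)))) (.node 2 (.node 1 (.leaf
  174) (.leaf
  381)) (.node 1 (.leaf
  389) (.node 1 (.leaf
  125) (.leaf
  616))))) (.node 5 (.node 2 (.node 1 (.leaf
  262) (.leaf
  605)) (.node 1 (.leaf
  69) (.node 1 (.leaf
  195) (.leaf
  175)))) (.node 2 (.node 1 (.leaf
  543) (.leaf
  147)) (.node 1 (.leaf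
  21) (.node 1 (.leaf
  596) (.leaf
  287))))))) (.node 20 (.node 10 (.node 5 (.node 2 (.node 1 (.leaf
  532) (.leaf
  117)) (.node 1 (.leaf
  288) (.node 1 (.leaf
  536) (.leaf
  220)))) (.node 2 (.node 1 (.leaf
  517) (.leaf
  2)) (.node 1 (.leaf
  61) (.node 1 (.leaf
  40) (.leaf
  475))))) (.node 5 (.node 2 (.node 1 (.leaf
  384) (.leaf
  259)) (.node 1 (.leaf
  34) (.node 1 (.leaf
  346) (.leaf
  601)))) (.node 2 (.node 1 (.leaf
  231) (.leaf
  485)) (.node 1 (.leaf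
  48) (.node 1 (.leaf
  575) (.leaf
  223)))))) (.node 10 (.node 5 (.node 2 (.node 1 (.leaf
  418) (.leaf
  509)) (.node 1 (.leaf
  378) (.node 1 (.leaf
  320) (.leaf
  371)))) (.node 2 (.node 1 (.leaf
  118) (.leaf
  520)) (.node 1 (.leaf
  510) (.node 1 (.leaf
  284) (.leaf
  432))))) (.node 5 (.node 2 (.node 1 (.leaf
  322) (.leaf
  215)) (.node 1 (.leaf
  602) (.node 1 (.leaf
  542) (.leaf
  398)))) (.node 2 (.node 1 (.leaf
  627) (.leaf
  394)) (.node 1 (.leaf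
  51) (.node 1 (.leaf
  107) (.leaf
  91))))))))) (.node 79 (.node 39 (.node 19 (.node 9 (.node 4 (.node 2 (.node 1 (.leaf
  404) (.leaf
  360)) (.node 1 (.leaf
  458) (.leaf
  401))) (.node 2 (.node 1 (.leaf
  253) (.leaf
  481)) (.node 1 (.leaf
  383) (.node 1 (.leaf
  38) (.leaf
  619))))) (.node 5 (.node 2 (.node 1 (.leaf
  625) (.leaf
  94)) (.node 1 (.leaf
  71) (.node 1 (.leaf
  558) (.leaf
  37)))) (.node 2 (.node 1 (.leaf
  437) (.leaf
  620)) (.node 1 (.leaf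
  143) (.node 1 (.leaf
  15) (.leaf
  314)))))) (.node 10 (.node 5 (.node 2 (.node 1 (.leaf
  448) (.leaf
  102)) (.node 1 (.leaf
  375) (.node 1 (.leaf
  192) (.leaf
  86)))) (.node 2 (.node 1 (.leaf
  216) (.leaf
  115)) (.node 1 (.leaf
  347) (.node 1 (.leaf
  344) (.leaf
  101))))) (.node 5 (.node 2 (.node 1 (.leaf
  352) (.leaf
  240)) (.node 1 (.leaf
  130) (.node 1 (.leaf
  6) (.leaf
  516)))) (.node 2 (.node 1 (.leaf
  529) (.leaf
  565)) (.node 1 (.leaf
  326) (.node 1 (.leaf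
  512) (.leaf
  297))))))) (.node 20 (.node 10 (.node 5 (.node 2 (.node 1 (.leaf
  256) (.leaf
  282)) (.node 1 (.leaf
  204) (.node 1 (.leaf
  606) (.leaf
  252)))) (.node 2 (.node 1 (.leaf
  134) (.leaf
  230)) (.node 1 (.leaf
  236) (.node 1 (.leaf
  345) (.leaf
  214))))) (.node 5 (.node 2 (.node 1 (.leaf
  507) (.leaf
  482)) (.node 1 (.leaf
  257) (.node 1 (.leaf
  442) (.leaf
  594)))) (.node 2 (.node 1 (.leaf
  90) (.leaf
  242)) (.node 1 (.leaf
  58) (.node 1 (.leaf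
  530) (.leaf
  504)))))) (.node 10 (.node 5 (.node 2 (.node 1 (.leaf
  609) (.leaf
  566)) (.node 1 (.leaf
  133) (.node 1 (.leaf
  16) (.leaf
  64)))) (.node 2 (.node 1 (.leaf
  116) (.leaf
  549)) (.node 1 (.leaf
  152) (.node 1 (.leaf
  476) (.leaf
  449))))) (.node 5 (.node 2 (.node 1 (.leaf
  39) (.leaf
  275)) (.node 1 (.leaf
  165) (.node 1 (.leaf
  260) (.leaf
  294)))) (.node 2 (.node 1 (.leaf
  412) (.leaf
  560)) (.node 1 (.leaf
  461) (.node 1 (.leaf
  457) (.leaf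
  106)))))))) (.node 39 (.node 19 (.node 9 (.node 4 (.node 2 (.node 1 (.leaf
  312) (.leaf
  65)) (.node 1 (.leaf
  99) (.leaf
  591))) (.node 2 (.node 1 (.leaf
  12) (.leaf
  286)) (.node 1 (.leaf
  85) (.node 1 (.leaf
  100) (.leaf
  198))))) (.node 5 (.node 2 (.node 1 (.leaf
  546) (.leaf
  153)) (.node 1 (.leaf
  222) (.node 1 (.leaf
  228) (.leaf
  524)))) (.node 2 (.node 1 (.leaf
  191) (.leaf
  572)) (.node 1 (.leaf
  185) (.node 1 (.leaf
  350) (.leaf
  62)))))) (.node 10 (.node 5 (.node 2 (.node 1 (.leaf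
  254) (.leaf
  218)) (.node 1 (.leaf
  251) (.node 1 (.leaf
  527) (.leaf
  201)))) (.node 2 (.node 1 (.leaf
  44) (.leaf
  521)) (.node 1 (.leaf
  250) (.node 1 (.leaf
  238) (.leaf
  272))))) (.node 5 (.node 2 (.node 1 (.leaf
  523) (.leaf
  405)) (.node 1 (.leaf
  395) (.node 1 (.leaf
  60) (.leaf
  333)))) (.node 2 (.node 1 (.leaf
  277) (.leaf
  197)) (.node 1 (.leaf
  11) (.node 1 (.leaf
  335) (.leaf
  203))))))) (.node 20 (.node 10 (.node 5 (.node 2 (.node 1 (.leaf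
  337) (.leaf
  608)) (.node 1 (.leaf
  179) (.node 1 (.leaf
  548) (.leaf
  169)))) (.node 2 (.node 1 (.leaf
  501) (.leaf
  343)) (.node 1 (.leaf
  299) (.node 1 (.leaf
  18) (.leaf
  255))))) (.node 5 (.node 2 (.node 1 (.leaf
  207) (.leaf
  52)) (.node 1 (.leaf
  92) (.node 1 (.leaf
  171) (.leaf
  177)))) (.node 2 (.node 1 (.leaf
  581) (.leaf
  42)) (.node 1 (.leaf
  402) (.node 1 (.leaf
  10) (.leaf
  491)))))) (.node 10 (.node 5 (.node 2 (.node 1 (.leaf
  56) (.leaf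
  264)) (.node 1 (.leaf
  54) (.node 1 (.leaf
  46) (.leaf
  266)))) (.node 2 (.node 1 (.leaf
  597) (.leaf
  356)) (.node 1 (.leaf
  392) (.node 1 (.leaf
  528) (.leaf
  537))))) (.node 5 (.node 2 (.node 1 (.leaf
  359) (.leaf
  213)) (.node 1 (.leaf
  88) (.node 1 (.leaf
  296) (.leaf
  226)))) (.node 2 (.node 1 (.leaf
  234) (.leaf
  593)) (.node 1 (.leaf
  503) (.node 1 (.leaf
  467) (.leaf
  50)))))))))))

/-- The coverage of the cosets in one orbit. -/
def cov6 : Tree :=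
  (.node 315 (.node 157 (.node 78 (.node 39 (.node 19 (.node 9 (.node 4 (.node 2 (.node 1 (.leaf
  2000683011) (.leaf
  2019557387)) (.node 1 (.leaf
  11636989257) (.leaf
  11654864092))) (.node 2 (.node 1 (.leaf
  16482705775) (.leaf
  21303650611)) (.node 1 (.leaf
  26132498444) (.node 1 (.leaf
  2028994771) (.leaf
  40631727143))))) (.node 5 (.node 2 (.node 1 (.leaf
  40644479486) (.leaf
  45474611638)) (.node 1 (.leaf
  50291998816) (.node 1 (.leaf
  55124806897) (.leaf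
  2033713284)))) (.node 2 (.node 1 (.leaf
  69622759819) (.leaf
  69636165679)) (.node 1 (.leaf
  74466355249) (.node 1 (.leaf
  79282724089) (.leaf
  84117782802)))))) (.node 10 (.node 5 (.node 2 (.node 1 (.leaf
  2038432248) (.leaf
  98611633354)) (.node 1 (.leaf
  98624752737) (.node 1 (.leaf
  103456258086) (.leaf
  108277030144)))) (.node 2 (.node 1 (.leaf
  113105262041) (.leaf
  2052587829)) (.node 1 (.leaf
  127604574477) (.node 1 (.leaf
  132449485134) (.leaf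
  2062024966))))) (.node 5 (.node 2 (.node 1 (.leaf
  142098784408) (.leaf
  142110965992)) (.node 1 (.leaf
  21324275076) (.node 1 (.leaf
  26155421130) (.leaf
  30988571863)))) (.node 2 (.node 1 (.leaf
  35819098305) (.leaf
  50318362035)) (.node 1 (.leaf
  55146957339) (.node 1 (.leaf
  59978562988) (.leaf
  64814427241))))))) (.node 19 (.node 9 (.node 4 (.node 2 (.node 1 (.leaf
  69642071423) (.leaf
  74474342658)) (.node 1 (.leaf
  84138032315) (.leaf
  93803515374))) (.node 2 (.node 1 (.leaf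
  98634018324) (.leaf
  103465380907)) (.node 1 (.leaf
  108297982206) (.node 1 (.leaf
  113129073029) (.leaf
  117961656320))))) (.node 5 (.node 2 (.node 1 (.leaf
  122796131758) (.leaf
  127624315976)) (.node 1 (.leaf
  132459775301) (.node 1 (.leaf
  142119890433) (.leaf
  146952741102)))) (.node 2 (.node 1 (.leaf
  156594557369) (.leaf
  156607488361)) (.node 1 (.leaf
  156618094149) (.node 1 (.leaf
  161426759014) (.leaf
  161440063495)))))) (.node 10 (.node 5 (.node 2 (.node 1 (.leaf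
  161449399707) (.leaf
  166255615113)) (.node 1 (.leaf
  166270765505) (.node 1 (.leaf
  166279258189) (.leaf
  171090290806)))) (.node 2 (.node 1 (.leaf
  171102264776) (.leaf
  171111918711)) (.node 1 (.leaf
  175918594176) (.node 1 (.leaf
  175944249906) (.leaf
  180754104596))))) (.node 5 (.node 2 (.node 1 (.leaf
  180767967359) (.leaf
  180777588989)) (.node 1 (.leaf
  185586419040) (.node 1 (.leaf
  185598453300) (.leaf
  185606621419)))) (.node 2 (.node 1 (.leaf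
  190415495462) (.leaf
  190429091971)) (.node 1 (.leaf
  190438981735) (.node 1 (.leaf
  195248477691) (.leaf
  195261959527)))))))) (.node 39 (.node 19 (.node 9 (.node 4 (.node 2 (.node 1 (.leaf
  195272461894) (.leaf
  200077957196)) (.node 1 (.leaf
  200093088268) (.leaf
  200101602442))) (.node 2 (.node 1 (.leaf
  204913498322) (.leaf
  204926309866)) (.node 1 (.leaf
  204933173296) (.node 1 (.leaf
  209743567210) (.leaf
  209760281622))))) (.node 5 (.node 2 (.node 1 (.leaf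
  209767519602) (.leaf
  214575520099)) (.node 1 (.leaf
  214591199290) (.node 1 (.leaf
  214600680781) (.leaf
  219406795052)))) (.node 2 (.node 1 (.leaf
  219421719771) (.leaf
  219428748470)) (.node 1 (.leaf
  224251767984) (.node 1 (.leaf
  229072511402) (.leaf
  229086533128)))))) (.node 10 (.node 5 (.node 2 (.node 1 (.leaf
  229093937309) (.leaf
  238732729560)) (.node 1 (.leaf
  238760052229) (.node 1 (.leaf
  243566349318) (.leaf
  248396349841)))) (.node 2 (.node 1 (.leaf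
  248411010469) (.leaf
  248422052446)) (.node 1 (.leaf
  253231402578) (.node 1 (.leaf
  253245101422) (.leaf
  253254396314))))) (.node 5 (.node 2 (.node 1 (.leaf
  258063921161) (.leaf
  258075481248)) (.node 1 (.leaf
  258083401958) (.node 1 (.leaf
  262909768983) (.leaf
  262918064389)))) (.node 2 (.node 1 (.leaf
  267726840348) (.leaf
  267750880606)) (.node 1 (.leaf
  272558890143) (.node 1 (.leaf
  272573646385) (.leaf
  277404747227))))))) (.node 20 (.node 10 (.node 5 (.node 2 (.node 1 (.leaf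
  277411359262) (.leaf
  282221918374)) (.node 1 (.leaf
  287053881345) (.node 1 (.leaf
  291897771192) (.leaf
  296719085648)))) (.node 2 (.node 1 (.leaf
  296742398247) (.leaf
  301564903878)) (.node 1 (.leaf
  306395581867) (.node 1 (.leaf
  311210712259) (.leaf
  320889504791))))) (.node 5 (.node 2 (.node 1 (.leaf
  320901464376) (.leaf
  325706231813)) (.node 1 (.leaf
  330553985199) (.node 1 (.leaf
  330564796964) (.leaf
  335372900482)))) (.node 2 (.node 1 (.leaf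
  335397148270) (.leaf
  340204673227)) (.node 1 (.leaf
  340217043319) (.node 1 (.leaf
  345047722099) (.leaf
  349868899583)))))) (.node 10 (.node 5 (.node 2 (.node 1 (.leaf
  349889369502) (.leaf
  359547252914)) (.node 1 (.leaf
  364362384768) (.node 1 (.leaf
  364386225752) (.leaf
  374041218314)))) (.node 2 (.node 1 (.leaf
  374051639466) (.leaf
  378856586710)) (.node 1 (.leaf
  378882993577) (.node 1 (.leaf
  383691504877) (.leaf
  383703788036))))) (.node 5 (.node 2 (.node 1 (.leaf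
  388533946539) (.leaf
  393355043981)) (.node 1 (.leaf
  393375702397) (.node 1 (.leaf
  398200207822) (.leaf
  403033328003)))) (.node 2 (.node 1 (.leaf
  403038842898) (.leaf
  407850408049)) (.node 1 (.leaf
  412678950478) (.node 1 (.leaf
  417528354184) (.leaf
  422346720424))))))))) (.node 79 (.node 39 (.node 19 (.node 9 (.node 4 (.node 2 (.node 1 (.leaf
  422365945185) (.leaf
  432022004831)) (.node 1 (.leaf
  432033757672) (.leaf
  436842289370))) (.node 2 (.node 1 (.leaf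
  436864678509) (.leaf
  441674186949)) (.node 1 (.leaf
  441686200685) (.node 1 (.leaf
  446515802383) (.leaf
  451336067462))))) (.node 5 (.node 2 (.node 1 (.leaf
  451361357374) (.leaf
  461024773524)) (.node 1 (.leaf
  465843678413) (.node 1 (.leaf
  465852698644) (.leaf
  470663543119)))) (.node 2 (.node 1 (.leaf
  470685361636) (.leaf
  475495676128)) (.node 1 (.leaf
  480340154428) (.node 1 (.leaf
  485173441671) (.leaf
  490006772740)))))) (.node 10 (.node 5 (.node 2 (.node 1 (.leaf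
  490012714220) (.leaf
  494834394408)) (.node 1 (.leaf
  499652279470) (.node 1 (.leaf
  499679331879) (.leaf
  504497909059)))) (.node 2 (.node 1 (.leaf
  509331232972) (.leaf
  509339607350)) (.node 1 (.leaf
  514149865980) (.node 1 (.leaf
  514174196324) (.leaf
  518981130585))))) (.node 5 (.node 2 (.node 1 (.leaf
  518996183331) (.leaf
  523826594139)) (.node 1 (.leaf
  528645530660) (.node 1 (.leaf
  528666362006) (.leaf
  538309270662)))) (.node 2 (.node 1 (.leaf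
  538332779883) (.leaf
  543153908148)) (.node 1 (.leaf
  543163747942) (.node 1 (.leaf
  547994397161) (.leaf
  552804979209))))))) (.node 20 (.node 10 (.node 5 (.node 2 (.node 1 (.leaf
  552820282470) (.leaf
  557652144666)) (.node 1 (.leaf
  562468478100) (.node 1 (.leaf
  567300242575) (.leaf
  572144582076)))) (.node 2 (.node 1 (.leaf
  572155329110) (.leaf
  576984817239)) (.node 1 (.leaf
  581810439547) (.node 1 (.leaf
  581816855652) (.leaf
  586627131890))))) (.node 5 (.node 2 (.node 1 (.leaf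
  586651185236) (.leaf
  591481058517)) (.node 1 (.leaf
  596292218471) (.node 1 (.leaf
  596316098788) (.leaf
  601122590060)))) (.node 2 (.node 1 (.leaf
  601146360239) (.leaf
  605954303581)) (.node 1 (.leaf
  605979081781) (.node 1 (.leaf
  610808448194) (.leaf
  615639444625)))))) (.node 10 (.node 5 (.node 2 (.node 1 (.leaf
  620463120476) (.leaf
  620473981498)) (.node 1 (.leaf
  625303399723) (.node 1 (.leaf
  630114705648) (.leaf
  630139142610)))) (.node 2 (.node 1 (.leaf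
  634960257191) (.leaf
  639800661438)) (.node 1 (.leaf
  644610994744) (.node 1 (.leaf
  644624958514) (.leaf
  649455389295))))) (.node 5 (.node 2 (.node 1 (.leaf
  654273848516) (.leaf
  659102594604)) (.node 1 (.leaf
  659129608398) (.node 1 (.leaf
  663957812285) (.leaf
  668766773657)))) (.node 2 (.node 1 (.leaf
  668792603941) (.leaf
  673601467906)) (.node 1 (.leaf
  673626178999) (.node 1 (.leaf
  678453856417) (.leaf
  683262551587)))))))) (.node 39 (.node 19 (.node 9 (.node 4 (.node 2 (.node 1 (.leaf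
  683286330821) (.leaf
  688096508979)) (.node 1 (.leaf
  688119437686) (.leaf
  692943047158))) (.node 2 (.node 1 (.leaf
  692951367267) (.leaf
  697783943717)) (.node 1 (.leaf
  702590907957) (.node 1 (.leaf
  702606153827) (.leaf
  707438037525))))) (.node 5 (.node 2 (.node 1 (.leaf
  707445918739) (.leaf
  712256396441)) (.node 1 (.leaf
  712276329818) (.node 1 (.leaf
  717088353740) (.leaf
  717111079967)))) (.node 2 (.node 1 (.leaf
  721941487873) (.leaf
  726752111211)) (.node 1 (.leaf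
  726775730492) (.node 1 (.leaf
  731581831544) (.leaf
  731606758899)))))) (.node 10 (.node 5 (.node 2 (.node 1 (.leaf
  736415525473) (.leaf
  736438168592)) (.node 1 (.leaf
  741261835641) (.node 1 (.leaf
  741268034664) (.leaf
  746099861613)))) (.node 2 (.node 1 (.leaf
  750924563824) (.leaf
  750932690507)) (.node 1 (.leaf
  755743144018) (.node 1 (.leaf
  760596233788) (.leaf
  770235582664))))) (.node 5 (.node 2 (.node 1 (.leaf
  770260697473) (.leaf
  775082538244)) (.node 1 (.leaf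
  779925016936) (.node 1 (.leaf
  784734608929) (.leaf
  784746536057)))) (.node 2 (.node 1 (.leaf
  784754450835) (.leaf
  789578720876)) (.node 1 (.leaf
  794396796105) (.node 1 (.leaf
  799229236784) (.leaf
  799251087865))))))) (.node 20 (.node 10 (.node 5 (.node 2 (.node 1 (.leaf
  804081898735) (.leaf
  808890372583)) (.node 1 (.leaf
  808913611215) (.node 1 (.leaf
  813721399617) (.leaf
  813747242594)))) (.node 2 (.node 1 (.leaf
  818553255508) (.leaf
  818578191664)) (.node 1 (.leaf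
  823408487761) (.node 1 (.leaf
  828240330776) (.leaf
  833049302497))))) (.node 5 (.node 2 (.node 1 (.leaf
  833076457769) (.leaf
  837898539180)) (.node 1 (.leaf
  837907749441) (.node 1 (.leaf
  842736117870) (.leaf
  847547152405)))) (.node 2 (.node 1 (.leaf
  857225835112) (.leaf
  857231902840)) (.node 1 (.leaf
  862042915024) (.node 1 (.leaf
  862065623282) (.leaf
  866896673173)))))) (.node 10 (.node 5 (.node 2 (.node 1 (.leaf
  871703851235) (.leaf
  871720484976)) (.node 1 (.leaf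
  876536857996) (.node 1 (.leaf
  881367638202) (.leaf
  881394553989)))) (.node 2 (.node 1 (.leaf
  886215603202) (.leaf
  886226834917)) (.node 1 (.leaf
  891056457911) (.node 1 (.leaf
  895866838385) (.leaf
  895880981711))))) (.node 5 (.node 2 (.node 1 (.leaf
  900712624565) (.leaf
  900718962805)) (.node 1 (.leaf
  905527421236) (.node 1 (.leaf
  910359492006) (.leaf
  910383192097)))) (.node 2 (.node 1 (.leaf
  915214469540) (.leaf
  920022856926)) (.node 1 (.leaf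
  920046822631) (.node 1 (.leaf
  924877365331) (.leaf
  929686872594)))))))))) (.node 157 (.node 78 (.node 39 (.node 19 (.node 9 (.node 4 (.node 2 (.node 1 (.leaf
  929703502135) (.leaf
  929711349197)) (.node 1 (.leaf
  934521823478) (.leaf
  934541099577))) (.node 2 (.node 1 (.leaf
  944184407228) (.leaf
  944198977799)) (.node 1 (.leaf
  944206925059) (.node 1 (.leaf
  949036642800) (.leaf
  953848909267))))) (.node 5 (.node 2 (.node 1 (.leaf
  958680532069) (.leaf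
  958703234674)) (.node 1 (.leaf
  963532321873) (.node 1 (.leaf
  973172858250) (.leaf
  973197809055)))) (.node 2 (.node 1 (.leaf
  987692070077) (.leaf
  992514900490)) (.node 1 (.leaf
  1002178926910) (.node 1 (.leaf
  1002189590850) (.leaf
  1006997423633)))))) (.node 10 (.node 5 (.node 2 (.node 1 (.leaf
  1007018638361) (.leaf
  1011851152942)) (.node 1 (.leaf
  1016660016353) (.node 1 (.leaf
  1021518061132) (.leaf
  1026325292211)))) (.node 2 (.node 1 (.leaf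
  1031178199164) (.leaf
  1036002318653)) (.node 1 (.leaf
  1036010025531) (.node 1 (.leaf
  1040818694421) (.leaf
  1040832616504))))) (.node 5 (.node 2 (.node 1 (.leaf
  1040843846693) (.leaf
  1045673841952)) (.node 1 (.leaf
  1050481835098) (.node 1 (.leaf
  1050506767772) (.leaf
  1060163793073)))) (.node 2 (.node 1 (.leaf
  1065000952097) (.leaf
  1069823127611)) (.node 1 (.leaf
  1069833467430) (.node 1 (.leaf
  1074641175638) (.leaf
  1074668258645))))))) (.node 19 (.node 9 (.node 4 (.node 2 (.node 1 (.leaf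
  1079476069439) (.leaf
  1079500573020)) (.node 1 (.leaf
  1084331737430) (.leaf
  1093970671690))) (.node 2 (.node 1 (.leaf
  1093991994619) (.leaf
  1098827394089)) (.node 1 (.leaf
  0x100f732ca5a) (.node 1 (.leaf
  0x102159a6de0) (.leaf
  0x102170e123f))))) (.node 5 (.node 2 (.node 1 (.leaf
  0x103359ae1b2) (.leaf
  0x1033700ac1d)) (.node 1 (.leaf
  0x104573bba20) (.node 1 (.leaf
  0x10575bc5d5d) (.leaf
  0x107b732c9c9)))) (.node 2 (.node 1 (.leaf
  0x108d5c27cea) (.leaf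
  0x108d72c8124)) (.node 1 (.leaf
  0x109f71581ad) (.node 1 (.leaf
  0x10b159c5e37) (.leaf
  0x10c36fc1490)))))) (.node 10 (.node 5 (.node 2 (.node 1 (.leaf
  0x10d55a7e60d) (.leaf
  0x10d5685f0df)) (.node 1 (.leaf
  0x10d572251c4) (.node 1 (.leaf
  0x10e75cbd947) (.leaf
  0x10e76f9423d)))) (.node 2 (.node 1 (.leaf
  0x110b5d718c0) (.leaf
  0x110b6910d64)) (.node 1 (.leaf
  0x110b73248b4) (.node 1 (.leaf
  0x111d70ba9cb) (.leaf
  0x112f5995582))))) (.node 5 (.node 2 (.node 1 (.leaf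
  0x11415b120b5) (.leaf
  0x114172baa73)) (.node 1 (.leaf
  0x1165708908e) (.node 1 (.leaf
  0x11775c1245e) (.leaf
  0x117772131ed)))) (.node 2 (.node 1 (.leaf
  0x119b694658e) (.leaf
  0x119b7177592)) (.node 1 (.leaf
  0x11ad5a67a0e) (.node 1 (.leaf
  0x11ad704443e) (.leaf
  0x11bf67ac5bb)))))))) (.node 39 (.node 19 (.node 9 (.node 4 (.node 2 (.node 1 (.leaf
  0x11bf7054218) (.leaf
  0x11d15a8bd39)) (.node 1 (.leaf
  0x11e37379649) (.leaf
  0x11f5598bd10))) (.node 2 (.node 1 (.leaf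
  0x120770af037) (.leaf
  0x12196abed8d)) (.node 1 (.leaf
  0x12197072242) (.node 1 (.leaf
  0x122b6fc4d16) (.leaf
  0x123d6af3236))))) (.node 5 (.node 2 (.node 1 (.leaf
  0x124f5bc5d44) (.leaf
  0x124f68dbc7d)) (.node 1 (.leaf
  0x124f700e028) (.node 1 (.leaf
  0x12617201574) (.leaf
  0x12975bf54d4)))) (.node 2 (.node 1 (.leaf
  0x12a9700551c) (.leaf
  0x12bb695940d)) (.node 1 (.leaf
  0x12bb72369eb) (.node 1 (.leaf
  0x12cd59b58a4) (.leaf
  0x12cd71f21a2)))))) (.node 10 (.node 5 (.node 2 (.node 1 (.leaf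
  0x12df5d5f01a) (.leaf
  0x12df73339a7)) (.node 1 (.leaf
  0x12f17384552) (.node 1 (.leaf
  0x13037081892) (.leaf
  0x131559d0dbd)))) (.node 2 (.node 1 (.leaf
  0x13275c3bc88) (.leaf
  0x1327709494b)) (.node 1 (.leaf
  0x13396fcb40a) (.node 1 (.leaf
  0x134b719f998) (.leaf
  0x135d5c6b240))))) (.node 5 (.node 2 (.node 1 (.leaf
  0x135d71e85ec) (.leaf
  0x136f5b0889c)) (.node 1 (.leaf
  0x136f6f86cc7) (.node 1 (.leaf
  0x138170da9b0) (.leaf
  0x139359cbe1f)))) (.node 2 (.node 1 (.leaf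
  0x13a56696150) (.leaf
  0x13b75cc3c9e)) (.node 1 (.leaf
  0x13db72ea659) (.node 1 (.leaf
  0x13ed676750e) (.leaf
  0x13ff59ab1f5))))))) (.node 20 (.node 10 (.node 5 (.node 2 (.node 1 (.leaf
  0x13ff700a842) (.leaf
  0x141166da422)) (.node 1 (.leaf
  0x1411724821d) (.node 1 (.leaf
  0x14235b85da8) (.leaf
  0x143571529e3)))) (.node 2 (.node 1 (.leaf
  0x144766f293b) (.leaf
  0x14596f8a91b)) (.node 1 (.leaf
  0x147d5c3802c) (.node 1 (.leaf
  0x14a1700852a) (.leaf
  0x14b3721a9e6))))) (.node 5 (.node 2 (.node 1 (.leaf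
  0x14c55c208f3) (.leaf
  0x14c56845434)) (.node 1 (.leaf
  0x14d76fda9d5) (.node 1 (.leaf
  0x14fb7041440) (.leaf
  0x150d700a897)))) (.node 2 (.node 1 (.leaf
  0x151f593362a) (.leaf
  0x151f676a203)) (.node 1 (.leaf
  0x151f729fa74) (.node 1 (.leaf
  0x15315c6f40e) (.leaf
  0x153170629a3)))))) (.node 10 (.node 5 (.node 2 (.node 1 (.leaf
  0x15555bd3c1e) (.leaf
  0x155568fd606)) (.node 1 (.leaf
  0x155572abdc0) (.node 1 (.leaf
  0x156771cb219) (.leaf
  0x15795c5f839)))) (.node 2 (.node 1 (.leaf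
  0x158b5b6e97a) (.leaf
  0x15af6f8707a)) (.node 1 (.leaf
  0x15c173ecc59) (.node 1 (.leaf
  0x15d36755990) (.leaf
  0x15d3738155f))))) (.node 5 (.node 2 (.node 1 (.leaf
  0x15e55bfbde2) (.leaf
  0x15e5693a5f7)) (.node 1 (.leaf
  0x15e5708f02e) (.node 1 (.leaf
  0x15f773055a0) (.leaf
  0x16095d38109)))) (.node 2 (.node 1 (.leaf
  0x161b5c1c8be) (.leaf
  0x161b700791a)) (.node 1 (.leaf
  0x162d69fb52d) (.node 1 (.leaf
  0x162d71d8554) (.leaf
  0x1651685f53f))))))))) (.node 79 (.node 39 (.node 19 (.node 9 (.node 4 (.node 2 (.node 1 (.leaf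
  0x166370da9d7) (.leaf
  0x16876901651)) (.node 1 (.leaf
  0x169973844f4) (.leaf
  0x16bd6a4a436))) (.node 2 (.node 1 (.leaf
  0x16bd73b9628) (.leaf
  0x16cf72c152f)) (.node 1 (.leaf
  0x16e1700e02d) (.node 1 (.leaf
  0x16f3701109b) (.leaf
  0x17055d3725f))))) (.node 5 (.node 2 (.node 1 (.leaf
  0x17177224d0c) (.leaf
  0x17297065008)) (.node 1 (.leaf
  0x173b6fcac6c) (.node 1 (.leaf
  0x174d716022b) (.leaf
  0x178368729b1)))) (.node 2 (.node 1 (.leaf
  0x17a7724a643) (.leaf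
  0x17b97140858)) (.node 1 (.leaf
  0x17cb70d7e6a) (.node 1 (.leaf
  0x17dd73285df) (.leaf
  0x18015b0c629)))))) (.node 10 (.node 5 (.node 2 (.node 1 (.leaf
  0x1825687a913) (.leaf
  0x18375b0c11e)) (.node 1 (.leaf
  0x186d705d4e5) (.node 1 (.leaf
  0x187f593853a) (.leaf
  0x187f673314a)))) (.node 2 (.node 1 (.leaf
  0x1891707b244) (.leaf
  0x18a37008045)) (.node 1 (.leaf
  0x18c75b714f7) (.node 1 (.leaf
  0x18eb7193cfc) (.leaf
  0x192170e9670))))) (.node 5 (.node 2 (.node 1 (.leaf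
  0x1933700fdd0) (.leaf
  0x197b721bcad)) (.node 1 (.leaf
  0x19c3685160f) (.node 1 (.leaf
  0x19d57234d65) (.leaf
  0x1a415cef0b9)))) (.node 2 (.node 1 (.leaf
  0x1a41708151f) (.leaf
  0x1a536a29587)) (.node 1 (.leaf
  0x1a5372931a1) (.node 1 (.leaf
  0x1a6559cedda) (.leaf
  0x1a776a5a58f))))))) (.node 20 (.node 10 (.node 5 (.node 2 (.node 1 (.leaf
  0x1a8971585fd) (.leaf
  0x1a9b70af40f)) (.node 1 (.leaf
  0x1aad68c9e4f) (.node 1 (.leaf
  0x1abf71f2146) (.leaf
  0x1ae36a1dc11)))) (.node 2 (.node 1 (.leaf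
  0x1ae371771ef) (.leaf
  0x1af572c4189)) (.node 1 (.leaf
  0x1b07708b02a) (.node 1 (.leaf
  0x1b197094ce9) (.leaf
  0x1b2b5b4ae69))))) (.node 5 (.node 2 (.node 1 (.leaf
  0x1b2b6fc44f8) (.leaf
  0x1b3d6a65074)) (.node 1 (.leaf
  0x1b3d73d79dd) (.node 1 (.leaf
  0x1b856a7c5f4) (.leaf
  0x1ba970d7118)))) (.node 2 (.node 1 (.leaf
  0x1bbb7242e48) (.leaf
  0x1bcd71cb062)) (.node 1 (.leaf
  0x1bdf73d9a60) (.node 1 (.leaf
  0x1bf17323197) (.leaf
  0x1c03696ae22)))))) (.node 10 (.node 5 (.node 2 (.node 1 (.leaf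
  0x1c155c269f1) (.leaf
  0x1c397049472)) (.node 1 (.leaf
  0x1c4b7220216) (.node 1 (.leaf
  0x1c5d6a0dd62) (.leaf
  0x1c6f5c26d75)))) (.node 2 (.node 1 (.leaf
  0x1c93726b020) (.leaf
  0x1cb7700ac49)) (.node 1 (.leaf
  0x1cc9735686a) (.node 1 (.leaf
  0x1cdb5d0c148) (.leaf
  0x1ced72790e2))))) (.node 5 (.node 2 (.node 1 (.leaf
  0x1cff5c64c95) (.leaf
  0x1cff72bc54c)) (.node 1 (.leaf
  0x1d3571d1671) (.node 1 (.leaf
  0x1d596fca41b) (.leaf
  0x1d6b70891d1)))) (.node 2 (.node 1 (.leaf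
  0x1d7d5c64cf5) (.leaf
  0x1da1723a85d)) (.node 1 (.leaf
  0x1db36fa40fa) (.node 1 (.leaf
  0x1e316908255) (.leaf
  0x1e4367db57e)))))))) (.node 39 (.node 19 (.node 9 (.node 4 (.node 2 (.node 1 (.leaf
  0x1e557275647) (.leaf
  0x1e9d6888210)) (.node 1 (.leaf
  0x1eaf7371508) (.leaf
  0x1f1b5c20c8c))) (.node 2 (.node 1 (.leaf
  0x1f755c7d846) (.leaf
  0x1f7568785fa)) (.node 1 (.leaf
  0x1f756fc0c47) (.node 1 (.leaf
  0x1f8769f2444) (.leaf
  0x1f87714085b))))) (.node 5 (.node 2 (.node 1 (.leaf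
  0x1f99590bd9d) (.leaf
  0x1f99701a08b)) (.node 1 (.leaf
  0x1fab5c3b841) (.node 1 (.leaf
  0x1fab689dcd6) (.leaf
  0x1fbd7069957)))) (.node 2 (.node 1 (.leaf
  0x1fcf67ca50b) (.leaf
  0x1fcf732aca5)) (.node 1 (.leaf
  0x1fe16ab4613) (.node 1 (.leaf
  0x1ff35c135d4) (.leaf
  0x1ff36fd865b)))))) (.node 10 (.node 5 (.node 2 (.node 1 (.leaf
  0x20056853dd8) (.leaf
  0x2017697e043)) (.node 1 (.leaf
  0x20177283a0b) (.node 1 (.leaf
  0x202970aa200) (.leaf
  0x204d68eca75)))) (.node 2 (.node 1 (.leaf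
  0x205f68dbd40) (.leaf
  0x205f7318d31)) (.node 1 (.leaf
  0x20715b0c553) (.node 1 (.leaf
  0x2083676a250) (.leaf
  0x209566da4c6))))) (.node 5 (.node 2 (.node 1 (.leaf
  0x20a75ade17c) (.leaf
  0x20a77358653)) (.node 1 (.leaf
  0x20b96af1c7e) (.node 1 (.leaf
  0x20cb693fdc7) (.leaf
  0x20cb719e25c)))) (.node 2 (.node 1 (.leaf
  0x20dd66df89a) (.leaf
  0x20dd705d62f)) (.node 1 (.leaf
  0x214970af4d9) (.node 1 (.leaf
  0x21eb726b055) (.leaf
  0x2407702a081))))))) (.node 20 (.node 10 (.node 5 (.node 2 (.node 1 (.leaf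
  0x2503722b4a3) (.leaf
  0x255d5b0104f)) (.node 1 (.leaf
  0x271f682204e) (.node 1 (.leaf
  0x27315cbb207) (.leaf
  0x27555999023)))) (.node 2 (.node 1 (.leaf
  0x275570490bf) (.leaf
  0x27676a55173)) (.node 1 (.leaf
  0x278b5b9de4d) (.node 1 (.leaf
  0x278b679804b) (.leaf
  0x278b72b7996))))) (.node 5 (.node 2 (.node 1 (.leaf
  0x279d697ca17) (.leaf
  0x27af5ae9ddc)) (.node 1 (.leaf
  0x27c16a02d19) (.node 1 (.leaf
  0x27c173ef857) (.leaf
  0x27d35d2347b)))) (.node 2 (.node 1 (.leaf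
  0x27d37358a2d) (.leaf
  0x27f75b2c9c2)) (.node 1 (.leaf
  0x281b5a5e06f) (.node 1 (.leaf
  0x281b705464a) (.leaf
  0x282d5b65633)))))) (.node 10 (.node 5 (.node 2 (.node 1 (.leaf
  0x283f5d03ca9) (.leaf
  0x283f70810d1)) (.node 1 (.leaf
  0x285168911bf) (.node 1 (.leaf
  0x28635d0ddb8) (.leaf
  0x28755bbb81c)))) (.node 2 (.node 1 (.leaf
  0x28756f8412e) (.leaf
  0x28875b71558)) (.node 1 (.leaf
  0x28ab6f81522) (.node 1 (.leaf
  0x28bd5b6ec6b) (.leaf
  0x28cf72fa911))))) (.node 5 (.node 2 (.node 1 (.leaf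
  0x28f359384dd) (.leaf
  0x29055c62532)) (.node 1 (.leaf
  0x29175991a65) (.node 1 (.leaf
  0x29b97198dde) (.leaf
  0x29ef69289ba)))) (.node 2 (.node 1 (.leaf
  0x29ef7008093) (.leaf
  0x2a0159c59ff)) (.node 1 (.leaf
  0x2a375c9f11d) (.node 1 (.leaf
  0x2a495c869c3) (.leaf
  0x2a6d5c698a2)))))))))))

/-- Where each coset is covered. -/
def covAt6 : Tree :=
  (.node 315 (.node 157 (.node 78 (.node 39 (.node 19 (.node 9 (.node 4 (.node 2 (.node 1 (.leaf
  47) (.leaf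
  119)) (.node 1 (.leaf
  300) (.leaf
  0))) (.node 2 (.node 1 (.leaf
  175) (.leaf
  128)) (.node 1 (.leaf
  100) (.node 1 (.leaf
  57) (.leaf
  482))))) (.node 5 (.node 2 (.node 1 (.leaf
  107) (.leaf
  419)) (.node 1 (.leaf
  1) (.node 1 (.leaf
  6) (.leaf
  408)))) (.node 2 (.node 1 (.leaf
  450) (.leaf
  512)) (.node 1 (.leaf
  256) (.node 1 (.leaf
  515) (.leaf
  152)))))) (.node 10 (.node 5 (.node 2 (.node 1 (.leaf
  245) (.leaf
  169)) (.node 1 (.leaf
  289) (.node 1 (.leaf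
  86) (.leaf
  126)))) (.node 2 (.node 1 (.leaf
  283) (.leaf
  334)) (.node 1 (.leaf
  412) (.node 1 (.leaf
  544) (.leaf
  614))))) (.node 5 (.node 2 (.node 1 (.leaf
  364) (.leaf
  452)) (.node 1 (.leaf
  249) (.node 1 (.leaf
  536) (.leaf
  309)))) (.node 2 (.node 1 (.leaf
  433) (.leaf
  594)) (.node 1 (.leaf
  188) (.node 1 (.leaf
  344) (.leaf
  22))))))) (.node 19 (.node 9 (.node 4 (.node 2 (.node 1 (.leaf
  8) (.leaf
  404)) (.node 1 (.leaf
  359) (.leaf
  518))) (.node 2 (.node 1 (.leaf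
  44) (.leaf
  439)) (.node 1 (.leaf
  478) (.node 1 (.leaf
  464) (.leaf
  15))))) (.node 5 (.node 2 (.node 1 (.leaf
  84) (.leaf
  16)) (.node 1 (.leaf
  224) (.node 1 (.leaf
  237) (.leaf
  443)))) (.node 2 (.node 1 (.leaf
  213) (.leaf
  475)) (.node 1 (.leaf
  397) (.node 1 (.leaf
  343) (.leaf
  456)))))) (.node 10 (.node 5 (.node 2 (.node 1 (.leaf
  89) (.leaf
  350)) (.node 1 (.leaf
  173) (.node 1 (.leaf
  229) (.leaf
  391)))) (.node 2 (.node 1 (.leaf
  354) (.leaf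
  445)) (.node 1 (.leaf
  562) (.node 1 (.leaf
  432) (.leaf
  571))))) (.node 5 (.node 2 (.node 1 (.leaf
  558) (.leaf
  497)) (.node 1 (.leaf
  555) (.node 1 (.leaf
  557) (.leaf
  49)))) (.node 2 (.node 1 (.leaf
  537) (.leaf
  357)) (.node 1 (.leaf
  598) (.node 1 (.leaf
  79) (.leaf
  61)))))))) (.node 39 (.node 19 (.node 9 (.node 4 (.node 2 (.node 1 (.leaf
  592) (.leaf
  591)) (.node 1 (.leaf
  121) (.leaf
  326))) (.node 2 (.node 1 (.leaf
  262) (.leaf
  313)) (.node 1 (.leaf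
  206) (.node 1 (.leaf
  588) (.leaf
  352))))) (.node 5 (.node 2 (.node 1 (.leaf
  603) (.leaf
  487)) (.node 1 (.leaf
  459) (.node 1 (.leaf
  346) (.leaf
  559)))) (.node 2 (.node 1 (.leaf
  216) (.leaf
  547)) (.node 1 (.leaf
  386) (.node 1 (.leaf
  158) (.leaf
  11)))))) (.node 10 (.node 5 (.node 2 (.node 1 (.leaf
  21) (.leaf
  527)) (.node 1 (.leaf
  243) (.node 1 (.leaf
  204) (.leaf
  324)))) (.node 2 (.node 1 (.leaf
  196) (.leaf
  75)) (.node 1 (.leaf
  258) (.node 1 (.leaf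
  38) (.leaf
  538))))) (.node 5 (.node 2 (.node 1 (.leaf
  618) (.leaf
  483)) (.node 1 (.leaf
  259) (.node 1 (.leaf
  288) (.leaf
  607)))) (.node 2 (.node 1 (.leaf
  296) (.leaf
  153)) (.node 1 (.leaf
  532) (.node 1 (.leaf
  135) (.leaf
  522))))))) (.node 20 (.node 10 (.node 5 (.node 2 (.node 1 (.leaf
  306) (.leaf
  62)) (.node 1 (.leaf
  64) (.node 1 (.leaf
  291) (.leaf
  269)))) (.node 2 (.node 1 (.leaf
  458) (.leaf
  604)) (.node 1 (.leaf
  339) (.node 1 (.leaf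
  403) (.leaf
  582))))) (.node 5 (.node 2 (.node 1 (.leaf
  68) (.leaf
  65)) (.node 1 (.leaf
  589) (.node 1 (.leaf
  131) (.leaf
  74)))) (.node 2 (.node 1 (.leaf
  13) (.leaf
  299)) (.node 1 (.leaf
  190) (.node 1 (.leaf
  174) (.leaf
  417)))))) (.node 10 (.node 5 (.node 2 (.node 1 (.leaf
  59) (.leaf
  81)) (.node 1 (.leaf
  561) (.node 1 (.leaf
  554) (.leaf
  148)))) (.node 2 (.node 1 (.leaf
  385) (.leaf
  199)) (.node 1 (.leaf
  372) (.node 1 (.leaf
  215) (.leaf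
  415))))) (.node 5 (.node 2 (.node 1 (.leaf
  625) (.leaf
  198)) (.node 1 (.leaf
  541) (.node 1 (.leaf
  189) (.leaf
  446)))) (.node 2 (.node 1 (.leaf
  29) (.leaf
  246)) (.node 1 (.leaf
  585) (.node 1 (.leaf
  479) (.leaf
  423))))))))) (.node 79 (.node 39 (.node 19 (.node 9 (.node 4 (.node 2 (.node 1 (.leaf
  97) (.leaf
  428)) (.node 1 (.leaf
  114) (.leaf
  108))) (.node 2 (.node 1 (.leaf
  234) (.leaf
  629)) (.node 1 (.leaf
  590) (.node 1 (.leaf
  410) (.leaf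
  566))))) (.node 5 (.node 2 (.node 1 (.leaf
  118) (.leaf
  221)) (.node 1 (.leaf
  156) (.node 1 (.leaf
  610) (.leaf
  142)))) (.node 2 (.node 1 (.leaf
  147) (.leaf
  286)) (.node 1 (.leaf
  502) (.node 1 (.leaf
  178) (.leaf
  129)))))) (.node 10 (.node 5 (.node 2 (.node 1 (.leaf
  94) (.leaf
  348)) (.node 1 (.leaf
  138) (.node 1 (.leaf
  338) (.leaf
  380)))) (.node 2 (.node 1 (.leaf
  383) (.leaf
  93)) (.node 1 (.leaf
  302) (.node 1 (.leaf
  120) (.leaf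
  505))))) (.node 5 (.node 2 (.node 1 (.leaf
  298) (.leaf
  41)) (.node 1 (.leaf
  319) (.node 1 (.leaf
  329) (.leaf
  467)))) (.node 2 (.node 1 (.leaf
  595) (.leaf
  378)) (.node 1 (.leaf
  34) (.node 1 (.leaf
  214) (.leaf
  125))))))) (.node 20 (.node 10 (.node 5 (.node 2 (.node 1 (.leaf
  226) (.leaf
  162)) (.node 1 (.leaf
  579) (.node 1 (.leaf
  424) (.leaf
  264)))) (.node 2 (.node 1 (.leaf
  272) (.leaf
  20)) (.node 1 (.leaf
  133) (.node 1 (.leaf
  181) (.leaf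
  168))))) (.node 5 (.node 2 (.node 1 (.leaf
  228) (.leaf
  304)) (.node 1 (.leaf
  292) (.node 1 (.leaf
  611) (.leaf
  82)))) (.node 2 (.node 1 (.leaf
  7) (.leaf
  406)) (.node 1 (.leaf
  207) (.node 1 (.leaf
  563) (.leaf
  33)))))) (.node 10 (.node 5 (.node 2 (.node 1 (.leaf
  98) (.leaf
  587)) (.node 1 (.leaf
  160) (.node 1 (.leaf
  92) (.leaf
  3)))) (.node 2 (.node 1 (.leaf
  620) (.leaf
  311)) (.node 1 (.leaf
  374) (.node 1 (.leaf
  172) (.leaf
  336))))) (.node 5 (.node 2 (.node 1 (.leaf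
  540) (.leaf
  295)) (.node 1 (.leaf
  209) (.node 1 (.leaf
  493) (.leaf
  109)))) (.node 2 (.node 1 (.leaf
  312) (.leaf
  30)) (.node 1 (.leaf
  519) (.node 1 (.leaf
  368) (.leaf
  72)))))))) (.node 39 (.node 19 (.node 9 (.node 4 (.node 2 (.node 1 (.leaf
  176) (.leaf
  145)) (.node 1 (.leaf
  52) (.leaf
  275))) (.node 2 (.node 1 (.leaf
  219) (.leaf
  12)) (.node 1 (.leaf
  293) (.node 1 (.leaf
  442) (.leaf
  474))))) (.node 5 (.node 2 (.node 1 (.leaf
  546) (.leaf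
  317)) (.node 1 (.leaf
  498) (.node 1 (.leaf
  521) (.leaf
  17)))) (.node 2 (.node 1 (.leaf
  548) (.leaf
  358)) (.node 1 (.leaf
  499) (.node 1 (.leaf
  69) (.leaf
  45)))))) (.node 10 (.node 5 (.node 2 (.node 1 (.leaf
  136) (.leaf
  23)) (.node 1 (.leaf
  250) (.node 1 (.leaf
  40) (.leaf
  321)))) (.node 2 (.node 1 (.leaf
  266) (.leaf
  111)) (.node 1 (.leaf
  28) (.node 1 (.leaf
  320) (.leaf
  553))))) (.node 5 (.node 2 (.node 1 (.leaf
  466) (.leaf
  141)) (.node 1 (.leaf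
  565) (.node 1 (.leaf
  481) (.leaf
  26)))) (.node 2 (.node 1 (.leaf
  430) (.leaf
  164)) (.node 1 (.leaf
  396) (.node 1 (.leaf
  619) (.leaf
  18))))))) (.node 20 (.node 10 (.node 5 (.node 2 (.node 1 (.leaf
  491) (.leaf
  67)) (.node 1 (.leaf
  342) (.node 1 (.leaf
  400) (.leaf
  110)))) (.node 2 (.node 1 (.leaf
  525) (.leaf
  602)) (.node 1 (.leaf
  468) (.node 1 (.leaf
  438) (.leaf
  407))))) (.node 5 (.node 2 (.node 1 (.leaf
  627) (.leaf
  492)) (.node 1 (.leaf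
  506) (.node 1 (.leaf
  345) (.leaf
  349)))) (.node 2 (.node 1 (.leaf
  617) (.leaf
  186)) (.node 1 (.leaf
  369) (.node 1 (.leaf
  231) (.leaf
  73)))))) (.node 10 (.node 5 (.node 2 (.node 1 (.leaf
  122) (.leaf
  177)) (.node 1 (.leaf
  285) (.node 1 (.leaf
  440) (.leaf
  218)))) (.node 2 (.node 1 (.leaf
  91) (.leaf
  469)) (.node 1 (.leaf
  615) (.node 1 (.leaf
  477) (.leaf
  281))))) (.node 5 (.node 2 (.node 1 (.leaf
  576) (.leaf
  621)) (.node 1 (.leaf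
  5) (.node 1 (.leaf
  307) (.leaf
  25)))) (.node 2 (.node 1 (.leaf
  182) (.leaf
  315)) (.node 1 (.leaf
  127) (.node 1 (.leaf
  394) (.leaf
  494)))))))))) (.node 157 (.node 78 (.node 39 (.node 19 (.node 9 (.node 4 (.node 2 (.node 1 (.leaf
  437) (.leaf
  252)) (.node 1 (.leaf
  340) (.leaf
  331))) (.node 2 (.node 1 (.leaf
  471) (.leaf
  575)) (.node 1 (.leaf
  278) (.node 1 (.leaf
  332) (.leaf
  180))))) (.node 5 (.node 2 (.node 1 (.leaf
  402) (.leaf
  50)) (.node 1 (.leaf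
  514) (.node 1 (.leaf
  376) (.leaf
  539)))) (.node 2 (.node 1 (.leaf
  2) (.leaf
  495)) (.node 1 (.leaf
  418) (.node 1 (.leaf
  542) (.leaf
  90)))))) (.node 10 (.node 5 (.node 2 (.node 1 (.leaf
  27) (.leaf
  170)) (.node 1 (.leaf
  427) (.node 1 (.leaf
  282) (.leaf
  414)))) (.node 2 (.node 1 (.leaf
  577) (.leaf
  470)) (.node 1 (.leaf
  353) (.node 1 (.leaf
  356) (.leaf
  564))))) (.node 5 (.node 2 (.node 1 (.leaf
  616) (.leaf
  185)) (.node 1 (.leaf
  247) (.node 1 (.leaf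
  187) (.leaf
  355)))) (.node 2 (.node 1 (.leaf
  366) (.leaf
  113)) (.node 1 (.leaf
  461) (.node 1 (.leaf
  70) (.leaf
  157))))))) (.node 19 (.node 9 (.node 4 (.node 2 (.node 1 (.leaf
  534) (.leaf
  88)) (.node 1 (.leaf
  379) (.leaf
  504))) (.node 2 (.node 1 (.leaf
  56) (.leaf
  77)) (.node 1 (.leaf
  267) (.node 1 (.leaf
  54) (.leaf
  85))))) (.node 5 (.node 2 (.node 1 (.leaf
  191) (.leaf
  210)) (.node 1 (.leaf
  163) (.node 1 (.leaf
  105) (.leaf
  4)))) (.node 2 (.node 1 (.leaf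
  260) (.leaf
  303)) (.node 1 (.leaf
  87) (.node 1 (.leaf
  596) (.leaf
  405)))))) (.node 10 (.node 5 (.node 2 (.node 1 (.leaf
  535) (.leaf
  238)) (.node 1 (.leaf
  134) (.node 1 (.leaf
  253) (.leaf
  257)))) (.node 2 (.node 1 (.leaf
  457) (.leaf
  203)) (.node 1 (.leaf
  580) (.node 1 (.leaf
  149) (.leaf
  550))))) (.node 5 (.node 2 (.node 1 (.leaf
  39) (.leaf
  139)) (.node 1 (.leaf
  265) (.node 1 (.leaf
  382) (.leaf
  151)))) (.node 2 (.node 1 (.leaf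
  31) (.leaf
  46)) (.node 1 (.leaf
  165) (.node 1 (.leaf
  507) (.leaf
  155)))))))) (.node 39 (.node 19 (.node 9 (.node 4 (.node 2 (.node 1 (.leaf
  517) (.leaf
  327)) (.node 1 (.leaf
  14) (.leaf
  297))) (.node 2 (.node 1 (.leaf
  398) (.leaf
  388)) (.node 1 (.leaf
  510) (.node 1 (.leaf
  460) (.leaf
  101))))) (.node 5 (.node 2 (.node 1 (.leaf
  389) (.leaf
  270)) (.node 1 (.leaf
  167) (.node 1 (.leaf
  294) (.leaf
  599)))) (.node 2 (.node 1 (.leaf
  529) (.leaf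
  420)) (.node 1 (.leaf
  230) (.node 1 (.leaf
  106) (.leaf
  58)))))) (.node 10 (.node 5 (.node 2 (.node 1 (.leaf
  347) (.leaf
  560)) (.node 1 (.leaf
  137) (.node 1 (.leaf
  328) (.leaf
  465)))) (.node 2 (.node 1 (.leaf
  508) (.leaf
  411)) (.node 1 (.leaf
  451) (.node 1 (.leaf
  310) (.leaf
  102))))) (.node 5 (.node 2 (.node 1 (.leaf
  308) (.leaf
  413)) (.node 1 (.leaf
  435) (.node 1 (.leaf
  144) (.leaf
  95)))) (.node 2 (.node 1 (.leaf
  124) (.leaf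
  37)) (.node 1 (.leaf
  370) (.node 1 (.leaf
  48) (.leaf
  211))))))) (.node 20 (.node 10 (.node 5 (.node 2 (.node 1 (.leaf
  425) (.leaf
  485)) (.node 1 (.leaf
  363) (.node 1 (.leaf
  35) (.leaf
  192)))) (.node 2 (.node 1 (.leaf
  305) (.leaf
  10)) (.node 1 (.leaf
  233) (.node 1 (.leaf
  613) (.leaf
  53))))) (.node 5 (.node 2 (.node 1 (.leaf
  624) (.leaf
  392)) (.node 1 (.leaf
  200) (.node 1 (.leaf
  416) (.leaf
  222)))) (.node 2 (.node 1 (.leaf
  612) (.leaf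
  454)) (.node 1 (.leaf
  60) (.node 1 (.leaf
  606) (.leaf
  628)))))) (.node 10 (.node 5 (.node 2 (.node 1 (.leaf
  375) (.leaf
  236)) (.node 1 (.leaf
  123) (.node 1 (.leaf
  583) (.leaf
  63)))) (.node 2 (.node 1 (.leaf
  367) (.leaf
  32)) (.node 1 (.leaf
  381) (.node 1 (.leaf
  248) (.leaf
  316))))) (.node 5 (.node 2 (.node 1 (.leaf
  150) (.leaf
  277)) (.node 1 (.leaf
  501) (.node 1 (.leaf
  545) (.leaf
  220)))) (.node 2 (.node 1 (.leaf
  323) (.leaf
  568)) (.node 1 (.leaf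
  444) (.node 1 (.leaf
  143) (.leaf
  472))))))))) (.node 79 (.node 39 (.node 19 (.node 9 (.node 4 (.node 2 (.node 1 (.leaf
  570) (.leaf
  24)) (.node 1 (.leaf
  509) (.leaf
  116))) (.node 2 (.node 1 (.leaf
  601) (.leaf
  523)) (.node 1 (.leaf
  623) (.node 1 (.leaf
  489) (.leaf
  361))))) (.node 5 (.node 2 (.node 1 (.leaf
  284) (.leaf
  462)) (.node 1 (.leaf
  436) (.node 1 (.leaf
  171) (.leaf
  301)))) (.node 2 (.node 1 (.leaf
  441) (.leaf
  276)) (.node 1 (.leaf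
  159) (.node 1 (.leaf
  194) (.leaf
  83)))))) (.node 10 (.node 5 (.node 2 (.node 1 (.leaf
  409) (.leaf
  422)) (.node 1 (.leaf
  387) (.node 1 (.leaf
  42) (.leaf
  516)))) (.node 2 (.node 1 (.leaf
  322) (.leaf
  531)) (.node 1 (.leaf
  205) (.node 1 (.leaf
  254) (.leaf
  524))))) (.node 5 (.node 2 (.node 1 (.leaf
  431) (.leaf
  239)) (.node 1 (.leaf
  463) (.node 1 (.leaf
  19) (.leaf
  274)))) (.node 2 (.node 1 (.leaf
  556) (.leaf
  76)) (.node 1 (.leaf
  183) (.node 1 (.leaf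
  511) (.leaf
  9))))))) (.node 20 (.node 10 (.node 5 (.node 2 (.node 1 (.leaf
  626) (.leaf
  573)) (.node 1 (.leaf
  51) (.node 1 (.leaf
  232) (.leaf
  448)))) (.node 2 (.node 1 (.leaf
  146) (.leaf
  99)) (.node 1 (.leaf
  453) (.node 1 (.leaf
  593) (.leaf
  96))))) (.node 5 (.node 2 (.node 1 (.leaf
  195) (.leaf
  330)) (.node 1 (.leaf
  572) (.node 1 (.leaf
  80) (.leaf
  373)))) (.node 2 (.node 1 (.leaf
  390) (.leaf
  503)) (.node 1 (.leaf
  552) (.node 1 (.leaf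
  333) (.leaf
  314)))))) (.node 10 (.node 5 (.node 2 (.node 1 (.leaf
  567) (.leaf
  43)) (.node 1 (.leaf
  244) (.node 1 (.leaf
  533) (.leaf
  600)))) (.node 2 (.node 1 (.leaf
  393) (.leaf
  455)) (.node 1 (.leaf
  197) (.node 1 (.leaf
  36) (.leaf
  112))))) (.node 5 (.node 2 (.node 1 (.leaf
  434) (.leaf
  117)) (.node 1 (.leaf
  426) (.node 1 (.leaf
  365) (.leaf
  268)))) (.node 2 (.node 1 (.leaf
  530) (.leaf
  235)) (.node 1 (.leaf
  130) (.node 1 (.leaf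
  241) (.leaf
  351)))))))) (.node 39 (.node 19 (.node 9 (.node 4 (.node 2 (.node 1 (.leaf
  179) (.leaf
  476)) (.node 1 (.leaf
  490) (.leaf
  447))) (.node 2 (.node 1 (.leaf
  484) (.leaf
  227)) (.node 1 (.leaf
  605) (.node 1 (.leaf
  335) (.leaf
  586))))) (.node 5 (.node 2 (.node 1 (.leaf
  273) (.leaf
  115)) (.node 1 (.leaf
  66) (.node 1 (.leaf
  609) (.leaf
  71)))) (.node 2 (.node 1 (.leaf
  242) (.leaf
  401)) (.node 1 (.leaf
  371) (.node 1 (.leaf
  223) (.leaf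
  318)))))) (.node 10 (.node 5 (.node 2 (.node 1 (.leaf
  217) (.leaf
  341)) (.node 1 (.leaf
  263) (.node 1 (.leaf
  377) (.leaf
  166)))) (.node 2 (.node 1 (.leaf
  362) (.leaf
  421)) (.node 1 (.leaf
  287) (.node 1 (.leaf
  399) (.leaf
  486))))) (.node 5 (.node 2 (.node 1 (.leaf
  496) (.leaf
  55)) (.node 1 (.leaf
  78) (.node 1 (.leaf
  551) (.leaf
  526)))) (.node 2 (.node 1 (.leaf
  395) (.leaf
  608)) (.node 1 (.leaf
  261) (.node 1 (.leaf
  337) (.leaf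
  597))))))) (.node 20 (.node 10 (.node 5 (.node 2 (.node 1 (.leaf
  154) (.leaf
  513)) (.node 1 (.leaf
  578) (.node 1 (.leaf
  473) (.leaf
  104)))) (.node 2 (.node 1 (.leaf
  581) (.leaf
  280)) (.node 1 (.leaf
  549) (.node 1 (.leaf
  201) (.leaf
  202))))) (.node 5 (.node 2 (.node 1 (.leaf
  140) (.leaf
  429)) (.node 1 (.leaf
  360) (.node 1 (.leaf
  569) (.leaf
  584)))) (.node 2 (.node 1 (.leaf
  212) (.leaf
  103)) (.node 1 (.leaf
  480) (.node 1 (.leaf
  528) (.leaf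
  255)))))) (.node 10 (.node 5 (.node 2 (.node 1 (.leaf
  279) (.leaf
  240)) (.node 1 (.leaf
  184) (.node 1 (.leaf
  622) (.leaf
  193)))) (.node 2 (.node 1 (.leaf
  208) (.leaf
  290)) (.node 1 (.leaf
  520) (.node 1 (.leaf
  488) (.leaf
  251))))) (.node 5 (.node 2 (.node 1 (.leaf
  271) (.leaf
  161)) (.node 1 (.leaf
  132) (.node 1 (.leaf
  225) (.leaf
  500)))) (.node 2 (.node 1 (.leaf
  543) (.leaf
  325)) (.node 1 (.leaf
  384) (.node 1 (.leaf
  449) (.leaf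
  574)))))))))))

/-- A stabiliser: codes. -/
def stT2 : Tree :=
  (.node 48 (.node 24 (.node 12 (.node 6 (.node 3 (.node 1 (.leaf
  0) (.node 1 (.leaf
  1890) (.leaf
  5670))) (.node 1 (.leaf
  1093680) (.node 1 (.leaf
  121590) (.leaf
  1165500)))) (.node 3 (.node 1 (.leaf
  6300) (.node 1 (.leaf
  1095570) (.leaf
  122220))) (.node 1 (.leaf
  1164870) (.node 1 (.leaf
  1105020) (.leaf
  126000))))) (.node 6 (.node 3 (.node 1 (.leaf
  1160460) (.node 1 (.leaf
  1089900) (.leaf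
  15120))) (.node 1 (.leaf
  973350) (.node 1 (.leaf
  1632960) (.leaf
  127890)))) (.node 3 (.node 1 (.leaf
  973980) (.node 1 (.leaf
  1154160) (.leaf
  2591190))) (.node 1 (.leaf
  1287090) (.node 1 (.leaf
  1104390) (.leaf
  1159830)))))) (.node 12 (.node 6 (.node 3 (.node 1 (.leaf
  1089270) (.node 1 (.leaf
  17010) (.leaf
  1634850))) (.node 1 (.leaf
  1156050) (.node 1 (.leaf
  2591820) (.leaf
  1285200)))) (.node 3 (.node 1 (.leaf
  1100610) (.node 1 (.leaf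
  10710) (.leaf
  984690))) (.node 1 (.leaf
  1755180) (.node 1 (.leaf
  982800) (.leaf
  1149120))))) (.node 6 (.node 3 (.node 1 (.leaf
  2580480) (.node 1 (.leaf
  1282050) (.leaf
  969570))) (.node 1 (.leaf
  1639890) (.node 1 (.leaf
  11340) (.leaf
  1098720)))) (.node 3 (.node 1 (.leaf
  136710) (.node 1 (.leaf
  1280160) (.leaf
  967680))) (.node 1 (.leaf
  137340) (.node 1 (.leaf
  1644300) (.leaf
  2081520))))))) (.node 24 (.node 12 (.node 6 (.node 3 (.node 1 (.leaf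
  1754550) (.node 1 (.leaf
  1151010) (.leaf
  1643670))) (.node 1 (.leaf
  2597490) (.node 1 (.leaf
  1275750) (.leaf
  2711520)))) (.node 3 (.node 1 (.leaf
  2092230) (.node 1 (.leaf
  2713410) (.leaf
  2582370))) (.node 1 (.leaf
  1638000) (.node 1 (.leaf
  2083410) (.leaf
  2595600))))) (.node 6 (.node 3 (.node 1 (.leaf
  1276380) (.node 1 (.leaf
  2092860) (.leaf
  979020))) (.node 1 (.leaf
  1760220) (.node 1 (.leaf
  131040) (.leaf
  978390)))) (.node 3 (.node 1 (.leaf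
  132930) (.node 1 (.leaf
  1765890) (.leaf
  1961190))) (.node 1 (.leaf
  1764000) (.node 1 (.leaf
  2586150) (.leaf
  1270710)))))) (.node 12 (.node 6 (.node 3 (.node 1 (.leaf
  2702070) (.node 1 (.leaf
  1972530) (.leaf
  2702700))) (.node 1 (.leaf
  1648710) (.node 1 (.leaf
  1759590) (.leaf
  1649340)))) (.node 3 (.node 1 (.leaf
  1271340) (.node 1 (.leaf
  2076480) (.leaf
  1961820))) (.node 1 (.leaf
  2586780) (.node 1 (.leaf
  2078370) (.leaf
  2717820))))) (.node 6 (.node 3 (.node 1 (.leaf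
  2087820) (.node 1 (.leaf
  2717190) (.leaf
  1970640))) (.node 1 (.leaf
  2087190) (.node 1 (.leaf
  1770930) (.leaf
  1769040)))) (.node 3 (.node 1 (.leaf
  1956780) (.node 1 (.leaf
  1956150) (.leaf
  2706480))) (.node 1 (.leaf
  1967490) (.node 1 (.leaf
  2708370) (.leaf
  1965600))))))))

/-- How each member arises. -/
def stP2 : Tree :=
  (.node 48 (.node 24 (.node 12 (.node 6 (.node 3 (.node 1 (.leaf
  0) (.node 1 (.leaf
  32) (.leaf
  34))) (.node 1 (.leaf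
  37) (.node 1 (.leaf
  42) (.leaf
  47)))) (.node 3 (.node 1 (.leaf
  1058) (.node 1 (.leaf
  1061) (.leaf
  1066))) (.node 1 (.leaf
  1071) (.node 1 (.leaf
  2085) (.leaf
  2090))))) (.node 6 (.node 3 (.node 1 (.leaf
  2095) (.node 1 (.leaf
  3106) (.leaf
  3109))) (.node 1 (.leaf
  3114) (.node 1 (.leaf
  3119) (.leaf
  4130)))) (.node 3 (.node 1 (.leaf
  4133) (.node 1 (.leaf
  4143) (.leaf
  5157))) (.node 1 (.leaf
  5162) (.node 1 (.leaf
  6181) (.leaf
  6191)))))) (.node 12 (.node 6 (.node 3 (.node 1 (.leaf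
  7202) (.node 1 (.leaf
  7205) (.leaf
  7215))) (.node 1 (.leaf
  8239) (.node 1 (.leaf
  9253) (.leaf
  9258)))) (.node 3 (.node 1 (.leaf
  10274) (.node 1 (.leaf
  10277) (.leaf
  10282))) (.node 1 (.leaf
  10287) (.node 1 (.leaf
  11301) (.leaf
  11311))))) (.node 6 (.node 3 (.node 1 (.leaf
  12325) (.node 1 (.leaf
  12330) (.leaf
  13354))) (.node 1 (.leaf
  13359) (.node 1 (.leaf
  14370) (.leaf
  14373)))) (.node 3 (.node 1 (.leaf
  14378) (.node 1 (.leaf
  14383) (.leaf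
  15394))) (.node 1 (.leaf
  15397) (.node 1 (.leaf
  15407) (.leaf
  16421))))))) (.node 24 (.node 12 (.node 6 (.node 3 (.node 1 (.leaf
  16426) (.node 1 (.leaf
  17455) (.leaf
  18479))) (.node 1 (.leaf
  19493) (.node 1 (.leaf
  19498) (.leaf
  20522)))) (.node 3 (.node 1 (.leaf
  20527) (.node 1 (.leaf
  21541) (.leaf
  23589))) (.node 1 (.leaf
  24623) (.node 1 (.leaf
  26661) (.leaf
  27685))))) (.node 6 (.node 3 (.node 1 (.leaf
  27690) (.node 1 (.leaf
  28719) (.leaf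
  30762))) (.node 1 (.leaf
  30767) (.node 1 (.leaf
  31786) (.leaf
  32802)))) (.node 3 (.node 1 (.leaf
  32805) (.node 1 (.leaf
  32815) (.leaf
  33829))) (.node 1 (.leaf
  34863) (.node 1 (.leaf
  35877) (.leaf
  35882)))))) (.node 12 (.node 6 (.node 3 (.node 1 (.leaf
  36906) (.node 1 (.leaf
  36911) (.leaf
  37925))) (.node 1 (.leaf
  38959) (.node 1 (.leaf
  42031) (.leaf
  45103)))) (.node 3 (.node 1 (.leaf
  46127) (.node 1 (.leaf
  47141) (.leaf
  49189))) (.node 1 (.leaf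
  50213) (.node 1 (.leaf
  51237) (.leaf
  52266))))) (.node 6 (.node 3 (.node 1 (.leaf
  52271) (.node 1 (.leaf
  53285) (.leaf
  55338))) (.node 1 (.leaf
  60463) (.node 1 (.leaf
  63535) (.leaf
  66607)))) (.node 3 (.node 1 (.leaf
  68645) (.node 1 (.leaf
  70693) (.leaf
  71722))) (.node 1 (.leaf
  71727) (.node 1 (.leaf
  72741) (.leaf
  82991))))))))

/-- The order of the codes. -/
def stO2 : Tree :=
  (.node 48 (.node 24 (.node 12 (.node 6 (.node 3 (.node 1 (.leaf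
  0) (.node 1 (.leaf
  1) (.leaf
  2))) (.node 1 (.leaf
  6) (.node 1 (.leaf
  31) (.leaf
  40)))) (.node 3 (.node 1 (.leaf
  14) (.node 1 (.leaf
  25) (.leaf
  4))) (.node 1 (.leaf
  8) (.node 1 (.leaf
  11) (.leaf
  17))))) (.node 6 (.node 3 (.node 1 (.leaf
  64) (.node 1 (.leaf
  66) (.leaf
  42))) (.node 1 (.leaf
  45) (.node 1 (.leaf
  44) (.leaf
  38)))) (.node 3 (.node 1 (.leaf
  15) (.node 1 (.leaf
  18) (.leaf
  65))) (.node 1 (.leaf
  62) (.node 1 (.leaf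
  34) (.leaf
  32)))))) (.node 12 (.node 6 (.node 3 (.node 1 (.leaf
  24) (.node 1 (.leaf
  13) (.leaf
  3))) (.node 1 (.leaf
  7) (.node 1 (.leaf
  41) (.leaf
  30)))) (.node 3 (.node 1 (.leaf
  22) (.node 1 (.leaf
  10) (.leaf
  35))) (.node 1 (.leaf
  49) (.node 1 (.leaf
  19) (.leaf
  27))))) (.node 6 (.node 3 (.node 1 (.leaf
  23) (.node 1 (.leaf
  12) (.leaf
  9))) (.node 1 (.leaf
  5) (.node 1 (.leaf
  71) (.leaf
  78)))) (.node 3 (.node 1 (.leaf
  52) (.node 1 (.leaf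
  60) (.leaf
  43))) (.node 1 (.leaf
  37) (.node 1 (.leaf
  29) (.leaf
  21))))))) (.node 24 (.node 12 (.node 6 (.node 3 (.node 1 (.leaf
  16) (.node 1 (.leaf
  26) (.leaf
  57))) (.node 1 (.leaf
  39) (.node 1 (.leaf
  50) (.leaf
  46)))) (.node 3 (.node 1 (.leaf
  75) (.node 1 (.leaf
  77) (.leaf
  48))) (.node 1 (.leaf
  33) (.node 1 (.leaf
  76) (.leaf
  63))))) (.node 6 (.node 3 (.node 1 (.leaf
  69) (.node 1 (.leaf
  67) (.leaf
  89))) (.node 1 (.leaf
  88) (.node 1 (.leaf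
  91) (.leaf
  90)))) (.node 3 (.node 1 (.leaf
  68) (.node 1 (.leaf
  80) (.leaf
  95))) (.node 1 (.leaf
  93) (.node 1 (.leaf
  86) (.leaf
  73)))))) (.node 12 (.node 6 (.node 3 (.node 1 (.leaf
  79) (.node 1 (.leaf
  82) (.leaf
  47))) (.node 1 (.leaf
  58) (.node 1 (.leaf
  87) (.leaf
  84)))) (.node 3 (.node 1 (.leaf
  54) (.node 1 (.leaf
  61) (.leaf
  36))) (.node 1 (.leaf
  56) (.node 1 (.leaf
  70) (.leaf
  81))))) (.node 6 (.node 3 (.node 1 (.leaf
  20) (.node 1 (.leaf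
  28) (.leaf
  59))) (.node 1 (.leaf
  51) (.node 1 (.leaf
  72) (.leaf
  74)))) (.node 3 (.node 1 (.leaf
  92) (.node 1 (.leaf
  94) (.leaf
  53))) (.node 1 (.leaf
  55) (.node 1 (.leaf
  85) (.leaf
  83))))))))

/-- The ranks. -/
def stR2 : Tree :=
  (.node 48 (.node 24 (.node 12 (.node 6 (.node 3 (.node 1 (.leaf
  0) (.node 1 (.leaf
  1) (.leaf
  2))) (.node 1 (.leaf
  26) (.node 1 (.leaf
  8) (.leaf
  39)))) (.node 3 (.node 1 (.leaf
  3) (.node 1 (.leaf
  27) (.leaf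
  9))) (.node 1 (.leaf
  38) (.node 1 (.leaf
  31) (.leaf
  10))))) (.node 6 (.node 3 (.node 1 (.leaf
  37) (.node 1 (.leaf
  25) (.leaf
  6))) (.node 1 (.leaf
  18) (.node 1 (.leaf
  48) (.leaf
  11)))) (.node 3 (.node 1 (.leaf
  19) (.node 1 (.leaf
  34) (.leaf
  84))) (.node 1 (.leaf
  47) (.node 1 (.leaf
  30) (.leaf
  36)))))) (.node 12 (.node 6 (.node 3 (.node 1 (.leaf
  24) (.node 1 (.leaf
  7) (.leaf
  49))) (.node 1 (.leaf
  35) (.node 1 (.leaf
  85) (.leaf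
  46)))) (.node 3 (.node 1 (.leaf
  29) (.node 1 (.leaf
  4) (.leaf
  23))) (.node 1 (.leaf
  57) (.node 1 (.leaf
  22) (.leaf
  32))))) (.node 6 (.node 3 (.node 1 (.leaf
  80) (.node 1 (.leaf
  45) (.leaf
  17))) (.node 1 (.leaf
  51) (.node 1 (.leaf
  5) (.leaf
  28)))) (.node 3 (.node 1 (.leaf
  14) (.node 1 (.leaf
  44) (.leaf
  16))) (.node 1 (.leaf
  15) (.node 1 (.leaf
  53) (.leaf
  74))))))) (.node 24 (.node 12 (.node 6 (.node 3 (.node 1 (.leaf
  56) (.node 1 (.leaf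
  33) (.leaf
  52))) (.node 1 (.leaf
  87) (.node 1 (.leaf
  42) (.leaf
  92)))) (.node 3 (.node 1 (.leaf
  78) (.node 1 (.leaf
  93) (.leaf
  81))) (.node 1 (.leaf
  50) (.node 1 (.leaf
  75) (.leaf
  86))))) (.node 6 (.node 3 (.node 1 (.leaf
  43) (.node 1 (.leaf
  79) (.leaf
  21))) (.node 1 (.leaf
  59) (.node 1 (.leaf
  12) (.leaf
  20)))) (.node 3 (.node 1 (.leaf
  13) (.node 1 (.leaf
  61) (.leaf
  66))) (.node 1 (.leaf
  60) (.node 1 (.leaf
  82) (.leaf
  40)))))) (.node 12 (.node 6 (.node 3 (.node 1 (.leaf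
  88) (.node 1 (.leaf
  71) (.leaf
  89))) (.node 1 (.leaf
  54) (.node 1 (.leaf
  58) (.leaf
  55)))) (.node 3 (.node 1 (.leaf
  41) (.node 1 (.leaf
  72) (.leaf
  67))) (.node 1 (.leaf
  83) (.node 1 (.leaf
  73) (.leaf
  95))))) (.node 6 (.node 3 (.node 1 (.leaf
  77) (.node 1 (.leaf
  94) (.leaf
  70))) (.node 1 (.leaf
  76) (.node 1 (.leaf
  63) (.leaf
  62)))) (.node 3 (.node 1 (.leaf
  65) (.node 1 (.leaf
  64) (.leaf
  90))) (.node 1 (.leaf
  69) (.node 1 (.leaf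
  91) (.leaf
  68))))))))

/-- A stabiliser: codes. -/
def stT3 : Tree :=
  (.node 162 (.node 81 (.node 40 (.node 20 (.node 10 (.node 5 (.node 2 (.node 1 (.leaf
  0) (.leaf
  1890)) (.node 1 (.leaf
  350910) (.node 1 (.leaf
  2462040) (.leaf
  1971270)))) (.node 2 (.node 1 (.leaf
  1491684) (.leaf
  351540)) (.node 1 (.leaf
  2463930) (.node 1 (.leaf
  1971900) (.leaf
  1489794))))) (.node 5 (.node 2 (.node 1 (.leaf
  2876580) (.leaf
  2189250)) (.node 1 (.leaf
  1246614) (.node 1 (.leaf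
  1277010) (.leaf
  1519560)))) (.node 2 (.node 1 (.leaf
  229320) (.leaf
  52134)) (.node 1 (.leaf
  820260) (.node 1 (.leaf
  2291310) (.leaf
  199554)))))) (.node 10 (.node 5 (.node 2 (.node 1 (.leaf
  822414) (.leaf
  1420909)) (.node 1 (.leaf
  787764) (.node 1 (.leaf
  826750) (.leaf
  2875950)))) (.node 2 (.node 1 (.leaf
  2187360) (.leaf
  1245984)) (.node 1 (.leaf
  1275120) (.node 1 (.leaf
  1521450) (.leaf
  231210))))) (.node 5 (.node 2 (.node 1 (.leaf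
  51504) (.leaf
  819630)) (.node 1 (.leaf
  2291940) (.node 1 (.leaf
  201444) (.leaf
  823044)))) (.node 2 (.node 1 (.leaf
  1419019) (.leaf
  787134)) (.node 1 (.leaf
  828640) (.node 1 (.leaf
  560700) (.leaf
  403044))))))) (.node 20 (.node 10 (.node 5 (.node 2 (.node 1 (.leaf
  1426320) (.leaf
  1770930)) (.node 1 (.leaf
  510774) (.node 1 (.leaf
  1425324) (.leaf
  806659)))) (.node 2 (.node 1 (.leaf
  1098354) (.leaf
  1440370)) (.node 1 (.leaf
  2825394) (.node 1 (.leaf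
  2432274) (.leaf
  793800))))) (.node 5 (.node 2 (.node 1 (.leaf
  2321394) (.leaf
  1829149)) (.node 1 (.leaf
  2719974) (.node 1 (.leaf
  781390) (.leaf
  1428210)))) (.node 2 (.node 1 (.leaf
  2662854) (.leaf
  2713410)) (.node 1 (.leaf
  2003244) (.node 1 (.leaf
  343614) (.leaf
  2181319)))))) (.node 10 (.node 5 (.node 2 (.node 1 (.leaf
  2879994) (.leaf
  338500)) (.node 1 (.leaf
  2324058) (.node 1 (.leaf
  1793908) (.leaf
  194028)))) (.node 2 (.node 1 (.leaf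
  757248) (.leaf
  693575)) (.node 1 (.leaf
  2000868) (.node 1 (.leaf
  1066258) (.leaf
  1943110))))) (.node 5 (.node 2 (.node 1 (.leaf
  1374328) (.leaf
  1375278)) (.node 1 (.leaf
  560070) (.node 1 (.leaf
  401154) (.leaf
  1769040)))) (.node 3 (.node 1 (.leaf
  510144) (.node 1 (.leaf
  1424694) (.leaf
  808549))) (.node 1 (.leaf
  1096464) (.node 1 (.leaf
  1439740) (.leaf
  2827284)))))))) (.node 40 (.node 20 (.node 10 (.node 5 (.node 2 (.node 1 (.leaf
  2434164) (.leaf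
  795690)) (.node 1 (.leaf
  2323284) (.node 1 (.leaf
  1827259) (.leaf
  2720604)))) (.node 2 (.node 1 (.leaf
  783280) (.leaf
  2662224)) (.node 1 (.leaf
  2711520) (.node 1 (.leaf
  2001354) (.leaf
  344244))))) (.node 5 (.node 2 (.node 1 (.leaf
  2180689) (.leaf
  2878104)) (.node 1 (.leaf
  339130) (.node 1 (.leaf
  2325948) (.leaf
  1792018)))) (.node 2 (.node 1 (.leaf
  192138) (.leaf
  757878)) (.node 1 (.leaf
  695465) (.node 1 (.leaf
  1998978) (.leaf
  1068148)))))) (.node 10 (.node 5 (.node 2 (.node 1 (.leaf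
  1945000) (.leaf
  1374958)) (.node 1 (.leaf
  1374648) (.node 1 (.leaf
  1088640) (.leaf
  1719744)))) (.node 2 (.node 1 (.leaf
  2704219) (.leaf
  1823484)) (.node 1 (.leaf
  1123480) (.node 1 (.leaf
  1785264) (.leaf
  1815030))))) (.node 5 (.node 2 (.node 1 (.leaf
  2218074) (.leaf
  8454)) (.node 1 (.leaf
  1965229) (.node 1 (.leaf
  2464824) (.leaf
  34840)))) (.node 2 (.node 1 (.leaf
  1716738) (.leaf
  2669608)) (.node 1 (.leaf
  509028) (.node 1 (.leaf
  1066578) (.leaf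
  1028735))))))) (.node 20 (.node 10 (.node 5 (.node 2 (.node 1 (.leaf
  2227038) (.leaf
  756928)) (.node 1 (.leaf
  2202040) (.node 1 (.leaf
  852688) (.leaf
  853638)))) (.node 2 (.node 1 (.leaf
  802249) (.leaf
  1847350)) (.node 1 (.leaf
  1102129) (.node 1 (.leaf
  2725570) (.leaf
  1815660))))) (.node 5 (.node 2 (.node 1 (.leaf
  849714) (.leaf
  1274124)) (.node 1 (.leaf
  1761739) (.node 1 (.leaf
  1269640) (.leaf
  2670558)))) (.node 2 (.node 1 (.leaf
  2651615) (.leaf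
  218170)) (.node 1 (.leaf
  1794228) (.node 1 (.leaf
  1090530) (.leaf
  1785894)))))) (.node 10 (.node 5 (.node 2 (.node 1 (.leaf
  2195184) (.leaf
  358729)) (.node 1 (.leaf
  1766784) (.node 1 (.leaf
  2200150) (.leaf
  765294)))) (.node 2 (.node 1 (.leaf
  552769) (.leaf
  2883070)) (.node 1 (.leaf
  2436198) (.node 1 (.leaf
  506818) (.leaf
  1482378))))) (.node 5 (.node 2 (.node 1 (.leaf
  2828058) (.leaf
  2816675)) (.node 1 (.leaf
  59208) (.node 1 (.leaf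
  1718308) (.leaf
  2226088)))) (.node 3 (.node 1 (.leaf
  12859) (.node 1 (.leaf
  1508410) (.leaf
  1483948))) (.node 1 (.leaf
  989352) (.node 1 (.leaf
  1528639) (.leaf
  2491210))))))))) (.node 81 (.node 40 (.node 20 (.node 10 (.node 5 (.node 2 (.node 1 (.leaf
  1970274) (.leaf
  2471119)) (.node 1 (.leaf
  251622) (.node 1 (.leaf
  1628802) (.leaf
  2072952)))) (.node 2 (.node 1 (.leaf
  291005) (.leaf
  59518)) (.node 1 (.leaf
  1326402) (.node 1 (.leaf
  2435248) (.leaf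
  1875762))))) (.node 5 (.node 2 (.node 1 (.leaf
  1288609) (.leaf
  1720374)) (.node 1 (.leaf
  2706109) (.node 1 (.leaf
  1822854) (.leaf
  1121590)))) (.node 2 (.node 1 (.leaf
  2219964) (.leaf
  9084)) (.node 1 (.leaf
  1963339) (.node 1 (.leaf
  2466714) (.leaf
  32950)))))) (.node 10 (.node 5 (.node 2 (.node 1 (.leaf
  1718628) (.leaf
  2670238)) (.node 1 (.leaf
  507138) (.node 1 (.leaf
  1068468) (.leaf
  1030625)))) (.node 2 (.node 1 (.leaf
  2226408) (.leaf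
  757558)) (.node 1 (.leaf
  853318) (.node 1 (.leaf
  853008) (.leaf
  802879))))) (.node 5 (.node 2 (.node 1 (.leaf
  1849240) (.leaf
  1102759)) (.node 1 (.leaf
  2724940) (.node 1 (.leaf
  851604) (.leaf
  1273494)))) (.node 2 (.node 1 (.leaf
  1763629) (.leaf
  1267750)) (.node 1 (.leaf
  2669928) (.node 1 (.leaf
  2653505) (.leaf
  217540))))))) (.node 20 (.node 10 (.node 5 (.node 2 (.node 1 (.leaf
  1792338) (.leaf
  2197074)) (.node 1 (.leaf
  359359) (.node 1 (.leaf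
  1768674) (.leaf
  764664)))) (.node 2 (.node 1 (.leaf
  553399) (.leaf
  2884960)) (.node 1 (.leaf
  2435568) (.node 1 (.leaf
  508708) (.leaf
  1484268))))) (.node 5 (.node 2 (.node 1 (.leaf
  2829948) (.leaf
  2816045)) (.node 1 (.leaf
  59838) (.node 1 (.leaf
  1716418) (.leaf
  2226718)))) (.node 2 (.node 1 (.leaf
  14749) (.leaf
  1507780)) (.node 1 (.leaf
  1482058) (.node 1 (.leaf
  988722) (.leaf
  1528009)))))) (.node 10 (.node 5 (.node 2 (.node 1 (.leaf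
  2490580) (.leaf
  1968384)) (.node 1 (.leaf
  2470489) (.node 1 (.leaf
  249732) (.leaf
  1629432)))) (.node 2 (.node 1 (.leaf
  2072322) (.leaf
  291635)) (.node 1 (.leaf
  58888) (.node 1 (.leaf
  1327032) (.leaf
  2435878))))) (.node 5 (.node 2 (.node 1 (.leaf
  1876392) (.leaf
  1289239)) (.node 1 (.leaf
  1377024) (.node 1 (.leaf
  1512894) (.leaf
  2280229)))) (.node 3 (.node 1 (.leaf
  1915775) (.node 1 (.leaf
  532540) (.leaf
  2295354))) (.node 1 (.leaf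
  1060134) (.node 1 (.leaf
  238399) (.leaf
  191818)))))))) (.node 40 (.node 20 (.node 10 (.node 5 (.node 2 (.node 1 (.leaf
  1244238) (.leaf
  2564675)) (.node 1 (.leaf
  394368) (.node 1 (.leaf
  2325628) (.leaf
  1998658)))) (.node 2 (.node 1 (.leaf
  1243288) (.leaf
  654192)) (.node 1 (.leaf
  2863609) (.node 1 (.leaf
  580482) (.leaf
  2392992))))) (.node 5 (.node 2 (.node 1 (.leaf
  2168712) (.leaf
  622385)) (.node 1 (.leaf
  394678) (.node 1 (.leaf
  961632) (.leaf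
  2829628)))) (.node 2 (.node 1 (.leaf
  2611602) (.leaf
  1366415)) (.node 1 (.leaf
  1742770) (.node 1 (.leaf
  920375) (.leaf
  2260000)))))) (.node 10 (.node 5 (.node 2 (.node 1 (.leaf
  1059504) (.leaf
  557814)) (.node 1 (.leaf
  1742140) (.node 1 (.leaf
  394998) (.leaf
  411335)))) (.node 2 (.node 1 (.leaf
  223284) (.leaf
  2351735)) (.node 1 (.leaf
  1377654) (.node 1 (.leaf
  2293464) (.leaf
  1243918))))) (.node 5 (.node 2 (.node 1 (.leaf
  1668815) (.leaf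
  2827738)) (.node 1 (.leaf
  394048) (.node 1 (.leaf
  533170) (.leaf
  1243608)))) (.node 2 (.node 1 (.leaf
  1174895) (.leaf
  237769)) (.node 1 (.leaf
  2278339) (.node 1 (.leaf
  1539972) (.leaf
  143262))))))) (.node 20 (.node 10 (.node 5 (.node 2 (.node 1 (.leaf
  1581875) (.leaf
  2524662)) (.node 1 (.leaf
  2033585) (.node 1 (.leaf
  1134882) (.leaf
  222654)))) (.node 2 (.node 1 (.leaf
  2127455) (.leaf
  1513524)) (.node 1 (.leaf
  1917665) (.node 1 (.leaf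
  193708) (.leaf
  2564045))))) (.node 5 (.node 2 (.node 1 (.leaf
  2323738) (.leaf
  2000548)) (.node 1 (.leaf
  653562) (.node 1 (.leaf
  2864239) (.leaf
  581112)))) (.node 2 (.node 1 (.leaf
  2392362) (.leaf
  2168082)) (.node 1 (.leaf
  620495) (.node 1 (.leaf
  961002) (.leaf
  2612232)))))) (.node 10 (.node 5 (.node 2 (.node 1 (.leaf
  1368305) (.leaf
  922265)) (.node 1 (.leaf
  2258110) (.node 1 (.leaf
  558444) (.leaf
  413225)))) (.node 2 (.node 1 (.leaf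
  2353625) (.leaf
  1670705)) (.node 1 (.leaf
  1176785) (.node 1 (.leaf
  1541862) (.leaf
  141372))))) (.node 5 (.node 2 (.node 1 (.leaf
  1581245) (.leaf
  2522772)) (.node 1 (.leaf
  2031695) (.node 1 (.leaf
  1135512) (.leaf
  2129345)))) (.node 3 (.node 1 (.leaf
  102005) (.node 1 (.leaf
  452592) (.leaf
  2776662))) (.node 1 (.leaf
  102635) (.node 1 (.leaf
  2774772) (.leaf
  451962))))))))))

/-- How each member arises. -/
def stP3 : Tree :=
  (.node 162 (.node 81 (.node 40 (.node 20 (.node 10 (.node 5 (.node 2 (.node 1 (.leaf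
  0) (.leaf
  126)) (.node 1 (.leaf
  112) (.node 1 (.leaf
  148) (.leaf
  133)))) (.node 2 (.node 1 (.leaf
  121) (.leaf
  1136)) (.node 1 (.leaf
  1172) (.node 1 (.leaf
  1157) (.leaf
  1145))))) (.node 5 (.node 2 (.node 1 (.leaf
  2196) (.leaf
  2181)) (.node 1 (.leaf
  2169) (.node 1 (.leaf
  3184) (.leaf
  3220)))) (.node 2 (.node 1 (.leaf
  3205) (.leaf
  3193)) (.node 1 (.leaf
  4208) (.node 1 (.leaf
  4244) (.leaf
  4217)))))) (.node 10 (.node 5 (.node 2 (.node 1 (.leaf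
  5246) (.leaf
  5232)) (.node 1 (.leaf
  5268) (.node 1 (.leaf
  5253) (.leaf
  6292)))) (.node 2 (.node 1 (.leaf
  6277) (.leaf
  6265)) (.node 1 (.leaf
  7280) (.node 1 (.leaf
  7316) (.leaf
  7301))))) (.node 5 (.node 2 (.node 1 (.leaf
  7289) (.leaf
  8304)) (.node 1 (.leaf
  8340) (.node 1 (.leaf
  8313) (.leaf
  9342)))) (.node 2 (.node 1 (.leaf
  9328) (.leaf
  9364)) (.node 1 (.leaf
  9349) (.node 1 (.leaf
  10373) (.leaf
  10361))))))) (.node 20 (.node 10 (.node 5 (.node 2 (.node 1 (.leaf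
  11376) (.leaf
  11412)) (.node 1 (.leaf
  11385) (.node 1 (.leaf
  12414) (.leaf
  12400)))) (.node 2 (.node 1 (.leaf
  12436) (.leaf
  12421)) (.node 1 (.leaf
  13433) (.node 1 (.leaf
  14457) (.leaf
  15472))))) (.node 5 (.node 2 (.node 1 (.leaf
  15481) (.leaf
  16496)) (.node 1 (.leaf
  16532) (.node 1 (.leaf
  16517) (.leaf
  17541)))) (.node 2 (.node 1 (.leaf
  17529) (.leaf
  18544)) (.node 1 (.leaf
  18553) (.node 1 (.leaf
  19582) (.leaf
  19568)))))) (.node 10 (.node 5 (.node 2 (.node 1 (.leaf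
  19604) (.leaf
  19589)) (.node 1 (.leaf
  20592) (.node 1 (.leaf
  20613) (.leaf
  21652)))) (.node 2 (.node 1 (.leaf
  21637) (.leaf
  21625)) (.node 1 (.leaf
  22640) (.node 1 (.leaf
  22661) (.leaf
  23664))))) (.node 5 (.node 2 (.node 1 (.leaf
  23700) (.leaf
  23673)) (.node 1 (.leaf
  24709) (.node 1 (.leaf
  24697) (.leaf
  25748)))) (.node 3 (.node 1 (.leaf
  25721) (.node 1 (.leaf
  26750) (.leaf
  26736))) (.node 1 (.leaf
  26772) (.node 1 (.leaf
  26757) (.leaf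
  27769)))))))) (.node 40 (.node 20 (.node 10 (.node 5 (.node 2 (.node 1 (.leaf
  28793) (.leaf
  29808)) (.node 1 (.leaf
  29817) (.node 1 (.leaf
  30832) (.leaf
  30868)))) (.node 2 (.node 1 (.leaf
  30853) (.leaf
  31865)) (.node 1 (.leaf
  32880) (.node 1 (.leaf
  32889) (.leaf
  33918))))) (.node 5 (.node 2 (.node 1 (.leaf
  33904) (.leaf
  33940)) (.node 1 (.leaf
  33925) (.node 1 (.leaf
  34928) (.leaf
  34949)))) (.node 2 (.node 1 (.leaf
  35988) (.leaf
  35973)) (.node 1 (.leaf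
  35961) (.node 1 (.leaf
  36976) (.leaf
  36997)))))) (.node 10 (.node 5 (.node 2 (.node 1 (.leaf
  38000) (.leaf
  38036)) (.node 1 (.leaf
  38009) (.node 1 (.leaf
  39024) (.leaf
  39033)))) (.node 2 (.node 1 (.leaf
  40048) (.leaf
  40084)) (.node 1 (.leaf
  40069) (.node 1 (.leaf
  41081) (.leaf
  42096))))) (.node 5 (.node 2 (.node 1 (.leaf
  42105) (.leaf
  43134)) (.node 1 (.leaf
  43120) (.node 1 (.leaf
  43156) (.leaf
  43141)))) (.node 2 (.node 1 (.leaf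
  44144) (.leaf
  44165)) (.node 1 (.leaf
  45204) (.node 1 (.leaf
  45189) (.leaf
  45177))))))) (.node 20 (.node 10 (.node 5 (.node 2 (.node 1 (.leaf
  46192) (.leaf
  46213)) (.node 1 (.leaf
  47216) (.node 1 (.leaf
  47252) (.leaf
  47225)))) (.node 2 (.node 1 (.leaf
  48240) (.leaf
  48261)) (.node 1 (.leaf
  49264) (.node 1 (.leaf
  49285) (.leaf
  50309))))) (.node 5 (.node 2 (.node 1 (.leaf
  50297) (.leaf
  51326)) (.node 1 (.leaf
  51312) (.node 1 (.leaf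
  51333) (.leaf
  52357)))) (.node 2 (.node 1 (.leaf
  52345) (.leaf
  54384)) (.node 1 (.leaf
  54393) (.node 1 (.leaf
  55444) (.leaf
  55417)))))) (.node 10 (.node 5 (.node 2 (.node 1 (.leaf
  56446) (.leaf
  56432)) (.node 1 (.leaf
  56468) (.node 1 (.leaf
  56453) (.leaf
  57465)))) (.node 2 (.node 1 (.leaf
  58480) (.leaf
  58501)) (.node 1 (.leaf
  59504) (.node 1 (.leaf
  59525) (.leaf
  60564))))) (.node 5 (.node 2 (.node 1 (.leaf
  60549) (.leaf
  60537)) (.node 1 (.leaf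
  61552) (.node 1 (.leaf
  61573) (.leaf
  62612)))) (.node 3 (.node 1 (.leaf
  63621) (.node 1 (.leaf
  63609) (.leaf
  64624))) (.node 1 (.leaf
  64633) (.node 1 (.leaf
  65669) (.leaf
  65657))))))))) (.node 81 (.node 40 (.node 20 (.node 10 (.node 5 (.node 2 (.node 1 (.leaf
  66672) (.leaf
  66708)) (.node 1 (.leaf
  67710) (.node 1 (.leaf
  67696) (.leaf
  67732)))) (.node 2 (.node 1 (.leaf
  67717) (.leaf
  69744)) (.node 1 (.leaf
  69753) (.node 1 (.leaf
  71792) (.leaf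
  71801))))) (.node 5 (.node 2 (.node 1 (.leaf
  72830) (.leaf
  73849)) (.node 1 (.leaf
  74864) (.node 1 (.leaf
  74900) (.leaf
  74885)))) (.node 2 (.node 1 (.leaf
  75897) (.leaf
  76926)) (.node 1 (.leaf
  76912) (.node 1 (.leaf
  76948) (.leaf
  76933)))))) (.node 10 (.node 5 (.node 2 (.node 1 (.leaf
  77936) (.leaf
  77957)) (.node 1 (.leaf
  78996) (.node 1 (.leaf
  78981) (.leaf
  78969)))) (.node 2 (.node 1 (.leaf
  79984) (.leaf
  80005)) (.node 1 (.leaf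
  81044) (.node 1 (.leaf
  81017) (.leaf
  82032))))) (.node 5 (.node 2 (.node 1 (.leaf
  82053) (.leaf
  83056)) (.node 1 (.leaf
  83077) (.node 1 (.leaf
  84089) (.leaf
  85118)))) (.node 2 (.node 1 (.leaf
  85104) (.leaf
  85125)) (.node 1 (.leaf
  86149) (.node 1 (.leaf
  86137) (.leaf
  88176))))))) (.node 20 (.node 10 (.node 5 (.node 2 (.node 1 (.leaf
  88185) (.leaf
  89214)) (.node 1 (.leaf
  89200) (.node 1 (.leaf
  89236) (.leaf
  90233)))) (.node 2 (.node 1 (.leaf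
  91248) (.leaf
  91269)) (.node 1 (.leaf
  92272) (.node 1 (.leaf
  92293) (.leaf
  93332))))) (.node 5 (.node 2 (.node 1 (.leaf
  93317) (.leaf
  93305)) (.node 1 (.leaf
  94320) (.node 1 (.leaf
  94341) (.leaf
  95380)))) (.node 2 (.node 1 (.leaf
  96389) (.leaf
  96377)) (.node 1 (.leaf
  97392) (.node 1 (.leaf
  97401) (.leaf
  98437)))))) (.node 10 (.node 5 (.node 2 (.node 1 (.leaf
  98425) (.leaf
  99440)) (.node 1 (.leaf
  99476) (.node 1 (.leaf
  100478) (.leaf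
  100464)))) (.node 2 (.node 1 (.leaf
  100500) (.leaf
  100485)) (.node 1 (.leaf
  102512) (.node 1 (.leaf
  102521) (.leaf
  104560))))) (.node 5 (.node 2 (.node 1 (.leaf
  104569) (.leaf
  105598)) (.node 1 (.leaf
  106617) (.node 1 (.leaf
  107646) (.leaf
  107632)))) (.node 3 (.node 1 (.leaf
  108665) (.node 1 (.leaf
  110704) (.leaf
  111764))) (.node 1 (.leaf
  112761) (.node 1 (.leaf
  113776) (.leaf
  114821)))))))) (.node 40 (.node 20 (.node 10 (.node 5 (.node 2 (.node 1 (.leaf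
  115860) (.leaf
  115833)) (.node 1 (.leaf
  116848) (.node 1 (.leaf
  116869) (.leaf
  117908)))) (.node 2 (.node 1 (.leaf
  119920) (.leaf
  119929)) (.node 1 (.leaf
  122004) (.node 1 (.leaf
  123006) (.leaf
  122992))))) (.node 5 (.node 2 (.node 1 (.leaf
  123028) (.leaf
  123013)) (.node 1 (.leaf
  125040) (.node 1 (.leaf
  125049) (.leaf
  127088)))) (.node 2 (.node 1 (.leaf
  127097) (.leaf
  129145)) (.node 1 (.leaf
  130160) (.node 1 (.leaf
  131193) (.leaf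
  132208)))))) (.node 10 (.node 5 (.node 2 (.node 1 (.leaf
  133241) (.leaf
  134292)) (.node 1 (.leaf
  134277) (.node 1 (.leaf
  136325) (.leaf
  136313)))) (.node 2 (.node 1 (.leaf
  138352) (.leaf
  139397)) (.node 1 (.leaf
  142457) (.node 1 (.leaf
  143508) (.leaf
  144517))))) (.node 5 (.node 2 (.node 1 (.leaf
  145529) (.leaf
  146565)) (.node 1 (.leaf
  147604) (.node 1 (.leaf
  148613) (.leaf
  149637)))) (.node 2 (.node 1 (.leaf
  149625) (.leaf
  153733)) (.node 1 (.leaf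
  154772) (.node 1 (.leaf
  155774) (.leaf
  155796))))))) (.node 20 (.node 10 (.node 5 (.node 2 (.node 1 (.leaf
  155781) (.leaf
  161913)) (.node 1 (.leaf
  167033) (.node 1 (.leaf
  171120) (.leaf
  172165)))) (.node 2 (.node 1 (.leaf
  173182) (.leaf
  177278)) (.node 1 (.leaf
  178297) (.node 1 (.leaf
  182405) (.leaf
  183417))))) (.node 5 (.node 2 (.node 1 (.leaf
  184453) (.leaf
  185492)) (.node 1 (.leaf
  187513) (.node 1 (.leaf
  189588) (.leaf
  190590)))) (.node 2 (.node 1 (.leaf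
  190576) (.leaf
  190612)) (.node 1 (.leaf
  190597) (.node 1 (.leaf
  192633) (.leaf
  193657)))))) (.node 10 (.node 5 (.node 2 (.node 1 (.leaf
  195705) (.leaf
  197753)) (.node 1 (.leaf
  198768) (.node 1 (.leaf
  199828) (.leaf
  201849)))) (.node 2 (.node 1 (.leaf
  204933) (.leaf
  209017)) (.node 1 (.leaf
  212089) (.node 1 (.leaf
  218238) (.leaf
  218260))))) (.node 5 (.node 2 (.node 1 (.leaf
  218245) (.leaf
  224377)) (.node 1 (.leaf
  229497) (.node 1 (.leaf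
  233584) (.leaf
  235646)))) (.node 3 (.node 1 (.leaf
  241785) (.node 1 (.leaf
  250004) (.leaf
  254073))) (.node 1 (.leaf
  273541) (.node 1 (.leaf
  278649) (.leaf
  280697))))))))))

/-- The order of the codes. -/
def stO3 : Tree :=
  (.node 162 (.node 81 (.node 40 (.node 20 (.node 10 (.node 5 (.node 2 (.node 1 (.leaf
  0) (.leaf
  1)) (.node 1 (.leaf
  112) (.node 1 (.leaf
  178) (.leaf
  156)))) (.node 2 (.node 1 (.leaf
  217) (.leaf
  181)) (.node 1 (.leaf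
  115) (.node 1 (.leaf
  30) (.leaf
  16))))) (.node 5 (.node 2 (.node 1 (.leaf
  229) (.leaf
  153)) (.node 1 (.leaf
  168) (.node 1 (.leaf
  214) (.leaf
  318)))) (.node 2 (.node 1 (.leaf
  321) (.leaf
  312)) (.node 1 (.leaf
  282) (.node 1 (.leaf
  242) (.leaf
  96)))))) (.node 10 (.node 5 (.node 2 (.node 1 (.leaf
  291) (.leaf
  64)) (.node 1 (.leaf
  19) (.node 1 (.leaf
  33) (.leaf
  201)))) (.node 2 (.node 1 (.leaf
  137) (.leaf
  287)) (.node 1 (.leaf
  268) (.node 1 (.leaf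
  15) (.leaf
  29))))) (.node 5 (.node 2 (.node 1 (.leaf
  279) (.leaf
  241)) (.node 1 (.leaf
  225) (.node 1 (.leaf
  164) (.leaf
  167)))) (.node 2 (.node 1 (.leaf
  228) (.leaf
  61)) (.node 1 (.leaf
  93) (.node 1 (.leaf
  58) (.leaf
  90))))))) (.node 20 (.node 10 (.node 5 (.node 2 (.node 1 (.leaf
  2) (.leaf
  6)) (.node 1 (.leaf
  142) (.node 1 (.leaf
  204) (.leaf
  275)))) (.node 2 (.node 1 (.leaf
  245) (.leaf
  255)) (.node 1 (.leaf
  266) (.node 1 (.leaf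
  73) (.leaf
  39))))) (.node 5 (.node 2 (.node 1 (.leaf
  267) (.leaf
  307)) (.node 1 (.leaf
  323) (.node 1 (.leaf
  319) (.leaf
  149)))) (.node 2 (.node 1 (.leaf
  184) (.leaf
  210)) (.node 1 (.leaf
  118) (.node 1 (.leaf
  75) (.leaf
  42)))))) (.node 10 (.node 5 (.node 2 (.node 1 (.leaf
  238) (.leaf
  276)) (.node 1 (.leaf
  146) (.node 1 (.leaf
  207) (.leaf
  264)))) (.node 2 (.node 1 (.leaf
  306) (.leaf
  72)) (.node 1 (.leaf
  38) (.node 1 (.leaf
  251) (.leaf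
  297))))) (.node 5 (.node 2 (.node 1 (.leaf
  300) (.leaf
  254)) (.node 1 (.leaf
  295) (.node 1 (.leaf
  249) (.leaf
  66)))) (.node 3 (.node 1 (.leaf
  98) (.node 1 (.leaf
  122) (.leaf
  65))) (.node 1 (.leaf
  188) (.node 1 (.leaf
  97) (.leaf
  206)))))))) (.node 40 (.node 20 (.node 10 (.node 5 (.node 2 (.node 1 (.leaf
  145) (.leaf
  53)) (.node 1 (.leaf
  86) (.node 1 (.leaf
  36) (.leaf
  22)))) (.node 2 (.node 1 (.leaf
  49) (.leaf
  82)) (.node 1 (.leaf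
  126) (.node 1 (.leaf
  191) (.leaf
  44))))) (.node 5 (.node 2 (.node 1 (.leaf
  77) (.leaf
  31)) (.node 1 (.leaf
  17) (.node 1 (.leaf
  20) (.leaf
  34)))) (.node 2 (.node 1 (.leaf
  23) (.leaf
  37)) (.node 1 (.leaf
  131) (.node 1 (.leaf
  195) (.leaf
  124)))))) (.node 10 (.node 5 (.node 2 (.node 1 (.leaf
  190) (.leaf
  189)) (.node 1 (.leaf
  125) (.node 1 (.leaf
  261) (.leaf
  304)))) (.node 2 (.node 1 (.leaf
  301) (.leaf
  256)) (.node 1 (.leaf
  220) (.node 1 (.leaf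
  159) (.leaf
  120))))) (.node 5 (.node 2 (.node 1 (.leaf
  186) (.leaf
  263)) (.node 1 (.leaf
  240) (.node 1 (.leaf
  68) (.leaf
  119)))) (.node 2 (.node 1 (.leaf
  100) (.leaf
  185)) (.node 1 (.leaf
  104) (.node 1 (.leaf
  139) (.leaf
  78))))))) (.node 20 (.node 10 (.node 5 (.node 2 (.node 1 (.leaf
  45) (.leaf
  128)) (.node 1 (.leaf
  193) (.node 1 (.leaf
  176) (.leaf
  108)))) (.node 2 (.node 1 (.leaf
  286) (.leaf
  316)) (.node 1 (.leaf
  278) (.node 1 (.leaf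
  310) (.leaf
  248))))) (.node 5 (.node 2 (.node 1 (.leaf
  277) (.leaf
  272)) (.node 1 (.leaf
  243) (.node 1 (.leaf
  26) (.leaf
  12)))) (.node 2 (.node 1 (.leaf
  198) (.leaf
  134)) (.node 1 (.leaf
  196) (.node 1 (.leaf
  132) (.leaf
  27)))))) (.node 10 (.node 5 (.node 2 (.node 1 (.leaf
  13) (.leaf
  172)) (.node 1 (.leaf
  233) (.node 1 (.leaf
  169) (.leaf
  230)))) (.node 2 (.node 1 (.leaf
  259) (.leaf
  303)) (.node 1 (.leaf
  70) (.node 1 (.leaf
  103) (.leaf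
  102))))) (.node 5 (.node 2 (.node 1 (.leaf
  71) (.leaf
  234)) (.node 1 (.leaf
  270) (.node 1 (.leaf
  35) (.leaf
  21)))) (.node 3 (.node 1 (.leaf
  76) (.node 1 (.leaf
  43) (.leaf
  40))) (.node 1 (.leaf
  54) (.node 1 (.leaf
  79) (.leaf
  46))))))))) (.node 81 (.node 40 (.node 20 (.node 10 (.node 5 (.node 2 (.node 1 (.leaf
  219) (.leaf
  150)) (.node 1 (.leaf
  158) (.node 1 (.leaf
  211) (.leaf
  9)))) (.node 2 (.node 1 (.leaf
  5) (.leaf
  218)) (.node 1 (.leaf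
  157) (.node 1 (.leaf
  235) (.leaf
  289))))) (.node 5 (.node 2 (.node 1 (.leaf
  14) (.leaf
  28)) (.node 1 (.leaf
  221) (.node 1 (.leaf
  160) (.leaf
  281)))) (.node 2 (.node 1 (.leaf
  311) (.leaf
  313)) (.node 1 (.leaf
  283) (.node 1 (.leaf
  165) (.leaf
  226)))))) (.node 10 (.node 5 (.node 2 (.node 1 (.leaf
  273) (.leaf
  309)) (.node 1 (.leaf
  215) (.node 1 (.leaf
  116) (.leaf
  154)))) (.node 2 (.node 1 (.leaf
  182) (.leaf
  105)) (.node 1 (.leaf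
  173) (.node 1 (.leaf
  265) (.leaf
  260))))) (.node 5 (.node 2 (.node 1 (.leaf
  133) (.leaf
  197)) (.node 1 (.leaf
  143) (.node 1 (.leaf
  205) (.leaf
  74)))) (.node 2 (.node 1 (.leaf
  41) (.leaf
  109)) (.node 1 (.leaf
  140) (.node 1 (.leaf
  95) (.leaf
  202))))))) (.node 20 (.node 10 (.node 5 (.node 2 (.node 1 (.leaf
  63) (.leaf
  138)) (.node 1 (.leaf
  110) (.node 1 (.leaf
  130) (.leaf
  175)))) (.node 2 (.node 1 (.leaf
  107) (.leaf
  84)) (.node 1 (.leaf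
  51) (.node 1 (.leaf
  127) (.leaf
  192))))) (.node 5 (.node 2 (.node 1 (.leaf
  171) (.leaf
  232)) (.node 1 (.leaf
  237) (.node 1 (.leaf
  290) (.leaf
  69)))) (.node 2 (.node 1 (.leaf
  101) (.leaf
  179)) (.node 1 (.leaf
  113) (.node 1 (.leaf
  223) (.leaf
  162)))))) (.node 10 (.node 5 (.node 2 (.node 1 (.leaf
  4) (.leaf
  8)) (.node 1 (.leaf
  247) (.node 1 (.leaf
  99) (.leaf
  294)))) (.node 2 (.node 1 (.leaf
  67) (.leaf
  89)) (.node 1 (.leaf
  57) (.node 1 (.leaf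
  315) (.leaf
  285))))) (.node 5 (.node 2 (.node 1 (.leaf
  227) (.leaf
  166)) (.node 1 (.leaf
  288) (.node 1 (.leaf
  317) (.leaf
  299)))) (.node 3 (.node 1 (.leaf
  253) (.node 1 (.leaf
  91) (.leaf
  59))) (.node 1 (.leaf
  25) (.node 1 (.leaf
  11) (.leaf
  141)))))))) (.node 40 (.node 20 (.node 10 (.node 5 (.node 2 (.node 1 (.leaf
  203) (.leaf
  144)) (.node 1 (.leaf
  123) (.node 1 (.leaf
  111) (.leaf
  177)))) (.node 2 (.node 1 (.leaf
  155) (.leaf
  187)) (.node 1 (.leaf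
  216) (.node 1 (.leaf
  121) (.leaf
  305))))) (.node 5 (.node 2 (.node 1 (.leaf
  262) (.leaf
  280)) (.node 1 (.leaf
  236) (.node 1 (.leaf
  18) (.leaf
  32)))) (.node 2 (.node 1 (.leaf
  271) (.leaf
  239)) (.node 1 (.leaf
  50) (.node 1 (.leaf
  83) (.leaf
  293)))))) (.node 10 (.node 5 (.node 2 (.node 1 (.leaf
  62) (.leaf
  246)) (.node 1 (.leaf
  94) (.node 1 (.leaf
  269) (.leaf
  308)))) (.node 2 (.node 1 (.leaf
  298) (.leaf
  252)) (.node 1 (.leaf
  48) (.node 1 (.leaf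
  81) (.leaf
  170))))) (.node 5 (.node 2 (.node 1 (.leaf
  209) (.leaf
  231)) (.node 1 (.leaf
  148) (.node 1 (.leaf
  3) (.leaf
  7)))) (.node 2 (.node 1 (.leaf
  114) (.leaf
  180)) (.node 1 (.leaf
  224) (.node 1 (.leaf
  163) (.leaf
  222))))))) (.node 20 (.node 10 (.node 5 (.node 2 (.node 1 (.leaf
  161) (.leaf
  314)) (.node 1 (.leaf
  284) (.node 1 (.leaf
  292) (.leaf
  244)))) (.node 2 (.node 1 (.leaf
  258) (.leaf
  302)) (.node 1 (.leaf
  136) (.node 1 (.leaf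
  200) (.leaf
  87))))) (.node 5 (.node 2 (.node 1 (.leaf
  55) (.leaf
  117)) (.node 1 (.leaf
  199) (.node 1 (.leaf
  183) (.leaf
  135)))) (.node 2 (.node 1 (.leaf
  106) (.leaf
  174)) (.node 1 (.leaf
  88) (.node 1 (.leaf
  56) (.leaf
  52)))))) (.node 10 (.node 5 (.node 2 (.node 1 (.leaf
  85) (.leaf
  194)) (.node 1 (.leaf
  129) (.node 1 (.leaf
  322) (.leaf
  320)))) (.node 2 (.node 1 (.leaf
  213) (.leaf
  152)) (.node 1 (.leaf
  47) (.node 1 (.leaf
  80) (.leaf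
  274))))) (.node 5 (.node 2 (.node 1 (.leaf
  151) (.leaf
  257)) (.node 1 (.leaf
  212) (.node 1 (.leaf
  250) (.leaf
  296)))) (.node 3 (.node 1 (.leaf
  24) (.node 1 (.leaf
  10) (.leaf
  92))) (.node 1 (.leaf
  60) (.node 1 (.leaf
  147) (.leaf
  208))))))))))

/-- The ranks. -/
def stR3 : Tree :=
  (.node 162 (.node 81 (.node 40 (.node 20 (.node 10 (.node 5 (.node 2 (.node 1 (.leaf
  0) (.leaf
  1)) (.node 1 (.leaf
  40) (.node 1 (.leaf
  276) (.leaf
  222)))) (.node 2 (.node 1 (.leaf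
  167) (.leaf
  41)) (.node 1 (.leaf
  277) (.node 1 (.leaf
  223) (.leaf
  166))))) (.node 5 (.node 2 (.node 1 (.leaf
  319) (.leaf
  241)) (.node 1 (.leaf
  135) (.node 1 (.leaf
  141) (.leaf
  172)))) (.node 2 (.node 1 (.leaf
  28) (.leaf
  9)) (.node 1 (.leaf
  93) (.node 1 (.leaf
  256) (.leaf
  22)))))) (.node 10 (.node 5 (.node 2 (.node 1 (.leaf
  94) (.leaf
  155)) (.node 1 (.leaf
  85) (.node 1 (.leaf
  96) (.leaf
  318)))) (.node 2 (.node 1 (.leaf
  240) (.leaf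
  134)) (.node 1 (.leaf
  140) (.node 1 (.leaf
  173) (.leaf
  29))))) (.node 5 (.node 2 (.node 1 (.leaf
  8) (.leaf
  92)) (.node 1 (.leaf
  257) (.node 1 (.leaf
  23) (.leaf
  95)))) (.node 2 (.node 1 (.leaf
  154) (.leaf
  84)) (.node 1 (.leaf
  97) (.node 1 (.leaf
  67) (.leaf
  49))))))) (.node 20 (.node 10 (.node 5 (.node 2 (.node 1 (.leaf
  158) (.leaf
  197)) (.node 1 (.leaf
  59) (.node 1 (.leaf
  157) (.leaf
  90)))) (.node 2 (.node 1 (.leaf
  121) (.leaf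
  161)) (.node 1 (.leaf
  310) (.node 1 (.leaf
  270) (.leaf
  86))))) (.node 5 (.node 2 (.node 1 (.leaf
  260) (.leaf
  209)) (.node 1 (.leaf
  302) (.node 1 (.leaf
  82) (.leaf
  159)))) (.node 2 (.node 1 (.leaf
  293) (.leaf
  301)) (.node 1 (.leaf
  229) (.node 1 (.leaf
  38) (.leaf
  239)))))) (.node 10 (.node 5 (.node 2 (.node 1 (.leaf
  321) (.leaf
  36)) (.node 1 (.leaf
  263) (.node 1 (.leaf
  202) (.leaf
  21)))) (.node 2 (.node 1 (.leaf
  77) (.leaf
  74)) (.node 1 (.leaf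
  227) (.node 1 (.leaf
  114) (.leaf
  216))))) (.node 5 (.node 2 (.node 1 (.leaf
  148) (.leaf
  151)) (.node 1 (.leaf
  66) (.node 1 (.leaf
  48) (.leaf
  196)))) (.node 3 (.node 1 (.leaf
  58) (.node 1 (.leaf
  156) (.leaf
  91))) (.node 1 (.leaf
  120) (.node 1 (.leaf
  160) (.leaf
  311)))))))) (.node 40 (.node 20 (.node 10 (.node 5 (.node 2 (.node 1 (.leaf
  271) (.leaf
  87)) (.node 1 (.leaf
  261) (.node 1 (.leaf
  208) (.leaf
  303)))) (.node 2 (.node 1 (.leaf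
  83) (.leaf
  292)) (.node 1 (.leaf
  300) (.node 1 (.leaf
  228) (.leaf
  39))))) (.node 5 (.node 2 (.node 1 (.leaf
  238) (.leaf
  320)) (.node 1 (.leaf
  37) (.node 1 (.leaf
  265) (.leaf
  200)))) (.node 2 (.node 1 (.leaf
  19) (.leaf
  79)) (.node 1 (.leaf
  75) (.node 1 (.leaf
  225) (.leaf
  116)))))) (.node 10 (.node 5 (.node 2 (.node 1 (.leaf
  217) (.leaf
  150)) (.node 1 (.leaf
  149) (.node 1 (.leaf
  118) (.leaf
  188)))) (.node 2 (.node 1 (.leaf
  298) (.leaf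
  207)) (.node 1 (.leaf
  125) (.node 1 (.leaf
  198) (.leaf
  204))))) (.node 5 (.node 2 (.node 1 (.leaf
  246) (.leaf
  2)) (.node 1 (.leaf
  219) (.node 1 (.leaf
  278) (.leaf
  7)))) (.node 2 (.node 1 (.leaf
  185) (.leaf
  294)) (.node 1 (.leaf
  57) (.node 1 (.leaf
  115) (.leaf
  110))))))) (.node 20 (.node 10 (.node 5 (.node 2 (.node 1 (.leaf
  251) (.leaf
  76)) (.node 1 (.leaf
  245) (.node 1 (.leaf
  100) (.leaf
  103)))) (.node 2 (.node 1 (.leaf
  88) (.leaf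
  210)) (.node 1 (.leaf
  122) (.node 1 (.leaf
  305) (.leaf
  205))))) (.node 5 (.node 2 (.node 1 (.leaf
  98) (.leaf
  139)) (.node 1 (.leaf
  192) (.node 1 (.leaf
  137) (.leaf
  297)))) (.node 2 (.node 1 (.leaf
  290) (.leaf
  25)) (.node 1 (.leaf
  203) (.node 1 (.leaf
  119) (.leaf
  199)))))) (.node 10 (.node 5 (.node 2 (.node 1 (.leaf
  242) (.leaf
  42)) (.node 1 (.leaf
  194) (.node 1 (.leaf
  244) (.leaf
  81)))) (.node 2 (.node 1 (.leaf
  62) (.leaf
  322)) (.node 1 (.leaf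
  275) (.node 1 (.leaf
  54) (.leaf
  163))))) (.node 5 (.node 2 (.node 1 (.leaf
  313) (.leaf
  309)) (.node 1 (.leaf
  11) (.node 1 (.leaf
  186) (.leaf
  248)))) (.node 3 (.node 1 (.leaf
  4) (.node 1 (.leaf
  169) (.leaf
  164))) (.node 1 (.leaf
  109) (.node 1 (.leaf
  175) (.leaf
  283))))))))) (.node 81 (.node 40 (.node 20 (.node 10 (.node 5 (.node 2 (.node 1 (.leaf
  221) (.leaf
  281)) (.node 1 (.leaf
  33) (.node 1 (.leaf
  180) (.leaf
  233)))) (.node 2 (.node 1 (.leaf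
  34) (.leaf
  12)) (.node 1 (.leaf
  144) (.node 1 (.leaf
  272) (.leaf
  212))))) (.node 5 (.node 2 (.node 1 (.leaf
  142) (.leaf
  189)) (.node 1 (.leaf
  299) (.node 1 (.leaf
  206) (.leaf
  124)))) (.node 2 (.node 1 (.leaf
  247) (.leaf
  3)) (.node 1 (.leaf
  218) (.node 1 (.leaf
  279) (.leaf
  6)))))) (.node 10 (.node 5 (.node 2 (.node 1 (.leaf
  187) (.leaf
  296)) (.node 1 (.leaf
  55) (.node 1 (.leaf
  117) (.leaf
  111)))) (.node 2 (.node 1 (.leaf
  249) (.leaf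
  78)) (.node 1 (.leaf
  102) (.node 1 (.leaf
  101) (.leaf
  89))))) (.node 5 (.node 2 (.node 1 (.leaf
  211) (.leaf
  123)) (.node 1 (.leaf
  304) (.node 1 (.leaf
  99) (.leaf
  138)))) (.node 2 (.node 1 (.leaf
  193) (.leaf
  136)) (.node 1 (.leaf
  295) (.node 1 (.leaf
  291) (.leaf
  24))))))) (.node 20 (.node 10 (.node 5 (.node 2 (.node 1 (.leaf
  201) (.leaf
  243)) (.node 1 (.leaf
  43) (.node 1 (.leaf
  195) (.leaf
  80)))) (.node 2 (.node 1 (.leaf
  63) (.leaf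
  323)) (.node 1 (.leaf
  273) (.node 1 (.leaf
  56) (.leaf
  165))))) (.node 5 (.node 2 (.node 1 (.leaf
  315) (.leaf
  308)) (.node 1 (.leaf
  13) (.node 1 (.leaf
  184) (.leaf
  250)))) (.node 2 (.node 1 (.leaf
  5) (.leaf
  168)) (.node 1 (.leaf
  162) (.node 1 (.leaf
  108) (.leaf
  174)))))) (.node 10 (.node 5 (.node 2 (.node 1 (.leaf
  282) (.leaf
  220)) (.node 1 (.leaf
  280) (.node 1 (.leaf
  32) (.leaf
  181)))) (.node 2 (.node 1 (.leaf
  232) (.leaf
  35)) (.node 1 (.leaf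
  10) (.node 1 (.leaf
  145) (.leaf
  274))))) (.node 5 (.node 2 (.node 1 (.leaf
  213) (.leaf
  143)) (.node 1 (.leaf
  152) (.node 1 (.leaf
  170) (.leaf
  255)))) (.node 3 (.node 1 (.leaf
  214) (.node 1 (.leaf
  60) (.leaf
  259))) (.node 1 (.leaf
  113) (.node 1 (.leaf
  31) (.leaf
  18)))))))) (.node 40 (.node 20 (.node 10 (.node 5 (.node 2 (.node 1 (.leaf
  133) (.leaf
  287)) (.node 1 (.leaf
  45) (.node 1 (.leaf
  264) (.leaf
  224)))) (.node 2 (.node 1 (.leaf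
  130) (.leaf
  73)) (.node 1 (.leaf
  316) (.node 1 (.leaf
  68) (.leaf
  269))))) (.node 5 (.node 2 (.node 1 (.leaf
  237) (.leaf
  71)) (.node 1 (.leaf
  46) (.node 1 (.leaf
  107) (.leaf
  314)))) (.node 2 (.node 1 (.leaf
  288) (.leaf
  146)) (.node 1 (.leaf
  191) (.node 1 (.leaf
  104) (.leaf
  253)))))) (.node 10 (.node 5 (.node 2 (.node 1 (.leaf
  112) (.leaf
  64)) (.node 1 (.leaf
  190) (.node 1 (.leaf
  47) (.leaf
  50)))) (.node 2 (.node 1 (.leaf
  27) (.leaf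
  266)) (.node 1 (.leaf
  153) (.node 1 (.leaf
  258) (.leaf
  132))))) (.node 5 (.node 2 (.node 1 (.leaf
  182) (.leaf
  312)) (.node 1 (.leaf
  44) (.node 1 (.leaf
  61) (.leaf
  131)))) (.node 2 (.node 1 (.leaf
  128) (.leaf
  30)) (.node 1 (.leaf
  254) (.node 1 (.leaf
  176) (.leaf
  17))))))) (.node 20 (.node 10 (.node 5 (.node 2 (.node 1 (.leaf
  179) (.leaf
  285)) (.node 1 (.leaf
  231) (.node 1 (.leaf
  126) (.leaf
  26)))) (.node 2 (.node 1 (.leaf
  234) (.leaf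
  171)) (.node 1 (.leaf
  215) (.node 1 (.leaf
  20) (.leaf
  286))))) (.node 5 (.node 2 (.node 1 (.leaf
  262) (.leaf
  226)) (.node 1 (.leaf
  72) (.node 1 (.leaf
  317) (.leaf
  69)))) (.node 2 (.node 1 (.leaf
  268) (.leaf
  236)) (.node 1 (.leaf
  70) (.node 1 (.leaf
  106) (.leaf
  289)))))) (.node 10 (.node 5 (.node 2 (.node 1 (.leaf
  147) (.leaf
  105)) (.node 1 (.leaf
  252) (.node 1 (.leaf
  65) (.leaf
  51)))) (.node 2 (.node 1 (.leaf
  267) (.leaf
  183)) (.node 1 (.leaf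
  129) (.node 1 (.leaf
  177) (.leaf
  16))))) (.node 5 (.node 2 (.node 1 (.leaf
  178) (.leaf
  284)) (.node 1 (.leaf
  230) (.node 1 (.leaf
  127) (.leaf
  235)))) (.node 3 (.node 1 (.leaf
  14) (.node 1 (.leaf
  53) (.leaf
  307))) (.node 1 (.leaf
  15) (.node 1 (.leaf
  306) (.leaf
  52))))))))))

/-- A stabiliser: codes. -/
def stT4 : Tree :=
  (.node 18 (.node 9 (.node 4 (.node 2 (.node 1 (.leaf
  0) (.leaf
  1890)) (.node 1 (.leaf
  2800350) (.leaf
  876960))) (.node 2 (.node 1 (.leaf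
  439110) (.leaf
  2800980)) (.node 1 (.leaf
  878850) (.node 1 (.leaf
  439740) (.leaf
  1122660))))) (.node 4 (.node 2 (.node 1 (.leaf
  1508220) (.leaf
  2395260)) (.node 1 (.leaf
  2142000) (.leaf
  2009070))) (.node 2 (.node 1 (.leaf
  2533860) (.leaf
  1315440)) (.node 1 (.leaf
  1122030) (.node 1 (.leaf
  1507590) (.leaf
  2394630)))))) (.node 9 (.node 4 (.node 2 (.node 1 (.leaf
  2143890) (.leaf
  2009700)) (.node 1 (.leaf
  2533230) (.leaf
  1317330))) (.node 2 (.node 1 (.leaf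
  636930) (.leaf
  1159200)) (.node 1 (.leaf
  2620170) (.node 1 (.leaf
  747180) (.leaf
  1682100))))) (.node 4 (.node 2 (.node 1 (.leaf
  635040) (.leaf
  1161090)) (.node 1 (.leaf
  2618280) (.leaf
  746550))) (.node 2 (.node 1 (.leaf
  1681470) (.leaf
  1814400)) (.node 1 (.leaf
  166950) (.node 1 (.leaf
  1816290) (.leaf
  167580)))))))

/-- How each member arises. -/
def stP4 : Tree :=
  (.node 18 (.node 9 (.node 4 (.node 2 (.node 1 (.leaf
  0) (.leaf
  192)) (.node 1 (.leaf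
  198) (.leaf
  204))) (.node 2 (.node 1 (.leaf
  211) (.leaf
  1222)) (.node 1 (.leaf
  1228) (.node 1 (.leaf
  1235) (.leaf
  2252))))) (.node 4 (.node 2 (.node 1 (.leaf
  2259) (.leaf
  3270)) (.node 1 (.leaf
  3276) (.leaf
  3283))) (.node 2 (.node 1 (.leaf
  4294) (.leaf
  4300)) (.node 1 (.leaf
  5324) (.node 1 (.leaf
  5331) (.leaf
  6342)))))) (.node 9 (.node 4 (.node 2 (.node 1 (.leaf
  6348) (.leaf
  6355)) (.node 1 (.leaf
  7366) (.leaf
  7372))) (.node 2 (.node 1 (.leaf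
  8403) (.leaf
  9414)) (.node 1 (.leaf
  9420) (.node 1 (.leaf
  12486) (.leaf
  14534))))) (.node 4 (.node 2 (.node 1 (.leaf
  15571) (.leaf
  16582)) (.node 1 (.leaf
  16588) (.leaf
  19654))) (.node 2 (.node 1 (.leaf
  21702) (.leaf
  22726)) (.node 1 (.leaf
  24774) (.node 1 (.leaf
  27846) (.leaf
  29894)))))))

/-- The order of the codes. -/
def stO4 : Tree :=
  (.node 18 (.node 9 (.node 4 (.node 2 (.node 1 (.leaf
  0) (.leaf
  1)) (.node 1 (.leaf
  33) (.leaf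
  35))) (.node 2 (.node 1 (.leaf
  4) (.leaf
  7)) (.node 1 (.leaf
  27) (.node 1 (.leaf
  22) (.leaf
  30))))) (.node 4 (.node 2 (.node 1 (.leaf
  25) (.leaf
  3)) (.node 1 (.leaf
  6) (.leaf
  15))) (.node 2 (.node 1 (.leaf
  8) (.leaf
  23)) (.node 1 (.leaf
  28) (.node 1 (.leaf
  14) (.leaf
  21)))))) (.node 9 (.node 4 (.node 2 (.node 1 (.leaf
  16) (.leaf
  9)) (.node 1 (.leaf
  31) (.leaf
  26))) (.node 2 (.node 1 (.leaf
  32) (.leaf
  34)) (.node 1 (.leaf
  12) (.node 1 (.leaf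
  19) (.leaf
  11))))) (.node 4 (.node 2 (.node 1 (.leaf
  18) (.leaf
  17)) (.node 1 (.leaf
  10) (.leaf
  20))) (.node 2 (.node 1 (.leaf
  13) (.leaf
  29)) (.node 1 (.leaf
  24) (.node 1 (.leaf
  2) (.leaf
  5)))))))

/-- The ranks. -/
def stR4 : Tree :=
  (.node 18 (.node 9 (.node 4 (.node 2 (.node 1 (.leaf
  0) (.leaf
  1)) (.node 1 (.leaf
  34) (.leaf
  10))) (.node 2 (.node 1 (.leaf
  4) (.leaf
  35)) (.node 1 (.leaf
  11) (.node 1 (.leaf
  5) (.leaf
  13))))) (.node 4 (.node 2 (.node 1 (.leaf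
  19) (.leaf
  29)) (.node 1 (.leaf
  26) (.leaf
  24))) (.node 2 (.node 1 (.leaf
  31) (.leaf
  16)) (.node 1 (.leaf
  12) (.node 1 (.leaf
  18) (.leaf
  28)))))) (.node 9 (.node 4 (.node 2 (.node 1 (.leaf
  27) (.leaf
  25)) (.node 1 (.leaf
  30) (.leaf
  17))) (.node 2 (.node 1 (.leaf
  7) (.leaf
  14)) (.node 1 (.leaf
  33) (.node 1 (.leaf
  9) (.leaf
  21))))) (.node 4 (.node 2 (.node 1 (.leaf
  6) (.leaf
  15)) (.node 1 (.leaf
  32) (.leaf
  8))) (.node 2 (.node 1 (.leaf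
  20) (.leaf
  22)) (.node 1 (.leaf
  2) (.node 1 (.leaf
  23) (.leaf
  3)))))))

/-- A stabiliser: codes. -/
def stT5 : Tree :=
  (.node 30 (.node 15 (.node 7 (.node 3 (.node 1 (.leaf
  0) (.node 1 (.leaf
  1275120) (.leaf
  1721148))) (.node 2 (.node 1 (.leaf
  2002128) (.leaf
  1852464)) (.node 1 (.leaf
  1632762) (.leaf
  832494)))) (.node 4 (.node 2 (.node 1 (.leaf
  2075022) (.leaf
  2097146)) (.node 1 (.leaf
  1415009) (.leaf
  322436))) (.node 2 (.node 1 (.leaf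
  797609) (.leaf
  2712730)) (.node 1 (.leaf
  885655) (.leaf
  1498713))))) (.node 7 (.node 3 (.node 1 (.leaf
  1090480) (.node 1 (.leaf
  1799785) (.leaf
  2894793))) (.node 2 (.node 1 (.leaf
  570049) (.leaf
  217859)) (.node 1 (.leaf
  582066) (.leaf
  46014)))) (.node 4 (.node 2 (.node 1 (.leaf
  2383189) (.leaf
  2202359)) (.node 1 (.leaf
  2393946) (.leaf
  1229784))) (.node 2 (.node 1 (.leaf
  2854967) (.leaf
  1774782)) (.node 1 (.leaf
  34190) (.leaf
  1458887)))))) (.node 15 (.node 7 (.node 3 (.node 1 (.leaf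
  860022) (.node 1 (.leaf
  1268360) (.leaf
  189704))) (.node 2 (.node 1 (.leaf
  1439559) (.leaf
  1263253)) (.node 1 (.leaf
  162126) (.leaf
  2228384)))) (.node 4 (.node 2 (.node 1 (.leaf
  781209) (.leaf
  39793)) (.node 1 (.leaf
  2256876) (.leaf
  2830738))) (.node 2 (.node 1 (.leaf
  992771) (.leaf
  2001338)) (.node 1 (.leaf
  1485688) (.leaf
  2614391))))) (.node 7 (.node 3 (.node 1 (.leaf
  1720358) (.node 1 (.leaf
  2128704) (.leaf
  573753))) (.node 2 (.node 1 (.leaf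
  1164069) (.leaf
  873998)) (.node 1 (.leaf
  292254) (.leaf
  2381223)))) (.node 4 (.node 2 (.node 1 (.leaf
  139059) (.leaf
  1813328)) (.node 1 (.leaf
  63941) (.leaf
  802159))) (.node 2 (.node 1 (.leaf
  1218101) (.leaf
  1418929)) (.node 1 (.leaf
  1000157) (.leaf
  2600987)))))))

/-- How each member arises. -/
def stP5 : Tree :=
  (.node 30 (.node 15 (.node 7 (.node 3 (.node 1 (.leaf
  0) (.node 1 (.leaf
  222) (.leaf
  230))) (.node 2 (.node 1 (.leaf
  1254) (.leaf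
  2270)) (.node 1 (.leaf
  2278) (.leaf
  3294)))) (.node 4 (.node 2 (.node 1 (.leaf
  3302) (.leaf
  4326)) (.node 1 (.leaf
  5342) (.leaf
  6374))) (.node 2 (.node 1 (.leaf
  7390) (.leaf
  8414)) (.node 1 (.leaf
  8422) (.leaf
  9446))))) (.node 7 (.node 3 (.node 1 (.leaf
  10462) (.node 1 (.leaf
  10470) (.leaf
  11494))) (.node 2 (.node 1 (.leaf
  12518) (.leaf
  13534)) (.node 1 (.leaf
  14558) (.leaf
  14566)))) (.node 4 (.node 2 (.node 1 (.leaf
  15590) (.leaf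
  16606)) (.node 1 (.leaf
  17630) (.leaf
  17638))) (.node 2 (.node 1 (.leaf
  18662) (.leaf
  19686)) (.node 1 (.leaf
  20710) (.leaf
  22758)))))) (.node 15 (.node 7 (.node 3 (.node 1 (.leaf
  23782) (.node 1 (.leaf
  24806) (.leaf
  26846))) (.node 2 (.node 1 (.leaf
  27870) (.leaf
  27878)) (.node 1 (.leaf
  28902) (.leaf
  29918)))) (.node 4 (.node 2 (.node 1 (.leaf
  30942) (.leaf
  30950)) (.node 1 (.leaf
  31974) (.leaf
  32998))) (.node 2 (.node 1 (.leaf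
  34022) (.leaf
  36062)) (.node 1 (.leaf
  37094) (.leaf
  38118))))) (.node 7 (.node 3 (.node 1 (.leaf
  40158) (.node 1 (.leaf
  41182) (.leaf
  41190))) (.node 2 (.node 1 (.leaf
  42214) (.leaf
  43238)) (.node 1 (.leaf
  44254) (.leaf
  44262)))) (.node 4 (.node 2 (.node 1 (.leaf
  45286) (.leaf
  46310)) (.node 1 (.leaf
  49374) (.leaf
  50398))) (.node 2 (.node 1 (.leaf
  53470) (.leaf
  54494)) (.node 1 (.leaf
  55526) (.leaf
  57574)))))))

/-- The order of the codes. -/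
def stO5 : Tree :=
  (.node 30 (.node 15 (.node 7 (.node 3 (.node 1 (.leaf
  0) (.node 1 (.leaf
  28) (.leaf
  38))) (.node 2 (.node 1 (.leaf
  21) (.leaf
  54)) (.node 1 (.leaf
  52) (.leaf
  35)))) (.node 4 (.node 2 (.node 1 (.leaf
  32) (.leaf
  19)) (.node 1 (.leaf
  50) (.leaf
  10))) (.node 2 (.node 1 (.leaf
  18) (.leaf
  47)) (.node 1 (.leaf
  20) (.leaf
  37))))) (.node 7 (.node 3 (.node 1 (.leaf
  11) (.node 1 (.leaf
  55) (.leaf
  6))) (.node 2 (.node 1 (.leaf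
  30) (.leaf
  49)) (.node 1 (.leaf
  13) (.leaf
  41)))) (.node 4 (.node 2 (.node 1 (.leaf
  58) (.leaf
  15)) (.node 1 (.leaf
  48) (.leaf
  56))) (.node 2 (.node 1 (.leaf
  25) (.leaf
  34)) (.node 1 (.leaf
  31) (.leaf
  1)))))) (.node 15 (.node 7 (.node 3 (.node 1 (.leaf
  9) (.node 1 (.leaf
  57) (.leaf
  33))) (.node 2 (.node 1 (.leaf
  29) (.leaf
  43)) (.node 1 (.leaf
  14) (.leaf
  5)))) (.node 4 (.node 2 (.node 1 (.leaf
  45) (.leaf
  2)) (.node 1 (.leaf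
  27) (.leaf
  16))) (.node 2 (.node 1 (.leaf
  53) (.leaf
  4)) (.node 1 (.leaf
  42) (.leaf
  3))))) (.node 7 (.node 3 (.node 1 (.leaf
  7) (.node 1 (.leaf
  8) (.leaf
  46))) (.node 2 (.node 1 (.leaf
  23) (.leaf
  36)) (.node 1 (.leaf
  39) (.leaf
  51)))) (.node 4 (.node 2 (.node 1 (.leaf
  22) (.leaf
  24)) (.node 1 (.leaf
  59) (.leaf
  44))) (.node 2 (.node 1 (.leaf
  12) (.leaf
  40)) (.node 1 (.leaf
  26) (.leaf
  17)))))))

/-- The ranks. -/
def stR5 : Tree :=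
  (.node 30 (.node 15 (.node 7 (.node 3 (.node 1 (.leaf
  0) (.node 1 (.leaf
  29) (.leaf
  38))) (.node 2 (.node 1 (.leaf
  44) (.leaf
  42)) (.node 1 (.leaf
  36) (.leaf
  17)))) (.node 4 (.node 2 (.node 1 (.leaf
  45) (.leaf
  46)) (.node 1 (.leaf
  30) (.leaf
  10))) (.node 2 (.node 1 (.leaf
  15) (.leaf
  56)) (.node 1 (.leaf
  20) (.leaf
  35))))) (.node 7 (.node 3 (.node 1 (.leaf
  23) (.node 1 (.leaf
  40) (.leaf
  59))) (.node 2 (.node 1 (.leaf
  11) (.leaf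
  8)) (.node 1 (.leaf
  13) (.leaf
  3)))) (.node 4 (.node 2 (.node 1 (.leaf
  52) (.leaf
  48)) (.node 1 (.leaf
  53) (.leaf
  26))) (.node 2 (.node 1 (.leaf
  58) (.leaf
  39)) (.node 1 (.leaf
  1) (.leaf
  33)))))) (.node 15 (.node 7 (.node 3 (.node 1 (.leaf
  18) (.node 1 (.leaf
  28) (.leaf
  7))) (.node 2 (.node 1 (.leaf
  32) (.leaf
  27)) (.node 1 (.leaf
  6) (.leaf
  49)))) (.node 4 (.node 2 (.node 1 (.leaf
  14) (.leaf
  2)) (.node 1 (.leaf
  50) (.leaf
  57))) (.node 2 (.node 1 (.leaf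
  21) (.leaf
  43)) (.node 1 (.leaf
  34) (.leaf
  55))))) (.node 7 (.node 3 (.node 1 (.leaf
  37) (.node 1 (.leaf
  47) (.leaf
  12))) (.node 2 (.node 1 (.leaf
  24) (.leaf
  19)) (.node 1 (.leaf
  9) (.leaf
  51)))) (.node 4 (.node 2 (.node 1 (.leaf
  5) (.leaf
  41)) (.node 1 (.leaf
  4) (.leaf
  16))) (.node 2 (.node 1 (.leaf
  25) (.leaf
  31)) (.node 1 (.leaf
  22) (.leaf
  54)))))))

/-- A stabiliser: codes. -/
def stT6 : Tree :=
  (.node 756 (.node 378 (.node 189 (.node 94 (.node 47 (.node 23 (.node 11 (.node 5 (.node 2 (.node 1 (.leaf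
  0) (.leaf
  1271970)) (.node 1 (.leaf
  2821140) (.node 1 (.leaf
  1002579) (.leaf
  1496250)))) (.node 3 (.node 1 (.leaf
  2614749) (.node 1 (.leaf
  2564100) (.leaf
  926979))) (.node 1 (.leaf
  212357) (.node 1 (.leaf
  2689114) (.leaf
  969196))))) (.node 6 (.node 3 (.node 1 (.leaf
  432180) (.node 1 (.leaf
  1882059) (.leaf
  2196227))) (.node 1 (.leaf
  1076944) (.node 1 (.leaf
  2582626) (.leaf
  1350969)))) (.node 3 (.node 1 (.leaf
  1644347) (.node 1 (.leaf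
  1448014) (.leaf
  892336))) (.node 1 (.leaf
  1532292) (.node 1 (.leaf
  45457) (.leaf
  695569)))))) (.node 12 (.node 6 (.node 3 (.node 1 (.leaf
  53414) (.node 1 (.leaf
  1236157) (.leaf
  2470703))) (.node 1 (.leaf
  702699) (.node 1 (.leaf
  1966907) (.leaf
  766354)))) (.node 3 (.node 1 (.leaf
  1873246) (.node 1 (.leaf
  2859702) (.leaf
  1357069))) (.node 1 (.leaf
  1243484) (.node 1 (.leaf
  340043) (.leaf
  2388377))))) (.node 6 (.node 3 (.node 1 (.leaf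
  830614) (.node 1 (.leaf
  1344676) (.leaf
  388212))) (.node 1 (.leaf
  2775877) (.node 1 (.leaf
  1876189) (.leaf
  2768084)))) (.node 3 (.node 1 (.leaf
  2529547) (.node 1 (.leaf
  1182353) (.leaf
  1140065))) (.node 1 (.leaf
  2042213) (.node 1 (.leaf
  2217474) (.leaf
  1062434))))))) (.node 23 (.node 11 (.node 5 (.node 2 (.node 1 (.leaf
  119887) (.leaf
  1381322)) (.node 1 (.leaf
  2829982) (.node 1 (.leaf
  1499140) (.leaf
  232974)))) (.node 3 (.node 1 (.leaf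
  2675864) (.node 1 (.leaf
  1140338) (.leaf
  840220))) (.node 1 (.leaf
  567677) (.node 1 (.leaf
  1805224) (.leaf
  715306))))) (.node 6 (.node 3 (.node 1 (.leaf
  2441382) (.node 1 (.leaf
  1460437) (.leaf
  920479))) (.node 1 (.leaf
  1463354) (.node 1 (.leaf
  467557) (.leaf
  113873)))) (.node 3 (.node 1 (.leaf
  151595) (.node 1 (.leaf
  1719653) (.leaf
  1188997))) (.node 1 (.leaf
  753212) (.node 1 (.leaf
  1565572) (.leaf
  2813320)))))) (.node 12 (.node 6 (.node 3 (.node 1 (.leaf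
  153128) (.node 1 (.leaf
  1795930) (.leaf
  123612))) (.node 1 (.leaf
  2619589) (.node 1 (.leaf
  2530574) (.leaf
  1603823)))) (.node 3 (.node 1 (.leaf
  2432195) (.node 1 (.leaf
  501863) (.leaf
  2407734))) (.node 1 (.leaf
  824294) (.node 1 (.leaf
  2862907) (.leaf
  2706212))))) (.node 6 (.node 3 (.node 1 (.leaf
  153112) (.node 1 (.leaf
  424990) (.leaf
  1624014))) (.node 1 (.leaf
  1412714) (.node 1 (.leaf
  2433728) (.leaf
  1088440)))) (.node 3 (.node 1 (.leaf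
  2263218) (.node 1 (.leaf
  318027) (.leaf
  2677859))) (.node 1 (.leaf
  527262) (.node 1 (.leaf
  620122) (.leaf
  2474542)))))))) (.node 47 (.node 23 (.node 11 (.node 5 (.node 2 (.node 1 (.leaf
  499766) (.leaf
  2303490)) (.node 1 (.leaf
  1564780) (.node 1 (.leaf
  116598) (.leaf
  733082)))) (.node 3 (.node 1 (.leaf
  279050) (.node 1 (.leaf
  1329468) (.leaf
  2858663))) (.node 1 (.leaf
  2477178) (.node 1 (.leaf
  2350102) (.leaf
  341992))))) (.node 6 (.node 3 (.node 1 (.leaf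
  2310386) (.node 1 (.leaf
  2288549) (.leaf
  1813356))) (.node 1 (.leaf
  721867) (.node 1 (.leaf
  1153032) (.leaf
  1007419)))) (.node 3 (.node 1 (.leaf
  479924) (.node 1 (.leaf
  2869493) (.leaf
  381545))) (.node 1 (.leaf
  2311853) (.node 1 (.leaf
  587664) (.leaf
  1779374)))))) (.node 12 (.node 6 (.node 3 (.node 1 (.leaf
  1609207) (.node 1 (.leaf
  1092782) (.leaf
  1140322))) (.node 1 (.leaf
  2565730) (.node 1 (.leaf
  1946574) (.leaf
  802244)))) (.node 3 (.node 1 (.leaf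
  381818) (.node 1 (.leaf
  2700610) (.leaf
  525048))) (.node 1 (.leaf
  2130537) (.node 1 (.leaf
  1065689) (.leaf
  2267322))))) (.node 6 (.node 3 (.node 1 (.leaf
  484680) (.node 1 (.leaf
  2827930) (.leaf
  1185078))) (.node 1 (.leaf
  1401512) (.node 1 (.leaf
  2172200) (.leaf
  649068)))) (.node 3 (.node 1 (.leaf
  1533773) (.node 1 (.leaf
  335178) (.leaf
  560459))) (.node 1 (.leaf
  833706) (.node 1 (.leaf
  1332337) (.leaf
  2832245))))))) (.node 24 (.node 12 (.node 6 (.node 3 (.node 1 (.leaf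
  289553) (.node 1 (.leaf
  2476087) (.leaf
  1830512))) (.node 1 (.leaf
  381802) (.node 1 (.leaf
  9190) (.leaf
  2829998)))) (.node 3 (.node 1 (.leaf
  776590) (.node 1 (.leaf
  2154228) (.leaf
  1710957))) (.node 1 (.leaf
  1421009) (.node 1 (.leaf
  2089032) (.leaf
  2004862))))) (.node 6 (.node 3 (.node 1 (.leaf
  1181152) (.node 1 (.leaf
  2045786) (.leaf
  2113860))) (.node 1 (.leaf
  379120) (.node 1 (.leaf
  2866548) (.leaf
  1850072)))) (.node 3 (.node 1 (.leaf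
  1750100) (.node 1 (.leaf
  2647428) (.leaf
  125093))) (.node 1 (.leaf
  1185048) (.node 1 (.leaf
  2218432) (.leaf
  1606402)))))) (.node 12 (.node 6 (.node 3 (.node 1 (.leaf
  2096816) (.node 1 (.leaf
  2157509) (.leaf
  774486))) (.node 1 (.leaf
  1860277) (.node 1 (.leaf
  2397856) (.leaf
  1239734)))) (.node 3 (.node 1 (.leaf
  2456508) (.node 1 (.leaf
  2567516) (.leaf
  2056490))) (.node 1 (.leaf
  2514170) (.node 1 (.leaf
  1479665) (.leaf
  1248897))))) (.node 6 (.node 3 (.node 1 (.leaf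
  1410456) (.node 1 (.leaf
  725173) (.leaf
  1892875))) (.node 1 (.leaf
  1971328) (.node 1 (.leaf
  2086263) (.leaf
  389693)))) (.node 3 (.node 1 (.leaf
  2203514) (.node 1 (.leaf
  388467) (.leaf
  575303))) (.node 1 (.leaf
  2584722) (.node 1 (.leaf
  603291) (.leaf
  2645452))))))))) (.node 94 (.node 47 (.node 23 (.node 11 (.node 5 (.node 2 (.node 1 (.leaf
  988825) (.leaf
  2231828)) (.node 1 (.leaf
  585227) (.node 1 (.leaf
  2444342) (.leaf
  1723226)))) (.node 3 (.node 1 (.leaf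
  2855925) (.node 1 (.leaf
  1485917) (.leaf
  2243534))) (.node 1 (.leaf
  1334383) (.node 1 (.leaf
  913225) (.leaf
  1648768))))) (.node 6 (.node 3 (.node 1 (.leaf
  1763703) (.node 1 (.leaf
  2440343) (.leaf
  225944))) (.node 1 (.leaf
  75396) (.node 1 (.leaf
  1051990) (.leaf
  2161687)))) (.node 3 (.node 1 (.leaf
  1501350) (.node 1 (.leaf
  434294) (.leaf
  229970))) (.node 1 (.leaf
  1566575) (.node 1 (.leaf
  2099543) (.leaf
  333457)))))) (.node 12 (.node 6 (.node 3 (.node 1 (.leaf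
  855272) (.node 1 (.leaf
  2433712) (.leaf
  1278640))) (.node 1 (.leaf
  1565588) (.node 1 (.leaf
  1438090) (.leaf
  256038)))) (.node 3 (.node 1 (.leaf
  2033517) (.node 1 (.leaf
  801089) (.leaf
  1766472))) (.node 1 (.leaf
  1682302) (.node 1 (.leaf
  113302) (.leaf
  296310))))) (.node 6 (.node 3 (.node 1 (.leaf
  2431660) (.node 1 (.leaf
  1611588) (.leaf
  874832))) (.node 1 (.leaf
  2072660) (.node 1 (.leaf
  1035258) (.leaf
  1151993)))) (.node 3 (.node 1 (.leaf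
  116568) (.node 1 (.leaf
  169042) (.leaf
  2870812))) (.node 1 (.leaf
  290606) (.node 1 (.leaf
  270029) (.leaf
  1444176))))))) (.node 23 (.node 11 (.node 5 (.node 2 (.node 1 (.leaf
  905197) (.leaf
  578416)) (.node 1 (.leaf
  48404) (.node 1 (.leaf
  395148) (.leaf
  424256)))) (.node 3 (.node 1 (.leaf
  1733930) (.node 1 (.leaf
  463520) (.leaf
  2754785))) (.node 1 (.leaf
  59457) (.node 1 (.leaf
  730056) (.leaf
  2441637))))) (.node 6 (.node 3 (.node 1 (.leaf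
  2395373) (.node 1 (.leaf
  972552) (.leaf
  2413911))) (.node 1 (.leaf
  1032022) (.node 1 (.leaf
  2600995) (.leaf
  178028)))) (.node 3 (.node 1 (.leaf
  2405927) (.node 1 (.leaf
  393062) (.leaf
  1540485))) (.node 1 (.leaf
  2751587) (.node 1 (.leaf
  185324) (.leaf
  1224516)))))) (.node 12 (.node 6 (.node 3 (.node 1 (.leaf
  2664160) (.node 1 (.leaf
  267907) (.leaf
  2816790))) (.node 1 (.leaf
  2576294) (.node 1 (.leaf
  2198090) (.leaf
  2089968)))) (.node 3 (.node 1 (.leaf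
  2322057) (.node 1 (.leaf
  818099) (.leaf
  2157072))) (.node 1 (.leaf
  2049600) (.node 1 (.leaf
  155470) (.leaf
  2477208))))) (.node 6 (.node 3 (.node 1 (.leaf
  2724512) (.node 1 (.leaf
  2283080) (.leaf
  1929858))) (.node 1 (.leaf
  1611558) (.node 1 (.leaf
  2064899) (.leaf
  1070586)))) (.node 3 (.node 1 (.leaf
  2595487) (.node 1 (.leaf
  2185546) (.leaf
  2526824))) (.node 1 (.leaf
  1168158) (.node 1 (.leaf
  1279166) (.leaf
  557090)))))))) (.node 47 (.node 23 (.node 11 (.node 5 (.node 2 (.node 1 (.leaf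
  1222040) (.leaf
  447095)) (.node 1 (.leaf
  2537247) (.node 1 (.leaf
  2728416) (.leaf
  1863583)))) (.node 3 (.node 1 (.leaf
  695245) (.node 1 (.leaf
  572728) (.leaf
  540243))) (.node 1 (.leaf
  2416454) (.node 1 (.leaf
  1532547) (.leaf
  1958153))))) (.node 6 (.node 3 (.node 1 (.leaf
  1341732) (.node 1 (.leaf
  1942041) (.leaf
  1322452))) (.node 1 (.leaf
  2342078) (.node 1 (.leaf
  1949807) (.leaf
  1150952)))) (.node 3 (.node 1 (.leaf
  128025) (.node 1 (.leaf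
  462167) (.leaf
  2375834))) (.node 1 (.leaf
  2591233) (.node 1 (.leaf
  217408) (.leaf
  250443)))))) (.node 12 (.node 6 (.node 3 (.node 1 (.leaf
  1615724) (.node 1 (.leaf
  2747856) (.leaf
  815740))) (.node 1 (.leaf
  2291467) (.node 1 (.leaf
  427830) (.leaf
  1509074)))) (.node 3 (.node 1 (.leaf
  1620380) (.node 1 (.leaf
  2579391) (.leaf
  521781))) (.node 1 (.leaf
  1090581) (.node 1 (.leaf
  50774) (.leaf
  1416112))))) (.node 6 (.node 3 (.node 1 (.leaf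
  177641) (.node 1 (.leaf
  290349) (.leaf
  389905))) (.node 1 (.leaf
  1343889) (.node 1 (.leaf
  299615) (.leaf
  856073)))) (.node 3 (.node 1 (.leaf
  2686969) (.node 1 (.leaf
  728433) (.leaf
  1319566))) (.node 1 (.leaf
  346800) (.node 1 (.leaf
  841899) (.leaf
  685622))))))) (.node 24 (.node 12 (.node 6 (.node 3 (.node 1 (.leaf
  2099885) (.node 1 (.leaf
  1404128) (.leaf
  673058))) (.node 1 (.leaf
  44091) (.node 1 (.leaf
  659177) (.leaf
  386325)))) (.node 3 (.node 1 (.leaf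
  2161851) (.node 1 (.leaf
  636280) (.leaf
  1712949))) (.node 1 (.leaf
  2260456) (.node 1 (.leaf
  801469) (.leaf
  1971016))))) (.node 6 (.node 3 (.node 1 (.leaf
  996529) (.node 1 (.leaf
  2203099) (.leaf
  2182006))) (.node 1 (.leaf
  1196040) (.node 1 (.leaf
  1718735) (.leaf
  1853948)))) (.node 3 (.node 1 (.leaf
  2453663) (.node 1 (.leaf
  717942) (.leaf
  2713325))) (.node 1 (.leaf
  1015772) (.node 1 (.leaf
  125305) (.leaf
  564171)))))) (.node 12 (.node 6 (.node 3 (.node 1 (.leaf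
  597014) (.node 1 (.leaf
  722001) (.leaf
  1972178))) (.node 1 (.leaf
  1018016) (.node 1 (.leaf
  2489430) (.leaf
  1802649)))) (.node 3 (.node 1 (.leaf
  1367282) (.node 1 (.leaf
  288635) (.leaf
  734438))) (.node 1 (.leaf
  1303688) (.node 1 (.leaf
  1234791) (.leaf
  1319417))))) (.node 6 (.node 3 (.node 1 (.leaf
  2111495) (.node 1 (.leaf
  2447055) (.leaf
  268071))) (.node 1 (.leaf
  659326) (.node 1 (.leaf
  2375080) (.leaf
  367495)))) (.node 3 (.node 1 (.leaf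
  1228835) (.node 1 (.leaf
  223504) (.leaf
  2207374))) (.node 1 (.leaf
  2011700) (.node 1 (.leaf
  2832022) (.leaf
  1747567)))))))))) (.node 189 (.node 94 (.node 47 (.node 23 (.node 11 (.node 5 (.node 2 (.node 1 (.leaf
  1689641) (.leaf
  236587)) (.node 1 (.leaf
  1767408) (.node 1 (.leaf
  512697) (.leaf
  1776959)))) (.node 3 (.node 1 (.leaf
  252582) (.node 1 (.leaf
  1727040) (.leaf
  1143310))) (.node 1 (.leaf
  335208) (.node 1 (.leaf
  1112342) (.leaf
  554360))))) (.node 6 (.node 3 (.node 1 (.leaf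
  948318) (.node 1 (.leaf
  2866518) (.leaf
  1742339))) (.node 1 (.leaf
  2682756) (.node 1 (.leaf
  982057) (.leaf
  202306)))) (.node 3 (.node 1 (.leaf
  464204) (.node 1 (.leaf
  139998) (.leaf
  8456))) (.node 1 (.leaf
  2297780) (.node 1 (.leaf
  72290) (.leaf
  2509715)))))) (.node 12 (.node 6 (.node 3 (.node 1 (.leaf
  475887) (.node 1 (.leaf
  1116246) (.leaf
  904093))) (.node 1 (.leaf
  1364935) (.node 1 (.leaf
  2382718) (.leaf
  2270223)))) (.node 3 (.node 1 (.leaf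
  2859957) (.node 1 (.leaf
  1635593) (.leaf
  712362))) (.node 1 (.leaf
  1619481) (.node 1 (.leaf
  650242) (.leaf
  613988))))) (.node 6 (.node 3 (.node 1 (.leaf
  1627247) (.node 1 (.leaf
  122162) (.leaf
  1154925))) (.node 1 (.leaf
  2512817) (.node 1 (.leaf
  637034) (.leaf
  977803)))) (.node 3 (.node 1 (.leaf
  2190568) (.node 1 (.leaf
  2137293) (.leaf
  1938284))) (.node 1 (.leaf
  1483446) (.node 1 (.leaf
  1790980) (.leaf
  564007))))))) (.node 23 (.node 11 (.node 5 (.node 2 (.node 1 (.leaf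
  2569200) (.leaf
  2803094)) (.node 1 (.leaf
  1942940) (.node 1 (.leaf
  436761) (.leaf
  2332401)))) (.node 3 (.node 1 (.leaf
  2702751) (.node 1 (.leaf
  1240214) (.leaf
  805642))) (.node 1 (.leaf
  2231441) (.node 1 (.leaf
  2097819) (.leaf
  2440555))))) (.node 6 (.node 3 (.node 1 (.leaf
  713259) (.node 1 (.leaf
  1831313) (.leaf
  1073539))) (.node 1 (.leaf
  1408833) (.node 1 (.leaf
  2035509) (.leaf
  533626)))) (.node 3 (.node 1 (.leaf
  1413199) (.node 1 (.leaf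
  1648456) (.leaf
  2608699))) (.node 1 (.leaf
  226789) (.node 1 (.leaf
  206956) (.leaf
  85980)))))) (.node 12 (.node 6 (.node 3 (.node 1 (.leaf
  2041295) (.node 1 (.leaf
  874298) (.leaf
  401123))) (.node 1 (.leaf
  1336602) (.node 1 (.leaf
  1101155) (.leaf
  2629202)))) (.node 3 (.node 1 (.leaf
  1152205) (.node 1 (.leaf
  2291631) (.leaf
  1331211))) (.node 1 (.leaf
  1649618) (.node 1 (.leaf
  2630186) (.leaf
  2427595))))) (.node 6 (.node 3 (.node 1 (.leaf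
  80345) (.node 1 (.leaf
  1689140) (.leaf
  1566352))) (.node 1 (.leaf
  2070127) (.node 1 (.leaf
  2012201) (.leaf
  2214787)))) (.node 3 (.node 1 (.leaf
  1955596) (.node 1 (.leaf
  2774414) (.leaf
  1548048))) (.node 1 (.leaf
  1497146) (.node 1 (.leaf
  263510) (.leaf
  1484750)))))))) (.node 47 (.node 23 (.node 11 (.node 5 (.node 2 (.node 1 (.leaf
  66575) (.leaf
  2764047)) (.node 1 (.leaf
  1849566) (.node 1 (.leaf
  1153287) (.leaf
  2184323)))) (.node 3 (.node 1 (.leaf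
  895062) (.node 1 (.leaf
  2200971) (.leaf
  957052))) (.node 1 (.leaf
  1690028) (.node 1 (.leaf
  2214407) (.leaf
  1536512))))) (.node 6 (.node 3 (.node 1 (.leaf
  70937) (.node 1 (.leaf
  1655744) (.leaf
  2511606))) (.node 1 (.leaf
  1423690) (.node 1 (.leaf
  1738957) (.leaf
  5730)))) (.node 3 (.node 1 (.leaf
  1287944) (.node 1 (.leaf
  2409770) (.leaf
  1287261))) (.node 1 (.leaf
  2023071) (.node 1 (.leaf
  852441) (.leaf
  2769854)))))) (.node 12 (.node 6 (.node 3 (.node 1 (.leaf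
  2671702) (.node 1 (.leaf
  1722969) (.leaf
  1533985))) (.node 1 (.leaf
  2580579) (.node 1 (.leaf
  1730975) (.leaf
  1092323)))) (.node 3 (.node 1 (.leaf
  1449649) (.node 1 (.leaf
  1847943) (.leaf
  2656426))) (.node 1 (.leaf
  1581600) (.node 1 (.leaf
  1079409) (.leaf
  1885772))))) (.node 6 (.node 3 (.node 1 (.leaf
  2310935) (.node 1 (.leaf
  2723348) (.leaf
  1914158))) (.node 1 (.leaf
  2778921) (.node 1 (.leaf
  1917917) (.leaf
  1980070)))) (.node 3 (.node 1 (.leaf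
  321279) (.node 1 (.leaf
  2151466) (.leaf
  1779859))) (.node 1 (.leaf
  572416) (.node 1 (.leaf
  911479) (.leaf
  2416039))))))) (.node 24 (.node 12 (.node 6 (.node 3 (.node 1 (.leaf
  2393056) (.node 1 (.leaf
  1161533) (.leaf
  1855092))) (.node 1 (.leaf
  1374575) (.node 1 (.leaf
  930722) (.leaf
  2858875)))) (.node 3 (.node 1 (.leaf
  2061681) (.node 1 (.leaf
  1861671) (.leaf
  573578))) (.node 1 (.leaf
  931706) (.node 1 (.leaf
  784569) (.leaf
  2608382))))) (.node 6 (.node 3 (.node 1 (.leaf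
  2621018) (.node 1 (.leaf
  2521881) (.leaf
  2656277))) (.node 1 (.leaf
  2301125) (.node 1 (.leaf
  1739121) (.leaf
  1918066)))) (.node 3 (.node 1 (.leaf
  2245300) (.node 1 (.leaf
  1561345) (.leaf
  2517185))) (.node 1 (.leaf
  1613284) (.node 1 (.leaf
  2419054) (.leaf
  613100)))))) (.node 12 (.node 6 (.node 3 (.node 1 (.leaf
  151372) (.node 1 (.leaf
  275887) (.leaf
  1627627))) (.node 1 (.leaf
  1977400) (.node 1 (.leaf
  1018111) (.leaf
  184217)))) (.node 3 (.node 1 (.leaf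
  729684) (.node 1 (.leaf
  936705) (.leaf
  1219273))) (.node 1 (.leaf
  1733582) (.node 1 (.leaf
  706557) (.leaf
  1384053))))) (.node 6 (.node 3 (.node 1 (.leaf
  2728722) (.node 1 (.leaf
  1344146) (.leaf
  1487610))) (.node 1 (.leaf
  2862662) (.node 1 (.leaf
  975699) (.leaf
  2152466)))) (.node 3 (.node 1 (.leaf
  1342651) (.node 1 (.leaf
  2161731) (.leaf
  334081))) (.node 1 (.leaf
  1425687) (.node 1 (.leaf
  552652) (.leaf
  935014))))))))) (.node 94 (.node 47 (.node 23 (.node 11 (.node 5 (.node 2 (.node 1 (.leaf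
  2781943) (.leaf
  440641)) (.node 1 (.leaf
  2468100) (.node 1 (.leaf
  517804) (.leaf
  2337874)))) (.node 3 (.node 1 (.leaf
  2715500) (.node 1 (.leaf
  581875) (.leaf
  501110))) (.node 1 (.leaf
  2786850) (.node 1 (.leaf
  399193) (.leaf
  811430))))) (.node 6 (.node 3 (.node 1 (.leaf
  2593101) (.node 1 (.leaf
  2136036) (.leaf
  2247998))) (.node 1 (.leaf
  1597105) (.node 1 (.leaf
  2881675) (.leaf
  406747)))) (.node 3 (.node 1 (.leaf
  1367678) (.node 1 (.leaf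
  2804454) (.leaf
  943865))) (.node 1 (.leaf
  229360) (.node 1 (.leaf
  1347897) (.leaf
  2353005)))))) (.node 12 (.node 6 (.node 3 (.node 1 (.leaf
  485372) (.node 1 (.leaf
  2730956) (.leaf
  2399353))) (.node 1 (.leaf
  1284841) (.node 1 (.leaf
  865190) (.leaf
  2178925)))) (.node 3 (.node 1 (.leaf
  2098160) (.node 1 (.leaf
  743680) (.leaf
  1394470))) (.node 1 (.leaf
  1585736) (.node 1 (.leaf
  2835662) (.leaf
  1648418))))) (.node 6 (.node 3 (.node 1 (.leaf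
  2090726) (.node 1 (.leaf
  1216325) (.leaf
  707319))) (.node 1 (.leaf
  507486) (.node 1 (.leaf
  1044256) (.leaf
  1657510)))) (.node 3 (.node 1 (.leaf
  630788) (.node 1 (.leaf
  295742) (.leaf
  1792464))) (.node 1 (.leaf
  1150284) (.node 1 (.leaf
  2571931) (.leaf
  327360))))))) (.node 23 (.node 11 (.node 5 (.node 2 (.node 1 (.leaf
  1103330) (.leaf
  2389975)) (.node 1 (.leaf
  2309210) (.node 1 (.leaf
  1531890) (.leaf
  710761)))) (.node 3 (.node 1 (.leaf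
  2449843) (.node 1 (.leaf
  1784780) (.leaf
  267951))) (.node 1 (.leaf
  980931) (.node 1 (.leaf
  312816) (.leaf
  1910254))))) (.node 6 (.node 3 (.node 1 (.leaf
  1455793) (.node 1 (.leaf
  201128) (.leaf
  420176))) (.node 1 (.leaf
  1339054) (.node 1 (.leaf
  1247424) (.leaf
  660091)))) (.node 3 (.node 1 (.leaf
  2787417) (.node 1 (.leaf
  1320331) (.leaf
  1524267))) (.node 1 (.leaf
  240343) (.node 1 (.leaf
  1986043) (.leaf
  2659264)))))) (.node 12 (.node 6 (.node 3 (.node 1 (.leaf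
  2437953) (.node 1 (.leaf
  2806335) (.leaf
  969210))) (.node 1 (.leaf
  1633036) (.node 1 (.leaf
  1457714) (.leaf
  2844588)))) (.node 3 (.node 1 (.leaf
  2813846) (.node 1 (.leaf
  2166740) (.leaf
  2750420))) (.node 1 (.leaf
  1467507) (.node 1 (.leaf
  868026) (.leaf
  123867))))) (.node 6 (.node 3 (.node 1 (.leaf
  204863) (.node 1 (.leaf
  1870302) (.leaf
  229071))) (.node 1 (.leaf
  1932292) (.node 1 (.leaf
  2012588) (.leaf
  236207)))) (.node 3 (.node 1 (.leaf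
  1220687) (.node 1 (.leaf
  1978304) (.leaf
  459066))) (.node 1 (.leaf
  791800) (.node 1 (.leaf
  2061517) (.leaf
  1277070)))))))) (.node 47 (.node 23 (.node 11 (.node 5 (.node 2 (.node 1 (.leaf
  17864) (.leaf
  599780)) (.node 1 (.leaf
  16551) (.node 1 (.leaf
  1700511) (.leaf
  1832091)))) (.node 3 (.node 1 (.leaf
  1465124) (.node 1 (.leaf
  1059532) (.leaf
  2045529))) (.node 1 (.leaf
  968409) (.node 1 (.leaf
  2053535) (.leaf
  2704493))))) (.node 6 (.node 3 (.node 1 (.leaf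
  769249) (.node 1 (.leaf
  868923) (.leaf
  2897040))) (.node 1 (.leaf
  2691579) (.node 1 (.leaf
  911162) (.leaf
  502205)))) (.node 3 (.node 1 (.leaf
  1111178) (.node 1 (.leaf
  934508) (.leaf
  1452771))) (.node 1 (.leaf
  959057) (.node 1 (.leaf
  2128749) (.leaf
  258946)))))) (.node 12 (.node 6 (.node 3 (.node 1 (.leaf
  824779) (.node 1 (.leaf
  2383666) (.leaf
  1886089))) (.node 1 (.leaf
  596599) (.node 1 (.leaf
  584326) (.leaf
  133373)))) (.node 3 (.node 1 (.leaf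
  901902) (.node 1 (.leaf
  764105) (.leaf
  1906592))) (.node 1 (.leaf
  906591) (.node 1 (.leaf
  2382308) (.leaf
  1906316))))) (.node 6 (.node 3 (.node 1 (.leaf
  1434099) (.node 1 (.leaf
  996212) (.leaf
  1008848))) (.node 1 (.leaf
  469971) (.node 1 (.leaf
  1044107) (.leaf
  493655)))) (.node 3 (.node 1 (.leaf
  959206) (.node 1 (.leaf
  184570) (.leaf
  2836465))) (.node 1 (.leaf
  453935) (.node 1 (.leaf
  1935844) (.leaf
  597724))))))) (.node 24 (.node 12 (.node 6 (.node 3 (.node 1 (.leaf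
  2342450) (.node 1 (.leaf
  1139842) (.leaf
  2173447))) (.node 1 (.leaf
  1950187) (.node 1 (.leaf
  1654840) (.leaf
  2631541)))) (.node 3 (.node 1 (.leaf
  2244947) (.node 1 (.leaf
  1410084) (.leaf
  1911945))) (.node 1 (.leaf
  68893) (.node 1 (.leaf
  2056142) (.leaf
  754683))))) (.node 6 (.node 3 (.node 1 (.leaf
  1115292) (.node 1 (.leaf
  713516) (.leaf
  2743830))) (.node 1 (.leaf
  2589129) (.node 1 (.leaf
  255536) (.leaf
  2475451)))) (.node 3 (.node 1 (.leaf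
  796317) (.node 1 (.leaf
  2281372) (.leaf
  2550007))) (.node 1 (.leaf
  686018) (.node 1 (.leaf
  1507914) (.leaf
  1904615)))))) (.node 12 (.node 6 (.node 3 (.node 1 (.leaf
  2197480) (.node 1 (.leaf
  624915) (.leaf
  2305442))) (.node 1 (.leaf
  1118786) (.node 1 (.leaf
  591883) (.leaf
  14131)))) (.node 3 (.node 1 (.leaf
  1820270) (.node 1 (.leaf
  211435) (.leaf
  291950))) (.node 1 (.leaf
  2890466) (.node 1 (.leaf
  1560542) (.leaf
  1970978))))) (.node 6 (.node 3 (.node 1 (.leaf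
  1768166) (.node 1 (.leaf
  1346139) (.leaf
  2326296))) (.node 1 (.leaf
  2360138) (.node 1 (.leaf
  2112032) (.leaf
  811554)))) (.node 3 (.node 1 (.leaf
  122754) (.node 1 (.leaf
  2550836) (.leaf
  719134))) (.node 1 (.leaf
  57984) (.node 1 (.leaf
  2209093) (.leaf
  1663483))))))))))) (.node 378 (.node 189 (.node 94 (.node 47 (.node 23 (.node 11 (.node 5 (.node 2 (.node 1 (.leaf
  1045834) (.leaf
  376593)) (.node 1 (.leaf
  1511055) (.node 1 (.leaf
  2582640) (.leaf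
  1510911)))) (.node 3 (.node 1 (.leaf
  2119461) (.node 1 (.leaf
  1385421) (.leaf
  2533604))) (.node 1 (.leaf
  1784032) (.node 1 (.leaf
  2342951) (.leaf
  2310129))))) (.node 6 (.node 3 (.node 1 (.leaf
  1873719) (.node 1 (.leaf
  751493) (.leaf
  827839))) (.node 1 (.leaf
  2726793) (.node 1 (.leaf
  511539) (.leaf
  2093506)))) (.node 3 (.node 1 (.leaf
  2675089) (.node 1 (.leaf
  217096) (.leaf
  1367599))) (.node 1 (.leaf
  1616569) (.node 1 (.leaf
  1639576) (.leaf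
  1546463)))))) (.node 12 (.node 6 (.node 3 (.node 1 (.leaf
  2599752) (.node 1 (.leaf
  862385) (.leaf
  1305572))) (.node 1 (.leaf
  218258) (.node 1 (.leaf
  1307816) (.leaf
  1134205)))) (.node 3 (.node 1 (.leaf
  2742725) (.node 1 (.leaf
  177140) (.leaf
  381322))) (.node 1 (.leaf
  546787) (.node 1 (.leaf
  613601) (.leaf
  2406307))))) (.node 6 (.node 3 (.node 1 (.leaf
  639280) (.node 1 (.leaf
  944401) (.leaf
  1657157))) (.node 1 (.leaf
  1849194) (.node 1 (.leaf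
  1011675) (.leaf
  2506363)))) (.node 3 (.node 1 (.leaf
  302222) (.node 1 (.leaf
  1865757) (.leaf
  2702643))) (.node 1 (.leaf
  1410762) (.node 1 (.leaf
  2580836) (.leaf
  455040))))))) (.node 23 (.node 11 (.node 5 (.node 2 (.node 1 (.leaf
  890649) (.leaf
  2265236)) (.node 1 (.leaf
  2583121) (.node 1 (.leaf
  2291511) (.leaf
  1608571)))) (.node 3 (.node 1 (.leaf
  2663637) (.node 1 (.leaf
  2073472) (.leaf
  1012504))) (.node 1 (.leaf
  41443) (.node 1 (.leaf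
  1502191) (.leaf
  1174710))))) (.node 6 (.node 3 (.node 1 (.leaf
  2017204) (.node 1 (.leaf
  2126194) (.leaf
  1372970))) (.node 1 (.leaf
  1964095) (.node 1 (.leaf
  2044610) (.leaf
  35640)))) (.node 3 (.node 1 (.leaf
  1543903) (.node 1 (.leaf
  1057760) (.leaf
  332065))) (.node 1 (.leaf
  102745) (.node 1 (.leaf
  1519957) (.leaf
  2608778)))))) (.node 12 (.node 6 (.node 3 (.node 1 (.leaf
  19224) (.node 1 (.leaf
  1018835) (.leaf
  1621030))) (.node 1 (.leaf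
  2589627) (.node 1 (.leaf
  2222595) (.leaf
  2050292)))) (.node 3 (.node 1 (.leaf
  1406696) (.node 1 (.leaf
  1842400) (.leaf
  2732590))) (.node 1 (.leaf
  362276) (.node 1 (.leaf
  146192) (.leaf
  217058))))) (.node 6 (.node 3 (.node 1 (.leaf
  525806) (.node 1 (.leaf
  1866519) (.leaf
  2026416))) (.node 1 (.leaf
  1993478) (.node 1 (.leaf
  1727732) (.leaf
  795804)))) (.node 3 (.node 1 (.leaf
  2442414) (.node 1 (.leaf
  1601850) (.leaf
  416790))) (.node 1 (.leaf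
  1871221) (.node 1 (.leaf
  1162753) (.leaf
  786860)))))))) (.node 47 (.node 23 (.node 11 (.node 5 (.node 2 (.node 1 (.leaf
  1739001) (.leaf
  1703856)) (.node 1 (.leaf
  671674) (.node 1 (.leaf
  473623) (.leaf
  1670918)))) (.node 3 (.node 1 (.leaf
  1522676) (.node 1 (.leaf
  2595904) (.leaf
  2535774))) (.node 1 (.leaf
  1918831) (.node 1 (.leaf
  34317) (.leaf
  2657191))))) (.node 6 (.node 3 (.node 1 (.leaf
  419247) (.node 1 (.leaf
  1632013) (.leaf
  628393))) (.node 1 (.leaf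
  1316104) (.node 1 (.leaf
  1144563) (.leaf
  16695)))) (.node 3 (.node 1 (.leaf
  892350) (.node 1 (.leaf
  968666) (.leaf
  2451098))) (.node 1 (.leaf
  1642812) (.node 1 (.leaf
  1139566) (.leaf
  997352)))))) (.node 12 (.node 6 (.node 3 (.node 1 (.leaf
  2665085) (.node 1 (.leaf
  532637) (.leaf
  1001461))) (.node 1 (.leaf
  1365627) (.node 1 (.leaf
  2385024) (.leaf
  1301044)))) (.node 3 (.node 1 (.leaf
  2411653) (.node 1 (.leaf
  551019) (.leaf
  2354189))) (.node 1 (.leaf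
  617279) (.node 1 (.leaf
  2359365) (.leaf
  666501))))) (.node 6 (.node 3 (.node 1 (.leaf
  1294051) (.node 1 (.leaf
  1858826) (.leaf
  666752))) (.node 1 (.leaf
  882017) (.node 1 (.leaf
  1749375) (.leaf
  912633)))) (.node 3 (.node 1 (.leaf
  2350046) (.node 1 (.leaf
  1308016) (.leaf
  1130860))) (.node 1 (.leaf
  991662) (.node 1 (.leaf
  2601663) (.leaf
  2347613))))))) (.node 24 (.node 12 (.node 6 (.node 3 (.node 1 (.leaf
  1683977) (.node 1 (.leaf
  2002725) (.leaf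
  402818))) (.node 1 (.leaf
  701936) (.node 1 (.leaf
  2260287) (.leaf
  2043020)))) (.node 3 (.node 1 (.leaf
  748945) (.node 1 (.leaf
  2243039) (.leaf
  803107))) (.node 1 (.leaf
  1062643) (.node 1 (.leaf
  1412317) (.leaf
  2676073))))) (.node 6 (.node 3 (.node 1 (.leaf
  2277104) (.node 1 (.leaf
  1941043) (.leaf
  828941))) (.node 1 (.leaf
  1119674) (.node 1 (.leaf
  1657318) (.leaf
  90746)))) (.node 3 (.node 1 (.leaf
  1979069) (.node 1 (.leaf
  2113443) (.leaf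
  318595))) (.node 1 (.leaf
  1687471) (.node 1 (.leaf
  1806859) (.leaf
  772625)))))) (.node 12 (.node 6 (.node 3 (.node 1 (.leaf
  657687) (.node 1 (.leaf
  1368906) (.leaf
  1393577))) (.node 1 (.leaf
  688506) (.node 1 (.leaf
  744047) (.leaf
  2220617)))) (.node 3 (.node 1 (.leaf
  2179326) (.node 1 (.leaf
  2123454) (.leaf
  1321483))) (.node 1 (.leaf
  2708875) (.node 1 (.leaf
  1750912) (.leaf
  895838))))) (.node 6 (.node 3 (.node 1 (.leaf
  2191418) (.node 1 (.leaf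
  1253477) (.leaf
  2609522))) (.node 1 (.leaf
  456704) (.node 1 (.leaf
  2019878) (.leaf
  287840)))) (.node 3 (.node 1 (.leaf
  2076764) (.node 1 (.leaf
  1792977) (.leaf
  226813))) (.node 1 (.leaf
  769091) (.node 1 (.leaf
  1393724) (.leaf
  636088))))))))) (.node 94 (.node 47 (.node 23 (.node 11 (.node 5 (.node 2 (.node 1 (.leaf
  2389116) (.leaf
  1465543)) (.node 1 (.leaf
  581016) (.node 1 (.leaf
  2771533) (.leaf
  1265400)))) (.node 3 (.node 1 (.leaf
  2032825) (.node 1 (.leaf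
  2183575) (.leaf
  894069))) (.node 1 (.leaf
  1365603) (.node 1 (.leaf
  1227420) (.leaf
  2282355))))) (.node 6 (.node 3 (.node 1 (.leaf
  926216) (.node 1 (.leaf
  834995) (.leaf
  2624674))) (.node 1 (.leaf
  1231513) (.node 1 (.leaf
  2848633) (.leaf
  961977)))) (.node 3 (.node 1 (.leaf
  685939) (.node 1 (.leaf
  1513037) (.leaf
  78033))) (.node 1 (.leaf
  768498) (.node 1 (.leaf
  1491164) (.leaf
  2020764)))))) (.node 12 (.node 6 (.node 3 (.node 1 (.leaf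
  1720460) (.node 1 (.leaf
  1389025) (.leaf
  186089))) (.node 1 (.leaf
  538304) (.node 1 (.leaf
  1618483) (.leaf
  1807961)))) (.node 3 (.node 1 (.leaf
  2731844) (.node 1 (.leaf
  1979878) (.leaf
  1199546))) (.node 1 (.leaf
  1656509) (.node 1 (.leaf
  297153) (.leaf
  620066))))) (.node 6 (.node 3 (.node 1 (.leaf
  2129845) (.node 1 (.leaf
  667936) (.leaf
  2010031))) (.node 1 (.leaf
  141760) (.node 1 (.leaf
  1351466) (.leaf
  1442315)))) (.node 3 (.node 1 (.leaf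
  531567) (.node 1 (.leaf
  1316667) (.leaf
  2460726))) (.node 1 (.leaf
  2202258) (.node 1 (.leaf
  405691) (.leaf
  2431041))))))) (.node 23 (.node 11 (.node 5 (.node 2 (.node 1 (.leaf
  156111) (.leaf
  2514396)) (.node 1 (.leaf
  2863261) (.node 1 (.leaf
  198244) (.leaf
  1609561)))) (.node 3 (.node 1 (.leaf
  2252674) (.node 1 (.leaf
  2334248) (.leaf
  634834))) (.node 1 (.leaf
  732839) (.node 1 (.leaf
  2551726) (.leaf
  1264030))))) (.node 6 (.node 3 (.node 1 (.leaf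
  133430) (.node 1 (.leaf
  1968594) (.leaf
  2555233))) (.node 1 (.leaf
  2806191) (.node 1 (.leaf
  308841) (.leaf
  754791)))) (.node 3 (.node 1 (.leaf
  483584) (.node 1 (.leaf
  823282) (.leaf
  499509))) (.node 1 (.leaf
  1383383) (.node 1 (.leaf
  1114623) (.leaf
  2319009)))))) (.node 12 (.node 6 (.node 3 (.node 1 (.leaf
  1770946) (.node 1 (.leaf
  1062919) (.leaf
  2190256))) (.node 1 (.leaf
  1939129) (.node 1 (.leaf
  1962136) (.leaf
  2852453)))) (.node 3 (.node 1 (.leaf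
  987582) (.node 1 (.leaf
  1823135) (.leaf
  666476))) (.node 1 (.leaf
  148255) (.node 1 (.leaf
  1489025) (.leaf
  2230940))))) (.node 6 (.node 3 (.node 1 (.leaf
  2431972) (.node 1 (.leaf
  2284327) (.leaf
  585607))) (.node 1 (.leaf
  2377450) (.node 1 (.leaf
  1903891) (.leaf
  1979717)))) (.node 3 (.node 1 (.leaf
  867654) (.node 1 (.leaf
  2623845) (.leaf
  445633))) (.node 1 (.leaf
  2107802) (.node 1 (.leaf
  891147) (.leaf
  1089213)))))))) (.node 47 (.node 23 (.node 11 (.node 5 (.node 2 (.node 1 (.leaf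
  730362) (.leaf
  2515770)) (.node 1 (.leaf
  970951) (.node 1 (.leaf
  564051) (.leaf
  2864791)))) (.node 3 (.node 1 (.leaf
  1050207) (.node 1 (.leaf
  2809441) (.leaf
  108120))) (.node 1 (.leaf
  1694644) (.node 1 (.leaf
  304864) (.leaf
  761240))))) (.node 6 (.node 3 (.node 1 (.leaf
  1641535) (.node 1 (.leaf
  1722050) (.leaf
  2671190))) (.node 1 (.leaf
  2462095) (.node 1 (.leaf
  1169965) (.leaf
  2795077)))) (.node 3 (.node 1 (.leaf
  996608) (.node 1 (.leaf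
  1289304) (.leaf
  2631005))) (.node 1 (.leaf
  1943590) (.node 1 (.leaf
  977457) (.leaf
  166905)))))) (.node 12 (.node 6 (.node 3 (.node 1 (.leaf
  727556) (.node 1 (.leaf
  882910) (.leaf
  1119160))) (.node 1 (.leaf
  2492936) (.node 1 (.leaf
  1135922) (.leaf
  2190218)))) (.node 3 (.node 1 (.leaf
  1425174) (.node 1 (.leaf
  391134) (.leaf
  2876970))) (.node 1 (.leaf
  2558790) (.node 1 (.leaf
  895981) (.leaf
  133963))))) (.node 6 (.node 3 (.node 1 (.leaf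
  1428200) (.node 1 (.leaf
  2061561) (.leaf
  2524903))) (.node 1 (.leaf
  2789606) (.node 1 (.leaf
  983734) (.leaf
  474414)))) (.node 3 (.node 1 (.leaf
  959971) (.node 1 (.leaf
  1264077) (.leaf
  1043761))) (.node 1 (.leaf
  2552427) (.node 1 (.leaf
  1954573) (.leaf
  2366563))))))) (.node 24 (.node 12 (.node 6 (.node 3 (.node 1 (.leaf
  657124) (.node 1 (.leaf
  156723) (.leaf
  1287405))) (.node 1 (.leaf
  1873260) (.node 1 (.leaf
  400448) (.leaf
  1965372)))) (.node 3 (.node 1 (.leaf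
  152356) (.node 1 (.leaf
  1052915) (.leaf
  2261987))) (.node 1 (.leaf
  2613631) (.node 1 (.leaf
  694677) (.leaf
  564954))))) (.node 6 (.node 3 (.node 1 (.leaf
  603553) (.node 1 (.leaf
  2279109) (.leaf
  631275))) (.node 1 (.leaf
  1307841) (.node 1 (.leaf
  684841) (.leaf
  897446)))) (.node 3 (.node 1 (.leaf
  1842767) (.node 1 (.leaf
  2071935) (.leaf
  1893543))) (.node 1 (.leaf
  2605092) (.node 1 (.leaf
  988233) (.leaf
  607553)))))) (.node 12 (.node 6 (.node 3 (.node 1 (.leaf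
  2006537) (.node 1 (.leaf
  1680165) (.leaf
  2452838))) (.node 1 (.leaf
  168707) (.node 1 (.leaf
  210576) (.leaf
  305904)))) (.node 3 (.node 1 (.leaf
  651793) (.node 1 (.leaf
  1095445) (.leaf
  1871078))) (.node 1 (.leaf
  24347) (.node 1 (.leaf
  2518064) (.leaf
  1697318))))) (.node 6 (.node 3 (.node 1 (.leaf
  2101610) (.node 1 (.leaf
  1754204) (.leaf
  812067))) (.node 1 (.leaf
  2201233) (.node 1 (.leaf
  1449491) (.leaf
  744194)))) (.node 3 (.node 1 (.leaf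
  2374888) (.node 1 (.leaf
  1710265) (.leaf
  206635))) (.node 1 (.leaf
  694653) (.node 1 (.leaf
  78930) (.leaf
  553635)))))))))) (.node 189 (.node 94 (.node 47 (.node 23 (.node 11 (.node 5 (.node 2 (.node 1 (.leaf
  1881296) (.leaf
  1810235)) (.node 1 (.leaf
  1916427) (.node 1 (.leaf
  2798867) (.leaf
  1227153)))) (.node 3 (.node 1 (.leaf
  1447638) (.node 1 (.leaf
  2746124) (.leaf
  1698204))) (.node 1 (.leaf
  328806) (.node 1 (.leaf
  227838) (.leaf
  2547061))))) (.node 6 (.node 3 (.node 1 (.leaf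
  378501) (.node 1 (.leaf
  1143951) (.leaf
  462486))) (.node 1 (.leaf
  514808) (.node 1 (.leaf
  2363554) (.leaf
  1401269)))) (.node 3 (.node 1 (.leaf
  418546) (.node 1 (.leaf
  34270) (.leaf
  1161590))) (.node 1 (.leaf
  1646034) (.node 1 (.leaf
  422683) (.leaf
  181900)))))) (.node 12 (.node 6 (.node 3 (.node 1 (.leaf
  2374727) (.node 1 (.leaf
  2728044) (.leaf
  670845))) (.node 1 (.leaf
  2752693) (.node 1 (.leaf
  489332) (.leaf
  1834503)))) (.node 3 (.node 1 (.leaf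
  867072) (.node 1 (.leaf
  1873976) (.leaf
  1187101))) (.node 1 (.leaf
  2170492) (.node 1 (.leaf
  1256617) (.leaf
  1886168))))) (.node 6 (.node 3 (.node 1 (.leaf
  435654) (.node 1 (.leaf
  684305) (.leaf
  2409160))) (.node 1 (.leaf
  869936) (.node 1 (.leaf
  365432) (.leaf
  572378)))) (.node 3 (.node 1 (.leaf
  1049694) (.node 1 (.leaf
  2860734) (.leaf
  1263746))) (.node 1 (.leaf
  1858804) (.node 1 (.leaf
  2762574) (.leaf
  191803))))))) (.node 23 (.node 11 (.node 5 (.node 2 (.node 1 (.leaf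
  961414) (.leaf
  1572333)) (.node 1 (.leaf
  436905) (.node 1 (.leaf
  1344690) (.leaf
  894326)))) (.node 3 (.node 1 (.leaf
  1164008) (.node 1 (.leaf
  210192) (.leaf
  2432956))) (.node 1 (.leaf
  909782) (.node 1 (.leaf
  1422095) (.leaf
  2092517))))) (.node 6 (.node 3 (.node 1 (.leaf
  925861) (.node 1 (.leaf
  2601687) (.leaf
  2194134))) (.node 1 (.leaf
  2076249) (.node 1 (.leaf
  2223779) (.leaf
  2000129)))) (.node 3 (.node 1 (.leaf
  2249745) (.node 1 (.leaf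
  1906341) (.leaf
  719156))) (.node 1 (.leaf
  1119527) (.node 1 (.leaf
  279585) (.leaf
  2218376)))))) (.node 12 (.node 6 (.node 3 (.node 1 (.leaf
  2627866) (.node 1 (.leaf
  2422990) (.leaf
  916692))) (.node 1 (.leaf
  2237363) (.node 1 (.leaf
  173867) (.leaf
  1545638)))) (.node 3 (.node 1 (.leaf
  2148777) (.node 1 (.leaf
  503930) (.leaf
  1827505))) (.node 1 (.leaf
  2375339) (.node 1 (.leaf
  1781497) (.leaf
  824503))))) (.node 6 (.node 3 (.node 1 (.leaf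
  2674207) (.node 1 (.leaf
  1412923) (.leaf
  2145434))) (.node 1 (.leaf
  1074641) (.node 1 (.leaf
  882164) (.leaf
  184378)))) (.node 3 (.node 1 (.leaf
  636539) (.node 1 (.leaf
  2304333) (.leaf
  174841))) (.node 1 (.leaf
  2606226) (.node 1 (.leaf
  2731697) (.leaf
  1888656)))))))) (.node 47 (.node 23 (.node 11 (.node 5 (.node 2 (.node 1 (.leaf
  2352287) (.leaf
  2333874)) (.node 1 (.leaf
  2644483) (.node 1 (.leaf
  277342) (.leaf
  972068)))) (.node 3 (.node 1 (.leaf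
  2540567) (.node 1 (.leaf
  1365902) (.leaf
  481483))) (.node 1 (.leaf
  1963236) (.node 1 (.leaf
  52453) (.leaf
  512005))))) (.node 6 (.node 3 (.node 1 (.leaf
  2394625) (.node 1 (.leaf
  2171475) (.leaf
  1001816))) (.node 1 (.leaf
  1071245) (.node 1 (.leaf
  1046397) (.leaf
  408647)))) (.node 3 (.node 1 (.leaf
  2744823) (.node 1 (.leaf
  1806108) (.leaf
  514434))) (.node 1 (.leaf
  1726623) (.node 1 (.leaf
  2004806) (.leaf
  2321365)))))) (.node 12 (.node 6 (.node 3 (.node 1 (.leaf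
  1907776) (.node 1 (.leaf
  606391) (.leaf
  2840050))) (.node 1 (.leaf
  2615246) (.node 1 (.leaf
  2684675) (.leaf
  2094597)))) (.node 3 (.node 1 (.leaf
  2659827) (.node 1 (.leaf
  1172376) (.leaf
  2412678))) (.node 1 (.leaf
  1519531) (.node 1 (.leaf
  2828571) (.leaf
  1221006))))) (.node 6 (.node 3 (.node 1 (.leaf
  120241) (.node 1 (.leaf
  1669294) (.leaf
  333811))) (.node 1 (.leaf
  2123828) (.node 1 (.leaf
  1991854) (.leaf
  1849829)))) (.node 3 (.node 1 (.leaf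
  1264636) (.node 1 (.leaf
  2552380) (.leaf
  2852510))) (.node 1 (.leaf
  1261843) (.node 1 (.leaf
  1339076) (.leaf
  931731))))))) (.node 24 (.node 12 (.node 6 (.node 3 (.node 1 (.leaf
  912657) (.node 1 (.leaf
  401180) (.leaf
  329192))) (.node 1 (.leaf
  555924) (.node 1 (.leaf
  2391252) (.leaf
  2347367)))) (.node 3 (.node 1 (.leaf
  1772037) (.node 1 (.leaf
  234466) (.leaf
  2729919))) (.node 1 (.leaf
  1891932) (.node 1 (.leaf
  1116489) (.leaf
  1542638))))) (.node 6 (.node 3 (.node 1 (.leaf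
  580632) (.node 1 (.leaf
  2595926) (.leaf
  1091022))) (.node 1 (.leaf
  1753689) (.node 1 (.leaf
  2331465) (.leaf
  1699575)))) (.node 3 (.node 1 (.leaf
  520708) (.node 1 (.leaf
  2169489) (.leaf
  830238))) (.node 1 (.leaf
  2741203) (.node 1 (.leaf
  105786) (.leaf
  713138)))))) (.node 12 (.node 6 (.node 3 (.node 1 (.leaf
  1887862) (.node 1 (.leaf
  1672665) (.leaf
  1478833))) (.node 1 (.leaf
  852882) (.node 1 (.leaf
  2248669) (.leaf
  1615122)))) (.node 3 (.node 1 (.leaf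
  457923) (.node 1 (.leaf
  1937682) (.leaf
  2519283))) (.node 1 (.leaf
  1940808) (.node 1 (.leaf
  2404186) (.leaf
  1174022))))) (.node 6 (.node 3 (.node 1 (.leaf
  1994149) (.node 1 (.leaf
  1836523) (.leaf
  107757))) (.node 1 (.leaf
  2233051) (.node 1 (.leaf
  85759) (.leaf
  1195819)))) (.node 3 (.node 1 (.leaf
  1062037) (.node 1 (.leaf
  32713) (.leaf
  1593216))) (.node 1 (.leaf
  755232) (.node 1 (.leaf
  2235857) (.leaf
  2850368))))))))) (.node 94 (.node 47 (.node 23 (.node 11 (.node 5 (.node 2 (.node 1 (.leaf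
  1341248) (.leaf
  2663124)) (.node 1 (.leaf
  1886912) (.node 1 (.leaf
  2749386) (.leaf
  1618248)))) (.node 3 (.node 1 (.leaf
  1362732) (.node 1 (.leaf
  879553) (.leaf
  2008043))) (.node 1 (.leaf
  1948066) (.node 1 (.leaf
  2119018) (.leaf
  1523566))))) (.node 6 (.node 3 (.node 1 (.leaf
  2724269) (.node 1 (.leaf
  2878172) (.leaf
  1489863))) (.node 1 (.leaf
  484263) (.node 1 (.leaf
  1601487) (.leaf
  1077828)))) (.node 3 (.node 1 (.leaf
  1555480) (.node 1 (.leaf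
  1369372) (.leaf
  260037))) (.node 1 (.leaf
  2579535) (.node 1 (.leaf
  168986) (.leaf
  2577654)))))) (.node 12 (.node 6 (.node 3 (.node 1 (.leaf
  802453) (.node 1 (.leaf
  1189351) (.leaf
  1832532))) (.node 1 (.leaf
  1640676) (.node 1 (.leaf
  200539) (.leaf
  1127773)))) (.node 3 (.node 1 (.leaf
  2298692) (.node 1 (.leaf
  586006) (.leaf
  2330698))) (.node 1 (.leaf
  103652) (.node 1 (.leaf
  1671589) (.leaf
  2212666))))) (.node 6 (.node 3 (.node 1 (.leaf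
  1174347) (.node 1 (.leaf
  523365) (.leaf
  2022135))) (.node 1 (.leaf
  908842) (.node 1 (.leaf
  909636) (.leaf
  1995225)))) (.node 3 (.node 1 (.leaf
  609827) (.node 1 (.leaf
  756093) (.leaf
  2691258))) (.node 1 (.leaf
  2256943) (.node 1 (.leaf
  2059734) (.leaf
  1880941))))))) (.node 23 (.node 11 (.node 5 (.node 2 (.node 1 (.leaf
  1737174) (.leaf
  1567336)) (.node 1 (.leaf
  2162424) (.node 1 (.leaf
  2205432) (.leaf
  1018041)))) (.node 3 (.node 1 (.leaf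
  1816383) (.node 1 (.leaf
  1931323) (.leaf
  2246410))) (.node 1 (.leaf
  635927) (.node 1 (.leaf
  1115874) (.leaf
  1302735))))) (.node 6 (.node 3 (.node 1 (.leaf
  853593) (.node 1 (.leaf
  1848612) (.leaf
  119251))) (.node 1 (.leaf
  26227) (.node 1 (.leaf
  911558) (.leaf
  1294775)))) (.node 3 (.node 1 (.leaf
  600430) (.node 1 (.leaf
  1847066) (.leaf
  2428052))) (.node 1 (.leaf
  2383628) (.node 1 (.leaf
  1535844) (.leaf
  33986)))))) (.node 12 (.node 6 (.node 3 (.node 1 (.leaf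
  897424) (.node 1 (.leaf
  1468554) (.leaf
  1915864))) (.node 1 (.leaf
  2827293) (.node 1 (.leaf
  715320) (.leaf
  135218)))) (.node 3 (.node 1 (.leaf
  2177682) (.node 1 (.leaf
  381046) (.leaf
  792725))) (.node 1 (.leaf
  1769957) (.node 1 (.leaf
  988257) (.leaf
  216564))))) (.node 6 (.node 3 (.node 1 (.leaf
  166199) (.node 1 (.leaf
  1677569) (.leaf
  199095))) (.node 1 (.leaf
  1014436) (.node 1 (.leaf
  371080) (.leaf
  171593)))) (.node 3 (.node 1 (.leaf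
  2312660) (.node 1 (.leaf
  848485) (.leaf
  826417))) (.node 1 (.leaf
  1779583) (.node 1 (.leaf
  242834) (.leaf
  2686811)))))))) (.node 47 (.node 23 (.node 11 (.node 5 (.node 2 (.node 1 (.leaf
  1842914) (.leaf
  2245108)) (.node 1 (.leaf
  994056) (.node 1 (.leaf
  622937) (.leaf
  1031053)))) (.node 3 (.node 1 (.leaf
  2585498) (.node 1 (.leaf
  686762) (.leaf
  2534023))) (.node 1 (.leaf
  1241893) (.node 1 (.leaf
  577075) (.leaf
  2049183))))) (.node 6 (.node 3 (.node 1 (.leaf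
  1682246) (.node 1 (.leaf
  928756) (.leaf
  2345821))) (.node 1 (.leaf
  604578) (.node 1 (.leaf
  2793391) (.leaf
  1564161)))) (.node 3 (.node 1 (.leaf
  72516) (.node 1 (.leaf
  2476441) (.leaf
  305018))) (.node 1 (.leaf
  874589) (.node 1 (.leaf
  34876) (.leaf
  419200)))))) (.node 12 (.node 6 (.node 3 (.node 1 (.leaf
  1546520) (.node 1 (.leaf
  1893567) (.leaf
  2453720))) (.node 1 (.leaf
  2461112) (.node 1 (.leaf
  2294724) (.leaf
  2849888)))) (.node 3 (.node 1 (.leaf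
  983756) (.node 1 (.leaf
  2703192) (.leaf
  280119))) (.node 1 (.leaf
  2880306) (.node 1 (.leaf
  1385862) (.leaf
  1484976))))) (.node 6 (.node 3 (.node 1 (.leaf
  690522) (.node 1 (.leaf
  1685483) (.leaf
  1625506))) (.node 1 (.leaf
  312178) (.node 1 (.leaf
  2787976) (.leaf
  1112099)))) (.node 3 (.node 1 (.leaf
  1594862) (.node 1 (.leaf
  2876607) (.leaf
  688972))) (.node 1 (.leaf
  1377273) (.node 1 (.leaf
  2831746) (.leaf
  266754))))))) (.node 24 (.node 12 (.node 6 (.node 3 (.node 1 (.leaf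
  222822) (.node 1 (.leaf
  2630211) (.leaf
  859413))) (.node 1 (.leaf
  956083) (.node 1 (.leaf
  814145) (.leaf
  2150477)))) (.node 3 (.node 1 (.leaf
  1352371) (.node 1 (.leaf
  1159448) (.leaf
  1679447))) (.node 1 (.leaf
  1225934) (.node 1 (.leaf
  1637365) (.leaf
  76814))))) (.node 6 (.node 3 (.node 1 (.leaf
  1259971) (.node 1 (.leaf
  2787370) (.leaf
  1525813))) (.node 1 (.leaf
  1408179) (.node 1 (.leaf
  871419) (.leaf
  2121045)))) (.node 3 (.node 1 (.leaf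
  307905) (.node 1 (.leaf
  2025148) (.leaf
  1398043))) (.node 1 (.leaf
  2360809) (.node 1 (.leaf
  599562) (.leaf
  630199)))))) (.node 12 (.node 6 (.node 3 (.node 1 (.leaf
  736543) (.node 1 (.leaf
  2896819) (.leaf
  2489209))) (.node 1 (.leaf
  2790223) (.node 1 (.leaf
  131288) (.leaf
  326997)))) (.node 3 (.node 1 (.leaf
  2606692) (.node 1 (.leaf
  2467737) (.leaf
  993262))) (.node 1 (.leaf
  701581) (.node 1 (.leaf
  2417112) (.leaf
  257957))))) (.node 6 (.node 3 (.node 1 (.leaf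
  1702588) (.node 1 (.leaf
  726519) (.leaf
  1106373))) (.node 1 (.leaf
  2002007) (.node 1 (.leaf
  1524220) (.leaf
  2719803)))) (.node 3 (.node 1 (.leaf
  1789385) (.node 1 (.leaf
  1959925) (.leaf
  346579))) (.node 1 (.leaf
  1581379) (.node 1 (.leaf
  28951) (.leaf
  1844769))))))))))))

/-- How each member arises. -/
def stP6 : Tree :=
  (.node 756 (.node 378 (.node 189 (.node 94 (.node 47 (.node 23 (.node 11 (.node 5 (.node 2 (.node 1 (.leaf
  0) (.leaf
  418)) (.node 1 (.leaf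
  421) (.node 1 (.leaf
  423) (.leaf
  1445)))) (.node 3 (.node 1 (.leaf
  1447) (.node 1 (.leaf
  2466) (.leaf
  2471))) (.node 1 (.leaf
  3490) (.node 1 (.leaf
  3493) (.leaf
  3495))))) (.node 6 (.node 3 (.node 1 (.leaf
  4514) (.node 1 (.leaf
  4519) (.leaf
  5538))) (.node 1 (.leaf
  5541) (.node 1 (.leaf
  5543) (.leaf
  6567)))) (.node 3 (.node 1 (.leaf
  7586) (.node 1 (.leaf
  7589) (.leaf
  7591))) (.node 1 (.leaf
  8613) (.node 1 (.leaf
  8615) (.leaf
  9634)))))) (.node 12 (.node 6 (.node 3 (.node 1 (.leaf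
  9639) (.node 1 (.leaf
  10658) (.leaf
  10661))) (.node 1 (.leaf
  11687) (.node 1 (.leaf
  12706) (.leaf
  12709)))) (.node 3 (.node 1 (.leaf
  12711) (.node 1 (.leaf
  13733) (.leaf
  14754))) (.node 1 (.leaf
  14759) (.node 1 (.leaf
  15781) (.leaf
  16802))))) (.node 6 (.node 3 (.node 1 (.leaf
  16805) (.node 1 (.leaf
  16807) (.leaf
  17829))) (.node 1 (.leaf
  17831) (.node 1 (.leaf
  18850) (.leaf
  18855)))) (.node 3 (.node 1 (.leaf
  19874) (.node 1 (.leaf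
  19877) (.leaf
  20898))) (.node 1 (.leaf
  20903) (.node 1 (.leaf
  21925) (.leaf
  21927))))))) (.node 23 (.node 11 (.node 5 (.node 2 (.node 1 (.leaf
  22951) (.leaf
  23970)) (.node 1 (.leaf
  23973) (.node 1 (.leaf
  23975) (.leaf
  24997)))) (.node 3 (.node 1 (.leaf
  24999) (.node 1 (.leaf
  26018) (.leaf
  26023))) (.node 1 (.leaf
  27042) (.node 1 (.leaf
  27045) (.leaf
  27047))))) (.node 6 (.node 3 (.node 1 (.leaf
  28069) (.node 1 (.leaf
  28071) (.leaf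
  29090))) (.node 1 (.leaf
  29095) (.node 1 (.leaf
  30114) (.leaf
  30117)))) (.node 3 (.node 1 (.leaf
  31138) (.node 1 (.leaf
  31143) (.leaf
  32167))) (.node 1 (.leaf
  33186) (.node 1 (.leaf
  33189) (.leaf
  33191)))))) (.node 12 (.node 6 (.node 3 (.node 1 (.leaf
  34210) (.node 1 (.leaf
  34215) (.leaf
  35237))) (.node 1 (.leaf
  36258) (.node 1 (.leaf
  36263) (.leaf
  37285)))) (.node 3 (.node 1 (.leaf
  38306) (.node 1 (.leaf
  38311) (.leaf
  39333))) (.node 1 (.leaf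
  39335) (.node 1 (.leaf
  40359) (.leaf
  41378))))) (.node 6 (.node 3 (.node 1 (.leaf
  41381) (.node 1 (.leaf
  41383) (.leaf
  42405))) (.node 1 (.leaf
  42407) (.node 1 (.leaf
  43426) (.leaf
  43431)))) (.node 3 (.node 1 (.leaf
  44455) (.node 1 (.leaf
  45474) (.leaf
  45477))) (.node 1 (.leaf
  45479) (.node 1 (.leaf
  46498) (.leaf
  46503)))))))) (.node 47 (.node 23 (.node 11 (.node 5 (.node 2 (.node 1 (.leaf
  47525) (.leaf
  48546)) (.node 1 (.leaf
  48549) (.node 1 (.leaf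
  48551) (.leaf
  49573)))) (.node 3 (.node 1 (.leaf
  49575) (.node 1 (.leaf
  50594) (.leaf
  50599))) (.node 1 (.leaf
  51618) (.node 1 (.leaf
  52642) (.leaf
  52647))))) (.node 6 (.node 3 (.node 1 (.leaf
  53669) (.node 1 (.leaf
  54695) (.leaf
  55714))) (.node 1 (.leaf
  55719) (.node 1 (.leaf
  56741) (.leaf
  57762)))) (.node 3 (.node 1 (.leaf
  57767) (.node 1 (.leaf
  58789) (.leaf
  59810))) (.node 1 (.leaf
  59815) (.node 1 (.leaf
  60837) (.leaf
  60839)))))) (.node 12 (.node 6 (.node 3 (.node 1 (.leaf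
  61863) (.node 1 (.leaf
  62882) (.leaf
  62885))) (.node 1 (.leaf
  62887) (.node 1 (.leaf
  63909) (.leaf
  63911)))) (.node 3 (.node 1 (.leaf
  64930) (.node 1 (.leaf
  64935) (.leaf
  65959))) (.node 1 (.leaf
  66978) (.node 1 (.leaf
  66981) (.leaf
  66983))))) (.node 6 (.node 3 (.node 1 (.leaf
  68002) (.node 1 (.leaf
  68005) (.leaf
  68007))) (.node 1 (.leaf
  69029) (.node 1 (.leaf
  69031) (.leaf
  70050)))) (.node 3 (.node 1 (.leaf
  70055) (.node 1 (.leaf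
  71074) (.leaf
  72103))) (.node 1 (.leaf
  73122) (.node 1 (.leaf
  73127) (.leaf
  74146))))))) (.node 24 (.node 12 (.node 6 (.node 3 (.node 1 (.leaf
  74151) (.node 1 (.leaf
  75175) (.leaf
  76194))) (.node 1 (.leaf
  76197) (.node 1 (.leaf
  76199) (.leaf
  77218)))) (.node 3 (.node 1 (.leaf
  77223) (.node 1 (.leaf
  78247) (.leaf
  79266))) (.node 1 (.leaf
  79269) (.node 1 (.leaf
  79271) (.leaf
  80290))))) (.node 6 (.node 3 (.node 1 (.leaf
  80295) (.node 1 (.leaf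
  81317) (.leaf
  82338))) (.node 1 (.leaf
  82341) (.node 1 (.leaf
  82343) (.leaf
  83365)))) (.node 3 (.node 1 (.leaf
  83367) (.node 1 (.leaf
  84386) (.leaf
  84391))) (.node 1 (.leaf
  85410) (.node 1 (.leaf
  86434) (.leaf
  86439)))))) (.node 12 (.node 6 (.node 3 (.node 1 (.leaf
  87461) (.node 1 (.leaf
  88487) (.leaf
  89506))) (.node 1 (.leaf
  89511) (.node 1 (.leaf
  90530) (.leaf
  90533)))) (.node 3 (.node 1 (.leaf
  90535) (.node 1 (.leaf
  91557) (.leaf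
  91559))) (.node 1 (.leaf
  92578) (.node 1 (.leaf
  92583) (.leaf
  93602))))) (.node 6 (.node 3 (.node 1 (.leaf
  93605) (.node 1 (.leaf
  94631) (.leaf
  95650))) (.node 1 (.leaf
  95653) (.node 1 (.leaf
  95655) (.leaf
  96674)))) (.node 3 (.node 1 (.leaf
  96679) (.node 1 (.leaf
  97701) (.leaf
  98722))) (.node 1 (.leaf
  98727) (.node 1 (.leaf
  99749) (.leaf
  100770))))))))) (.node 94 (.node 47 (.node 23 (.node 11 (.node 5 (.node 2 (.node 1 (.leaf
  100775) (.leaf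
  101797)) (.node 1 (.leaf
  101799) (.node 1 (.leaf
  102823) (.leaf
  103842)))) (.node 3 (.node 1 (.leaf
  103847) (.node 1 (.leaf
  104869) (.leaf
  104871))) (.node 1 (.leaf
  105895) (.node 1 (.leaf
  106914) (.leaf
  106917))))) (.node 6 (.node 3 (.node 1 (.leaf
  106919) (.node 1 (.leaf
  107938) (.leaf
  107943))) (.node 1 (.leaf
  108962) (.node 1 (.leaf
  108965) (.leaf
  108967)))) (.node 3 (.node 1 (.leaf
  109989) (.node 1 (.leaf
  109991) (.leaf
  111010))) (.node 1 (.leaf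
  112034) (.node 1 (.leaf
  112039) (.leaf
  113063)))))) (.node 12 (.node 6 (.node 3 (.node 1 (.leaf
  114082) (.node 1 (.leaf
  114085) (.leaf
  114087))) (.node 1 (.leaf
  115106) (.node 1 (.leaf
  115111) (.leaf
  116135)))) (.node 3 (.node 1 (.leaf
  117154) (.node 1 (.leaf
  117157) (.leaf
  117159))) (.node 1 (.leaf
  118178) (.node 1 (.leaf
  118183) (.leaf
  120226))))) (.node 6 (.node 3 (.node 1 (.leaf
  120229) (.node 1 (.leaf
  120231) (.leaf
  121253))) (.node 1 (.leaf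
  121255) (.node 1 (.leaf
  122274) (.leaf
  122279)))) (.node 3 (.node 1 (.leaf
  123298) (.node 1 (.leaf
  124322) (.leaf
  124327))) (.node 1 (.leaf
  125349) (.node 1 (.leaf
  126375) (.leaf
  127394))))))) (.node 23 (.node 11 (.node 5 (.node 2 (.node 1 (.leaf
  127399) (.leaf
  128418)) (.node 1 (.leaf
  128421) (.node 1 (.leaf
  128423) (.leaf
  129445)))) (.node 3 (.node 1 (.leaf
  129447) (.node 1 (.leaf
  130466) (.leaf
  130471))) (.node 1 (.leaf
  131490) (.node 1 (.leaf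
  131493) (.leaf
  132517))))) (.node 6 (.node 3 (.node 1 (.leaf
  133538) (.node 1 (.leaf
  133543) (.leaf
  134565))) (.node 1 (.leaf
  135586) (.node 1 (.leaf
  135591) (.leaf
  136613)))) (.node 3 (.node 1 (.leaf
  136615) (.node 1 (.leaf
  137639) (.leaf
  138663))) (.node 1 (.leaf
  139685) (.node 1 (.leaf
  139687) (.leaf
  140706)))))) (.node 12 (.node 6 (.node 3 (.node 1 (.leaf
  140709) (.node 1 (.leaf
  140711) (.leaf
  141733))) (.node 1 (.leaf
  141735) (.node 1 (.leaf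
  142754) (.leaf
  143783)))) (.node 3 (.node 1 (.leaf
  144802) (.node 1 (.leaf
  144805) (.leaf
  144807))) (.node 1 (.leaf
  145826) (.node 1 (.leaf
  145829) (.leaf
  145831))))) (.node 6 (.node 3 (.node 1 (.leaf
  146853) (.node 1 (.leaf
  146855) (.leaf
  147874))) (.node 1 (.leaf
  148898) (.node 1 (.leaf
  149927) (.leaf
  150946)))) (.node 3 (.node 1 (.leaf
  150951) (.node 1 (.leaf
  151970) (.leaf
  151973))) (.node 1 (.leaf
  151975) (.node 1 (.leaf
  152997) (.leaf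
  152999)))))))) (.node 47 (.node 23 (.node 11 (.node 5 (.node 2 (.node 1 (.leaf
  154018) (.leaf
  154023)) (.node 1 (.leaf
  155042) (.node 1 (.leaf
  155045) (.leaf
  156071)))) (.node 3 (.node 1 (.leaf
  157090) (.node 1 (.leaf
  157093) (.leaf
  157095))) (.node 1 (.leaf
  158119) (.node 1 (.leaf
  159141) (.leaf
  160162))))) (.node 6 (.node 3 (.node 1 (.leaf
  160167) (.node 1 (.leaf
  161189) (.leaf
  162210))) (.node 1 (.leaf
  163237) (.node 1 (.leaf
  163239) (.leaf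
  164263)))) (.node 3 (.node 1 (.leaf
  165287) (.node 1 (.leaf
  166309) (.leaf
  166311))) (.node 1 (.leaf
  167335) (.node 1 (.leaf
  168357) (.leaf
  168359)))))) (.node 12 (.node 6 (.node 3 (.node 1 (.leaf
  169383) (.node 1 (.leaf
  170402) (.leaf
  170405))) (.node 1 (.leaf
  170407) (.node 1 (.leaf
  171429) (.leaf
  171431)))) (.node 3 (.node 1 (.leaf
  172450) (.node 1 (.leaf
  173477) (.leaf
  174498))) (.node 1 (.leaf
  176546) (.node 1 (.leaf
  176551) (.leaf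
  177573))))) (.node 6 (.node 3 (.node 1 (.leaf
  177575) (.node 1 (.leaf
  178599) (.leaf
  179618))) (.node 1 (.leaf
  179621) (.node 1 (.leaf
  179623) (.leaf
  180645)))) (.node 3 (.node 1 (.leaf
  180647) (.node 1 (.leaf
  181666) (.leaf
  181671))) (.node 1 (.leaf
  182690) (.node 1 (.leaf
  182693) (.leaf
  182695))))))) (.node 24 (.node 12 (.node 6 (.node 3 (.node 1 (.leaf
  183717) (.node 1 (.leaf
  183719) (.leaf
  184738))) (.node 1 (.leaf
  184743) (.node 1 (.leaf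
  185762) (.leaf
  186791)))) (.node 3 (.node 1 (.leaf
  187810) (.node 1 (.leaf
  187815) (.leaf
  188834))) (.node 1 (.leaf
  188839) (.node 1 (.leaf
  189863) (.leaf
  190882))))) (.node 6 (.node 3 (.node 1 (.leaf
  190887) (.node 1 (.leaf
  191906) (.leaf
  191911))) (.node 1 (.leaf
  192935) (.node 1 (.leaf
  193957) (.leaf
  193959)))) (.node 3 (.node 1 (.leaf
  194978) (.node 1 (.leaf
  194983) (.leaf
  196005))) (.node 1 (.leaf
  197026) (.node 1 (.leaf
  197029) (.leaf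
  197031)))))) (.node 12 (.node 6 (.node 3 (.node 1 (.leaf
  198055) (.node 1 (.leaf
  199074) (.leaf
  200103))) (.node 1 (.leaf
  201125) (.node 1 (.leaf
  202146) (.leaf
  202149)))) (.node 3 (.node 1 (.leaf
  202151) (.node 1 (.leaf
  203173) (.leaf
  203175))) (.node 1 (.leaf
  204194) (.node 1 (.leaf
  204199) (.leaf
  205218))))) (.node 6 (.node 3 (.node 1 (.leaf
  205221) (.node 1 (.leaf
  206247) (.leaf
  207266))) (.node 1 (.leaf
  207269) (.node 1 (.leaf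
  207271) (.leaf
  208293)))) (.node 3 (.node 1 (.leaf
  209314) (.node 1 (.leaf
  209319) (.leaf
  210341))) (.node 1 (.leaf
  211367) (.node 1 (.leaf
  212389) (.leaf
  212391)))))))))) (.node 189 (.node 94 (.node 47 (.node 23 (.node 11 (.node 5 (.node 2 (.node 1 (.leaf
  213413) (.leaf
  213415)) (.node 1 (.leaf
  214439) (.node 1 (.leaf
  215458) (.leaf
  215461)))) (.node 3 (.node 1 (.leaf
  215463) (.node 1 (.leaf
  216482) (.leaf
  216485))) (.node 1 (.leaf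
  216487) (.node 1 (.leaf
  217509) (.leaf
  217511))))) (.node 6 (.node 3 (.node 1 (.leaf
  218530) (.node 1 (.leaf
  219554) (.leaf
  220583))) (.node 1 (.leaf
  221602) (.node 1 (.leaf
  221607) (.leaf
  222626)))) (.node 3 (.node 1 (.leaf
  222629) (.node 1 (.leaf
  222631) (.leaf
  223653))) (.node 1 (.leaf
  223655) (.node 1 (.leaf
  224674) (.leaf
  224679)))))) (.node 12 (.node 6 (.node 3 (.node 1 (.leaf
  225698) (.node 1 (.leaf
  225701) (.leaf
  226727))) (.node 1 (.leaf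
  227746) (.node 1 (.leaf
  227749) (.leaf
  227751)))) (.node 3 (.node 1 (.leaf
  228773) (.node 1 (.leaf
  229794) (.leaf
  229799))) (.node 1 (.leaf
  230821) (.node 1 (.leaf
  231842) (.leaf
  232869))))) (.node 6 (.node 3 (.node 1 (.leaf
  232871) (.node 1 (.leaf
  233895) (.leaf
  234919))) (.node 1 (.leaf
  235941) (.node 1 (.leaf
  235943) (.leaf
  236967)))) (.node 3 (.node 1 (.leaf
  237989) (.node 1 (.leaf
  237991) (.leaf
  239015))) (.node 1 (.leaf
  240034) (.node 1 (.leaf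
  240037) (.leaf
  240039))))))) (.node 23 (.node 11 (.node 5 (.node 2 (.node 1 (.leaf
  241061) (.leaf
  241063)) (.node 1 (.leaf
  242082) (.node 1 (.leaf
  243109) (.leaf
  244130)))) (.node 3 (.node 1 (.leaf
  246178) (.node 1 (.leaf
  246183) (.leaf
  247205))) (.node 1 (.leaf
  247207) (.node 1 (.leaf
  248231) (.leaf
  249250))))) (.node 6 (.node 3 (.node 1 (.leaf
  249253) (.node 1 (.leaf
  250277) (.leaf
  250279))) (.node 1 (.leaf
  251298) (.node 1 (.leaf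
  252322) (.leaf
  252327)))) (.node 3 (.node 1 (.leaf
  253351) (.node 1 (.leaf
  254370) (.leaf
  254375))) (.node 1 (.leaf
  255394) (.node 1 (.leaf
  255399) (.leaf
  256423)))))) (.node 12 (.node 6 (.node 3 (.node 1 (.leaf
  257445) (.node 1 (.leaf
  257447) (.leaf
  258466))) (.node 1 (.leaf
  258471) (.node 1 (.leaf
  259493) (.leaf
  260514)))) (.node 3 (.node 1 (.leaf
  260517) (.node 1 (.leaf
  260519) (.leaf
  261538))) (.node 1 (.leaf
  262567) (.node 1 (.leaf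
  263589) (.leaf
  264613))))) (.node 6 (.node 3 (.node 1 (.leaf
  265634) (.node 1 (.leaf
  267687) (.leaf
  268709))) (.node 1 (.leaf
  268711) (.node 1 (.leaf
  269733) (.leaf
  269735)))) (.node 3 (.node 1 (.leaf
  270754) (.node 1 (.leaf
  270757) (.leaf
  270759))) (.node 1 (.leaf
  271781) (.node 1 (.leaf
  271783) (.leaf
  272802)))))))) (.node 47 (.node 23 (.node 11 (.node 5 (.node 2 (.node 1 (.leaf
  272807) (.leaf
  273826)) (.node 1 (.leaf
  273829) (.node 1 (.leaf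
  274853) (.leaf
  275874)))) (.node 3 (.node 1 (.leaf
  275879) (.node 1 (.leaf
  276901) (.leaf
  277922))) (.node 1 (.leaf
  278949) (.node 1 (.leaf
  278951) (.leaf
  279975))))) (.node 6 (.node 3 (.node 1 (.leaf
  280997) (.node 1 (.leaf
  280999) (.leaf
  282018))) (.node 1 (.leaf
  282021) (.node 1 (.leaf
  282023) (.leaf
  283045)))) (.node 3 (.node 1 (.leaf
  283047) (.node 1 (.leaf
  284066) (.leaf
  285093))) (.node 1 (.leaf
  286114) (.node 1 (.leaf
  288162) (.leaf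
  288167)))))) (.node 12 (.node 6 (.node 3 (.node 1 (.leaf
  289189) (.node 1 (.leaf
  290215) (.leaf
  291234))) (.node 1 (.leaf
  291237) (.node 1 (.leaf
  291239) (.leaf
  292261)))) (.node 3 (.node 1 (.leaf
  292263) (.node 1 (.leaf
  293282) (.leaf
  293287))) (.node 1 (.leaf
  294306) (.node 1 (.leaf
  294309) (.leaf
  294311))))) (.node 6 (.node 3 (.node 1 (.leaf
  295333) (.node 1 (.leaf
  295335) (.leaf
  296354))) (.node 1 (.leaf
  296359) (.node 1 (.leaf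
  297378) (.leaf
  298407)))) (.node 3 (.node 1 (.leaf
  299426) (.node 1 (.leaf
  299431) (.leaf
  300455))) (.node 1 (.leaf
  301474) (.node 1 (.leaf
  301479) (.leaf
  302498))))))) (.node 24 (.node 12 (.node 6 (.node 3 (.node 1 (.leaf
  302503) (.node 1 (.leaf
  304546) (.leaf
  304551))) (.node 1 (.leaf
  305573) (.node 1 (.leaf
  306594) (.leaf
  306597)))) (.node 3 (.node 1 (.leaf
  306599) (.node 1 (.leaf
  307618) (.leaf
  308647))) (.node 1 (.leaf
  309669) (.node 1 (.leaf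
  310693) (.leaf
  310695))))) (.node 6 (.node 3 (.node 1 (.leaf
  311714) (.node 1 (.leaf
  311719) (.leaf
  312738))) (.node 1 (.leaf
  312741) (.node 1 (.leaf
  313762) (.leaf
  313765)))) (.node 3 (.node 1 (.leaf
  313767) (.node 1 (.leaf
  314789) (.leaf
  315810))) (.node 1 (.leaf
  315815) (.node 1 (.leaf
  316837) (.leaf
  317863)))))) (.node 12 (.node 6 (.node 3 (.node 1 (.leaf
  318885) (.node 1 (.leaf
  318887) (.leaf
  319911))) (.node 1 (.leaf
  320930) (.node 1 (.leaf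
  320935) (.leaf
  321959)))) (.node 3 (.node 1 (.leaf
  322983) (.node 1 (.leaf
  324002) (.leaf
  324005))) (.node 1 (.leaf
  324007) (.node 1 (.leaf
  325026) (.leaf
  325031))))) (.node 6 (.node 3 (.node 1 (.leaf
  327074) (.node 1 (.leaf
  327077) (.leaf
  327079))) (.node 1 (.leaf
  328101) (.node 1 (.leaf
  328103) (.leaf
  329122)))) (.node 3 (.node 1 (.leaf
  329127) (.node 1 (.leaf
  330146) (.leaf
  331170))) (.node 1 (.leaf
  331175) (.node 1 (.leaf
  333223) (.leaf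
  334242))))))))) (.node 94 (.node 47 (.node 23 (.node 11 (.node 5 (.node 2 (.node 1 (.leaf
  334247) (.leaf
  335269)) (.node 1 (.leaf
  336290) (.node 1 (.leaf
  336295) (.leaf
  337317)))) (.node 3 (.node 1 (.leaf
  338338) (.node 1 (.leaf
  338343) (.leaf
  339365))) (.node 1 (.leaf
  340391) (.node 1 (.leaf
  341415) (.leaf
  342437))))) (.node 6 (.node 3 (.node 1 (.leaf
  343458) (.node 1 (.leaf
  344485) (.leaf
  345506))) (.node 1 (.leaf
  346535) (.node 1 (.leaf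
  347554) (.leaf
  347557)))) (.node 3 (.node 1 (.leaf
  347559) (.node 1 (.leaf
  348578) (.leaf
  348581))) (.node 1 (.leaf
  348583) (.node 1 (.leaf
  349605) (.leaf
  349607)))))) (.node 12 (.node 6 (.node 3 (.node 1 (.leaf
  350626) (.node 1 (.leaf
  351655) (.leaf
  352674))) (.node 1 (.leaf
  353701) (.node 1 (.leaf
  354722) (.leaf
  354727)))) (.node 3 (.node 1 (.leaf
  355749) (.node 1 (.leaf
  356775) (.leaf
  357794))) (.node 1 (.leaf
  357797) (.node 1 (.leaf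
  357799) (.leaf
  358823))))) (.node 6 (.node 3 (.node 1 (.leaf
  359845) (.node 1 (.leaf
  360866) (.leaf
  360871))) (.node 1 (.leaf
  361893) (.node 1 (.leaf
  362917) (.leaf
  362919)))) (.node 3 (.node 1 (.leaf
  363943) (.node 1 (.leaf
  364965) (.leaf
  364967))) (.node 1 (.leaf
  365991) (.node 1 (.leaf
  367013) (.leaf
  368034))))))) (.node 23 (.node 11 (.node 5 (.node 2 (.node 1 (.leaf
  370082) (.leaf
  370087)) (.node 1 (.leaf
  371109) (.node 1 (.leaf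
  372135) (.leaf
  373157)))) (.node 3 (.node 1 (.leaf
  373159) (.node 1 (.leaf
  374181) (.leaf
  375202))) (.node 1 (.leaf
  376226) (.node 1 (.leaf
  377253) (.leaf
  378274))))) (.node 6 (.node 3 (.node 1 (.leaf
  378279) (.node 1 (.leaf
  379298) (.leaf
  380322))) (.node 1 (.leaf
  380327) (.node 1 (.leaf
  381351) (.leaf
  382370)))) (.node 3 (.node 1 (.leaf
  382375) (.node 1 (.leaf
  383394) (.leaf
  383399))) (.node 1 (.leaf
  384421) (.node 1 (.leaf
  384423) (.leaf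
  385442)))))) (.node 12 (.node 6 (.node 3 (.node 1 (.leaf
  385447) (.node 1 (.leaf
  386469) (.leaf
  388517))) (.node 1 (.leaf
  389538) (.node 1 (.leaf
  389541) (.leaf
  389543)))) (.node 3 (.node 1 (.leaf
  390565) (.node 1 (.leaf
  390567) (.leaf
  391586))) (.node 1 (.leaf
  392610) (.node 1 (.leaf
  392613) (.leaf
  393637))))) (.node 6 (.node 3 (.node 1 (.leaf
  394658) (.node 1 (.leaf
  394663) (.leaf
  395685))) (.node 1 (.leaf
  396706) (.node 1 (.leaf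
  397733) (.leaf
  397735)))) (.node 3 (.node 1 (.leaf
  399781) (.node 1 (.leaf
  399783) (.leaf
  400802))) (.node 1 (.leaf
  400805) (.node 1 (.leaf
  400807) (.leaf
  401829)))))))) (.node 47 (.node 23 (.node 11 (.node 5 (.node 2 (.node 1 (.leaf
  401831) (.leaf
  402850)) (.node 1 (.leaf
  403877) (.node 1 (.leaf
  404898) (.leaf
  406946)))) (.node 3 (.node 1 (.leaf
  406951) (.node 1 (.leaf
  407973) (.leaf
  408999))) (.node 1 (.leaf
  410021) (.node 1 (.leaf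
  410023) (.leaf
  411045))))) (.node 6 (.node 3 (.node 1 (.leaf
  411047) (.node 1 (.leaf
  412066) (.leaf
  413090))) (.node 1 (.leaf
  413093) (.node 1 (.leaf
  413095) (.leaf
  414117)))) (.node 3 (.node 1 (.leaf
  414119) (.node 1 (.leaf
  415138) (.leaf
  415143))) (.node 1 (.leaf
  416162) (.node 1 (.leaf
  417186) (.leaf
  417191)))))) (.node 12 (.node 6 (.node 3 (.node 1 (.leaf
  418215) (.node 1 (.leaf
  419234) (.leaf
  419239))) (.node 1 (.leaf
  420258) (.node 1 (.leaf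
  420263) (.leaf
  422306)))) (.node 3 (.node 1 (.leaf
  422311) (.node 1 (.leaf
  423333) (.leaf
  424354))) (.node 1 (.leaf
  425378) (.node 1 (.leaf
  426407) (.leaf
  427429))))) (.node 6 (.node 3 (.node 1 (.leaf
  428453) (.node 1 (.leaf
  428455) (.leaf
  429474))) (.node 1 (.leaf
  429479) (.node 1 (.leaf
  430498) (.leaf
  430501)))) (.node 3 (.node 1 (.leaf
  431525) (.node 1 (.leaf
  431527) (.leaf
  432549))) (.node 1 (.leaf
  433570) (.node 1 (.leaf
  433575) (.leaf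
  434597))))))) (.node 24 (.node 12 (.node 6 (.node 3 (.node 1 (.leaf
  435623) (.node 1 (.leaf
  436645) (.leaf
  436647))) (.node 1 (.leaf
  437671) (.node 1 (.leaf
  438690) (.leaf
  438695)))) (.node 3 (.node 1 (.leaf
  439719) (.node 1 (.leaf
  440743) (.leaf
  441762))) (.node 1 (.leaf
  441765) (.node 1 (.leaf
  441767) (.leaf
  442791))))) (.node 6 (.node 3 (.node 1 (.leaf
  444834) (.node 1 (.leaf
  444837) (.leaf
  444839))) (.node 1 (.leaf
  445863) (.node 1 (.leaf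
  446882) (.leaf
  447906)))) (.node 3 (.node 1 (.leaf
  447911) (.node 1 (.leaf
  449959) (.leaf
  452005))) (.node 1 (.leaf
  452007) (.node 1 (.leaf
  453026) (.leaf
  453029)))))) (.node 12 (.node 6 (.node 3 (.node 1 (.leaf
  453031) (.node 1 (.leaf
  454055) (.leaf
  455074))) (.node 1 (.leaf
  456103) (.node 1 (.leaf
  457122) (.leaf
  458149)))) (.node 3 (.node 1 (.leaf
  459170) (.node 1 (.leaf
  459175) (.leaf
  460197))) (.node 1 (.leaf
  462245) (.node 1 (.leaf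
  462247) (.leaf
  463271))))) (.node 6 (.node 3 (.node 1 (.leaf
  464293) (.node 1 (.leaf
  465319) (.leaf
  466341))) (.node 1 (.leaf
  467367) (.node 1 (.leaf
  468389) (.leaf
  468391)))) (.node 3 (.node 1 (.leaf
  469415) (.node 1 (.leaf
  470434) (.leaf
  470439))) (.node 1 (.leaf
  471463) (.node 1 (.leaf
  472485) (.leaf
  472487))))))))))) (.node 378 (.node 189 (.node 94 (.node 47 (.node 23 (.node 11 (.node 5 (.node 2 (.node 1 (.leaf
  473506) (.leaf
  473511)) (.node 1 (.leaf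
  474533) (.node 1 (.leaf
  476581) (.leaf
  477605)))) (.node 3 (.node 1 (.leaf
  478626) (.node 1 (.leaf
  480674) (.leaf
  480679))) (.node 1 (.leaf
  481701) (.node 1 (.leaf
  481703) (.leaf
  482727))))) (.node 6 (.node 3 (.node 1 (.leaf
  483749) (.node 1 (.leaf
  484773) (.leaf
  484775))) (.node 1 (.leaf
  485794) (.node 1 (.leaf
  486818) (.leaf
  486823)))) (.node 3 (.node 1 (.leaf
  487847) (.node 1 (.leaf
  488866) (.leaf
  488871))) (.node 1 (.leaf
  489890) (.node 1 (.leaf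
  489895) (.leaf
  491938)))))) (.node 12 (.node 6 (.node 3 (.node 1 (.leaf
  491943) (.node 1 (.leaf
  492965) (.leaf
  493986))) (.node 1 (.leaf
  495015) (.node 1 (.leaf
  496037) (.leaf
  497061)))) (.node 3 (.node 1 (.leaf
  498082) (.node 1 (.leaf
  500135) (.leaf
  501157))) (.node 1 (.leaf
  501159) (.node 1 (.leaf
  502181) (.leaf
  502183))))) (.node 6 (.node 3 (.node 1 (.leaf
  503202) (.node 1 (.leaf
  503207) (.leaf
  504231))) (.node 1 (.leaf
  505255) (.node 1 (.leaf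
  506274) (.leaf
  506277)))) (.node 3 (.node 1 (.leaf
  506279) (.node 1 (.leaf
  507298) (.leaf
  507303))) (.node 1 (.leaf
  508322) (.node 1 (.leaf
  508325) (.leaf
  508327))))))) (.node 23 (.node 11 (.node 5 (.node 2 (.node 1 (.leaf
  509351) (.leaf
  510370)) (.node 1 (.leaf
  510375) (.node 1 (.leaf
  511394) (.leaf
  512418)))) (.node 3 (.node 1 (.leaf
  512423) (.node 1 (.leaf
  514471) (.leaf
  515490))) (.node 1 (.leaf
  515495) (.node 1 (.leaf
  516517) (.leaf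
  517538))))) (.node 6 (.node 3 (.node 1 (.leaf
  517543) (.node 1 (.leaf
  518565) (.leaf
  519586))) (.node 1 (.leaf
  519591) (.node 1 (.leaf
  520613) (.leaf
  521639)))) (.node 3 (.node 1 (.leaf
  522663) (.node 1 (.leaf
  523685) (.leaf
  525735))) (.node 1 (.leaf
  526754) (.node 1 (.leaf
  526757) (.leaf
  526759)))))) (.node 12 (.node 6 (.node 3 (.node 1 (.leaf
  527778) (.node 1 (.leaf
  527781) (.leaf
  527783))) (.node 1 (.leaf
  528805) (.node 1 (.leaf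
  528807) (.leaf
  529826)))) (.node 3 (.node 1 (.leaf
  530855) (.node 1 (.leaf
  532903) (.leaf
  533922))) (.node 1 (.leaf
  533925) (.node 1 (.leaf
  533927) (.leaf
  534951))))) (.node 6 (.node 3 (.node 1 (.leaf
  535973) (.node 1 (.leaf
  536999) (.leaf
  538021))) (.node 1 (.leaf
  539047) (.node 1 (.leaf
  540069) (.leaf
  540071)))) (.node 3 (.node 1 (.leaf
  541095) (.node 1 (.leaf
  542114) (.leaf
  544167))) (.node 1 (.leaf
  545189) (.node 1 (.leaf
  545191) (.leaf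
  546213)))))))) (.node 47 (.node 23 (.node 11 (.node 5 (.node 2 (.node 1 (.leaf
  547234) (.leaf
  548261)) (.node 1 (.leaf
  549282) (.node 1 (.leaf
  549287) (.leaf
  550306)))) (.node 3 (.node 1 (.leaf
  551330) (.node 1 (.leaf
  551335) (.leaf
  552359))) (.node 1 (.leaf
  553378) (.node 1 (.leaf
  553383) (.leaf
  554402))))) (.node 6 (.node 3 (.node 1 (.leaf
  554407) (.node 1 (.leaf
  555429) (.leaf
  555431))) (.node 1 (.leaf
  556450) (.node 1 (.leaf
  556455) (.leaf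
  557477)))) (.node 3 (.node 1 (.leaf
  558501) (.node 1 (.leaf
  560546) (.leaf
  560549))) (.node 1 (.leaf
  560551) (.node 1 (.leaf
  561570) (.leaf
  561575)))))) (.node 12 (.node 6 (.node 3 (.node 1 (.leaf
  562594) (.node 1 (.leaf
  562599) (.leaf
  563621))) (.node 1 (.leaf
  563623) (.node 1 (.leaf
  564642) (.leaf
  564647)))) (.node 3 (.node 1 (.leaf
  565666) (.node 1 (.leaf
  565669) (.leaf
  566695))) (.node 1 (.leaf
  567714) (.node 1 (.leaf
  567719) (.leaf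
  568741))))) (.node 6 (.node 3 (.node 1 (.leaf
  569762) (.node 1 (.leaf
  569767) (.leaf
  571810))) (.node 1 (.leaf
  572837) (.node 1 (.leaf
  572839) (.leaf
  573863)))) (.node 3 (.node 1 (.leaf
  574887) (.node 1 (.leaf
  575909) (.leaf
  575911))) (.node 1 (.leaf
  576935) (.node 1 (.leaf
  577957) (.leaf
  577959))))))) (.node 24 (.node 12 (.node 6 (.node 3 (.node 1 (.leaf
  578978) (.node 1 (.leaf
  578981) (.leaf
  578983))) (.node 1 (.leaf
  580005) (.node 1 (.leaf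
  580007) (.leaf
  582050)))) (.node 3 (.node 1 (.leaf
  582055) (.node 1 (.leaf
  583079) (.leaf
  584098))) (.node 1 (.leaf
  584103) (.node 1 (.leaf
  585122) (.leaf
  585127))))) (.node 6 (.node 3 (.node 1 (.leaf
  586151) (.node 1 (.leaf
  587173) (.leaf
  587175))) (.node 1 (.leaf
  588194) (.node 1 (.leaf
  588199) (.leaf
  589218)))) (.node 3 (.node 1 (.leaf
  589221) (.node 1 (.leaf
  589223) (.leaf
  590242))) (.node 1 (.leaf
  591271) (.node 1 (.leaf
  592293) (.leaf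
  593319)))))) (.node 12 (.node 6 (.node 3 (.node 1 (.leaf
  594341) (.node 1 (.leaf
  595365) (.leaf
  595367))) (.node 1 (.leaf
  596389) (.node 1 (.leaf
  596391) (.leaf
  597410)))) (.node 3 (.node 1 (.leaf
  597415) (.node 1 (.leaf
  599461) (.leaf
  600482))) (.node 1 (.leaf
  601509) (.node 1 (.leaf
  603557) (.leaf
  603559))))) (.node 6 (.node 3 (.node 1 (.leaf
  604581) (.node 1 (.leaf
  604583) (.leaf
  605602))) (.node 1 (.leaf
  605607) (.node 1 (.leaf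
  606631) (.leaf
  607650)))) (.node 3 (.node 1 (.leaf
  608679) (.node 1 (.leaf
  609698) (.leaf
  609701))) (.node 1 (.leaf
  609703) (.node 1 (.leaf
  610722) (.leaf
  610727))))))))) (.node 94 (.node 47 (.node 23 (.node 11 (.node 5 (.node 2 (.node 1 (.leaf
  611749) (.leaf
  611751)) (.node 1 (.leaf
  612773) (.node 1 (.leaf
  612775) (.leaf
  613794)))) (.node 3 (.node 1 (.leaf
  613799) (.node 1 (.leaf
  615847) (.leaf
  616866))) (.node 1 (.leaf
  616871) (.node 1 (.leaf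
  618914) (.leaf
  618919))))) (.node 6 (.node 3 (.node 1 (.leaf
  619938) (.node 1 (.leaf
  619943) (.leaf
  620962))) (.node 1 (.leaf
  620967) (.node 1 (.leaf
  621989) (.leaf
  623013)))) (.node 3 (.node 1 (.leaf
  624034) (.node 1 (.leaf
  624039) (.leaf
  625061))) (.node 1 (.leaf
  626082) (.node 1 (.leaf
  626085) (.leaf
  626087)))))) (.node 12 (.node 6 (.node 3 (.node 1 (.leaf
  627106) (.node 1 (.leaf
  627111) (.leaf
  628135))) (.node 1 (.leaf
  629159) (.node 1 (.leaf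
  630181) (.leaf
  630183)))) (.node 3 (.node 1 (.leaf
  631202) (.node 1 (.leaf
  631207) (.leaf
  632226))) (.node 1 (.leaf
  632229) (.node 1 (.leaf
  632231) (.leaf
  633255))))) (.node 6 (.node 3 (.node 1 (.leaf
  634274) (.node 1 (.leaf
  635298) (.leaf
  635303))) (.node 1 (.leaf
  636327) (.node 1 (.leaf
  638370) (.leaf
  638375)))) (.node 3 (.node 1 (.leaf
  639399) (.node 1 (.leaf
  641445) (.leaf
  642471))) (.node 1 (.leaf
  643490) (.node 1 (.leaf
  643495) (.leaf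
  644514))))))) (.node 23 (.node 11 (.node 5 (.node 2 (.node 1 (.leaf
  644517) (.leaf
  644519)) (.node 1 (.leaf
  645543) (.node 1 (.leaf
  646562) (.leaf
  647591)))) (.node 3 (.node 1 (.leaf
  648610) (.node 1 (.leaf
  649639) (.leaf
  650661))) (.node 1 (.leaf
  651687) (.node 1 (.leaf
  652706) (.leaf
  652709))))) (.node 6 (.node 3 (.node 1 (.leaf
  652711) (.node 1 (.leaf
  653735) (.leaf
  654759))) (.node 1 (.leaf
  655781) (.node 1 (.leaf
  656802) (.leaf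
  658850)))) (.node 3 (.node 1 (.leaf
  658855) (.node 1 (.leaf
  659877) (.leaf
  660903))) (.node 1 (.leaf
  661925) (.node 1 (.leaf
  662946) (.leaf
  663970)))))) (.node 12 (.node 6 (.node 3 (.node 1 (.leaf
  663975) (.node 1 (.leaf
  664999) (.leaf
  666018))) (.node 1 (.leaf
  667042) (.node 1 (.leaf
  667047) (.leaf
  669090)))) (.node 3 (.node 1 (.leaf
  669095) (.node 1 (.leaf
  670117) (.leaf
  672165))) (.node 1 (.leaf
  673189) (.node 1 (.leaf
  674210) (.leaf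
  676263))))) (.node 6 (.node 3 (.node 1 (.leaf
  677285) (.node 1 (.leaf
  677287) (.leaf
  678311))) (.node 1 (.leaf
  679330) (.node 1 (.leaf
  679335) (.leaf
  680359)))) (.node 3 (.node 1 (.leaf
  681383) (.node 1 (.leaf
  682402) (.leaf
  682405))) (.node 1 (.leaf
  682407) (.node 1 (.leaf
  683426) (.leaf
  683431)))))))) (.node 47 (.node 23 (.node 11 (.node 5 (.node 2 (.node 1 (.leaf
  684450) (.leaf
  684455)) (.node 1 (.leaf
  685479) (.node 1 (.leaf
  686498) (.leaf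
  687522)))) (.node 3 (.node 1 (.leaf
  687527) (.node 1 (.leaf
  690597) (.leaf
  691618))) (.node 1 (.leaf
  691623) (.node 1 (.leaf
  692645) (.leaf
  693666))))) (.node 6 (.node 3 (.node 1 (.leaf
  693671) (.node 1 (.leaf
  694693) (.leaf
  697765))) (.node 1 (.leaf
  698791) (.node 1 (.leaf
  699810) (.leaf
  699813)))) (.node 3 (.node 1 (.leaf
  699815) (.node 1 (.leaf
  700834) (.leaf
  700837))) (.node 1 (.leaf
  700839) (.node 1 (.leaf
  701861) (.leaf
  701863)))))) (.node 12 (.node 6 (.node 3 (.node 1 (.leaf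
  703911) (.node 1 (.leaf
  705959) (.leaf
  706978))) (.node 1 (.leaf
  706981) (.node 1 (.leaf
  706983) (.leaf
  708007)))) (.node 3 (.node 1 (.leaf
  711079) (.node 1 (.leaf
  712103) (.leaf
  713122))) (.node 1 (.leaf
  715175) (.node 1 (.leaf
  716197) (.leaf
  716199))))) (.node 6 (.node 3 (.node 1 (.leaf
  717221) (.node 1 (.leaf
  718242) (.leaf
  719271))) (.node 1 (.leaf
  721314) (.node 1 (.leaf
  721319) (.leaf
  722343)))) (.node 3 (.node 1 (.leaf
  723362) (.node 1 (.leaf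
  723367) (.leaf
  724386))) (.node 1 (.leaf
  724391) (.node 1 (.leaf
  725413) (.leaf
  725415))))))) (.node 24 (.node 12 (.node 6 (.node 3 (.node 1 (.leaf
  726434) (.node 1 (.leaf
  726439) (.leaf
  727461))) (.node 1 (.leaf
  728485) (.node 1 (.leaf
  730533) (.leaf
  730535)))) (.node 3 (.node 1 (.leaf
  731554) (.node 1 (.leaf
  732578) (.leaf
  732583))) (.node 1 (.leaf
  733605) (.node 1 (.leaf
  733607) (.leaf
  734626))))) (.node 6 (.node 3 (.node 1 (.leaf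
  735650) (.node 1 (.leaf
  735653) (.leaf
  736679))) (.node 1 (.leaf
  737701) (.node 1 (.leaf
  738722) (.leaf
  738727)))) (.node 3 (.node 1 (.leaf
  740773) (.node 1 (.leaf
  740775) (.leaf
  741799))) (.node 1 (.leaf
  742823) (.node 1 (.leaf
  743845) (.leaf
  743847)))))) (.node 12 (.node 6 (.node 3 (.node 1 (.leaf
  744866) (.node 1 (.leaf
  744869) (.leaf
  744871))) (.node 1 (.leaf
  745890) (.node 1 (.leaf
  745895) (.leaf
  747941)))) (.node 3 (.node 1 (.leaf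
  748962) (.node 1 (.leaf
  749989) (.leaf
  751015))) (.node 1 (.leaf
  752039) (.node 1 (.leaf
  753063) (.leaf
  754087))))) (.node 6 (.node 3 (.node 1 (.leaf
  755106) (.node 1 (.leaf
  756135) (.leaf
  757154))) (.node 1 (.leaf
  757157) (.node 1 (.leaf
  757159) (.leaf
  758178)))) (.node 3 (.node 1 (.leaf
  758183) (.node 1 (.leaf
  759207) (.leaf
  761255))) (.node 1 (.leaf
  762279) (.node 1 (.leaf
  763298) (.leaf
  763303)))))))))) (.node 189 (.node 94 (.node 47 (.node 23 (.node 11 (.node 5 (.node 2 (.node 1 (.leaf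
  764322) (.leaf
  764327)) (.node 1 (.leaf
  765349) (.node 1 (.leaf
  766375) (.leaf
  767397)))) (.node 3 (.node 1 (.leaf
  768418) (.node 1 (.leaf
  768421) (.leaf
  768423))) (.node 1 (.leaf
  769447) (.node 1 (.leaf
  770466) (.leaf
  770471))))) (.node 6 (.node 3 (.node 1 (.leaf
  771490) (.node 1 (.leaf
  771493) (.leaf
  771495))) (.node 1 (.leaf
  772519) (.node 1 (.leaf
  773541) (.leaf
  774567)))) (.node 3 (.node 1 (.leaf
  775586) (.node 1 (.leaf
  775589) (.leaf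
  775591))) (.node 1 (.leaf
  776615) (.node 1 (.leaf
  777639) (.leaf
  778658)))))) (.node 12 (.node 6 (.node 3 (.node 1 (.leaf
  779687) (.node 1 (.leaf
  780711) (.leaf
  781730))) (.node 1 (.leaf
  781733) (.node 1 (.leaf
  781735) (.leaf
  782759)))) (.node 3 (.node 1 (.leaf
  784802) (.node 1 (.leaf
  784805) (.leaf
  786850))) (.node 1 (.leaf
  788903) (.node 1 (.leaf
  790949) (.leaf
  790951))))) (.node 6 (.node 3 (.node 1 (.leaf
  791970) (.node 1 (.leaf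
  791973) (.leaf
  791975))) (.node 1 (.leaf
  795047) (.node 1 (.leaf
  798119) (.leaf
  799143)))) (.node 3 (.node 1 (.leaf
  801191) (.node 1 (.leaf
  802215) (.leaf
  803234))) (.node 1 (.leaf
  803239) (.node 1 (.leaf
  804263) (.leaf
  805287))))))) (.node 23 (.node 11 (.node 5 (.node 2 (.node 1 (.leaf
  806306) (.leaf
  806311)) (.node 1 (.leaf
  807333) (.node 1 (.leaf
  809381) (.leaf
  811426)))) (.node 3 (.node 1 (.leaf
  811429) (.node 1 (.leaf
  811431) (.leaf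
  812450))) (.node 1 (.leaf
  812455) (.node 1 (.leaf
  813474) (.leaf
  813479))))) (.node 6 (.node 3 (.node 1 (.leaf
  814501) (.node 1 (.leaf
  814503) (.leaf
  815522))) (.node 1 (.leaf
  816549) (.node 1 (.leaf
  817575) (.leaf
  818594)))) (.node 3 (.node 1 (.leaf
  818599) (.node 1 (.leaf
  819621) (.leaf
  820647))) (.node 1 (.leaf
  822693) (.node 1 (.leaf
  822695) (.leaf
  824743)))))) (.node 12 (.node 6 (.node 3 (.node 1 (.leaf
  825765) (.node 1 (.leaf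
  825767) (.leaf
  826791))) (.node 1 (.leaf
  827815) (.node 1 (.leaf
  828834) (.leaf
  828839)))) (.node 3 (.node 1 (.leaf
  829863) (.node 1 (.leaf
  831906) (.leaf
  831911))) (.node 1 (.leaf
  832935) (.node 1 (.leaf
  833954) (.leaf
  833959))))) (.node 6 (.node 3 (.node 1 (.leaf
  834978) (.node 1 (.leaf
  834983) (.leaf
  836007))) (.node 1 (.leaf
  837031) (.node 1 (.leaf
  838050) (.leaf
  838055)))) (.node 3 (.node 1 (.leaf
  839077) (.node 1 (.leaf
  839079) (.leaf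
  841127))) (.node 1 (.leaf
  842149) (.node 1 (.leaf
  842151) (.leaf
  843173)))))))) (.node 47 (.node 23 (.node 11 (.node 5 (.node 2 (.node 1 (.leaf
  844194) (.leaf
  846245)) (.node 1 (.leaf
  847266) (.node 1 (.leaf
  850341) (.leaf
  850343)))) (.node 3 (.node 1 (.leaf
  851367) (.node 1 (.leaf
  852386) (.leaf
  853415))) (.node 1 (.leaf
  854437) (.node 1 (.leaf
  854439) (.leaf
  855463))))) (.node 6 (.node 3 (.node 1 (.leaf
  857511) (.node 1 (.leaf
  859559) (.leaf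
  860578))) (.node 1 (.leaf
  860583) (.node 1 (.leaf
  861605) (.leaf
  862631)))) (.node 3 (.node 1 (.leaf
  863653) (.node 1 (.leaf
  864674) (.leaf
  864679))) (.node 1 (.leaf
  866727) (.node 1 (.leaf
  867751) (.leaf
  868770)))))) (.node 12 (.node 6 (.node 3 (.node 1 (.leaf
  869794) (.node 1 (.leaf
  869799) (.leaf
  870823))) (.node 1 (.leaf
  871842) (.node 1 (.leaf
  871847) (.leaf
  872871)))) (.node 3 (.node 1 (.leaf
  874917) (.node 1 (.leaf
  875943) (.leaf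
  876962))) (.node 1 (.leaf
  876967) (.node 1 (.leaf
  877989) (.leaf
  877991))))) (.node 6 (.node 3 (.node 1 (.leaf
  879015) (.node 1 (.leaf
  880034) (.leaf
  881063))) (.node 1 (.leaf
  883111) (.node 1 (.leaf
  884133) (.leaf
  885159)))) (.node 3 (.node 1 (.leaf
  886178) (.node 1 (.leaf
  886181) (.leaf
  886183))) (.node 1 (.leaf
  888231) (.node 1 (.leaf
  889255) (.leaf
  890274))))))) (.node 24 (.node 12 (.node 6 (.node 3 (.node 1 (.leaf
  891301) (.node 1 (.leaf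
  892325) (.leaf
  894373))) (.node 1 (.leaf
  896418) (.node 1 (.leaf
  897445) (.leaf
  898471)))) (.node 3 (.node 1 (.leaf
  899495) (.node 1 (.leaf
  900519) (.leaf
  902567))) (.node 1 (.leaf
  903589) (.node 1 (.leaf
  903591) (.leaf
  905634))))) (.node 6 (.node 3 (.node 1 (.leaf
  906663) (.node 1 (.leaf
  907682) (.leaf
  910757))) (.node 1 (.leaf
  911778) (.node 1 (.leaf
  913831) (.leaf
  914853)))) (.node 3 (.node 1 (.leaf
  915879) (.node 1 (.leaf
  916898) (.leaf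
  916903))) (.node 1 (.leaf
  917922) (.node 1 (.leaf
  918949) (.leaf
  919975)))))) (.node 12 (.node 6 (.node 3 (.node 1 (.leaf
  922023) (.node 1 (.leaf
  923045) (.leaf
  923047))) (.node 1 (.leaf
  925095) (.node 1 (.leaf
  926119) (.leaf
  927143)))) (.node 3 (.node 1 (.leaf
  928162) (.node 1 (.leaf
  929191) (.leaf
  930210))) (.node 1 (.leaf
  931237) (.node 1 (.leaf
  932263) (.leaf
  935335))))) (.node 6 (.node 3 (.node 1 (.leaf
  937383) (.node 1 (.leaf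
  938405) (.leaf
  939431))) (.node 1 (.leaf
  942501) (.node 1 (.leaf
  944546) (.leaf
  946594)))) (.node 3 (.node 1 (.leaf
  948647) (.node 1 (.leaf
  950690) (.leaf
  952738))) (.node 1 (.leaf
  952743) (.node 1 (.leaf
  953762) (.leaf
  953767))))))))) (.node 94 (.node 47 (.node 23 (.node 11 (.node 5 (.node 2 (.node 1 (.leaf
  954789) (.leaf
  955815)) (.node 1 (.leaf
  957861) (.node 1 (.leaf
  959909) (.leaf
  960935)))) (.node 3 (.node 1 (.leaf
  961954) (.node 1 (.leaf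
  961959) (.leaf
  962983))) (.node 1 (.leaf
  964007) (.node 1 (.leaf
  965026) (.leaf
  966055))))) (.node 6 (.node 3 (.node 1 (.leaf
  967074) (.node 1 (.leaf
  967079) (.leaf
  970151))) (.node 1 (.leaf
  972199) (.node 1 (.leaf
  973223) (.leaf
  976295)))) (.node 3 (.node 1 (.leaf
  978338) (.node 1 (.leaf
  979367) (.leaf
  981415))) (.node 1 (.leaf
  982434) (.node 1 (.leaf
  982437) (.leaf
  986535)))))) (.node 12 (.node 6 (.node 3 (.node 1 (.leaf
  987554) (.node 1 (.leaf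
  988581) (.leaf
  992679))) (.node 1 (.leaf
  993698) (.node 1 (.leaf
  993703) (.leaf
  994727)))) (.node 3 (.node 1 (.leaf
  995746) (.node 1 (.leaf
  995751) (.leaf
  996770))) (.node 1 (.leaf
  998823) (.node 1 (.leaf
  1000871) (.leaf
  1003941))))) (.node 6 (.node 3 (.node 1 (.leaf
  1003943) (.node 1 (.leaf
  1004967) (.leaf
  1007013))) (.node 1 (.leaf
  1008039) (.node 1 (.leaf
  1009063) (.leaf
  1010085)))) (.node 3 (.node 1 (.leaf
  1012133) (.node 1 (.leaf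
  1013159) (.leaf
  1018277))) (.node 1 (.leaf
  1019301) (.node 1 (.leaf
  1019303) (.leaf
  1020327))))))) (.node 23 (.node 11 (.node 5 (.node 2 (.node 1 (.leaf
  1021351) (.leaf
  1022375)) (.node 1 (.leaf
  1023399) (.node 1 (.leaf
  1025445) (.leaf
  1025447)))) (.node 3 (.node 1 (.leaf
  1026466) (.node 1 (.leaf
  1029541) (.leaf
  1030562))) (.node 1 (.leaf
  1031591) (.node 1 (.leaf
  1032615) (.leaf
  1033634))))) (.node 6 (.node 3 (.node 1 (.leaf
  1034663) (.node 1 (.leaf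
  1035682) (.leaf
  1036706))) (.node 1 (.leaf
  1039781) (.node 1 (.leaf
  1039783) (.leaf
  1040805)))) (.node 3 (.node 1 (.leaf
  1040807) (.node 1 (.leaf
  1042855) (.leaf
  1045927))) (.node 1 (.leaf
  1046951) (.node 1 (.leaf
  1047975) (.leaf
  1048994)))))) (.node 12 (.node 6 (.node 3 (.node 1 (.leaf
  1048999) (.node 1 (.leaf
  1050023) (.leaf
  1052066))) (.node 1 (.leaf
  1052071) (.node 1 (.leaf
  1054117) (.leaf
  1056165)))) (.node 3 (.node 1 (.leaf
  1056167) (.node 1 (.leaf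
  1057186) (.leaf
  1058210))) (.node 1 (.leaf
  1058215) (.node 1 (.leaf
  1059239) (.leaf
  1060258))))) (.node 6 (.node 3 (.node 1 (.leaf
  1062311) (.node 1 (.leaf
  1063330) (.leaf
  1063335))) (.node 1 (.leaf
  1067429) (.node 1 (.leaf
  1067431) (.leaf
  1069479)))) (.node 3 (.node 1 (.leaf
  1070498) (.node 1 (.leaf
  1070503) (.leaf
  1072546))) (.node 1 (.leaf
  1072551) (.node 1 (.leaf
  1074599) (.leaf
  1075623)))))))) (.node 47 (.node 23 (.node 11 (.node 5 (.node 2 (.node 1 (.leaf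
  1076642) (.leaf
  1076647)) (.node 1 (.leaf
  1078693) (.node 1 (.leaf
  1080738) (.leaf
  1083810)))) (.node 3 (.node 1 (.leaf
  1086887) (.node 1 (.leaf
  1087906) (.leaf
  1088935))) (.node 1 (.leaf
  1089959) (.node 1 (.leaf
  1093031) (.leaf
  1097127))))) (.node 6 (.node 3 (.node 1 (.leaf
  1098151) (.node 1 (.leaf
  1100194) (.leaf
  1100199))) (.node 1 (.leaf
  1104290) (.node 1 (.leaf
  1104295) (.leaf
  1105317)))) (.node 3 (.node 1 (.leaf
  1105319) (.node 1 (.leaf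
  1108391) (.leaf
  1110439))) (.node 1 (.leaf
  1112487) (.node 1 (.leaf
  1113506) (.leaf
  1113509)))))) (.node 12 (.node 6 (.node 3 (.node 1 (.leaf
  1113511) (.node 1 (.leaf
  1117605) (.leaf
  1118629))) (.node 1 (.leaf
  1119653) (.node 1 (.leaf
  1121698) (.leaf
  1127842)))) (.node 3 (.node 1 (.leaf
  1129890) (.node 1 (.leaf
  1131941) (.leaf
  1135010))) (.node 1 (.leaf
  1144226) (.node 1 (.leaf
  1144231) (.leaf
  1148325))))) (.node 6 (.node 3 (.node 1 (.leaf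
  1150370) (.node 1 (.leaf
  1151399) (.leaf
  1152423))) (.node 1 (.leaf
  1153442) (.node 1 (.leaf
  1154471) (.leaf
  1155490)))) (.node 3 (.node 1 (.leaf
  1155495) (.node 1 (.leaf
  1156519) (.leaf
  1161639))) (.node 1 (.leaf
  1170855) (.node 1 (.leaf
  1175975) (.leaf
  1176999))))))) (.node 24 (.node 12 (.node 6 (.node 3 (.node 1 (.leaf
  1179045) (.node 1 (.leaf
  1179047) (.leaf
  1180066))) (.node 1 (.leaf
  1183141) (.node 1 (.leaf
  1186210) (.leaf
  1186215)))) (.node 3 (.node 1 (.leaf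
  1187237) (.node 1 (.leaf
  1194407) (.leaf
  1195426))) (.node 1 (.leaf
  1200551) (.node 1 (.leaf
  1202599) (.leaf
  1204645))))) (.node 6 (.node 3 (.node 1 (.leaf
  1206695) (.node 1 (.leaf
  1210789) (.leaf
  1212839))) (.node 1 (.leaf
  1225127) (.node 1 (.leaf
  1226151) (.leaf
  1233319)))) (.node 3 (.node 1 (.leaf
  1234341) (.node 1 (.leaf
  1235367) (.leaf
  1236386))) (.node 1 (.leaf
  1242535) (.node 1 (.leaf
  1245607) (.leaf
  1251751)))))) (.node 12 (.node 6 (.node 3 (.node 1 (.leaf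
  1252773) (.node 1 (.leaf
  1254818) (.leaf
  1256866))) (.node 1 (.leaf
  1258914) (.node 1 (.leaf
  1260967) (.leaf
  1268135)))) (.node 3 (.node 1 (.leaf
  1271207) (.node 1 (.leaf
  1280423) (.leaf
  1284519))) (.node 1 (.leaf
  1295783) (.node 1 (.leaf
  1299877) (.leaf
  1306018))))) (.node 6 (.node 3 (.node 1 (.leaf
  1315239) (.node 1 (.leaf
  1316261) (.leaf
  1334693))) (.node 1 (.leaf
  1335719) (.node 1 (.leaf
  1351079) (.leaf
  1359271)))) (.node 3 (.node 1 (.leaf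
  1385895) (.node 1 (.leaf
  1391013) (.leaf
  1392039))) (.node 1 (.leaf
  1393063) (.node 1 (.leaf
  1394085) (.leaf
  1440167))))))))))))

/-- The order of the codes. -/
def stO6 : Tree :=
  (.node 756 (.node 378 (.node 189 (.node 94 (.node 47 (.node 23 (.node 11 (.node 5 (.node 2 (.node 1 (.leaf
  0) (.leaf
  488)) (.node 1 (.leaf
  397) (.node 1 (.leaf
  145) (.leaf
  737)))) (.node 3 (.node 1 (.leaf
  663) (.node 1 (.leaf
  866) (.leaf
  661))) (.node 1 (.leaf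
  826) (.node 1 (.leaf
  1119) (.leaf
  1384))))) (.node 6 (.node 3 (.node 1 (.leaf
  1510) (.node 1 (.leaf
  1318) (.leaf
  1392))) (.node 1 (.leaf
  1152) (.node 1 (.leaf
  859) (.leaf
  1438)))) (.node 3 (.node 1 (.leaf
  819) (.node 1 (.leaf
  811) (.leaf
  333))) (.node 1 (.leaf
  21) (.node 1 (.leaf
  238) (.leaf
  316)))))) (.node 12 (.node 6 (.node 3 (.node 1 (.leaf
  1237) (.node 1 (.leaf
  23) (.leaf
  753))) (.node 1 (.leaf
  244) (.node 1 (.leaf
  472) (.leaf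
  717)))) (.node 3 (.node 1 (.leaf
  483) (.node 1 (.leaf
  399) (.leaf
  1434))) (.node 1 (.leaf
  203) (.node 1 (.leaf
  1475) (.leaf
  964))))) (.node 6 (.node 3 (.node 1 (.leaf
  1132) (.node 1 (.leaf
  460) (.leaf
  1315))) (.node 1 (.leaf
  447) (.node 1 (.leaf
  914) (.leaf
  823)))) (.node 3 (.node 1 (.leaf
  1355) (.node 1 (.leaf
  1297) (.leaf
  1313))) (.node 1 (.leaf
  1046) (.node 1 (.leaf
  222) (.leaf
  63))))))) (.node 23 (.node 11 (.node 5 (.node 2 (.node 1 (.leaf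
  230) (.leaf
  97)) (.node 1 (.leaf
  1383) (.node 1 (.leaf
  47) (.leaf
  1263)))) (.node 3 (.node 1 (.leaf
  414) (.node 1 (.leaf
  750) (.leaf
  72))) (.node 1 (.leaf
  648) (.node 1 (.leaf
  161) (.leaf
  352))))) (.node 6 (.node 3 (.node 1 (.leaf
  300) (.node 1 (.leaf
  1492) (.leaf
  689))) (.node 1 (.leaf
  1003) (.node 1 (.leaf
  1073) (.leaf
  1398)))) (.node 3 (.node 1 (.leaf
  396) (.node 1 (.leaf
  983) (.leaf
  836))) (.node 1 (.leaf
  1024) (.node 1 (.leaf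
  543) (.leaf
  64)))))) (.node 12 (.node 6 (.node 3 (.node 1 (.leaf
  1092) (.node 1 (.leaf
  82) (.leaf
  70))) (.node 1 (.leaf
  269) (.node 1 (.leaf
  992) (.leaf
  1087)))) (.node 3 (.node 1 (.leaf
  1405) (.node 1 (.leaf
  1061) (.leaf
  1113))) (.node 1 (.leaf
  1344) (.node 1 (.leaf
  231) (.leaf
  1410))))) (.node 6 (.node 3 (.node 1 (.leaf
  1208) (.node 1 (.leaf
  1224) (.leaf
  786))) (.node 1 (.leaf
  318) (.node 1 (.leaf
  252) (.leaf
  1156)))) (.node 3 (.node 1 (.leaf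
  548) (.node 1 (.leaf
  1221) (.leaf
  703))) (.node 1 (.leaf
  257) (.node 1 (.leaf
  970) (.leaf
  1180)))))))) (.node 47 (.node 23 (.node 11 (.node 5 (.node 2 (.node 1 (.leaf
  995) (.leaf
  1407)) (.node 1 (.leaf
  1350) (.node 1 (.leaf
  626) (.leaf
  394)))) (.node 3 (.node 1 (.leaf
  649) (.node 1 (.leaf
  1130) (.leaf
  446))) (.node 1 (.leaf
  1187) (.node 1 (.leaf
  1114) (.leaf
  739))))) (.node 6 (.node 3 (.node 1 (.leaf
  8) (.node 1 (.leaf
  1404) (.leaf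
  837))) (.node 1 (.leaf
  774) (.node 1 (.leaf
  304) (.leaf
  782)))) (.node 3 (.node 1 (.leaf
  1464) (.node 1 (.leaf
  373) (.leaf
  202))) (.node 1 (.leaf
  445) (.node 1 (.leaf
  941) (.leaf
  1143)))))) (.node 12 (.node 6 (.node 3 (.node 1 (.leaf
  651) (.node 1 (.leaf
  587) (.leaf
  208))) (.node 1 (.leaf
  51) (.node 1 (.leaf
  1282) (.leaf
  654)))) (.node 3 (.node 1 (.leaf
  379) (.node 1 (.leaf
  634) (.leaf
  1415))) (.node 1 (.leaf
  305) (.node 1 (.leaf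
  383) (.leaf
  724))))) (.node 6 (.node 3 (.node 1 (.leaf
  217) (.node 1 (.leaf
  1499) (.leaf
  683))) (.node 1 (.leaf
  1342) (.node 1 (.leaf
  470) (.leaf
  1463)))) (.node 3 (.node 1 (.leaf
  260) (.node 1 (.leaf
  621) (.leaf
  368))) (.node 1 (.leaf
  234) (.node 1 (.leaf
  544) (.leaf
  1231))))))) (.node 24 (.node 12 (.node 6 (.node 3 (.node 1 (.leaf
  99) (.node 1 (.leaf
  1202) (.leaf
  1448))) (.node 1 (.leaf
  938) (.node 1 (.leaf
  361) (.leaf
  141)))) (.node 3 (.node 1 (.leaf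
  319) (.node 1 (.leaf
  233) (.leaf
  740))) (.node 1 (.leaf
  609) (.node 1 (.leaf
  223) (.leaf
  978))))) (.node 6 (.node 3 (.node 1 (.leaf
  322) (.node 1 (.leaf
  797) (.leaf
  1048))) (.node 1 (.leaf
  1436) (.node 1 (.leaf
  1115) (.leaf
  1482)))) (.node 3 (.node 1 (.leaf
  1007) (.node 1 (.leaf
  1455) (.leaf
  623))) (.node 1 (.leaf
  89) (.node 1 (.leaf
  917) (.leaf
  513)))))) (.node 12 (.node 6 (.node 3 (.node 1 (.leaf
  1493) (.node 1 (.leaf
  613) (.leaf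
  1142))) (.node 1 (.leaf
  1277) (.node 1 (.leaf
  822) (.leaf
  211)))) (.node 3 (.node 1 (.leaf
  1265) (.node 1 (.leaf
  563) (.leaf
  136))) (.node 1 (.leaf
  386) (.node 1 (.leaf
  33) (.leaf
  104))))) (.node 6 (.node 3 (.node 1 (.leaf
  1508) (.node 1 (.leaf
  327) (.leaf
  835))) (.node 1 (.leaf
  1173) (.node 1 (.leaf
  371) (.leaf
  1409)))) (.node 3 (.node 1 (.leaf
  757) (.node 1 (.leaf
  1145) (.leaf
  156))) (.node 1 (.leaf
  1400) (.node 1 (.leaf
  787) (.leaf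
  113))))))))) (.node 94 (.node 47 (.node 23 (.node 11 (.node 5 (.node 2 (.node 1 (.leaf
  144) (.leaf
  123)) (.node 1 (.leaf
  335) (.node 1 (.leaf
  37) (.leaf
  184)))) (.node 3 (.node 1 (.leaf
  182) (.node 1 (.leaf
  320) (.leaf
  1069))) (.node 1 (.leaf
  254) (.node 1 (.leaf
  239) (.leaf
  576))))) (.node 6 (.node 3 (.node 1 (.leaf
  1090) (.node 1 (.leaf
  450) (.leaf
  1276))) (.node 1 (.leaf
  899) (.node 1 (.leaf
  990) (.leaf
  583)))) (.node 3 (.node 1 (.leaf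
  1244) (.node 1 (.leaf
  846) (.leaf
  1151))) (.node 1 (.leaf
  1439) (.node 1 (.leaf
  861) (.leaf
  627)))))) (.node 12 (.node 6 (.node 3 (.node 1 (.leaf
  1155) (.node 1 (.leaf
  240) (.leaf
  83))) (.node 1 (.leaf
  310) (.node 1 (.leaf
  11) (.leaf
  207)))) (.node 3 (.node 1 (.leaf
  1169) (.node 1 (.leaf
  428) (.leaf
  1183))) (.node 1 (.leaf
  568) (.node 1 (.leaf
  1035) (.leaf
  284))))) (.node 6 (.node 3 (.node 1 (.leaf
  705) (.node 1 (.leaf
  802) (.leaf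
  936))) (.node 1 (.leaf
  1305) (.node 1 (.leaf
  657) (.leaf
  301)))) (.node 3 (.node 1 (.leaf
  1147) (.node 1 (.leaf
  242) (.leaf
  395))) (.node 1 (.leaf
  62) (.node 1 (.leaf
  699) (.leaf
  853))))))) (.node 23 (.node 11 (.node 5 (.node 2 (.node 1 (.leaf
  1079) (.leaf
  401)) (.node 1 (.leaf
  111) (.node 1 (.leaf
  1235) (.leaf
  1009)))) (.node 3 (.node 1 (.leaf
  1337) (.node 1 (.leaf
  129) (.leaf
  590))) (.node 1 (.leaf
  1161) (.node 1 (.leaf
  701) (.leaf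
  1011))))) (.node 6 (.node 3 (.node 1 (.leaf
  94) (.node 1 (.leaf
  574) (.leaf
  77))) (.node 1 (.leaf
  677) (.node 1 (.leaf
  1211) (.leaf
  605)))) (.node 3 (.node 1 (.leaf
  771) (.node 1 (.leaf
  1238) (.leaf
  381))) (.node 1 (.leaf
  1247) (.node 1 (.leaf
  1148) (.leaf
  570)))))) (.node 12 (.node 6 (.node 3 (.node 1 (.leaf
  1293) (.node 1 (.leaf
  314) (.leaf
  1359))) (.node 1 (.leaf
  125) (.node 1 (.leaf
  838) (.leaf
  91)))) (.node 3 (.node 1 (.leaf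
  986) (.node 1 (.leaf
  874) (.leaf
  441))) (.node 1 (.leaf
  971) (.node 1 (.leaf
  290) (.leaf
  788))))) (.node 6 (.node 3 (.node 1 (.leaf
  880) (.node 1 (.leaf
  565) (.leaf
  1133))) (.node 1 (.leaf
  388) (.node 1 (.leaf
  1278) (.leaf
  282)))) (.node 3 (.node 1 (.leaf
  137) (.node 1 (.leaf
  424) (.leaf
  1042))) (.node 1 (.leaf
  353) (.node 1 (.leaf
  1097) (.leaf
  55)))))))) (.node 47 (.node 23 (.node 11 (.node 5 (.node 2 (.node 1 (.leaf
  1174) (.leaf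
  516)) (.node 1 (.leaf
  289) (.node 1 (.leaf
  527) (.leaf
  185)))) (.node 3 (.node 1 (.leaf
  1426) (.node 1 (.leaf
  237) (.leaf
  1287))) (.node 1 (.leaf
  947) (.node 1 (.leaf
  573) (.leaf
  688))))) (.node 6 (.node 3 (.node 1 (.leaf
  191) (.node 1 (.leaf
  1029) (.leaf
  1353))) (.node 1 (.leaf
  115) (.node 1 (.leaf
  736) (.leaf
  687)))) (.node 3 (.node 1 (.leaf
  354) (.node 1 (.leaf
  707) (.leaf
  1486))) (.node 1 (.leaf
  662) (.node 1 (.leaf
  1387) (.leaf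
  187)))))) (.node 12 (.node 6 (.node 3 (.node 1 (.leaf
  1098) (.node 1 (.leaf
  1431) (.leaf
  1252))) (.node 1 (.leaf
  1109) (.node 1 (.leaf
  1364) (.leaf
  542)))) (.node 3 (.node 1 (.leaf
  789) (.node 1 (.leaf
  412) (.leaf
  882))) (.node 1 (.leaf
  979) (.node 1 (.leaf
  92) (.leaf
  1420))))) (.node 6 (.node 3 (.node 1 (.leaf
  733) (.node 1 (.leaf
  863) (.leaf
  1487))) (.node 1 (.leaf
  608) (.node 1 (.leaf
  1100) (.leaf
  999)))) (.node 3 (.node 1 (.leaf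
  1378) (.node 1 (.leaf
  944) (.leaf
  337))) (.node 1 (.leaf
  1222) (.node 1 (.leaf
  417) (.leaf
  791))))))) (.node 24 (.node 12 (.node 6 (.node 3 (.node 1 (.leaf
  134) (.node 1 (.leaf
  411) (.leaf
  1116))) (.node 1 (.leaf
  1086) (.node 1 (.leaf
  921) (.leaf
  334)))) (.node 3 (.node 1 (.leaf
  369) (.node 1 (.leaf
  630) (.leaf
  1023))) (.node 1 (.leaf
  884) (.node 1 (.leaf
  887) (.leaf
  981))))) (.node 6 (.node 3 (.node 1 (.leaf
  1159) (.node 1 (.leaf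
  852) (.leaf
  332))) (.node 1 (.leaf
  1170) (.node 1 (.leaf
  1102) (.leaf
  329)))) (.node 3 (.node 1 (.leaf
  962) (.node 1 (.leaf
  729) (.leaf
  1423))) (.node 1 (.leaf
  924) (.node 1 (.leaf
  1460) (.leaf
  1452)))))) (.node 12 (.node 6 (.node 3 (.node 1 (.leaf
  1131) (.node 1 (.leaf
  1096) (.leaf
  288))) (.node 1 (.leaf
  22) (.node 1 (.leaf
  1497) (.leaf
  900)))) (.node 3 (.node 1 (.leaf
  26) (.node 1 (.leaf
  553) (.leaf
  604))) (.node 1 (.leaf
  618) (.node 1 (.leaf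
  409) (.leaf
  1298))))) (.node 6 (.node 3 (.node 1 (.leaf
  436) (.node 1 (.leaf
  721) (.leaf
  57))) (.node 1 (.leaf
  1397) (.node 1 (.leaf
  349) (.leaf
  752)))) (.node 3 (.node 1 (.leaf
  1200) (.node 1 (.leaf
  108) (.leaf
  355))) (.node 1 (.leaf
  178) (.node 1 (.leaf
  1501) (.leaf
  1062)))))))))) (.node 189 (.node 94 (.node 47 (.node 23 (.node 11 (.node 5 (.node 2 (.node 1 (.leaf
  325) (.leaf
  549)) (.node 1 (.leaf
  245) (.node 1 (.leaf
  1039) (.leaf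
  1000)))) (.node 3 (.node 1 (.leaf
  98) (.node 1 (.leaf
  362) (.leaf
  1488))) (.node 1 (.leaf
  597) (.node 1 (.leaf
  925) (.leaf
  1127))))) (.node 6 (.node 3 (.node 1 (.leaf
  903) (.node 1 (.leaf
  768) (.leaf
  67))) (.node 1 (.leaf
  719) (.node 1 (.leaf
  1008) (.leaf
  1320)))) (.node 3 (.node 1 (.leaf
  1365) (.node 1 (.leaf
  1049) (.leaf
  691))) (.node 1 (.leaf
  28) (.node 1 (.leaf
  965) (.leaf
  942)))))) (.node 12 (.node 6 (.node 3 (.node 1 (.leaf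
  672) (.node 1 (.leaf
  920) (.leaf
  167))) (.node 1 (.leaf
  147) (.node 1 (.leaf
  529) (.leaf
  849)))) (.node 3 (.node 1 (.leaf
  658) (.node 1 (.leaf
  1401) (.leaf
  843))) (.node 1 (.leaf
  726) (.node 1 (.leaf
  219) (.leaf
  340))))) (.node 6 (.node 3 (.node 1 (.leaf
  122) (.node 1 (.leaf
  1346) (.leaf
  905))) (.node 1 (.leaf
  432) (.node 1 (.leaf
  577) (.leaf
  749)))) (.node 3 (.node 1 (.leaf
  1124) (.node 1 (.leaf
  1468) (.leaf
  308))) (.node 1 (.leaf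
  266) (.node 1 (.leaf
  1010) (.leaf
  79))))))) (.node 23 (.node 11 (.node 5 (.node 2 (.node 1 (.leaf
  1215) (.leaf
  684)) (.node 1 (.leaf
  1413) (.node 1 (.leaf
  769) (.leaf
  911)))) (.node 3 (.node 1 (.leaf
  1295) (.node 1 (.leaf
  35) (.leaf
  138))) (.node 1 (.leaf
  957) (.node 1 (.leaf
  54) (.leaf
  328))))) (.node 6 (.node 3 (.node 1 (.leaf
  1412) (.node 1 (.leaf
  493) (.leaf
  1302))) (.node 1 (.leaf
  1381) (.node 1 (.leaf
  212) (.leaf
  323)))) (.node 3 (.node 1 (.leaf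
  1466) (.node 1 (.leaf
  780) (.leaf
  594))) (.node 1 (.leaf
  1163) (.node 1 (.leaf
  1033) (.leaf
  647)))))) (.node 12 (.node 6 (.node 3 (.node 1 (.leaf
  673) (.node 1 (.leaf
  1172) (.leaf
  1480))) (.node 1 (.leaf
  449) (.node 1 (.leaf
  1437) (.leaf
  226)))) (.node 3 (.node 1 (.leaf
  1329) (.node 1 (.leaf
  888) (.leaf
  1220))) (.node 1 (.leaf
  1063) (.node 1 (.leaf
  803) (.leaf
  1037))))) (.node 6 (.node 3 (.node 1 (.leaf
  19) (.node 1 (.leaf
  867) (.leaf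
  952))) (.node 1 (.leaf
  1185) (.node 1 (.leaf
  477) (.leaf
  932)))) (.node 3 (.node 1 (.leaf
  1072) (.node 1 (.leaf
  1393) (.leaf
  1103))) (.node 1 (.leaf
  690) (.node 1 (.leaf
  403) (.leaf
  236)))))))) (.node 47 (.node 23 (.node 11 (.node 5 (.node 2 (.node 1 (.leaf
  693) (.leaf
  1361)) (.node 1 (.leaf
  1362) (.node 1 (.leaf
  1189) (.leaf
  676)))) (.node 3 (.node 1 (.leaf
  517) (.node 1 (.leaf
  1385) (.leaf
  890))) (.node 1 (.leaf
  1275) (.node 1 (.leaf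
  198) (.leaf
  1206))))) (.node 6 (.node 3 (.node 1 (.leaf
  60) (.node 1 (.leaf
  1192) (.leaf
  956))) (.node 1 (.leaf
  7) (.node 1 (.leaf
  1429) (.leaf
  523)))) (.node 3 (.node 1 (.leaf
  528) (.node 1 (.leaf
  1274) (.leaf
  679))) (.node 1 (.leaf
  566) (.node 1 (.leaf
  550) (.leaf
  586)))))) (.node 12 (.node 6 (.node 3 (.node 1 (.leaf
  792) (.node 1 (.leaf
  389) (.leaf
  1467))) (.node 1 (.leaf
  479) (.node 1 (.leaf
  681) (.leaf
  702)))) (.node 3 (.node 1 (.leaf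
  1080) (.node 1 (.leaf
  1181) (.leaf
  961))) (.node 1 (.leaf
  669) (.node 1 (.leaf
  868) (.leaf
  10))))) (.node 6 (.node 3 (.node 1 (.leaf
  639) (.node 1 (.leaf
  1041) (.leaf
  1232))) (.node 1 (.leaf
  248) (.node 1 (.leaf
  559) (.leaf
  1060)))) (.node 3 (.node 1 (.leaf
  418) (.node 1 (.leaf
  622) (.leaf
  393))) (.node 1 (.leaf
  1078) (.node 1 (.leaf
  1446) (.leaf
  1021))))))) (.node 24 (.node 12 (.node 6 (.node 3 (.node 1 (.leaf
  1108) (.node 1 (.leaf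
  1403) (.leaf
  189))) (.node 1 (.leaf
  894) (.node 1 (.leaf
  1496) (.leaf
  1419)))) (.node 3 (.node 1 (.leaf
  697) (.node 1 (.leaf
  342) (.leaf
  1056))) (.node 1 (.leaf
  872) (.node 1 (.leaf
  875) (.leaf
  1241))))) (.node 6 (.node 3 (.node 1 (.leaf
  3) (.node 1 (.leaf
  110) (.leaf
  698))) (.node 1 (.leaf
  795) (.node 1 (.leaf
  810) (.leaf
  1408)))) (.node 3 (.node 1 (.leaf
  351) (.node 1 (.leaf
  357) (.leaf
  1374))) (.node 1 (.leaf
  547) (.node 1 (.leaf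
  827) (.leaf
  1421)))))) (.node 12 (.node 6 (.node 3 (.node 1 (.leaf
  250) (.node 1 (.leaf
  228) (.leaf
  1082))) (.node 1 (.leaf
  700) (.node 1 (.leaf
  606) (.leaf
  756)))) (.node 3 (.node 1 (.leaf
  1243) (.node 1 (.leaf
  1175) (.leaf
  1044))) (.node 1 (.leaf
  204) (.node 1 (.leaf
  1093) (.leaf
  821))))) (.node 6 (.node 3 (.node 1 (.leaf
  667) (.node 1 (.leaf
  1317) (.leaf
  46))) (.node 1 (.leaf
  906) (.node 1 (.leaf
  1016) (.leaf
  127)))) (.node 3 (.node 1 (.leaf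
  276) (.node 1 (.leaf
  1242) (.leaf
  438))) (.node 1 (.leaf
  1219) (.node 1 (.leaf
  14) (.leaf
  1339))))))))) (.node 94 (.node 47 (.node 23 (.node 11 (.node 5 (.node 2 (.node 1 (.leaf
  505) (.leaf
  87)) (.node 1 (.leaf
  1038) (.node 1 (.leaf
  315) (.leaf
  1289)))) (.node 3 (.node 1 (.leaf
  500) (.node 1 (.leaf
  118) (.leaf
  1117))) (.node 1 (.leaf
  452) (.node 1 (.leaf
  614) (.leaf
  1502))))) (.node 6 (.node 3 (.node 1 (.leaf
  678) (.node 1 (.leaf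
  1457) (.leaf
  387))) (.node 1 (.leaf
  1013) (.node 1 (.leaf
  720) (.leaf
  1379)))) (.node 3 (.node 1 (.leaf
  402) (.node 1 (.leaf
  1285) (.leaf
  735))) (.node 1 (.leaf
  1064) (.node 1 (.leaf
  1201) (.leaf
  912)))))) (.node 12 (.node 6 (.node 3 (.node 1 (.leaf
  1351) (.node 1 (.leaf
  893) (.leaf
  784))) (.node 1 (.leaf
  1066) (.node 1 (.leaf
  871) (.leaf
  709)))) (.node 3 (.node 1 (.leaf
  43) (.node 1 (.leaf
  119) (.leaf
  53))) (.node 1 (.leaf
  385) (.node 1 (.leaf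
  1146) (.leaf
  865))))) (.node 6 (.node 3 (.node 1 (.leaf
  611) (.node 1 (.leaf
  299) (.leaf
  229))) (.node 1 (.leaf
  454) (.node 1 (.leaf
  109) (.leaf
  475)))) (.node 3 (.node 1 (.leaf
  415) (.node 1 (.leaf
  1471) (.leaf
  520))) (.node 1 (.leaf
  1153) (.node 1 (.leaf
  848) (.leaf
  1186))))))) (.node 23 (.node 11 (.node 5 (.node 2 (.node 1 (.leaf
  280) (.leaf
  1054)) (.node 1 (.leaf
  1258) (.node 1 (.leaf
  1310) (.leaf
  1358)))) (.node 3 (.node 1 (.leaf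
  813) (.node 1 (.leaf
  153) (.leaf
  42))) (.node 1 (.leaf
  162) (.node 1 (.leaf
  131) (.leaf
  1165))))) (.node 6 (.node 3 (.node 1 (.leaf
  66) (.node 1 (.leaf
  1347) (.leaf
  1316))) (.node 1 (.leaf
  345) (.node 1 (.leaf
  976) (.leaf
  603)))) (.node 3 (.node 1 (.leaf
  551) (.node 1 (.leaf
  655) (.leaf
  1262))) (.node 1 (.leaf
  283) (.node 1 (.leaf
  258) (.leaf
  1473)))))) (.node 12 (.node 6 (.node 3 (.node 1 (.leaf
  1138) (.node 1 (.leaf
  954) (.leaf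
  372))) (.node 1 (.leaf
  959) (.node 1 (.leaf
  364) (.leaf
  24)))) (.node 3 (.node 1 (.leaf
  170) (.node 1 (.leaf
  431) (.leaf
  1425))) (.node 1 (.leaf
  32) (.node 1 (.leaf
  629) (.leaf
  176))))) (.node 6 (.node 3 (.node 1 (.leaf
  934) (.node 1 (.leaf
  1167) (.leaf
  1476))) (.node 1 (.leaf
  1272) (.node 1 (.leaf
  1177) (.leaf
  1002)))) (.node 3 (.node 1 (.leaf
  1081) (.node 1 (.leaf
  1269) (.leaf
  949))) (.node 1 (.leaf
  1) (.node 1 (.leaf
  660) (.leaf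
  214)))))))) (.node 47 (.node 23 (.node 11 (.node 5 (.node 2 (.node 1 (.leaf
  281) (.leaf
  593)) (.node 1 (.leaf
  491) (.node 1 (.leaf
  1088) (.leaf
  489)))) (.node 3 (.node 1 (.leaf
  1057) (.node 1 (.leaf
  885) (.leaf
  1386))) (.node 1 (.leaf
  878) (.node 1 (.leaf
  1380) (.leaf
  363))))) (.node 6 (.node 3 (.node 1 (.leaf
  781) (.node 1 (.leaf
  783) (.leaf
  1101))) (.node 1 (.leaf
  892) (.node 1 (.leaf
  864) (.leaf
  987)))) (.node 3 (.node 1 (.leaf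
  365) (.node 1 (.leaf
  326) (.leaf
  632))) (.node 1 (.leaf
  929) (.node 1 (.leaf
  296) (.leaf
  100)))))) (.node 12 (.node 6 (.node 3 (.node 1 (.leaf
  456) (.node 1 (.leaf
  139) (.leaf
  197))) (.node 1 (.leaf
  451) (.node 1 (.leaf
  628) (.leaf
  1273)))) (.node 3 (.node 1 (.leaf
  1323) (.node 1 (.leaf
  294) (.leaf
  561))) (.node 1 (.leaf
  321) (.node 1 (.leaf
  556) (.leaf
  36))))) (.node 6 (.node 3 (.node 1 (.leaf
  1184) (.node 1 (.leaf
  745) (.leaf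
  588))) (.node 1 (.leaf
  16) (.node 1 (.leaf
  984) (.leaf
  1470)))) (.node 3 (.node 1 (.leaf
  31) (.node 1 (.leaf
  1328) (.leaf
  404))) (.node 1 (.leaf
  953) (.node 1 (.leaf
  876) (.leaf
  1234))))))) (.node 24 (.node 12 (.node 6 (.node 3 (.node 1 (.leaf
  360) (.node 1 (.leaf
  775) (.leaf
  584))) (.node 1 (.leaf
  922) (.node 1 (.leaf
  1341) (.leaf
  816)))) (.node 3 (.node 1 (.leaf
  522) (.node 1 (.leaf
  1461) (.leaf
  48))) (.node 1 (.leaf
  1012) (.node 1 (.leaf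
  554) (.leaf
  762))))) (.node 6 (.node 3 (.node 1 (.leaf
  1450) (.node 1 (.leaf
  969) (.leaf
  923))) (.node 1 (.leaf
  943) (.node 1 (.leaf
  598) (.leaf
  1484)))) (.node 3 (.node 1 (.leaf
  1150) (.node 1 (.leaf
  132) (.leaf
  331))) (.node 1 (.leaf
  832) (.node 1 (.leaf
  1479) (.leaf
  439)))))) (.node 12 (.node 6 (.node 3 (.node 1 (.leaf
  715) (.node 1 (.leaf
  177) (.leaf
  800))) (.node 1 (.leaf
  907) (.node 1 (.leaf
  85) (.leaf
  1217)))) (.node 3 (.node 1 (.leaf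
  442) (.node 1 (.leaf
  317) (.leaf
  150))) (.node 1 (.leaf
  1190) (.node 1 (.leaf
  486) (.leaf
  1068))))) (.node 6 (.node 3 (.node 1 (.leaf
  564) (.node 1 (.leaf
  1074) (.leaf
  696))) (.node 1 (.leaf
  216) (.node 1 (.leaf
  985) (.leaf
  235)))) (.node 3 (.node 1 (.leaf
  1139) (.node 1 (.leaf
  18) (.leaf
  1126))) (.node 1 (.leaf
  501) (.node 1 (.leaf
  680) (.leaf
  625))))))))))) (.node 378 (.node 189 (.node 94 (.node 47 (.node 23 (.node 11 (.node 5 (.node 2 (.node 1 (.leaf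
  641) (.leaf
  59)) (.node 1 (.leaf
  61) (.node 1 (.leaf
  666) (.leaf
  946)))) (.node 3 (.node 1 (.leaf
  646) (.node 1 (.leaf
  1394) (.leaf
  1301))) (.node 1 (.leaf
  175) (.node 1 (.leaf
  422) (.leaf
  471))))) (.node 6 (.node 3 (.node 1 (.leaf
  1451) (.node 1 (.leaf
  195) (.leaf
  557))) (.node 1 (.leaf
  1025) (.node 1 (.leaf
  1336) (.leaf
  966)))) (.node 3 (.node 1 (.leaf
  4) (.node 1 (.leaf
  469) (.leaf
  50))) (.node 1 (.leaf
  206) (.node 1 (.leaf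
  812) (.leaf
  730)))))) (.node 12 (.node 6 (.node 3 (.node 1 (.leaf
  311) (.node 1 (.leaf
  760) (.leaf
  758))) (.node 1 (.leaf
  963) (.node 1 (.leaf
  1260) (.leaf
  824)))) (.node 3 (.node 1 (.leaf
  855) (.node 1 (.leaf
  1333) (.leaf
  1504))) (.node 1 (.leaf
  633) (.node 1 (.leaf
  1478) (.leaf
  617))))) (.node 6 (.node 3 (.node 1 (.leaf
  20) (.node 1 (.leaf
  292) (.leaf
  135))) (.node 1 (.leaf
  497) (.node 1 (.leaf
  1391) (.leaf
  482)))) (.node 3 (.node 1 (.leaf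
  255) (.node 1 (.leaf
  1286) (.leaf
  820))) (.node 1 (.leaf
  1209) (.node 1 (.leaf
  778) (.leaf
  1440))))))) (.node 23 (.node 11 (.node 5 (.node 2 (.node 1 (.leaf
  468) (.leaf
  1340)) (.node 1 (.leaf
  742) (.node 1 (.leaf
  538) (.leaf
  1433)))) (.node 3 (.node 1 (.leaf
  96) (.node 1 (.leaf
  68) (.leaf
  215))) (.node 1 (.leaf
  462) (.node 1 (.leaf
  209) (.leaf
  1371))))) (.node 6 (.node 3 (.node 1 (.leaf
  1182) (.node 1 (.leaf
  1509) (.leaf
  504))) (.node 1 (.leaf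
  599) (.node 1 (.leaf
  1319) (.leaf
  1458)))) (.node 3 (.node 1 (.leaf
  581) (.node 1 (.leaf
  1338) (.leaf
  845))) (.node 1 (.leaf
  75) (.node 1 (.leaf
  164) (.leaf
  807)))))) (.node 12 (.node 6 (.node 3 (.node 1 (.leaf
  117) (.node 1 (.leaf
  996) (.leaf
  274))) (.node 1 (.leaf
  225) (.node 1 (.leaf
  540) (.leaf
  1304)))) (.node 3 (.node 1 (.leaf
  306) (.node 1 (.leaf
  776) (.leaf
  1327))) (.node 1 (.leaf
  972) (.node 1 (.leaf
  410) (.leaf
  312))))) (.node 6 (.node 3 (.node 1 (.leaf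
  828) (.node 1 (.leaf
  84) (.leaf
  1454))) (.node 1 (.leaf
  413) (.node 1 (.leaf
  545) (.leaf
  862)))) (.node 3 (.node 1 (.leaf
  640) (.node 1 (.leaf
  408) (.leaf
  1474))) (.node 1 (.leaf
  777) (.node 1 (.leaf
  1349) (.leaf
  1050)))))))) (.node 47 (.node 23 (.node 11 (.node 5 (.node 2 (.node 1 (.leaf
  870) (.leaf
  17)) (.node 1 (.leaf
  1154) (.node 1 (.leaf
  601) (.leaf
  443)))) (.node 3 (.node 1 (.leaf
  199) (.node 1 (.leaf
  457) (.leaf
  712))) (.node 1 (.leaf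
  484) (.node 1 (.leaf
  977) (.leaf
  793))))) (.node 6 (.node 3 (.node 1 (.leaf
  913) (.node 1 (.leaf
  607) (.leaf
  755))) (.node 1 (.leaf
  1264) (.node 1 (.leaf
  854) (.leaf
  1356)))) (.node 3 (.node 1 (.leaf
  1300) (.node 1 (.leaf
  1406) (.leaf
  1472))) (.node 1 (.leaf
  1111) (.node 1 (.leaf
  1428) (.leaf
  221)))))) (.node 12 (.node 6 (.node 3 (.node 1 (.leaf
  897) (.node 1 (.leaf
  1453) (.leaf
  918))) (.node 1 (.leaf
  461) (.node 1 (.leaf
  378) (.leaf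
  480)))) (.node 3 (.node 1 (.leaf
  1047) (.node 1 (.leaf
  1121) (.leaf
  1141))) (.node 1 (.leaf
  1292) (.node 1 (.leaf
  664) (.leaf
  1500))))) (.node 6 (.node 3 (.node 1 (.leaf
  851) (.node 1 (.leaf
  1129) (.leaf
  149))) (.node 1 (.leaf
  338) (.node 1 (.leaf
  346) (.leaf
  65)))) (.node 3 (.node 1 (.leaf
  968) (.node 1 (.leaf
  1051) (.leaf
  496))) (.node 1 (.leaf
  193) (.node 1 (.leaf
  1248) (.leaf
  384))))))) (.node 24 (.node 12 (.node 6 (.node 3 (.node 1 (.leaf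
  842) (.node 1 (.leaf
  499) (.leaf
  552))) (.node 1 (.leaf
  241) (.node 1 (.leaf
  1370) (.leaf
  487)))) (.node 3 (.node 1 (.leaf
  850) (.node 1 (.leaf
  535) (.leaf
  391))) (.node 1 (.leaf
  377) (.node 1 (.leaf
  889) (.leaf
  159))))) (.node 6 (.node 3 (.node 1 (.leaf
  931) (.node 1 (.leaf
  1290) (.leaf
  1123))) (.node 1 (.leaf
  200) (.node 1 (.leaf
  220) (.leaf
  380)))) (.node 3 (.node 1 (.leaf
  744) (.node 1 (.leaf
  1402) (.leaf
  1015))) (.node 1 (.leaf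
  1281) (.node 1 (.leaf
  382) (.leaf
  116)))))) (.node 12 (.node 6 (.node 3 (.node 1 (.leaf
  1414) (.node 1 (.leaf
  515) (.leaf
  1214))) (.node 1 (.leaf
  764) (.node 1 (.leaf
  620) (.leaf
  1506)))) (.node 3 (.node 1 (.leaf
  423) (.node 1 (.leaf
  610) (.leaf
  940))) (.node 1 (.leaf
  71) (.node 1 (.leaf
  359) (.leaf
  56))))) (.node 6 (.node 3 (.node 1 (.leaf
  1246) (.node 1 (.leaf
  919) (.leaf
  973))) (.node 1 (.leaf
  1135) (.node 1 (.leaf
  107) (.leaf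
  1375)))) (.node 3 (.node 1 (.leaf
  738) (.node 1 (.leaf
  1022) (.leaf
  1212))) (.node 1 (.leaf
  143) (.node 1 (.leaf
  437) (.leaf
  665))))))))) (.node 94 (.node 47 (.node 23 (.node 11 (.node 5 (.node 2 (.node 1 (.leaf
  1348) (.leaf
  1162)) (.node 1 (.leaf
  1312) (.node 1 (.leaf
  833) (.leaf
  1104)))) (.node 3 (.node 1 (.leaf
  1417) (.node 1 (.leaf
  1511) (.leaf
  1388))) (.node 1 (.leaf
  502) (.node 1 (.leaf
  1382) (.leaf
  794))))) (.node 6 (.node 3 (.node 1 (.leaf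
  474) (.node 1 (.leaf
  1268) (.leaf
  158))) (.node 1 (.leaf
  347) (.node 1 (.leaf
  521) (.leaf
  1178)))) (.node 3 (.node 1 (.leaf
  886) (.node 1 (.leaf
  168) (.leaf
  526))) (.node 1 (.leaf
  287) (.node 1 (.leaf
  798) (.leaf
  839)))))) (.node 12 (.node 6 (.node 3 (.node 1 (.leaf
  650) (.node 1 (.leaf
  1118) (.leaf
  847))) (.node 1 (.leaf
  29) (.node 1 (.leaf
  1089) (.leaf
  767)))) (.node 3 (.node 1 (.leaf
  1164) (.node 1 (.leaf
  39) (.leaf
  1369))) (.node 1 (.leaf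
  1134) (.node 1 (.leaf
  12) (.leaf
  506))))) (.node 6 (.node 3 (.node 1 (.leaf
  686) (.node 1 (.leaf
  1168) (.leaf
  1325))) (.node 1 (.leaf
  1299) (.node 1 (.leaf
  1227) (.leaf
  1284)))) (.node 3 (.node 1 (.leaf
  179) (.node 1 (.leaf
  1106) (.leaf
  1441))) (.node 1 (.leaf
  1031) (.node 1 (.leaf
  731) (.leaf
  695))))))) (.node 23 (.node 11 (.node 5 (.node 2 (.node 1 (.leaf
  1199) (.leaf
  692)) (.node 1 (.leaf
  1251) (.node 1 (.leaf
  624) (.leaf
  716)))) (.node 3 (.node 1 (.leaf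
  509) (.node 1 (.leaf
  1395) (.leaf
  1136))) (.node 1 (.leaf
  511) (.node 1 (.leaf
  536) (.leaf
  858))))) (.node 6 (.node 3 (.node 1 (.leaf
  273) (.node 1 (.leaf
  1376) (.leaf
  652))) (.node 1 (.leaf
  706) (.node 1 (.leaf
  1306) (.leaf
  421)))) (.node 3 (.node 1 (.leaf
  1018) (.node 1 (.leaf
  1308) (.leaf
  910))) (.node 1 (.leaf
  295) (.node 1 (.leaf
  427) (.leaf
  1059)))))) (.node 12 (.node 6 (.node 3 (.node 1 (.leaf
  121) (.node 1 (.leaf
  1331) (.leaf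
  298))) (.node 1 (.leaf
  711) (.node 1 (.leaf
  1084) (.leaf
  466)))) (.node 3 (.node 1 (.leaf
  293) (.node 1 (.leaf
  1507) (.leaf
  1019))) (.node 1 (.leaf
  1236) (.node 1 (.leaf
  817) (.leaf
  1091))))) (.node 6 (.node 3 (.node 1 (.leaf
  27) (.node 1 (.leaf
  1004) (.leaf
  743))) (.node 1 (.leaf
  341) (.node 1 (.leaf
  180) (.leaf
  356)))) (.node 3 (.node 1 (.leaf
  546) (.node 1 (.leaf
  656) (.leaf
  915))) (.node 1 (.leaf
  1032) (.node 1 (.leaf
  975) (.leaf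
  512)))))))) (.node 47 (.node 23 (.node 11 (.node 5 (.node 2 (.node 1 (.leaf
  635) (.leaf
  1267)) (.node 1 (.leaf
  841) (.node 1 (.leaf
  1311) (.leaf
  1363)))) (.node 3 (.node 1 (.leaf
  1197) (.node 1 (.leaf
  1503) (.leaf
  898))) (.node 1 (.leaf
  1249) (.node 1 (.leaf
  152) (.leaf
  1110))))) (.node 6 (.node 3 (.node 1 (.leaf
  1330) (.node 1 (.leaf
  982) (.leaf
  375))) (.node 1 (.leaf
  464) (.node 1 (.leaf
  653) (.leaf
  814)))) (.node 3 (.node 1 (.leaf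
  937) (.node 1 (.leaf
  967) (.leaf
  1360))) (.node 1 (.leaf
  492) (.node 1 (.leaf
  1483) (.leaf
  840)))))) (.node 12 (.node 6 (.node 3 (.node 1 (.leaf
  950) (.node 1 (.leaf
  218) (.leaf
  440))) (.node 1 (.leaf
  448) (.node 1 (.leaf
  44) (.leaf
  902)))) (.node 3 (.node 1 (.leaf
  818) (.node 1 (.leaf
  668) (.leaf
  154))) (.node 1 (.leaf
  1427) (.node 1 (.leaf
  268) (.leaf
  831))))) (.node 6 (.node 3 (.node 1 (.leaf
  670) (.node 1 (.leaf
  718) (.leaf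
  173))) (.node 1 (.leaf
  1368) (.node 1 (.leaf
  659) (.leaf
  1075)))) (.node 3 (.node 1 (.leaf
  525) (.node 1 (.leaf
  275) (.leaf
  463))) (.node 1 (.leaf
  1105) (.node 1 (.leaf
  227) (.leaf
  809))))))) (.node 24 (.node 12 (.node 6 (.node 3 (.node 1 (.leaf
  1195) (.node 1 (.leaf
  939) (.leaf
  181))) (.node 1 (.leaf
  151) (.node 1 (.leaf
  264) (.leaf
  602)))) (.node 3 (.node 1 (.leaf
  1191) (.node 1 (.leaf
  772) (.leaf
  1256))) (.node 1 (.leaf
  165) (.node 1 (.leaf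
  434) (.leaf
  596))))) (.node 6 (.node 3 (.node 1 (.leaf
  210) (.node 1 (.leaf
  330) (.leaf
  1122))) (.node 1 (.leaf
  1036) (.node 1 (.leaf
  366) (.leaf
  748)))) (.node 3 (.node 1 (.leaf
  916) (.node 1 (.leaf
  155) (.leaf
  1332))) (.node 1 (.leaf
  761) (.node 1 (.leaf
  1481) (.leaf
  928)))))) (.node 12 (.node 6 (.node 3 (.node 1 (.leaf
  1266) (.node 1 (.leaf
  815) (.leaf
  682))) (.node 1 (.leaf
  980) (.node 1 (.leaf
  126) (.leaf
  579)))) (.node 3 (.node 1 (.leaf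
  420) (.node 1 (.leaf
  1218) (.leaf
  1210))) (.node 1 (.leaf
  1469) (.node 1 (.leaf
  514) (.leaf
  560))))) (.node 6 (.node 3 (.node 1 (.leaf
  148) (.node 1 (.leaf
  267) (.leaf
  166))) (.node 1 (.leaf
  205) (.node 1 (.leaf
  562) (.leaf
  336)))) (.node 3 (.node 1 (.leaf
  1372) (.node 1 (.leaf
  644) (.leaf
  1294))) (.node 1 (.leaf
  1166) (.node 1 (.leaf
  1240) (.leaf
  133)))))))))) (.node 189 (.node 94 (.node 47 (.node 23 (.node 11 (.node 5 (.node 2 (.node 1 (.leaf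
  710) (.leaf
  1399)) (.node 1 (.leaf
  595) (.node 1 (.leaf
  927) (.leaf
  344)))) (.node 3 (.node 1 (.leaf
  951) (.node 1 (.leaf
  476) (.leaf
  278))) (.node 1 (.leaf
  1067) (.node 1 (.leaf
  1017) (.leaf
  419))))) (.node 6 (.node 3 (.node 1 (.leaf
  933) (.node 1 (.leaf
  1194) (.leaf
  13))) (.node 1 (.leaf
  732) (.node 1 (.leaf
  263) (.leaf
  478)))) (.node 3 (.node 1 (.leaf
  1125) (.node 1 (.leaf
  989) (.leaf
  343))) (.node 1 (.leaf
  183) (.node 1 (.leaf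
  1373) (.leaf
  374)))))) (.node 12 (.node 6 (.node 3 (.node 1 (.leaf
  754) (.node 1 (.leaf
  1357) (.leaf
  481))) (.node 1 (.leaf
  465) (.node 1 (.leaf
  45) (.leaf
  1203)))) (.node 3 (.node 1 (.leaf
  163) (.node 1 (.leaf
  926) (.leaf
  830))) (.node 1 (.leaf
  1196) (.node 1 (.leaf
  1026) (.leaf
  433))))) (.node 6 (.node 3 (.node 1 (.leaf
  190) (.node 1 (.leaf
  1314) (.leaf
  1321))) (.node 1 (.leaf
  1207) (.node 1 (.leaf
  904) (.leaf
  196)))) (.node 3 (.node 1 (.leaf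
  714) (.node 1 (.leaf
  1418) (.leaf
  537))) (.node 1 (.leaf
  1377) (.node 1 (.leaf
  580) (.leaf
  1303))))))) (.node 23 (.node 11 (.node 5 (.node 2 (.node 1 (.leaf
  1198) (.leaf
  997)) (.node 1 (.leaf
  1367) (.node 1 (.leaf
  901) (.leaf
  339)))) (.node 3 (.node 1 (.leaf
  1094) (.node 1 (.leaf
  88) (.leaf
  804))) (.node 1 (.leaf
  128) (.node 1 (.leaf
  406) (.leaf
  909))))) (.node 6 (.node 3 (.node 1 (.leaf
  1099) (.node 1 (.leaf
  727) (.leaf
  955))) (.node 1 (.leaf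
  272) (.node 1 (.leaf
  1028) (.leaf
  106)))) (.node 3 (.node 1 (.leaf
  309) (.node 1 (.leaf
  806) (.leaf
  455))) (.node 1 (.leaf
  1444) (.node 1 (.leaf
  398) (.leaf
  1352)))))) (.node 12 (.node 6 (.node 3 (.node 1 (.leaf
  534) (.node 1 (.leaf
  95) (.leaf
  1223))) (.node 1 (.leaf
  734) (.node 1 (.leaf
  616) (.leaf
  766)))) (.node 3 (.node 1 (.leaf
  105) (.node 1 (.leaf
  507) (.leaf
  114))) (.node 1 (.leaf
  1411) (.node 1 (.leaf
  1014) (.leaf
  1250))))) (.node 6 (.node 3 (.node 1 (.leaf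
  265) (.node 1 (.leaf
  746) (.leaf
  1354))) (.node 1 (.leaf
  1291) (.node 1 (.leaf
  429) (.leaf
  1229)))) (.node 3 (.node 1 (.leaf
  998) (.node 1 (.leaf
  571) (.leaf
  297))) (.node 1 (.leaf
  708) (.node 1 (.leaf
  765) (.leaf
  1430)))))))) (.node 47 (.node 23 (.node 11 (.node 5 (.node 2 (.node 1 (.leaf
  1280) (.leaf
  896)) (.node 1 (.leaf
  891) (.node 1 (.leaf
  103) (.leaf
  1228)))) (.node 3 (.node 1 (.leaf
  589) (.node 1 (.leaf
  881) (.leaf
  883))) (.node 1 (.leaf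
  747) (.node 1 (.leaf
  1485) (.leaf
  1149))))) (.node 6 (.node 3 (.node 1 (.leaf
  1085) (.node 1 (.leaf
  1157) (.leaf
  1128))) (.node 1 (.leaf
  370) (.node 1 (.leaf
  1213) (.leaf
  302)))) (.node 3 (.node 1 (.leaf
  1030) (.node 1 (.leaf
  694) (.leaf
  405))) (.node 1 (.leaf
  1390) (.node 1 (.leaf
  685) (.leaf
  877)))))) (.node 12 (.node 6 (.node 3 (.node 1 (.leaf
  34) (.node 1 (.leaf
  945) (.leaf
  615))) (.node 1 (.leaf
  1279) (.node 1 (.leaf
  519) (.leaf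
  1239)))) (.node 3 (.node 1 (.leaf
  247) (.node 1 (.leaf
  169) (.leaf
  592))) (.node 1 (.leaf
  1309) (.node 1 (.leaf
  253) (.leaf
  790))))) (.node 6 (.node 3 (.node 1 (.leaf
  78) (.node 1 (.leaf
  1171) (.leaf
  490))) (.node 1 (.leaf
  879) (.node 1 (.leaf
  1259) (.leaf
  249)))) (.node 3 (.node 1 (.leaf
  518) (.node 1 (.leaf
  291) (.leaf
  1498))) (.node 1 (.leaf
  541) (.node 1 (.leaf
  1205) (.leaf
  459))))))) (.node 24 (.node 12 (.node 6 (.node 3 (.node 1 (.leaf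
  1389) (.node 1 (.leaf
  991) (.leaf
  224))) (.node 1 (.leaf
  1027) (.node 1 (.leaf
  76) (.leaf
  1188)))) (.node 3 (.node 1 (.leaf
  213) (.node 1 (.leaf
  86) (.leaf
  637))) (.node 1 (.leaf
  201) (.node 1 (.leaf
  435) (.leaf
  58))))) (.node 6 (.node 3 (.node 1 (.leaf
  246) (.node 1 (.leaf
  844) (.leaf
  192))) (.node 1 (.leaf
  367) (.node 1 (.leaf
  619) (.leaf
  869)))) (.node 3 (.node 1 (.leaf
  1112) (.node 1 (.leaf
  348) (.leaf
  1442))) (.node 1 (.leaf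
  171) (.node 1 (.leaf
  988) (.leaf
  1443)))))) (.node 12 (.node 6 (.node 3 (.node 1 (.leaf
  1053) (.node 1 (.leaf
  1495) (.leaf
  569))) (.node 1 (.leaf
  25) (.node 1 (.leaf
  93) (.leaf
  725)))) (.node 3 (.node 1 (.leaf
  142) (.node 1 (.leaf
  1435) (.leaf
  102))) (.node 1 (.leaf
  270) (.node 1 (.leaf
  1490) (.leaf
  358))))) (.node 6 (.node 3 (.node 1 (.leaf
  1065) (.node 1 (.leaf
  796) (.leaf
  400))) (.node 1 (.leaf
  485) (.node 1 (.leaf
  416) (.leaf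
  174)))) (.node 3 (.node 1 (.leaf
  993) (.node 1 (.leaf
  1040) (.leaf
  539))) (.node 1 (.leaf
  1120) (.node 1 (.leaf
  1307) (.leaf
  532))))))))) (.node 94 (.node 47 (.node 23 (.node 11 (.node 5 (.node 2 (.node 1 (.leaf
  1076) (.leaf
  279)) (.node 1 (.leaf
  41) (.node 1 (.leaf
  74) (.leaf
  763)))) (.node 3 (.node 1 (.leaf
  1424) (.node 1 (.leaf
  857) (.leaf
  285))) (.node 1 (.leaf
  1233) (.node 1 (.leaf
  1144) (.leaf
  728))))) (.node 6 (.node 3 (.node 1 (.leaf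
  751) (.node 1 (.leaf
  1001) (.leaf
  1270))) (.node 1 (.leaf
  1083) (.node 1 (.leaf
  1005) (.leaf
  1071)))) (.node 3 (.node 1 (.leaf
  6) (.node 1 (.leaf
  120) (.leaf
  172))) (.node 1 (.leaf
  425) (.node 1 (.leaf
  612) (.leaf
  262)))))) (.node 12 (.node 6 (.node 3 (.node 1 (.leaf
  1345) (.node 1 (.leaf
  313) (.leaf
  1343))) (.node 1 (.leaf
  498) (.node 1 (.leaf
  801) (.leaf
  15)))) (.node 3 (.node 1 (.leaf
  759) (.node 1 (.leaf
  805) (.leaf
  186))) (.node 1 (.leaf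
  1422) (.node 1 (.leaf
  723) (.leaf
  829))))) (.node 6 (.node 3 (.node 1 (.leaf
  303) (.node 1 (.leaf
  578) (.leaf
  277))) (.node 1 (.leaf
  856) (.node 1 (.leaf
  1288) (.leaf
  779)))) (.node 3 (.node 1 (.leaf
  251) (.node 1 (.leaf
  895) (.leaf
  1193))) (.node 1 (.leaf
  1107) (.node 1 (.leaf
  1225) (.leaf
  1494))))))) (.node 23 (.node 11 (.node 5 (.node 2 (.node 1 (.leaf
  530) (.leaf
  444)) (.node 1 (.leaf
  825) (.node 1 (.leaf
  935) (.leaf
  1095)))) (.node 3 (.node 1 (.leaf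
  5) (.node 1 (.leaf
  1254) (.leaf
  73))) (.node 1 (.leaf
  531) (.node 1 (.leaf
  1034) (.leaf
  958))))) (.node 6 (.node 3 (.node 1 (.leaf
  1204) (.node 1 (.leaf
  453) (.leaf
  458))) (.node 1 (.leaf
  1465) (.node 1 (.leaf
  1058) (.leaf
  713)))) (.node 3 (.node 1 (.leaf
  1230) (.node 1 (.leaf
  188) (.leaf
  160))) (.node 1 (.leaf
  533) (.node 1 (.leaf
  503) (.leaf
  860)))))) (.node 12 (.node 6 (.node 3 (.node 1 (.leaf
  636) (.node 1 (.leaf
  1257) (.leaf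
  1324))) (.node 1 (.leaf
  808) (.node 1 (.leaf
  259) (.leaf
  873)))) (.node 3 (.node 1 (.leaf
  1052) (.node 1 (.leaf
  495) (.leaf
  1216))) (.node 1 (.leaf
  773) (.node 1 (.leaf
  52) (.leaf
  908))))) (.node 6 (.node 3 (.node 1 (.leaf
  90) (.node 1 (.leaf
  392) (.leaf
  1255))) (.node 1 (.leaf
  1416) (.node 1 (.leaf
  324) (.leaf
  9)))) (.node 3 (.node 1 (.leaf
  1366) (.node 1 (.leaf
  675) (.leaf
  124))) (.node 1 (.leaf
  799) (.node 1 (.leaf
  430) (.leaf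
  1447)))))))) (.node 47 (.node 23 (.node 11 (.node 5 (.node 2 (.node 1 (.leaf
  671) (.leaf
  81)) (.node 1 (.leaf
  930) (.node 1 (.leaf
  350) (.leaf
  572)))) (.node 3 (.node 1 (.leaf
  1505) (.node 1 (.leaf
  508) (.leaf
  1334))) (.node 1 (.leaf
  271) (.node 1 (.leaf
  770) (.leaf
  1158))))) (.node 6 (.node 3 (.node 1 (.leaf
  286) (.node 1 (.leaf
  555) (.leaf
  1283))) (.node 1 (.leaf
  591) (.node 1 (.leaf
  1226) (.leaf
  974)))) (.node 3 (.node 1 (.leaf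
  834) (.node 1 (.leaf
  1296) (.leaf
  785))) (.node 1 (.leaf
  722) (.node 1 (.leaf
  1245) (.leaf
  1140)))))) (.node 12 (.node 6 (.node 3 (.node 1 (.leaf
  307) (.node 1 (.leaf
  1326) (.leaf
  645))) (.node 1 (.leaf
  256) (.node 1 (.leaf
  1160) (.leaf
  243)))) (.node 3 (.node 1 (.leaf
  1179) (.node 1 (.leaf
  473) (.leaf
  40))) (.node 1 (.leaf
  494) (.node 1 (.leaf
  948) (.leaf
  467))))) (.node 6 (.node 3 (.node 1 (.leaf
  38) (.node 1 (.leaf
  510) (.leaf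
  567))) (.node 1 (.leaf
  575) (.node 1 (.leaf
  1477) (.leaf
  631)))) (.node 3 (.node 1 (.leaf
  1456) (.node 1 (.leaf
  1077) (.leaf
  1491))) (.node 1 (.leaf
  1432) (.node 1 (.leaf
  1055) (.leaf
  1137))))))) (.node 24 (.node 12 (.node 6 (.node 3 (.node 1 (.leaf
  426) (.node 1 (.leaf
  585) (.leaf
  1006))) (.node 1 (.leaf
  638) (.node 1 (.leaf
  1045) (.leaf
  69)))) (.node 3 (.node 1 (.leaf
  643) (.node 1 (.leaf
  261) (.leaf
  2))) (.node 1 (.leaf
  1396) (.node 1 (.leaf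
  130) (.leaf
  1261))))) (.node 6 (.node 3 (.node 1 (.leaf
  49) (.node 1 (.leaf
  146) (.leaf
  1462))) (.node 1 (.leaf
  376) (.node 1 (.leaf
  140) (.leaf
  600)))) (.node 3 (.node 1 (.leaf
  704) (.node 1 (.leaf
  1253) (.leaf
  642))) (.node 1 (.leaf
  960) (.node 1 (.leaf
  1445) (.leaf
  1322)))))) (.node 12 (.node 6 (.node 3 (.node 1 (.leaf
  1020) (.node 1 (.leaf
  1271) (.leaf
  194))) (.node 1 (.leaf
  101) (.node 1 (.leaf
  524) (.leaf
  30)))) (.node 3 (.node 1 (.leaf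
  407) (.node 1 (.leaf
  1176) (.leaf
  558))) (.node 1 (.leaf
  80) (.node 1 (.leaf
  994) (.leaf
  1043))))) (.node 6 (.node 3 (.node 1 (.leaf
  390) (.node 1 (.leaf
  157) (.leaf
  112))) (.node 1 (.leaf
  232) (.node 1 (.leaf
  1459) (.leaf
  1070)))) (.node 3 (.node 1 (.leaf
  1335) (.node 1 (.leaf
  1449) (.leaf
  582))) (.node 1 (.leaf
  741) (.node 1 (.leaf
  1489) (.leaf
  674))))))))))))

/-- The ranks. -/
def stR6 : Tree :=
  (.node 756 (.node 378 (.node 189 (.node 94 (.node 47 (.node 23 (.node 11 (.node 5 (.node 2 (.node 1 (.leaf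
  0) (.leaf
  658)) (.node 1 (.leaf
  1472) (.node 1 (.leaf
  531) (.leaf
  773)))) (.node 3 (.node 1 (.leaf
  1375) (.node 1 (.leaf
  1340) (.leaf
  486))) (.node 1 (.leaf
  105) (.node 1 (.leaf
  1410) (.leaf
  506))))) (.node 6 (.node 3 (.node 1 (.leaf
  216) (.node 1 (.leaf
  978) (.leaf
  1147))) (.node 1 (.leaf
  565) (.node 1 (.leaf
  1351) (.leaf
  699)))) (.node 3 (.node 1 (.leaf
  851) (.node 1 (.leaf
  751) (.leaf
  460))) (.node 1 (.leaf
  791) (.node 1 (.leaf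
  20) (.leaf
  357)))))) (.node 12 (.node 6 (.node 3 (.node 1 (.leaf
  24) (.node 1 (.leaf
  642) (.leaf
  1302))) (.node 1 (.leaf
  360) (.node 1 (.leaf
  1027) (.leaf
  398)))) (.node 3 (.node 1 (.leaf
  971) (.node 1 (.leaf
  1493) (.leaf
  702))) (.node 1 (.leaf
  646) (.node 1 (.leaf
  175) (.leaf
  1251))))) (.node 6 (.node 3 (.node 1 (.leaf
  431) (.node 1 (.leaf
  695) (.leaf
  192))) (.node 1 (.leaf
  1452) (.node 1 (.leaf
  975) (.leaf
  1448)))) (.node 3 (.node 1 (.leaf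
  1325) (.node 1 (.leaf
  621) (.leaf
  596))) (.node 1 (.leaf
  1066) (.node 1 (.leaf
  1161) (.leaf
  557))))))) (.node 23 (.node 11 (.node 5 (.node 2 (.node 1 (.leaf
  50) (.leaf
  716)) (.node 1 (.leaf
  1476) (.node 1 (.leaf
  775) (.leaf
  120)))) (.node 3 (.node 1 (.leaf
  1403) (.node 1 (.leaf
  598) (.leaf
  434))) (.node 1 (.leaf
  282) (.node 1 (.leaf
  932) (.leaf
  368))))) (.node 6 (.node 3 (.node 1 (.leaf
  1286) (.node 1 (.leaf
  757) (.leaf
  483))) (.node 1 (.leaf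
  758) (.node 1 (.leaf
  233) (.leaf
  46)))) (.node 3 (.node 1 (.leaf
  69) (.node 1 (.leaf
  890) (.leaf
  625))) (.node 1 (.leaf
  391) (.node 1 (.leaf
  809) (.leaf
  1469)))))) (.node 12 (.node 6 (.node 3 (.node 1 (.leaf
  72) (.node 1 (.leaf
  930) (.leaf
  54))) (.node 1 (.leaf
  1377) (.node 1 (.leaf
  1326) (.leaf
  823)))) (.node 3 (.node 1 (.leaf
  1279) (.node 1 (.leaf
  249) (.leaf
  1263))) (.node 1 (.leaf
  424) (.node 1 (.leaf
  1497) (.leaf
  1418))))) (.node 6 (.node 3 (.node 1 (.leaf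
  71) (.node 1 (.leaf
  214) (.leaf
  839))) (.node 1 (.leaf
  736) (.node 1 (.leaf
  1282) (.leaf
  568)))) (.node 3 (.node 1 (.leaf
  1187) (.node 1 (.leaf
  162) (.leaf
  1405))) (.node 1 (.leaf
  264) (.node 1 (.leaf
  316) (.leaf
  1303)))))))) (.node 47 (.node 23 (.node 11 (.node 5 (.node 2 (.node 1 (.leaf
  247) (.leaf
  1205)) (.node 1 (.leaf
  808) (.node 1 (.leaf
  48) (.leaf
  383)))) (.node 3 (.node 1 (.leaf
  141) (.node 1 (.leaf
  683) (.leaf
  1491))) (.node 1 (.leaf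
  1307) (.node 1 (.leaf
  1231) (.leaf
  176))))) (.node 6 (.node 3 (.node 1 (.leaf
  1210) (.node 1 (.leaf
  1197) (.leaf
  937))) (.node 1 (.leaf
  373) (.node 1 (.leaf
  606) (.leaf
  532)))) (.node 3 (.node 1 (.leaf
  238) (.node 1 (.leaf
  1502) (.leaf
  188))) (.node 1 (.leaf
  1212) (.node 1 (.leaf
  297) (.leaf
  920)))))) (.node 12 (.node 6 (.node 3 (.node 1 (.leaf
  826) (.node 1 (.leaf
  573) (.leaf
  597))) (.node 1 (.leaf
  1341) (.node 1 (.leaf
  1015) (.leaf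
  413)))) (.node 3 (.node 1 (.leaf
  190) (.node 1 (.leaf
  1413) (.leaf
  262))) (.node 1 (.leaf
  1114) (.node 1 (.leaf
  560) (.leaf
  1189))))) (.node 6 (.node 3 (.node 1 (.leaf
  242) (.node 1 (.leaf
  1474) (.leaf
  623))) (.node 1 (.leaf
  727) (.node 1 (.leaf
  1133) (.leaf
  330)))) (.node 3 (.node 1 (.leaf
  793) (.node 1 (.leaf
  173) (.leaf
  277))) (.node 1 (.leaf
  432) (.node 1 (.leaf
  685) (.leaf
  1480))))))) (.node 24 (.node 12 (.node 6 (.node 3 (.node 1 (.leaf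
  146) (.node 1 (.leaf
  1305) (.leaf
  942))) (.node 1 (.leaf
  189) (.node 1 (.leaf
  3) (.leaf
  1477)))) (.node 3 (.node 1 (.leaf
  404) (.node 1 (.leaf
  1122) (.leaf
  887))) (.node 1 (.leaf
  740) (.node 1 (.leaf
  1089) (.leaf
  1048))))) (.node 6 (.node 3 (.node 1 (.leaf
  620) (.node 1 (.leaf
  1070) (.leaf
  1105))) (.node 1 (.leaf
  185) (.node 1 (.leaf
  1501) (.leaf
  958)))) (.node 3 (.node 1 (.leaf
  908) (.node 1 (.leaf
  1389) (.leaf
  56))) (.node 1 (.leaf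
  622) (.node 1 (.leaf
  1163) (.leaf
  824)))))) (.node 12 (.node 6 (.node 3 (.node 1 (.leaf
  1095) (.node 1 (.leaf
  1124) (.leaf
  403))) (.node 1 (.leaf
  963) (.node 1 (.leaf
  1258) (.leaf
  643)))) (.node 3 (.node 1 (.leaf
  1296) (.node 1 (.leaf
  1342) (.leaf
  1076))) (.node 1 (.leaf
  1316) (.node 1 (.leaf
  764) (.leaf
  648))))) (.node 6 (.node 3 (.node 1 (.leaf
  733) (.node 1 (.leaf
  375) (.leaf
  986))) (.node 1 (.leaf
  1031) (.node 1 (.leaf
  1088) (.leaf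
  194)))) (.node 3 (.node 1 (.leaf
  1154) (.node 1 (.leaf
  193) (.leaf
  287))) (.node 1 (.leaf
  1354) (.node 1 (.leaf
  305) (.leaf
  1388))))))))) (.node 94 (.node 47 (.node 23 (.node 11 (.node 5 (.node 2 (.node 1 (.leaf
  521) (.leaf
  1169)) (.node 1 (.leaf
  294) (.node 1 (.leaf
  1289) (.leaf
  894)))) (.node 3 (.node 1 (.leaf
  1490) (.node 1 (.leaf
  768) (.leaf
  1174))) (.node 1 (.leaf
  686) (.node 1 (.leaf
  481) (.leaf
  855))))) (.node 6 (.node 3 (.node 1 (.leaf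
  912) (.node 1 (.leaf
  1284) (.leaf
  113))) (.node 1 (.leaf
  32) (.node 1 (.leaf
  552) (.leaf
  1125)))) (.node 3 (.node 1 (.leaf
  776) (.node 1 (.leaf
  217) (.leaf
  119))) (.node 1 (.leaf
  812) (.node 1 (.leaf
  1098) (.leaf
  170)))))) (.node 12 (.node 6 (.node 3 (.node 1 (.leaf
  440) (.node 1 (.leaf
  1281) (.leaf
  660))) (.node 1 (.leaf
  810) (.node 1 (.leaf
  747) (.leaf
  129)))) (.node 3 (.node 1 (.leaf
  1063) (.node 1 (.leaf
  411) (.leaf
  913))) (.node 1 (.leaf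
  872) (.node 1 (.leaf
  45) (.leaf
  151))))) (.node 6 (.node 3 (.node 1 (.leaf
  1277) (.node 1 (.leaf
  829) (.leaf
  453))) (.node 1 (.leaf
  1084) (.node 1 (.leaf
  544) (.leaf
  604)))) (.node 3 (.node 1 (.leaf
  47) (.node 1 (.leaf
  80) (.leaf
  1503))) (.node 1 (.leaf
  148) (.node 1 (.leaf
  138) (.leaf
  749))))))) (.node 23 (.node 11 (.node 5 (.node 2 (.node 1 (.leaf
  471) (.leaf
  289)) (.node 1 (.leaf
  21) (.node 1 (.leaf
  198) (.leaf
  213)))) (.node 3 (.node 1 (.leaf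
  900) (.node 1 (.leaf
  231) (.leaf
  1445))) (.node 1 (.leaf
  26) (.node 1 (.leaf
  380) (.leaf
  1287))))) (.node 6 (.node 3 (.node 1 (.leaf
  1257) (.node 1 (.leaf
  510) (.leaf
  1268))) (.node 1 (.leaf
  543) (.node 1 (.leaf
  1364) (.leaf
  86)))) (.node 3 (.node 1 (.leaf
  1261) (.node 1 (.leaf
  197) (.leaf
  797))) (.node 1 (.leaf
  1443) (.node 1 (.leaf
  91) (.leaf
  635)))))) (.node 12 (.node 6 (.node 3 (.node 1 (.leaf
  1397) (.node 1 (.leaf
  135) (.leaf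
  1471))) (.node 1 (.leaf
  1345) (.node 1 (.leaf
  1149) (.leaf
  1090)))) (.node 3 (.node 1 (.leaf
  1216) (.node 1 (.leaf
  422) (.leaf
  1123))) (.node 1 (.leaf
  1072) (.node 1 (.leaf
  73) (.leaf
  1308))))) (.node 6 (.node 3 (.node 1 (.leaf
  1425) (.node 1 (.leaf
  1195) (.leaf
  1003))) (.node 1 (.leaf
  828) (.node 1 (.leaf
  1081) (.leaf
  561)))) (.node 3 (.node 1 (.leaf
  1360) (.node 1 (.leaf
  1141) (.leaf
  1324))) (.node 1 (.leaf
  614) (.node 1 (.leaf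
  661) (.leaf
  276)))))))) (.node 47 (.node 23 (.node 11 (.node 5 (.node 2 (.node 1 (.leaf
  634) (.leaf
  223)) (.node 1 (.leaf
  1330) (.node 1 (.leaf
  1428) (.leaf
  965)))) (.node 3 (.node 1 (.leaf
  356) (.node 1 (.leaf
  285) (.leaf
  269))) (.node 1 (.leaf
  1270) (.node 1 (.leaf
  792) (.leaf
  1021))))) (.node 6 (.node 3 (.node 1 (.leaf
  691) (.node 1 (.leaf
  1012) (.leaf
  682))) (.node 1 (.leaf
  1224) (.node 1 (.leaf
  1017) (.leaf
  603)))) (.node 3 (.node 1 (.leaf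
  58) (.node 1 (.leaf
  229) (.leaf
  1244))) (.node 1 (.leaf
  1358) (.node 1 (.leaf
  109) (.leaf
  126)))))) (.node 12 (.node 6 (.node 3 (.node 1 (.leaf
  832) (.node 1 (.leaf
  1440) (.leaf
  421))) (.node 1 (.leaf
  1198) (.node 1 (.leaf
  215) (.leaf
  779)))) (.node 3 (.node 1 (.leaf
  837) (.node 1 (.leaf
  1347) (.leaf
  260))) (.node 1 (.leaf
  570) (.node 1 (.leaf
  22) (.leaf
  739))))) (.node 6 (.node 3 (.node 1 (.leaf
  85) (.node 1 (.leaf
  147) (.leaf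
  195))) (.node 1 (.leaf
  693) (.node 1 (.leaf
  153) (.leaf
  441)))) (.node 3 (.node 1 (.leaf
  1409) (.node 1 (.leaf
  378) (.leaf
  679))) (.node 1 (.leaf
  178) (.node 1 (.leaf
  435) (.leaf
  347))))))) (.node 24 (.node 12 (.node 6 (.node 3 (.node 1 (.leaf
  1099) (.node 1 (.leaf
  728) (.leaf
  344))) (.node 1 (.leaf
  19) (.node 1 (.leaf
  335) (.leaf
  191)))) (.node 3 (.node 1 (.leaf
  1127) (.node 1 (.leaf
  326) (.leaf
  888))) (.node 1 (.leaf
  1185) (.node 1 (.leaf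
  412) (.leaf
  1030))))) (.node 6 (.node 3 (.node 1 (.leaf
  526) (.node 1 (.leaf
  1153) (.leaf
  1138))) (.node 1 (.leaf
  628) (.node 1 (.leaf
  889) (.leaf
  959)))) (.node 3 (.node 1 (.leaf
  1294) (.node 1 (.leaf
  370) (.leaf
  1420))) (.node 1 (.leaf
  537) (.node 1 (.leaf
  57) (.leaf
  280)))))) (.node 12 (.node 6 (.node 3 (.node 1 (.leaf
  300) (.node 1 (.leaf
  374) (.leaf
  1032))) (.node 1 (.leaf
  538) (.node 1 (.leaf
  1310) (.leaf
  931)))) (.node 3 (.node 1 (.leaf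
  708) (.node 1 (.leaf
  145) (.leaf
  384))) (.node 1 (.leaf
  671) (.node 1 (.leaf
  641) (.leaf
  678))))) (.node 6 (.node 3 (.node 1 (.leaf
  1102) (.node 1 (.leaf
  1290) (.leaf
  137))) (.node 1 (.leaf
  336) (.node 1 (.leaf
  1242) (.leaf
  181)))) (.node 3 (.node 1 (.leaf
  639) (.node 1 (.leaf
  112) (.leaf
  1156))) (.node 1 (.leaf
  1052) (.node 1 (.leaf
  1479) (.leaf
  906)))))))))) (.node 189 (.node 94 (.node 47 (.node 23 (.node 11 (.node 5 (.node 2 (.node 1 (.leaf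
  877) (.leaf
  123)) (.node 1 (.leaf
  914) (.node 1 (.leaf
  255) (.leaf
  919)))) (.node 3 (.node 1 (.leaf
  127) (.node 1 (.leaf
  896) (.leaf
  599))) (.node 1 (.leaf
  174) (.node 1 (.leaf
  580) (.leaf
  274))))) (.node 6 (.node 3 (.node 1 (.leaf
  496) (.node 1 (.leaf
  1500) (.leaf
  905))) (.node 1 (.leaf
  1406) (.node 1 (.leaf
  515) (.leaf
  98)))) (.node 3 (.node 1 (.leaf
  232) (.node 1 (.leaf
  64) (.leaf
  2))) (.node 1 (.leaf
  1202) (.node 1 (.leaf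
  30) (.leaf
  1313)))))) (.node 12 (.node 6 (.node 3 (.node 1 (.leaf
  237) (.node 1 (.leaf
  584) (.leaf
  470))) (.node 1 (.leaf
  704) (.node 1 (.leaf
  1247) (.leaf
  1190)))) (.node 3 (.node 1 (.leaf
  1494) (.node 1 (.leaf
  845) (.leaf
  364))) (.node 1 (.leaf
  836) (.node 1 (.leaf
  331) (.leaf
  313))))) (.node 6 (.node 3 (.node 1 (.leaf
  841) (.node 1 (.leaf
  52) (.leaf
  608))) (.node 1 (.leaf
  1315) (.node 1 (.leaf
  328) (.leaf
  513)))) (.node 3 (.node 1 (.leaf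
  1144) (.node 1 (.leaf
  1116) (.leaf
  1008))) (.node 1 (.leaf
  765) (.node 1 (.leaf
  927) (.leaf
  278))))))) (.node 23 (.node 11 (.node 5 (.node 2 (.node 1 (.leaf
  1343) (.leaf
  1464)) (.node 1 (.leaf
  1013) (.node 1 (.leaf
  219) (.leaf
  1220)))) (.node 3 (.node 1 (.leaf
  1415) (.node 1 (.leaf
  644) (.leaf
  416))) (.node 1 (.leaf
  1168) (.node 1 (.leaf
  1096) (.leaf
  1285))))) (.node 6 (.node 3 (.node 1 (.leaf
  366) (.node 1 (.leaf
  943) (.leaf
  563))) (.node 1 (.leaf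
  731) (.node 1 (.leaf
  1064) (.leaf
  267)))) (.node 3 (.node 1 (.leaf
  738) (.node 1 (.leaf
  854) (.leaf
  1371))) (.node 1 (.leaf
  114) (.node 1 (.leaf
  101) (.leaf
  38)))))) (.node 12 (.node 6 (.node 3 (.node 1 (.leaf
  1065) (.node 1 (.leaf
  451) (.leaf
  201))) (.node 1 (.leaf
  687) (.node 1 (.leaf
  575) (.leaf
  1382)))) (.node 3 (.node 1 (.leaf
  605) (.node 1 (.leaf
  1200) (.leaf
  684))) (.node 1 (.leaf
  856) (.node 1 (.leaf
  1383) (.leaf
  1274))))) (.node 6 (.node 3 (.node 1 (.leaf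
  36) (.node 1 (.leaf
  876) (.leaf
  811))) (.node 1 (.leaf
  1082) (.node 1 (.leaf
  1053) (.leaf
  1160)))) (.node 3 (.node 1 (.leaf
  1020) (.node 1 (.leaf
  1451) (.leaf
  803))) (.node 1 (.leaf
  774) (.node 1 (.leaf
  133) (.leaf
  766)))))))) (.node 47 (.node 23 (.node 11 (.node 5 (.node 2 (.node 1 (.leaf
  27) (.leaf
  1447)) (.node 1 (.leaf
  956) (.node 1 (.leaf
  607) (.leaf
  1140)))) (.node 3 (.node 1 (.leaf
  464) (.node 1 (.leaf
  1150) (.leaf
  498))) (.node 1 (.leaf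
  878) (.node 1 (.leaf
  1159) (.leaf
  796))))) (.node 6 (.node 3 (.node 1 (.leaf
  29) (.node 1 (.leaf
  858) (.leaf
  1314))) (.node 1 (.leaf
  742) (.node 1 (.leaf
  902) (.leaf
  1)))) (.node 3 (.node 1 (.leaf
  665) (.node 1 (.leaf
  1265) (.leaf
  663))) (.node 1 (.leaf
  1059) (.node 1 (.leaf
  437) (.leaf
  1449)))))) (.node 12 (.node 6 (.node 3 (.node 1 (.leaf
  1400) (.node 1 (.leaf
  893) (.leaf
  794))) (.node 1 (.leaf
  1349) (.node 1 (.leaf
  898) (.leaf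
  572)))) (.node 3 (.node 1 (.leaf
  753) (.node 1 (.leaf
  953) (.leaf
  1391))) (.node 1 (.leaf
  816) (.node 1 (.leaf
  567) (.leaf
  979))))) (.node 6 (.node 3 (.node 1 (.leaf
  1211) (.node 1 (.leaf
  1423) (.leaf
  997))) (.node 1 (.leaf
  1453) (.node 1 (.leaf
  1000) (.leaf
  1038)))) (.node 3 (.node 1 (.leaf
  164) (.node 1 (.leaf
  1120) (.leaf
  922))) (.node 1 (.leaf
  284) (.node 1 (.leaf
  477) (.leaf
  1269))))))) (.node 24 (.node 12 (.node 6 (.node 3 (.node 1 (.leaf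
  1255) (.node 1 (.leaf
  610) (.leaf
  960))) (.node 1 (.leaf
  714) (.node 1 (.leaf
  488) (.leaf
  1492)))) (.node 3 (.node 1 (.leaf
  1080) (.node 1 (.leaf
  964) (.leaf
  286))) (.node 1 (.leaf
  489) (.node 1 (.leaf
  405) (.leaf
  1370))))) (.node 6 (.node 3 (.node 1 (.leaf
  1378) (.node 1 (.leaf
  1322) (.leaf
  1390))) (.node 1 (.leaf
  1204) (.node 1 (.leaf
  904) (.leaf
  1001)))) (.node 3 (.node 1 (.leaf
  1177) (.node 1 (.leaf
  806) (.leaf
  1319))) (.node 1 (.leaf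
  830) (.node 1 (.leaf
  1272) (.leaf
  311)))))) (.node 12 (.node 6 (.node 3 (.node 1 (.leaf
  68) (.node 1 (.leaf
  139) (.leaf
  842))) (.node 1 (.leaf
  1033) (.node 1 (.leaf
  540) (.leaf
  88)))) (.node 3 (.node 1 (.leaf
  379) (.node 1 (.leaf
  493) (.leaf
  631))) (.node 1 (.leaf
  899) (.node 1 (.leaf
  361) (.leaf
  718))))) (.node 6 (.node 3 (.node 1 (.leaf
  1429) (.node 1 (.leaf
  694) (.leaf
  769))) (.node 1 (.leaf
  1496) (.node 1 (.leaf
  511) (.leaf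
  1121)))) (.node 3 (.node 1 (.leaf
  692) (.node 1 (.leaf
  1126) (.leaf
  172))) (.node 1 (.leaf
  744) (.node 1 (.leaf
  272) (.leaf
  492))))))))) (.node 94 (.node 47 (.node 23 (.node 11 (.node 5 (.node 2 (.node 1 (.leaf
  1454) (.leaf
  221)) (.node 1 (.leaf
  1301) (.node 1 (.leaf
  258) (.leaf
  1223)))) (.node 3 (.node 1 (.leaf
  1421) (.node 1 (.leaf
  292) (.leaf
  248))) (.node 1 (.leaf
  1455) (.node 1 (.leaf
  199) (.leaf
  417))))) (.node 6 (.node 3 (.node 1 (.leaf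
  1359) (.node 1 (.leaf
  1115) (.leaf
  1179))) (.node 1 (.leaf
  820) (.node 1 (.leaf
  1508) (.leaf
  205)))) (.node 3 (.node 1 (.leaf
  710) (.node 1 (.leaf
  1465) (.leaf
  494))) (.node 1 (.leaf
  118) (.node 1 (.leaf
  698) (.leaf
  1233)))))) (.node 12 (.node 6 (.node 3 (.node 1 (.leaf
  243) (.node 1 (.leaf
  1431) (.leaf
  1259))) (.node 1 (.leaf
  662) (.node 1 (.leaf
  444) (.leaf
  1136)))) (.node 3 (.node 1 (.leaf
  1097) (.node 1 (.leaf
  386) (.leaf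
  724))) (.node 1 (.leaf
  817) (.node 1 (.leaf
  1481) (.leaf
  853))))) (.node 6 (.node 3 (.node 1 (.leaf
  1091) (.node 1 (.leaf
  630) (.leaf
  362))) (.node 1 (.leaf
  252) (.node 1 (.leaf
  547) (.leaf
  862)))) (.node 3 (.node 1 (.leaf
  321) (.node 1 (.leaf
  150) (.leaf
  928))) (.node 1 (.leaf
  602) (.node 1 (.leaf
  1344) (.leaf
  166))))))) (.node 23 (.node 11 (.node 5 (.node 2 (.node 1 (.leaf
  576) (.leaf
  1253)) (.node 1 (.leaf
  1208) (.node 1 (.leaf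
  790) (.leaf
  363)))) (.node 3 (.node 1 (.leaf
  1291) (.node 1 (.leaf
  925) (.leaf
  136))) (.node 1 (.leaf
  514) (.node 1 (.leaf
  161) (.leaf
  995))))) (.node 6 (.node 3 (.node 1 (.leaf
  755) (.node 1 (.leaf
  97) (.leaf
  211))) (.node 1 (.leaf
  688) (.node 1 (.leaf
  647) (.leaf
  337)))) (.node 3 (.node 1 (.leaf
  1457) (.node 1 (.leaf
  680) (.leaf
  788))) (.node 1 (.leaf
  124) (.node 1 (.leaf
  1039) (.leaf
  1393)))))) (.node 12 (.node 6 (.node 3 (.node 1 (.leaf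
  1283) (.node 1 (.leaf
  1467) (.leaf
  507))) (.node 1 (.leaf
  844) (.node 1 (.leaf
  756) (.leaf
  1484)))) (.node 3 (.node 1 (.leaf
  1470) (.node 1 (.leaf
  1129) (.leaf
  1442))) (.node 1 (.leaf
  761) (.node 1 (.leaf
  447) (.leaf
  55))))) (.node 6 (.node 3 (.node 1 (.leaf
  99) (.node 1 (.leaf
  968) (.leaf
  117))) (.node 1 (.leaf
  1005) (.node 1 (.leaf
  1054) (.leaf
  122)))) (.node 3 (.node 1 (.leaf
  632) (.node 1 (.leaf
  1034) (.leaf
  228))) (.node 1 (.leaf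
  407) (.node 1 (.leaf
  1078) (.leaf
  659)))))))) (.node 47 (.node 23 (.node 11 (.node 5 (.node 2 (.node 1 (.leaf
  7) (.leaf
  303)) (.node 1 (.leaf
  5) (.node 1 (.leaf
  883) (.leaf
  944)))) (.node 3 (.node 1 (.leaf
  759) (.node 1 (.leaf
  555) (.leaf
  1069))) (.node 1 (.leaf
  504) (.node 1 (.leaf
  1074) (.leaf
  1417))))) (.node 6 (.node 3 (.node 1 (.leaf
  401) (.node 1 (.leaf
  448) (.leaf
  1511))) (.node 1 (.leaf
  1412) (.node 1 (.leaf
  476) (.leaf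
  250)))) (.node 3 (.node 1 (.leaf
  578) (.node 1 (.leaf
  491) (.leaf
  754))) (.node 1 (.leaf
  499) (.node 1 (.leaf
  1112) (.leaf
  131)))))) (.node 12 (.node 6 (.node 3 (.node 1 (.leaf
  426) (.node 1 (.leaf
  1249) (.leaf
  980))) (.node 1 (.leaf
  299) (.node 1 (.leaf
  293) (.leaf
  60)))) (.node 3 (.node 1 (.leaf
  469) (.node 1 (.leaf
  397) (.leaf
  993))) (.node 1 (.leaf
  472) (.node 1 (.leaf
  1246) (.leaf
  991))))) (.node 6 (.node 3 (.node 1 (.leaf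
  746) (.node 1 (.leaf
  525) (.leaf
  533))) (.node 1 (.leaf
  234) (.node 1 (.leaf
  546) (.leaf
  245)))) (.node 3 (.node 1 (.leaf
  500) (.node 1 (.leaf
  90) (.leaf
  1482))) (.node 1 (.leaf
  224) (.node 1 (.leaf
  1006) (.leaf
  301))))))) (.node 24 (.node 12 (.node 6 (.node 3 (.node 1 (.leaf
  1225) (.node 1 (.leaf
  595) (.leaf
  1134))) (.node 1 (.leaf
  1018) (.node 1 (.leaf
  857) (.leaf
  1386)))) (.node 3 (.node 1 (.leaf
  1175) (.node 1 (.leaf
  732) (.leaf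
  996))) (.node 1 (.leaf
  28) (.node 1 (.leaf
  1075) (.leaf
  392))))) (.node 6 (.node 3 (.node 1 (.leaf
  582) (.node 1 (.leaf
  367) (.leaf
  1437))) (.node 1 (.leaf
  1356) (.node 1 (.leaf
  128) (.leaf
  1304)))) (.node 3 (.node 1 (.leaf
  410) (.node 1 (.leaf
  1193) (.leaf
  1333))) (.node 1 (.leaf
  349) (.node 1 (.leaf
  778) (.leaf
  990)))))) (.node 12 (.node 6 (.node 3 (.node 1 (.leaf
  1148) (.node 1 (.leaf
  318) (.leaf
  1207))) (.node 1 (.leaf
  586) (.node 1 (.leaf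
  298) (.leaf
  4)))) (.node 3 (.node 1 (.leaf
  939) (.node 1 (.leaf
  104) (.leaf
  149))) (.node 1 (.leaf
  1509) (.node 1 (.leaf
  805) (.leaf
  1029))))) (.node 6 (.node 3 (.node 1 (.leaf
  915) (.node 1 (.leaf
  697) (.leaf
  1217))) (.node 1 (.leaf
  1236) (.node 1 (.leaf
  1103) (.leaf
  418)))) (.node 3 (.node 1 (.leaf
  53) (.node 1 (.leaf
  1334) (.leaf
  371))) (.node 1 (.leaf
  25) (.node 1 (.leaf
  1157) (.leaf
  863))))))))))) (.node 378 (.node 189 (.node 94 (.node 47 (.node 23 (.node 11 (.node 5 (.node 2 (.node 1 (.leaf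
  548) (.leaf
  183)) (.node 1 (.leaf
  781) (.node 1 (.leaf
  1352) (.leaf
  780)))) (.node 3 (.node 1 (.leaf
  1107) (.node 1 (.leaf
  719) (.leaf
  1327))) (.node 1 (.leaf
  924) (.node 1 (.leaf
  1226) (.leaf
  1209))))) (.node 6 (.node 3 (.node 1 (.leaf
  973) (.node 1 (.leaf
  390) (.leaf
  428))) (.node 1 (.leaf
  1426) (.node 1 (.leaf
  253) (.leaf
  1093)))) (.node 3 (.node 1 (.leaf
  1402) (.node 1 (.leaf
  108) (.leaf
  709))) (.node 1 (.leaf
  833) (.node 1 (.leaf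
  847) (.leaf
  801)))))) (.node 12 (.node 6 (.node 3 (.node 1 (.leaf
  1363) (.node 1 (.leaf
  443) (.leaf
  672))) (.node 1 (.leaf
  110) (.node 1 (.leaf
  673) (.leaf
  592)))) (.node 3 (.node 1 (.leaf
  1436) (.node 1 (.leaf
  84) (.leaf
  187))) (.node 1 (.leaf
  270) (.node 1 (.leaf
  312) (.leaf
  1262))))) (.node 6 (.node 3 (.node 1 (.leaf
  329) (.node 1 (.leaf
  495) (.leaf
  860))) (.node 1 (.leaf
  955) (.node 1 (.leaf
  534) (.leaf
  1312)))) (.node 3 (.node 1 (.leaf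
  154) (.node 1 (.leaf
  966) (.leaf
  1414))) (.node 1 (.leaf
  734) (.node 1 (.leaf
  1350) (.leaf
  225))))))) (.node 23 (.node 11 (.node 5 (.node 2 (.node 1 (.leaf
  458) (.leaf
  1188)) (.node 1 (.leaf
  1353) (.node 1 (.leaf
  1199) (.leaf
  825)))) (.node 3 (.node 1 (.leaf
  1396) (.node 1 (.leaf
  1085) (.leaf
  535))) (.node 1 (.leaf
  18) (.node 1 (.leaf
  777) (.leaf
  619))))) (.node 6 (.node 3 (.node 1 (.leaf
  1055) (.node 1 (.leaf
  1111) (.leaf
  713))) (.node 1 (.leaf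
  1025) (.node 1 (.leaf
  1068) (.leaf
  17)))) (.node 3 (.node 1 (.leaf
  799) (.node 1 (.leaf
  554) (.leaf
  169))) (.node 1 (.leaf
  40) (.node 1 (.leaf
  784) (.leaf
  1372)))))) (.node 12 (.node 6 (.node 3 (.node 1 (.leaf
  8) (.node 1 (.leaf
  541) (.leaf
  838))) (.node 1 (.leaf
  1357) (.node 1 (.leaf
  1165) (.leaf
  1073)))) (.node 3 (.node 1 (.leaf
  729) (.node 1 (.leaf
  948) (.leaf
  1434))) (.node 1 (.leaf
  179) (.node 1 (.leaf
  66) (.leaf
  107))))) (.node 6 (.node 3 (.node 1 (.leaf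
  263) (.node 1 (.leaf
  967) (.leaf
  1061))) (.node 1 (.leaf
  1041) (.node 1 (.leaf
  897) (.leaf
  409)))) (.node 3 (.node 1 (.leaf
  1288) (.node 1 (.leaf
  822) (.leaf
  207))) (.node 1 (.leaf
  970) (.node 1 (.leaf
  612) (.leaf
  406)))))))) (.node 47 (.node 23 (.node 11 (.node 5 (.node 2 (.node 1 (.leaf
  903) (.leaf
  885)) (.node 1 (.leaf
  343) (.node 1 (.leaf
  235) (.leaf
  865)))) (.node 3 (.node 1 (.leaf
  785) (.node 1 (.leaf
  1361) (.leaf
  1329))) (.node 1 (.leaf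
  1002) (.node 1 (.leaf
  15) (.leaf
  1392))))) (.node 6 (.node 3 (.node 1 (.leaf
  210) (.node 1 (.leaf
  843) (.leaf
  319))) (.node 1 (.leaf
  676) (.node 1 (.leaf
  601) (.leaf
  6)))) (.node 3 (.node 1 (.leaf
  461) (.node 1 (.leaf
  505) (.leaf
  1292))) (.node 1 (.leaf
  850) (.node 1 (.leaf
  594) (.leaf
  528)))))) (.node 12 (.node 6 (.node 3 (.node 1 (.leaf
  1398) (.node 1 (.leaf
  266) (.leaf
  529))) (.node 1 (.leaf
  706) (.node 1 (.leaf
  1250) (.leaf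
  669)))) (.node 3 (.node 1 (.leaf
  1266) (.node 1 (.leaf
  271) (.leaf
  1234))) (.node 1 (.leaf
  314) (.node 1 (.leaf
  1235) (.leaf
  339))))) (.node 6 (.node 3 (.node 1 (.leaf
  667) (.node 1 (.leaf
  962) (.leaf
  340))) (.node 1 (.leaf
  455) (.node 1 (.leaf
  907) (.leaf
  479)))) (.node 3 (.node 1 (.leaf
  1230) (.node 1 (.leaf
  675) (.leaf
  591))) (.node 1 (.leaf
  522) (.node 1 (.leaf
  1365) (.leaf
  1229))))))) (.node 24 (.node 12 (.node 6 (.node 3 (.node 1 (.leaf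
  873) (.node 1 (.leaf
  1046) (.leaf
  203))) (.node 1 (.leaf
  359) (.node 1 (.leaf
  1184) (.leaf
  1067)))) (.node 3 (.node 1 (.leaf
  389) (.node 1 (.leaf
  1173) (.leaf
  415))) (.node 1 (.leaf
  558) (.node 1 (.leaf
  735) (.leaf
  1404))))) (.node 6 (.node 3 (.node 1 (.leaf
  1191) (.node 1 (.leaf
  1011) (.leaf
  429))) (.node 1 (.leaf
  589) (.node 1 (.leaf
  861) (.leaf
  39)))) (.node 3 (.node 1 (.leaf
  1035) (.node 1 (.leaf
  1104) (.leaf
  163))) (.node 1 (.leaf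
  875) (.node 1 (.leaf
  934) (.leaf
  402)))))) (.node 12 (.node 6 (.node 3 (.node 1 (.leaf
  334) (.node 1 (.leaf
  711) (.leaf
  722))) (.node 1 (.leaf
  351) (.node 1 (.leaf
  387) (.leaf
  1164)))) (.node 3 (.node 1 (.leaf
  1137) (.node 1 (.leaf
  1109) (.leaf
  681))) (.node 1 (.leaf
  1419) (.node 1 (.leaf
  909) (.leaf
  465))))) (.node 6 (.node 3 (.node 1 (.leaf
  1145) (.node 1 (.leaf
  649) (.leaf
  1373))) (.node 1 (.leaf
  226) (.node 1 (.leaf
  1056) (.leaf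
  144)))) (.node 3 (.node 1 (.leaf
  1087) (.node 1 (.leaf
  929) (.leaf
  115))) (.node 1 (.leaf
  400) (.node 1 (.leaf
  723) (.leaf
  325))))))))) (.node 94 (.node 47 (.node 23 (.node 11 (.node 5 (.node 2 (.node 1 (.leaf
  1252) (.leaf
  760)) (.node 1 (.leaf
  291) (.node 1 (.leaf
  1450) (.leaf
  657)))) (.node 3 (.node 1 (.leaf
  1062) (.node 1 (.leaf
  1139) (.leaf
  462))) (.node 1 (.leaf
  705) (.node 1 (.leaf
  638) (.leaf
  1194))))) (.node 6 (.node 3 (.node 1 (.leaf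
  485) (.node 1 (.leaf
  433) (.leaf
  1380))) (.node 1 (.leaf
  640) (.node 1 (.leaf
  1485) (.leaf
  503)))) (.node 3 (.node 1 (.leaf
  348) (.node 1 (.leaf
  782) (.leaf
  34))) (.node 1 (.leaf
  399) (.node 1 (.leaf
  772) (.leaf
  1057)))))) (.node 12 (.node 6 (.node 3 (.node 1 (.leaf
  891) (.node 1 (.leaf
  721) (.leaf
  92))) (.node 1 (.leaf
  268) (.node 1 (.leaf
  835) (.leaf
  935)))) (.node 3 (.node 1 (.leaf
  1433) (.node 1 (.leaf
  1037) (.leaf
  629))) (.node 1 (.leaf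
  859) (.node 1 (.leaf
  152) (.leaf
  315))))) (.node 6 (.node 3 (.node 1 (.leaf
  1113) (.node 1 (.leaf
  341) (.leaf
  1051))) (.node 1 (.leaf
  65) (.node 1 (.leaf
  700) (.leaf
  748)))) (.node 3 (.node 1 (.leaf
  265) (.node 1 (.leaf
  677) (.leaf
  1297))) (.node 1 (.leaf
  1152) (.node 1 (.leaf
  204) (.leaf
  1276))))))) (.node 23 (.node 11 (.node 5 (.node 2 (.node 1 (.leaf
  74) (.leaf
  1317)) (.node 1 (.leaf
  1498) (.node 1 (.leaf
  94) (.leaf
  827)))) (.node 3 (.node 1 (.leaf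
  1182) (.node 1 (.leaf
  1222) (.leaf
  323))) (.node 1 (.leaf
  382) (.node 1 (.leaf
  1335) (.leaf
  654))))) (.node 6 (.node 3 (.node 1 (.leaf
  61) (.node 1 (.leaf
  1028) (.leaf
  1338))) (.node 1 (.leaf
  1466) (.node 1 (.leaf
  159) (.leaf
  393)))) (.node 3 (.node 1 (.leaf
  240) (.node 1 (.leaf
  423) (.leaf
  246))) (.node 1 (.leaf
  717) (.node 1 (.leaf
  581) (.leaf
  1214)))))) (.node 12 (.node 6 (.node 3 (.node 1 (.leaf
  917) (.node 1 (.leaf
  559) (.leaf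
  1143))) (.node 1 (.leaf
  1009) (.node 1 (.leaf
  1023) (.leaf
  1488)))) (.node 3 (.node 1 (.leaf
  518) (.node 1 (.leaf
  940) (.leaf
  338))) (.node 1 (.leaf
  67) (.node 1 (.leaf
  770) (.leaf
  1167))))) (.node 6 (.node 3 (.node 1 (.leaf
  1278) (.node 1 (.leaf
  1196) (.leaf
  295))) (.node 1 (.leaf
  1245) (.node 1 (.leaf
  989) (.leaf
  1036)))) (.node 3 (.node 1 (.leaf
  446) (.node 1 (.leaf
  1379) (.leaf
  222))) (.node 1 (.leaf
  1101) (.node 1 (.leaf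
  459) (.leaf
  569)))))))) (.node 47 (.node 23 (.node 11 (.node 5 (.node 2 (.node 1 (.leaf
  381) (.leaf
  1318)) (.node 1 (.leaf
  508) (.node 1 (.leaf
  279) (.leaf
  1499)))) (.node 3 (.node 1 (.leaf
  551) (.node 1 (.leaf
  1468) (.leaf
  44))) (.node 1 (.leaf
  879) (.node 1 (.leaf
  155) (.leaf
  396))))) (.node 6 (.node 3 (.node 1 (.leaf
  849) (.node 1 (.leaf
  892) (.leaf
  1399))) (.node 1 (.leaf
  1299) (.node 1 (.leaf
  615) (.leaf
  1462)))) (.node 3 (.node 1 (.leaf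
  527) (.node 1 (.leaf
  666) (.leaf
  1385))) (.node 1 (.leaf
  1014) (.node 1 (.leaf
  512) (.leaf
  77)))))) (.node 12 (.node 6 (.node 3 (.node 1 (.leaf
  377) (.node 1 (.leaf
  457) (.leaf
  587))) (.node 1 (.leaf
  1311) (.node 1 (.leaf
  593) (.leaf
  1142)))) (.node 3 (.node 1 (.leaf
  743) (.node 1 (.leaf
  196) (.leaf
  1505))) (.node 1 (.leaf
  1339) (.node 1 (.leaf
  466) (.leaf
  62))))) (.node 6 (.node 3 (.node 1 (.leaf
  745) (.node 1 (.leaf
  1079) (.leaf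
  1323))) (.node 1 (.leaf
  1459) (.node 1 (.leaf
  516) (.leaf
  236)))) (.node 3 (.node 1 (.leaf
  501) (.node 1 (.leaf
  655) (.leaf
  545))) (.node 1 (.leaf
  1337) (.node 1 (.leaf
  1019) (.leaf
  1239))))))) (.node 24 (.node 12 (.node 6 (.node 3 (.node 1 (.leaf
  333) (.node 1 (.leaf
  75) (.leaf
  664))) (.node 1 (.leaf
  972) (.node 1 (.leaf
  200) (.leaf
  1026)))) (.node 3 (.node 1 (.leaf
  70) (.node 1 (.leaf
  553) (.leaf
  1186))) (.node 1 (.leaf
  1374) (.node 1 (.leaf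
  355) (.leaf
  281))))) (.node 6 (.node 3 (.node 1 (.leaf
  306) (.node 1 (.leaf
  1192) (.leaf
  322))) (.node 1 (.leaf
  674) (.node 1 (.leaf
  346) (.leaf
  468)))) (.node 3 (.node 1 (.leaf
  949) (.node 1 (.leaf
  1083) (.leaf
  987))) (.node 1 (.leaf
  1367) (.node 1 (.leaf
  519) (.leaf
  309)))))) (.node 12 (.node 6 (.node 3 (.node 1 (.leaf
  1049) (.node 1 (.leaf
  870) (.leaf
  1293))) (.node 1 (.leaf
  78) (.node 1 (.leaf
  103) (.leaf
  157)))) (.node 3 (.node 1 (.leaf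
  332) (.node 1 (.leaf
  574) (.leaf
  969))) (.node 1 (.leaf
  9) (.node 1 (.leaf
  1320) (.leaf
  880))))) (.node 6 (.node 3 (.node 1 (.leaf
  1100) (.node 1 (.leaf
  911) (.leaf
  419))) (.node 1 (.leaf
  1151) (.node 1 (.leaf
  752) (.leaf
  388)))) (.node 3 (.node 1 (.leaf
  1241) (.node 1 (.leaf
  886) (.leaf
  100))) (.node 1 (.leaf
  354) (.node 1 (.leaf
  35) (.leaf
  273)))))))))) (.node 189 (.node 94 (.node 47 (.node 23 (.node 11 (.node 5 (.node 2 (.node 1 (.leaf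
  977) (.leaf
  936)) (.node 1 (.leaf
  999) (.node 1 (.leaf
  1463) (.leaf
  637)))) (.node 3 (.node 1 (.leaf
  750) (.node 1 (.leaf
  1439) (.leaf
  881))) (.node 1 (.leaf
  167) (.node 1 (.leaf
  116) (.leaf
  1332))))) (.node 6 (.node 3 (.node 1 (.leaf
  184) (.node 1 (.leaf
  600) (.leaf
  230))) (.node 1 (.leaf
  257) (.node 1 (.leaf
  1238) (.leaf
  726)))) (.node 3 (.node 1 (.leaf
  208) (.node 1 (.leaf
  14) (.leaf
  611))) (.node 1 (.leaf
  852) (.node 1 (.leaf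
  212) (.leaf
  87)))))) (.node 12 (.node 6 (.node 3 (.node 1 (.leaf
  1240) (.node 1 (.leaf
  1427) (.leaf
  342))) (.node 1 (.leaf
  1444) (.node 1 (.leaf
  244) (.leaf
  946)))) (.node 3 (.node 1 (.leaf
  445) (.node 1 (.leaf
  974) (.leaf
  624))) (.node 1 (.leaf
  1131) (.node 1 (.leaf
  650) (.leaf
  981))))) (.node 6 (.node 3 (.node 1 (.leaf
  218) (.node 1 (.leaf
  345) (.leaf
  1264))) (.node 1 (.leaf
  449) (.node 1 (.leaf
  180) (.leaf
  283)))) (.node 3 (.node 1 (.leaf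
  550) (.node 1 (.leaf
  1495) (.leaf
  653))) (.node 1 (.leaf
  961) (.node 1 (.leaf
  1446) (.leaf
  93))))))) (.node 23 (.node 11 (.node 5 (.node 2 (.node 1 (.leaf
  502) (.leaf
  814)) (.node 1 (.leaf
  220) (.node 1 (.leaf
  696) (.leaf
  463)))) (.node 3 (.node 1 (.leaf
  613) (.node 1 (.leaf
  102) (.leaf
  1280))) (.node 1 (.leaf
  475) (.node 1 (.leaf
  741) (.leaf
  1092))))) (.node 6 (.node 3 (.node 1 (.leaf
  484) (.node 1 (.leaf
  1366) (.leaf
  1146))) (.node 1 (.leaf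
  1086) (.node 1 (.leaf
  1166) (.leaf
  1044)))) (.node 3 (.node 1 (.leaf
  1181) (.node 1 (.leaf
  992) (.leaf
  372))) (.node 1 (.leaf
  588) (.node 1 (.leaf
  142) (.leaf
  1162)))))) (.node 12 (.node 6 (.node 3 (.node 1 (.leaf
  1381) (.node 1 (.leaf
  1273) (.leaf
  482))) (.node 1 (.leaf
  1172) (.node 1 (.leaf
  82) (.leaf
  800)))) (.node 3 (.node 1 (.leaf
  1118) (.node 1 (.leaf
  251) (.leaf
  941))) (.node 1 (.leaf
  1243) (.node 1 (.leaf
  923) (.leaf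
  425))))) (.node 6 (.node 3 (.node 1 (.leaf
  1401) (.node 1 (.leaf
  737) (.leaf
  1117))) (.node 1 (.leaf
  564) (.node 1 (.leaf
  456) (.leaf
  89)))) (.node 3 (.node 1 (.leaf
  327) (.node 1 (.leaf
  1206) (.leaf
  83))) (.node 1 (.leaf
  1368) (.node 1 (.leaf
  1432) (.leaf
  984)))))))) (.node 47 (.node 23 (.node 11 (.node 5 (.node 2 (.node 1 (.leaf
  1232) (.leaf
  1221)) (.node 1 (.leaf
  1387) (.node 1 (.leaf
  140) (.leaf
  509)))) (.node 3 (.node 1 (.leaf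
  1331) (.node 1 (.leaf
  707) (.leaf
  239))) (.node 1 (.leaf
  1024) (.node 1 (.leaf
  23) (.leaf
  254))))) (.node 6 (.node 3 (.node 1 (.leaf
  1256) (.node 1 (.leaf
  1132) (.leaf
  530))) (.node 1 (.leaf
  562) (.node 1 (.leaf
  549) (.leaf
  206)))) (.node 3 (.node 1 (.leaf
  1438) (.node 1 (.leaf
  933) (.leaf
  256))) (.node 1 (.leaf
  895) (.node 1 (.leaf
  1047) (.leaf
  1215)))))) (.node 12 (.node 6 (.node 3 (.node 1 (.leaf
  994) (.node 1 (.leaf
  308) (.leaf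
  1483))) (.node 1 (.leaf
  1376) (.node 1 (.leaf
  1407) (.leaf
  1094)))) (.node 3 (.node 1 (.leaf
  1394) (.node 1 (.leaf
  616) (.leaf
  1267))) (.node 1 (.leaf
  783) (.node 1 (.leaf
  1475) (.leaf
  633))))) (.node 6 (.node 3 (.node 1 (.leaf
  51) (.node 1 (.leaf
  864) (.leaf
  171))) (.node 1 (.leaf
  1110) (.node 1 (.leaf
  1040) (.leaf
  957)))) (.node 3 (.node 1 (.leaf
  656) (.node 1 (.leaf
  1336) (.leaf
  1489))) (.node 1 (.leaf
  652) (.node 1 (.leaf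
  689) (.leaf
  490))))))) (.node 24 (.node 12 (.node 6 (.node 3 (.node 1 (.leaf
  480) (.node 1 (.leaf
  202) (.leaf
  168))) (.node 1 (.leaf
  275) (.node 1 (.leaf
  1254) (.leaf
  1228)))) (.node 3 (.node 1 (.leaf
  918) (.node 1 (.leaf
  121) (.leaf
  1430))) (.node 1 (.leaf
  985) (.node 1 (.leaf
  585) (.leaf
  798))))) (.node 6 (.node 3 (.node 1 (.leaf
  290) (.node 1 (.leaf
  1362) (.leaf
  571))) (.node 1 (.leaf
  910) (.node 1 (.leaf
  1219) (.leaf
  882)))) (.node 3 (.node 1 (.leaf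
  259) (.node 1 (.leaf
  1130) (.leaf
  430))) (.node 1 (.leaf
  1435) (.node 1 (.leaf
  42) (.leaf
  365)))))) (.node 12 (.node 6 (.node 3 (.node 1 (.leaf
  983) (.node 1 (.leaf
  867) (.leaf
  763))) (.node 1 (.leaf
  438) (.node 1 (.leaf
  1180) (.leaf
  831)))) (.node 3 (.node 1 (.leaf
  227) (.node 1 (.leaf
  1007) (.leaf
  1321))) (.node 1 (.leaf
  1010) (.node 1 (.leaf
  1260) (.leaf
  617))))) (.node 6 (.node 3 (.node 1 (.leaf
  1042) (.node 1 (.leaf
  947) (.leaf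
  43))) (.node 1 (.leaf
  1170) (.node 1 (.leaf
  37) (.leaf
  627)))) (.node 3 (.node 1 (.leaf
  556) (.node 1 (.leaf
  12) (.leaf
  818))) (.node 1 (.leaf
  394) (.node 1 (.leaf
  1171) (.leaf
  1487))))))))) (.node 94 (.node 47 (.node 23 (.node 11 (.node 5 (.node 2 (.node 1 (.leaf
  690) (.leaf
  1395)) (.node 1 (.leaf
  982) (.node 1 (.leaf
  1441) (.leaf
  834)))) (.node 3 (.node 1 (.leaf
  703) (.node 1 (.leaf
  454) (.leaf
  1050))) (.node 1 (.leaf
  1016) (.node 1 (.leaf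
  1106) (.leaf
  786))))) (.node 6 (.node 3 (.node 1 (.leaf
  1424) (.node 1 (.leaf
  1506) (.leaf
  771))) (.node 1 (.leaf
  241) (.node 1 (.leaf
  821) (.leaf
  566)))) (.node 3 (.node 1 (.leaf
  804) (.node 1 (.leaf
  712) (.leaf
  132))) (.node 1 (.leaf
  1348) (.node 1 (.leaf
  79) (.leaf
  1346)))))) (.node 12 (.node 6 (.node 3 (.node 1 (.leaf
  414) (.node 1 (.leaf
  626) (.leaf
  945))) (.node 1 (.leaf
  848) (.node 1 (.leaf
  96) (.leaf
  590)))) (.node 3 (.node 1 (.leaf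
  1203) (.node 1 (.leaf
  296) (.leaf
  1218))) (.node 1 (.leaf
  41) (.node 1 (.leaf
  866) (.leaf
  1158))))) (.node 6 (.node 3 (.node 1 (.leaf
  618) (.node 1 (.leaf
  261) (.leaf
  1058))) (.node 1 (.leaf
  473) (.node 1 (.leaf
  474) (.leaf
  1043)))) (.node 3 (.node 1 (.leaf
  310) (.node 1 (.leaf
  395) (.leaf
  1411))) (.node 1 (.leaf
  1183) (.node 1 (.leaf
  1077) (.leaf
  976))))))) (.node 23 (.node 11 (.node 5 (.node 2 (.node 1 (.leaf
  901) (.leaf
  813)) (.node 1 (.leaf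
  1128) (.node 1 (.leaf
  1155) (.leaf
  539)))) (.node 3 (.node 1 (.leaf
  938) (.node 1 (.leaf
  1004) (.leaf
  1178))) (.node 1 (.leaf
  324) (.node 1 (.leaf
  583) (.leaf
  670))))) (.node 6 (.node 3 (.node 1 (.leaf
  439) (.node 1 (.leaf
  954) (.leaf
  49))) (.node 1 (.leaf
  10) (.node 1 (.leaf
  478) (.leaf
  668)))) (.node 3 (.node 1 (.leaf
  304) (.node 1 (.leaf
  952) (.leaf
  1275))) (.node 1 (.leaf
  1248) (.node 1 (.leaf
  795) (.leaf
  13)))))) (.node 12 (.node 6 (.node 3 (.node 1 (.leaf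
  467) (.node 1 (.leaf
  762) (.leaf
  998))) (.node 1 (.leaf
  1473) (.node 1 (.leaf
  369) (.leaf
  63)))) (.node 3 (.node 1 (.leaf
  1135) (.node 1 (.leaf
  186) (.leaf
  408))) (.node 1 (.leaf
  916) (.node 1 (.leaf
  520) (.leaf
  106))))) (.node 6 (.node 3 (.node 1 (.leaf
  76) (.node 1 (.leaf
  868) (.leaf
  95))) (.node 1 (.leaf
  536) (.node 1 (.leaf
  182) (.leaf
  81)))) (.node 3 (.node 1 (.leaf
  1213) (.node 1 (.leaf
  436) (.leaf
  427))) (.node 1 (.leaf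
  921) (.node 1 (.leaf
  125) (.leaf
  1408)))))))) (.node 47 (.node 23 (.node 11 (.node 5 (.node 2 (.node 1 (.leaf
  950) (.leaf
  1176)) (.node 1 (.leaf
  524) (.node 1 (.leaf
  317) (.leaf
  542)))) (.node 3 (.node 1 (.leaf
  1355) (.node 1 (.leaf
  350) (.leaf
  1328))) (.node 1 (.leaf
  645) (.node 1 (.leaf
  288) (.leaf
  1071))))) (.node 6 (.node 3 (.node 1 (.leaf
  871) (.node 1 (.leaf
  487) (.leaf
  1227))) (.node 1 (.leaf
  307) (.node 1 (.leaf
  1461) (.leaf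
  807)))) (.node 3 (.node 1 (.leaf
  31) (.node 1 (.leaf
  1306) (.leaf
  156))) (.node 1 (.leaf
  452) (.node 1 (.leaf
  16) (.leaf
  209)))))) (.node 12 (.node 6 (.node 3 (.node 1 (.leaf
  802) (.node 1 (.leaf
  988) (.leaf
  1295))) (.node 1 (.leaf
  1298) (.node 1 (.leaf
  1201) (.leaf
  1486)))) (.node 3 (.node 1 (.leaf
  517) (.node 1 (.leaf
  1416) (.leaf
  143))) (.node 1 (.leaf
  1507) (.node 1 (.leaf
  720) (.leaf
  767))))) (.node 6 (.node 3 (.node 1 (.leaf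
  353) (.node 1 (.leaf
  874) (.leaf
  840))) (.node 1 (.leaf
  160) (.node 1 (.leaf
  1458) (.leaf
  579)))) (.node 3 (.node 1 (.leaf
  819) (.node 1 (.leaf
  1504) (.leaf
  352))) (.node 1 (.leaf
  715) (.node 1 (.leaf
  1478) (.leaf
  134))))))) (.node 24 (.node 12 (.node 6 (.node 3 (.node 1 (.leaf
  111) (.node 1 (.leaf
  1384) (.leaf
  442))) (.node 1 (.leaf
  497) (.node 1 (.leaf
  420) (.leaf
  1119)))) (.node 3 (.node 1 (.leaf
  701) (.node 1 (.leaf
  609) (.leaf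
  869))) (.node 1 (.leaf
  636) (.node 1 (.leaf
  846) (.leaf
  33))))) (.node 6 (.node 3 (.node 1 (.leaf
  651) (.node 1 (.leaf
  1456) (.leaf
  789))) (.node 1 (.leaf
  730) (.node 1 (.leaf
  450) (.leaf
  1108)))) (.node 3 (.node 1 (.leaf
  158) (.node 1 (.leaf
  1060) (.leaf
  725))) (.node 1 (.leaf
  1237) (.node 1 (.leaf
  302) (.leaf
  320)))))) (.node 12 (.node 6 (.node 3 (.node 1 (.leaf
  385) (.node 1 (.leaf
  1510) (.leaf
  1309))) (.node 1 (.leaf
  1460) (.node 1 (.leaf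
  59) (.leaf
  165)))) (.node 3 (.node 1 (.leaf
  1369) (.node 1 (.leaf
  1300) (.leaf
  523))) (.node 1 (.leaf
  358) (.node 1 (.leaf
  1271) (.leaf
  130))))) (.node 6 (.node 3 (.node 1 (.leaf
  884) (.node 1 (.leaf
  376) (.leaf
  577))) (.node 1 (.leaf
  1045) (.node 1 (.leaf
  787) (.leaf
  1422)))) (.node 3 (.node 1 (.leaf
  926) (.node 1 (.leaf
  1022) (.leaf
  177))) (.node 1 (.leaf
  815) (.node 1 (.leaf
  11) (.leaf
  951))))))))))))

end Cfsg.Agent.Co3Type.Data
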