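import Cfsg.Agent.Lib.Co3Type.LocalCheck
import Cfsg.Agent.Lib.Co3Type.ClosureData

/-!
# The check of the derivations

A fact is either an equation `c u rᵢ = a rⱼ b` or an equation `k rⱼ = rⱼ k'`; each follows by a rule from
earlier ones.  Each of the seven orbits has all 630 cosets covered and a stabiliser of the right order.
-/

set_option autoImplicit false
set_option maxRecDepth 100000
set_option Elab.async false

namespace Cfsg.Agent.Co3Type.Model

open Cfsg.Agent.CosetCert (Tree)

noncomputable section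

/-- The entries of a fact. -/
def fD (f : ℕ) : List ℕ := (Data.facts.getD f ([], [], [], [])).1
/-- The rule of a fact. -/
def fR (f : ℕ) : List ℕ := (Data.facts.getD f ([], [], [], [])).2.1
/-- The first word of a fact. -/
def fW (f : ℕ) : List ℕ := (Data.facts.getD f ([], [], [], [])).2.2.1
/-- The second word of a fact. -/
def fV (f : ℕ) : List ℕ := (Data.facts.getD f ([], [], [], [])).2.2.2
/-- One entry. -/
def fE (f k : ℕ) : ℕ := (fD f).getD k 0

/-- The defining pair of a representative. -/
def dfn (j : ℕ) : ℕ × ℕ := Data.defs.getD j (0, 0)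

/-- The fact is an equation `c u rᵢ = a rⱼ b`. -/
def isE (f : ℕ) : Bool := Nat.beq (fE f 0) 0

/-- The fact follows from earlier ones. -/
def okFact (f : ℕ) : Bool :=
  let t := (fR f).getD 0 0
  let p := (fR f).getD 1 0
  let q := (fR f).getD 2 0
  let w := fW f
  (allB 6 fun k => Nat.blt (fE f k) 2903040) &&
  if isE f then
    let i := fE f 1
    let u := fE f 2
    let a := fE f 3
    let j := fE f 4
    let b := fE f 5
    Nat.blt i 7 && Nat.blt j 7 &&
    if Nat.beq t 2 then
      Nat.blt 0 j && Nat.beq i (dfn j).1 && Nat.beq u (dfn j).2 && Nat.beq a 0 && Nat.beq b 0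
    else if Nat.beq t 3 then
      Nat.blt p f && isE p && Nat.beq i (fE p 4) && Nat.beq j (fE p 1) && cEq [u] [Data.sC, fE p 3] &&
        cEq [a] [Data.sC, fE p 2] && cEq [b, fE p 5] []
    else if Nat.beq t 4 then
      Nat.blt p f && Nat.blt q f && isE p && isE q && Nat.beq i (fE p 4) && Nat.beq (fE q 1) (fE p 1) &&
        Nat.beq j (fE q 4) && cEq (b0C :: (srcL (fV f) ++ [fE p 2])) (srcL w ++ [fE q 2]) &&
        cEq [u] (u0C :: (imgL 0 (fV f) ++ [fE p 3])) && cEq [a] (a0C :: (imgL 0 w ++ [fE q 3])) &&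
        cEq [b, fE p 5] [fE q 5]
    else
      Nat.beq t 5 && Nat.blt p f && Nat.blt q f && isE p && !(isE q) && Nat.beq (fE q 1) (fE p 1) &&
        Nat.beq i (fE p 1) && Nat.beq j (fE p 4) && Nat.beq a (fE p 3) && cEq [u] [fE p 2, fE q 2] &&
        cEq [b] [fE p 5, fE q 3]
  else
    let j := fE f 1
    let k := fE f 2
    let k' := fE f 3
    Nat.blt j 7 &&
    if Nat.beq t 0 then Nat.beq j 0 && cEq [k] [k']
    else if Nat.beq t 1 then Nat.beq j 1 && cEq (srcL w) [k'] && cEq (imgL 0 w) [k]
    else if Nat.beq t 6 then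
      Nat.blt p f && Nat.blt q f && isE p && isE q && Nat.beq (fE q 1) (fE p 1) && Nat.beq (fE q 4) (fE p 4) &&
        Nat.beq j (fE p 4) && cEq [fE q 2] (srcL w ++ [fE p 2]) && cEq [fE q 3, k] (imgL 0 w ++ [fE p 3]) &&
        cEq [k', fE p 5] [fE q 5]
    else if Nat.beq t 7 then
      Nat.blt p f && Nat.blt q f && !(isE p) && !(isE q) && Nat.beq (fE p 1) j && Nat.beq (fE q 1) j &&
        cEq [k] [fE p 2, fE q 2] && cEq [k'] [fE p 3, fE q 3]
    else
      Nat.beq t 8 && Nat.blt p f && !(isE p) && Nat.blt 0 j && Nat.beq (fE p 1) (dfn j).1 &&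
        Nat.beq k' (fE p 3) && cEq [(dfn j).2, fE p 2] (srcL w ++ [(dfn j).2]) && cEq [k] (imgL 0 w)

theorem facts_ok : allB 438 okFact = true := by decide +kernel

/-- The coverage trees. -/
def covT : List Tree := [Data.cov0, Data.cov1, Data.cov2, Data.cov3, Data.cov4, Data.cov5, Data.cov6]
/-- The positions. -/
def covA : List Tree :=
  [Data.covAt0, Data.covAt1, Data.covAt2, Data.covAt3, Data.covAt4, Data.covAt5, Data.covAt6]

/-- All cosets of the seven orbits are covered. -/
def covB : Bool :=
  allB 7 fun i =>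
    let T := covT.getD i Data.cov0
    let A := covA.getD i Data.covAt0
    (allB 630 fun n => Nat.blt (A.get n) 630 && Nat.beq (T.get (A.get n) % 1024) n) &&
    allB 630 fun p =>
      let x := T.get p
      let n := x % 1024
      let d := x / 1024 % 4608
      let f := x / 1024 / 4608 % 1024
      let m := x / 1024 / 4608 / 1024
      Nat.blt f 438 && Nat.blt n 630 &&
      if Nat.beq m 0 then isE f && Nat.beq (fE f 1) i && Nat.beq (fE f 2 % 630) n
      else
        Nat.ble m p && !(isE f) && Nat.beq (fE f 1) i &&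
          cEq [T.get (m - 1) % 1024, fE f 2] [d * 630, n]

theorem cov_ok : covB = true := by decide +kernel

/-- The stabiliser trees. -/
def stL : List (Tree × Tree × Tree × Tree) :=
  [(Data.stT2, Data.stP2, Data.stO2, Data.stR2), (Data.stT3, Data.stP3, Data.stO3, Data.stR3),
    (Data.stT4, Data.stP4, Data.stO4, Data.stR4), (Data.stT5, Data.stP5, Data.stO5, Data.stR5),
    (Data.stT6, Data.stP6, Data.stO6, Data.stR6)]

/-- The stabilisers are large enough. -/
def stabB : Bool :=
  decide (Data.orbN = [1, 630, 30240, 8960, 80640, 48384, 1920]) &&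
  allB 5 fun l =>
    let S := stL.getD l (Data.stT2, Data.stP2, Data.stO2, Data.stR2)
    let N := 2903040 / Data.orbN.getD (l + 2) 1
    Nat.beq (N * Data.orbN.getD (l + 2) 1) 2903040 && Nat.beq (S.1.get 0) 0 &&
    (allB N fun p => Nat.blt (S.1.get p) 2903040 && Nat.blt (S.2.2.2.get p) N &&
      (S.2.2.1.get (S.2.2.2.get p) == p) && (Nat.beq p 0 ||
        (Nat.blt (S.2.1.get p / 1024) p && Nat.blt (S.2.1.get p % 1024) 438 && !(isE (S.2.1.get p % 1024)) &&
          Nat.beq (fE (S.2.1.get p % 1024) 1) (l + 2) &&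
          cEq [S.1.get p] [S.1.get (S.2.1.get p / 1024), fE (S.2.1.get p % 1024) 2]))) &&
    allB (N - 1) fun r => Nat.blt (S.1.get (S.2.2.1.get r)) (S.1.get (S.2.2.1.get (r + 1)))

theorem stab_ok : stabB = true := by decide +kernel

end

end Cfsg.Agent.Co3Type.Model
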