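import Cfsg.Agent.Lib.Co3Type.GenD
import Cfsg.Agent.Lib.Co3Type.ClosureCheck

/-!
# The size of the generated group

In a configuration, the seven double cosets of the centraliser listed in the certificate form a subgroup, so
the group generated by the centraliser and `c` has at most `495766656000` elements.
-/

set_option autoImplicit false
set_option maxRecDepth 100000
set_option linter.style.haveILetI false

open Subgroup
open scoped Pointwise

namespace Cfsg.Agent.Co3Type

open Model

variable {G : Type*} [Group G] {φ : W →* G} {c : G}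

/-- The representatives of the double cosets, by recursion on a bound. -/
noncomputable def repF (φ : W →* G) (c : G) : ℕ → ℕ → G
  | 0, _ => 1
  | f + 1, j => if j = 0 then 1 else c * φ (el (dfn j).2) * repF φ c f (dfn j).1

/-- The representatives of the double cosets. -/
noncomputable def rep (φ : W →* G) (c : G) (j : ℕ) : G := repF φ c 7 j

theorem rep_zero : rep φ c 0 = 1 := by simp [rep, repF]

theorem rep_def {j : ℕ} (h0 : 0 < j) (h7 : j < 7) : rep φ c j = c * φ (el (dfn j).2) * rep φ c (dfn j).1 := by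
  interval_cases j <;> simp [rep, repF, dfn, Data.defs]

theorem rep_one : rep φ c 1 = c := by
  rw [rep_def (by norm_num) (by norm_num), show dfn 1 = (0, 0) from rfl, rep_zero, el_zero, map_one, mul_one, mul_one]

/-- What a fact says. -/
def FactSem (φ : W →* G) (c : G) (f : ℕ) : Prop :=
  if isE f then
    c * φ (el (fE f 2)) * rep φ c (fE f 1) = φ (el (fE f 3)) * rep φ c (fE f 4) * φ (el (fE f 5))
  else φ (el (fE f 2)) * rep φ c (fE f 1) = rep φ c (fE f 1) * φ (el (fE f 3))

theorem phl_one (a : ℕ) : phl φ [a] = φ (el a) := by simp [phl]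

theorem Conf.move (h : Conf φ c) (w : List ℕ) : c * phl φ (srcL w) = phl φ (imgL 0 w) * c :=
  mul_inv_eq_iff_eq_mul.1 (h.act.word w)

theorem facts_sound (h : Conf φ c) : ∀ f, f < 438 → FactSem φ c f := by
  intro f
  induction f using Nat.strong_induction_on with
  | _ f ih =>
  intro hf
  have hok := allB_spec facts_ok f hf
  unfold okFact at hok
  have hs2 : φ (el Data.sC) * φ (el Data.sC) = 1 := by
    have hcb := cube_ok
    simp only [cubeB, Bool.and_eq_true] at hcb
    simpa [phl_cons, phl_nil] using phl_eq φ hcb.1.1.2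
  have hflip := h.flip
  by_cases he : isE f = true
  · simp only [he, if_true, Bool.and_eq_true] at hok
    obtain ⟨-, ⟨hi, hj⟩, hok⟩ := hok
    simp only [FactSem, he, if_true]
    split_ifs at hok with t2 t3 t4
    · simp only [Bool.and_eq_true, Nat.blt_eq, Nat.beq_eq] at hok
      obtain ⟨⟨⟨⟨h0, e1⟩, e2⟩, e3⟩, e4⟩ := hok
      rw [e1, e2, e3, e4, el_zero, map_one, one_mul, mul_one, rep_def h0 (by simpa using hj)]
    · simp only [Bool.and_eq_true, Nat.blt_eq, Nat.beq_eq] at hok
      obtain ⟨⟨⟨⟨⟨⟨hp, hpe⟩, e1⟩, e2⟩, q1⟩, q2⟩, q3⟩ := hok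
      have P := ih _ hp (hp.trans hf)
      simp only [FactSem, hpe, if_true] at P
      have q1 := phl_eq φ q1
      have q2 := phl_eq φ q2
      have q3 := phl_eq φ q3
      simp only [phl_cons, phl_nil, mul_one] at q1 q2 q3
      rw [e1, e2, q1, q2, eq_inv_of_mul_eq_one_left q3]
      generalize φ (el Data.sC) = s at *
      have hcs : c * s = s * c⁻¹ := by
        calc c * s = s⁻¹ * (s * c * s * c) * c⁻¹ := by group
          _ = s⁻¹ * c⁻¹ := by rw [hflip, mul_one]
          _ = s * c⁻¹ := by rw [inv_eq_of_mul_eq_one_right hs2]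
      generalize (fR f).getD 1 0 = p at *
      calc c * (s * φ (el (fE p 3))) * rep φ c (fE p 4)
          = (c * s) * (φ (el (fE p 3)) * rep φ c (fE p 4) * φ (el (fE p 5))) * (φ (el (fE p 5)))⁻¹ := by group
        _ = _ := by rw [← P, hcs]; group
    · simp only [Bool.and_eq_true, Nat.blt_eq, Nat.beq_eq] at hok
      obtain ⟨⟨⟨⟨⟨⟨⟨⟨⟨⟨hp, hq⟩, hpe⟩, hqe⟩, e1⟩, e2⟩, e3⟩, q1⟩, q2⟩, q3⟩, q4⟩ := hok
      have P := ih _ hp (hp.trans hf)
      have Q := ih _ hq (hq.trans hf)
      simp only [FactSem, hpe, hqe, if_true] at P Q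
      rw [e2] at Q
      have q1 := phl_eq φ q1
      have q2 := phl_eq φ q2
      have q3 := phl_eq φ q3
      have q4 := phl_eq φ q4
      simp only [phl_cons, phl_nil, phl_append, mul_one] at q1 q2 q3 q4
      have mw := h.move (fW f)
      have mv := h.move (fV f)
      rw [e1, e3, q2, q3]
      set p := (fR f).getD 1 0
      set q := (fR f).getD 2 0
      rw [← mul_left_inj (φ (el (fE p 5)))]
      calc c * (φ (el u0C) * (phl φ (imgL 0 (fV f)) * φ (el (fE p 3)))) * rep φ c (fE p 4) * φ (el (fE p 5))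
          = c * φ (el u0C) * phl φ (imgL 0 (fV f)) * (φ (el (fE p 3)) * rep φ c (fE p 4) * φ (el (fE p 5))) := by group
        _ = c * φ (el u0C) * (phl φ (imgL 0 (fV f)) * c) * φ (el (fE p 2)) * rep φ c (fE p 1) := by rw [← P]; group
        _ = (c * φ (el u0C) * c) * (phl φ (srcL (fV f)) * φ (el (fE p 2))) * rep φ c (fE p 1) := by rw [← mv]; group
        _ = φ (el a0C) * c * (φ (el b0C) * (phl φ (srcL (fV f)) * φ (el (fE p 2)))) * rep φ c (fE p 1) := by
          rw [h.eqn]; group
        _ = φ (el a0C) * (c * phl φ (srcL (fW f))) * φ (el (fE q 2)) * rep φ c (fE p 1) := by rw [q1]; group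
        _ = φ (el a0C) * phl φ (imgL 0 (fW f)) * (c * φ (el (fE q 2)) * rep φ c (fE p 1)) := by rw [mw]; group
        _ = φ (el a0C) * phl φ (imgL 0 (fW f)) * (φ (el (fE q 3)) * rep φ c (fE q 4) * φ (el (fE q 5))) := by rw [Q]
        _ = _ := by rw [← q4]; group
    · simp only [Bool.and_eq_true, Nat.blt_eq, Nat.beq_eq, Bool.not_eq_true'] at hok
      obtain ⟨⟨⟨⟨⟨⟨⟨⟨⟨⟨-, hp⟩, hq⟩, hpe⟩, hqe⟩, e2⟩, e1⟩, e3⟩, e4⟩, q1⟩, q2⟩ := hok
      have P := ih _ hp (hp.trans hf)
      have Q := ih _ hq (hq.trans hf)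
      simp only [FactSem, hpe, hqe, if_true, Bool.false_eq_true, if_false] at P Q
      rw [e2] at Q
      have q1 := phl_eq φ q1
      have q2 := phl_eq φ q2
      simp only [phl_cons, phl_nil, mul_one] at q1 q2
      rw [e1, e3, e4, q1, q2]
      set p := (fR f).getD 1 0
      set q := (fR f).getD 2 0
      calc c * (φ (el (fE p 2)) * φ (el (fE q 2))) * rep φ c (fE p 1)
          = c * φ (el (fE p 2)) * (φ (el (fE q 2)) * rep φ c (fE p 1)) := by group
        _ = c * φ (el (fE p 2)) * rep φ c (fE p 1) * φ (el (fE q 3)) := by rw [Q]; group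
        _ = _ := by rw [P]; group
  · simp only [Bool.not_eq_true] at he
    simp only [he, Bool.false_eq_true, if_false, Bool.and_eq_true] at hok
    obtain ⟨-, hj, hok⟩ := hok
    simp only [FactSem, he, Bool.false_eq_true, if_false]
    split_ifs at hok with t0 t1 t6 t7
    · simp only [Bool.and_eq_true, Nat.beq_eq] at hok
      have q := phl_eq φ hok.2
      rw [phl_one, phl_one] at q
      rw [hok.1, rep_zero, q, mul_one, one_mul]
    · simp only [Bool.and_eq_true, Nat.beq_eq] at hok
      obtain ⟨⟨e1, q1⟩, q2⟩ := hok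
      have q1 := phl_eq φ q1
      have q2 := phl_eq φ q2
      rw [phl_one] at q1 q2
      rw [e1, rep_one, ← q1, ← q2, h.move]
    · simp only [Bool.and_eq_true, Nat.blt_eq, Nat.beq_eq] at hok
      obtain ⟨⟨⟨⟨⟨⟨⟨⟨⟨hp, hq⟩, hpe⟩, hqe⟩, e1⟩, e2⟩, e3⟩, q1⟩, q2⟩, q3⟩ := hok
      have P := ih _ hp (hp.trans hf)
      have Q := ih _ hq (hq.trans hf)
      simp only [FactSem, hpe, hqe, if_true] at P Q
      rw [e1, e2] at Q
      have q1 := phl_eq φ q1
      have q2 := phl_eq φ q2
      have q3 := phl_eq φ q3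
      simp only [phl_cons, phl_nil, phl_append, mul_one] at q1 q2 q3
      have mw := h.move (fW f)
      rw [e3]
      set p := (fR f).getD 1 0
      set q := (fR f).getD 2 0
      rw [← mul_right_inj (φ (el (fE q 3))), ← mul_left_inj (φ (el (fE p 5)))]
      calc φ (el (fE q 3)) * (φ (el (fE f 2)) * rep φ c (fE p 4)) * φ (el (fE p 5))
          = (φ (el (fE q 3)) * φ (el (fE f 2))) * rep φ c (fE p 4) * φ (el (fE p 5)) := by group
        _ = phl φ (imgL 0 (fW f)) * (φ (el (fE p 3)) * rep φ c (fE p 4) * φ (el (fE p 5))) := by rw [q2]; group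
        _ = (phl φ (imgL 0 (fW f)) * c) * φ (el (fE p 2)) * rep φ c (fE p 1) := by rw [← P]; group
        _ = c * (phl φ (srcL (fW f)) * φ (el (fE p 2))) * rep φ c (fE p 1) := by rw [← mw]; group
        _ = φ (el (fE q 3)) * rep φ c (fE p 4) * φ (el (fE q 5)) := by rw [← q1, Q]
        _ = _ := by rw [← q3]; group
    · simp only [Bool.and_eq_true, Nat.blt_eq, Nat.beq_eq, Bool.not_eq_true'] at hok
      obtain ⟨⟨⟨⟨⟨⟨⟨hp, hq⟩, hpe⟩, hqe⟩, e1⟩, e2⟩, q1⟩, q2⟩ := hok
      have P := ih _ hp (hp.trans hf)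
      have Q := ih _ hq (hq.trans hf)
      simp only [FactSem, hpe, hqe, Bool.false_eq_true, if_false] at P Q
      rw [e1] at P; rw [e2] at Q
      have q1 := phl_eq φ q1
      have q2 := phl_eq φ q2
      simp only [phl_cons, phl_nil, mul_one] at q1 q2
      rw [q1, q2, mul_assoc, Q, ← mul_assoc, P, mul_assoc]
    · simp only [Bool.and_eq_true, Nat.blt_eq, Nat.beq_eq, Bool.not_eq_true'] at hok
      obtain ⟨⟨⟨⟨⟨⟨⟨-, hp⟩, hpe⟩, h0⟩, e1⟩, e2⟩, q1⟩, q2⟩ := hok
      have P := ih _ hp (hp.trans hf)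
      simp only [FactSem, hpe, Bool.false_eq_true, if_false] at P
      rw [e1] at P
      have q1 := phl_eq φ q1
      have q2 := phl_eq φ q2
      simp only [phl_cons, phl_nil, phl_append, mul_one] at q1 q2
      have mw := h.move (fW f)
      rw [q2, e2, rep_def h0 (by simpa using hj)]
      set p := (fR f).getD 1 0
      calc phl φ (imgL 0 (fW f)) * (c * φ (el (dfn (fE f 1)).2) * rep φ c (dfn (fE f 1)).1)
          = (phl φ (imgL 0 (fW f)) * c) * φ (el (dfn (fE f 1)).2) * rep φ c (dfn (fE f 1)).1 := by group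
        _ = c * (phl φ (srcL (fW f)) * φ (el (dfn (fE f 1)).2)) * rep φ c (dfn (fE f 1)).1 := by rw [← mw]; group
        _ = c * φ (el (dfn (fE f 1)).2) * (φ (el (fE p 2)) * rep φ c (dfn (fE f 1)).1) := by rw [← q1]; group
        _ = _ := by rw [P]; group

/-- A double coset of the centraliser. -/
def dcos (φ : W →* G) (c : G) (j : ℕ) : Set G :=
  Set.range fun p : W × W => φ p.1 * rep φ c j * φ p.2

theorem cover (h : Conf φ c) {i : ℕ} (hi : i < 7) : ∀ n < 630,
    ∃ j < 7, ∃ a b : W, c * φ (el n) * rep φ c i = φ a * rep φ c j * φ b := by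
  have hok := allB_spec cov_ok i hi
  simp only [Bool.and_eq_true] at hok
  obtain ⟨hat, hall⟩ := hok
  set T := covT.getD i Data.cov0
  -- multiplying on the left by a member of the centraliser of the four group
  have key : ∀ d < 4608, ∀ n < 630, ∀ g : G, (∃ j < 7, ∃ a b : W, c * φ (el (d * 630 + n)) * g = φ a * rep φ c j * φ b) →
      ∃ j < 7, ∃ a b : W, c * φ (el n) * g = φ a * rep φ c j * φ b := by
    rintro d hd n hn g ⟨j, hj, a, b, e⟩
    obtain ⟨d', -, hd'⟩ := h.act.image (by norm_num) hd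
    rw [el_mul d hn, ← base_eqs.2.2.2.2 d, map_mul] at e
    refine ⟨j, hj, (el (vC d'))⁻¹ * a, b, ?_⟩
    have hw : el n = gN (wI n) := by
      have := el_mul 0 hn
      rwa [zero_mul, zero_add, elD_eq, zero_mul, el_zero, one_mul] at this
    have hd'' : c * φ (el (vC d)) * c⁻¹ = φ (el (vC d')) := hd'
    rw [hw, map_mul, map_inv, mul_assoc (_)⁻¹, mul_assoc (_)⁻¹, eq_inv_mul_iff_mul_eq, ← e, ← hd'']
    group
  have main : ∀ p < 630, ∃ j < 7, ∃ a b : W, c * φ (el (T.get p % 1024)) * rep φ c i = φ a * rep φ c j * φ b := by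
    intro p
    induction p using Nat.strong_induction_on with
    | _ p ih =>
    intro hp
    have hx := allB_spec hall p hp
    simp only [Bool.and_eq_true, Nat.blt_eq] at hx
    obtain ⟨⟨hf, hn⟩, hx⟩ := hx
    set f := T.get p / 1024 / 4608 % 1024
    set n := T.get p % 1024
    have F := facts_sound h f hf
    split_ifs at hx with hm
    · simp only [Bool.and_eq_true, Nat.beq_eq] at hx
      obtain ⟨⟨he, e1⟩, e2⟩ := hx
      simp only [FactSem, he, if_true] at F
      rw [e1] at F
      have hu : fE f 2 < 2903040 := by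
        have hb := allB_spec facts_ok f hf
        unfold okFact at hb
        simp only [Bool.and_eq_true] at hb
        simpa using allB_spec hb.1 2 (by norm_num)
      have hj : fE f 4 < 7 := by
        have hb := allB_spec facts_ok f hf
        unfold okFact at hb
        simp only [he, if_true, Bool.and_eq_true, Nat.blt_eq] at hb
        exact hb.2.1.2
      refine key (fE f 2 / 630) (by omega) n hn _ ⟨_, hj, el (fE f 3), el (fE f 5), ?_⟩
      rw [show fE f 2 / 630 * 630 + n = fE f 2 by omega]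
      exact F
    · simp only [Bool.and_eq_true, Nat.beq_eq, Nat.ble_eq, Bool.not_eq_true'] at hx hm
      obtain ⟨⟨⟨hmp, he⟩, e1⟩, q⟩ := hx
      simp only [FactSem, he, Bool.false_eq_true, if_false] at F
      rw [e1] at F
      obtain ⟨j, hj, a, b, e⟩ := ih (T.get p / 1024 / 4608 / 1024 - 1) (by omega) (by omega)
      have q := phl_eq φ q
      simp only [phl_cons, phl_nil, mul_one] at q
      refine key (T.get p / 1024 % 4608) (Nat.mod_lt _ (by norm_num)) n hn _ ⟨j, hj, a, b * el (fE f 3), ?_⟩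
      have hw : el n = gN (wI n) := by
        have := el_mul 0 hn
        rwa [zero_mul, zero_add, elD_eq, zero_mul, el_zero, one_mul] at this
      rw [el_mul _ hn, elD_eq, ← hw, map_mul, ← q]
      calc c * (φ (el (T.get (T.get p / 1024 / 4608 / 1024 - 1) % 1024)) * φ (el (fE f 2))) * rep φ c i
          = c * φ (el (T.get (T.get p / 1024 / 4608 / 1024 - 1) % 1024)) * (φ (el (fE f 2)) * rep φ c i) := by group
        _ = c * φ (el (T.get (T.get p / 1024 / 4608 / 1024 - 1) % 1024)) * rep φ c i * φ (el (fE f 3)) := by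
          rw [F]; group
        _ = _ := by rw [e, map_mul]; group
  intro n hn
  have hn' := allB_spec hat n hn
  simp only [Bool.and_eq_true, Nat.blt_eq, Nat.beq_eq] at hn'
  have := main _ hn'.1
  rwa [hn'.2] at this

/-- The union of the seven double cosets is closed under `c` and the centraliser. -/
theorem closure_subset [Finite G] (h : Conf φ c) :
    (closure (Set.range φ ∪ {c}) : Set G) ⊆ ⋃ j : Fin 7, dcos φ c j := by
  intro x hx
  have hx' : x ∈ Submonoid.closure (Set.range φ ∪ {c}) := by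
    rw [← Subgroup.closure_toSubmonoid_of_finite]; exact hx
  clear hx
  induction hx' using Submonoid.closure_induction_left with
  | one => exact Set.mem_iUnion.2 ⟨⟨0, by norm_num⟩, (1, 1), by simp [rep_zero]⟩
  | mul_left g hg x hx ih =>
    obtain ⟨i, ⟨a, b⟩, rfl⟩ := Set.mem_iUnion.1 ih
    rcases hg with ⟨w, rfl⟩ | rfl
    · exact Set.mem_iUnion.2 ⟨i, (w * a, b), by simp [map_mul, mul_assoc]⟩
    · obtain ⟨m, hm, rfl⟩ := exists_code a
      obtain ⟨d', -, hd'⟩ := h.act.image (by norm_num) (show m / 630 < 4608 by omega)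
      obtain ⟨j, hj, a', b', e⟩ := cover h i.2 (m % 630) (Nat.mod_lt _ (by norm_num))
      refine Set.mem_iUnion.2 ⟨⟨j, hj⟩, (el (vC d') * a', b' * b), ?_⟩
      have hm' : el m = el (vC (m / 630)) * el (m % 630) := by
        have h1 := el_mul 0 (Nat.mod_lt m (show 630 > 0 by norm_num))
        rw [zero_mul, zero_add, elD_eq, zero_mul, el_zero, one_mul] at h1
        rw [h1, base_eqs.2.2.2.2]; rfl
      have hd'' : g * φ (el (vC (m / 630))) * g⁻¹ = φ (el (vC d')) := hd'
      simp only [hm', map_mul, ← hd'']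
      rw [show g * φ (el (vC (m / 630))) * g⁻¹ * φ a' * rep φ g j * (φ b' * φ b) =
        g * φ (el (vC (m / 630))) * g⁻¹ * (φ a' * rep φ g j * φ b') * φ b by group, ← e]
      group

/-- The members of the centraliser normalising one double coset representative up to the centraliser. -/
def stK (φ : W →* G) (c : G) (j : ℕ) : Subgroup W where
  carrier := {k | ∃ k', φ k * rep φ c j = rep φ c j * φ k'}
  one_mem' := ⟨1, by simp⟩
  mul_mem' := by
    rintro a b ⟨a', ha⟩ ⟨b', hb⟩
    exact ⟨a' * b', by rw [map_mul, map_mul, mul_assoc, hb, ← mul_assoc, ha, mul_assoc]⟩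
  inv_mem' := by
    rintro a ⟨a', ha⟩
    exact ⟨a'⁻¹, by rw [map_inv, map_inv, inv_mul_eq_iff_eq_mul, ← mul_assoc, ha, mul_inv_cancel_right]⟩

theorem card_dcos_le (j : ℕ) : Nat.card (dcos φ c j) ≤ (stK φ c j).index * Nat.card W := by
  rw [Subgroup.index, ← Nat.card_prod]
  refine Nat.card_le_card_of_surjective
    (fun p : (W ⧸ stK φ c j) × W => (⟨φ p.1.out * rep φ c j * φ p.2, (p.1.out, p.2), rfl⟩ : dcos φ c j)) ?_
  rintro ⟨_, ⟨a, b⟩, rfl⟩
  obtain ⟨k, hk⟩ := QuotientGroup.mk_out_eq_mul (stK φ c j) a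
  obtain ⟨k', hk'⟩ := k.2
  refine ⟨(QuotientGroup.mk a, (k'⁻¹ * b)), Subtype.ext ?_⟩
  simp only [hk, map_mul, map_inv, mul_assoc]
  rw [← mul_assoc (φ (k : W)), hk']
  group

theorem stK_card (hinj : Function.Injective φ) (h : Conf φ c) {j : ℕ} (hj : j < 7) :
    2903040 ≤ Nat.card (stK φ c j) * Data.orbN.getD j 1 := by
  have hok := stab_ok
  simp only [stabB, Bool.and_eq_true, decide_eq_true_eq] at hok
  obtain ⟨horb, hst⟩ := hok
  by_cases h0 : j = 0
  · subst h0
    have : stK φ c 0 = ⊤ := eq_top_iff.2 fun k _ => ⟨k, by rw [rep_zero, mul_one, one_mul]⟩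
    rw [this, Subgroup.card_top, card_W, horb]; norm_num
  by_cases h1 : j = 1
  · subst h1
    have hd : ∀ d : Fin 4608, ∃ d' < 4608, Sends φ c (vC d) (vC d') := fun d =>
      h.act.image (by norm_num) d.2
    choose f hf hs using hd
    have hmem : ∀ d : Fin 4608, el (vC (f d)) ∈ stK φ c 1 := fun d =>
      ⟨el (vC d), by rw [rep_one, ← hs d, inv_mul_cancel_right]⟩
    have := Nat.card_le_card_of_injective (fun d : Fin 4608 => (⟨_, hmem d⟩ : stK φ c 1)) fun a b e => by
      have e' : φ (el (vC (f a))) = φ (el (vC (f b))) := congrArg (fun k : stK φ c 1 => φ k.1) e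
      rw [← hs a, ← hs b, mul_left_inj, mul_right_inj] at e'
      have := el_injective (show vC a < 2903040 by unfold vC; omega) (show vC b < 2903040 by unfold vC; omega) (hinj e')
      unfold vC at this
      exact Fin.ext (by omega)
    rw [Nat.card_eq_fintype_card, Fintype.card_fin] at this
    rw [horb]
    simp only [List.getD_cons_succ, List.getD_cons_zero]
    omega
  obtain ⟨l, rfl⟩ : ∃ l, j = l + 2 := ⟨j - 2, by omega⟩
  have hl := allB_spec hst l (by omega)
  simp only [Bool.and_eq_true, Nat.beq_eq] at hl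
  obtain ⟨⟨⟨hN, hz⟩, hp⟩, hmono⟩ := hl
  set T := stL.getD l (Data.stT2, Data.stP2, Data.stO2, Data.stR2)
  set N := 2903040 / Data.orbN.getD (l + 2) 1
  have hmem : ∀ p, p < N → el (T.1.get p) ∈ stK φ c (l + 2) := by
    intro p
    induction p using Nat.strong_induction_on with
    | _ p ih =>
    intro hpN
    have hx := allB_spec hp p hpN
    simp only [Bool.and_eq_true, Bool.or_eq_true, Nat.blt_eq, Nat.beq_eq, Bool.not_eq_true'] at hx
    rcases hx.2 with rfl | ⟨⟨⟨⟨hq, hg⟩, he⟩, e1⟩, q⟩
    · rw [hz, el_zero]; exact one_mem _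
    · have F := facts_sound h _ hg
      simp only [FactSem, he, Bool.false_eq_true, if_false] at F
      rw [e1] at F
      have q := of_cEq q
      simp only [List.map_cons, List.map_nil, List.prod_cons, List.prod_nil, mul_one] at q
      rw [q]
      exact mul_mem (ih _ hq (hq.trans hpN)) ⟨_, F⟩
  have hcard := Nat.card_le_card_of_injective (fun p : Fin N => (⟨_, hmem p p.2⟩ : stK φ c (l + 2))) fun a b e => by
    refine Fin.ext (inj_of_order (rk := fun p => T.2.2.2.get p) (o := fun r => T.2.2.1.get r)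
      (f := fun p => T.1.get p) (fun d hd => ?_) (fun k hk => ?_) a.2 b.2 ?_)
    · have hx := allB_spec hp d hd
      simp only [Bool.and_eq_true, Nat.blt_eq, beq_iff_eq] at hx
      exact ⟨hx.1.1.2, hx.1.2⟩
    · simpa using allB_spec hmono k (by omega)
    · have ha := allB_spec hp a a.2
      have hb := allB_spec hp b b.2
      simp only [Bool.and_eq_true, Nat.blt_eq] at ha hb
      exact el_injective ha.1.1.1 hb.1.1.1 (congrArg Subtype.val e)
  rw [Nat.card_eq_fintype_card, Fintype.card_fin] at hcard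
  calc 2903040 = N * Data.orbN.getD (l + 2) 1 := hN.symm
    _ ≤ _ := Nat.mul_le_mul_right _ hcard

/-- The generated group is no larger than the third Conway group. -/
theorem card_closure_le [Finite G] (hinj : Function.Injective φ) (h : Conf φ c) :
    Nat.card (closure (Set.range φ ∪ {c})) ≤ 495766656000 := by
  have hidx : ∀ j : Fin 7, (stK φ c j).index ≤ Data.orbN.getD j 1 := fun j => by
    refine Nat.le_of_mul_le_mul_left ?_ (Nat.card_pos (α := stK φ c j))
    rw [Subgroup.card_mul_index, card_W]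
    exact stK_card hinj h j.2
  calc Nat.card (closure (Set.range φ ∪ {c}))
      = (closure (Set.range φ ∪ {c}) : Set G).ncard := (Nat.card_coe_set_eq _).symm ▸ rfl
    _ ≤ (⋃ j : Fin 7, dcos φ c j).ncard := Set.ncard_le_ncard (closure_subset h) (Set.toFinite _)
    _ ≤ ∑ j : Fin 7, (dcos φ c j).ncard := Set.ncard_iUnion_le_of_fintype _
    _ ≤ ∑ j : Fin 7, Data.orbN.getD j 1 * 2903040 := Finset.sum_le_sum fun j _ => by
        rw [← Nat.card_coe_set_eq, ← card_W]
        exact (card_dcos_le j).trans (Nat.mul_le_mul_right _ (hidx j))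
    _ = 495766656000 := by
        simp [Fin.sum_univ_succ, Data.orbN]

end Cfsg.Agent.Co3Type
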