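import Cfsg.Agent.Lib.PcMult.Co3.Main
import Cfsg.Agent.Lib.LeechAut.Conway23
import Mathlib

/-!
A subgroup of the third Conway group of order divisible by 2903040 with elements of orders 23 and 11
is the whole group.
-/

set_option autoImplicit false

namespace Cfsg.Agent.Co3Type

open Cfsg

/-- The counting argument in an abstract group of the order of `Co₃`. -/
theorem eq_top_of_norm {K : Type} [Group K] [Finite K] [IsSimpleGroup K]
    (hK : Nat.card K = 495766656000) (g : K) (hg : orderOf g = 23)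
    (hcent : ∀ c, Commute c g → c ∈ Subgroup.zpowers g)
    (hnorm : ∀ (c : K) (k : ℕ), c * g * c⁻¹ = g ^ k → k ^ 11 % 23 = 1)
    (H : Subgroup K) (hC : 2903040 ∣ Nat.card H) (x : H) (hx : orderOf x = 23) (y : H)
    (hy : orderOf y = 11) : H = ⊤ := by
  haveI := LeechAut.Crit23.fact23
  haveI := LeechAut.Crit23.fact11
  classical
  by_contra hne
  have hdH : 734469120 ∣ Nat.card H := by
    have h1 : 23 ∣ Nat.card H := hx ▸ orderOf_dvd_natCard x
    have h2 : 11 ∣ Nat.card H := hy ▸ orderOf_dvd_natCard y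
    exact Nat.Coprime.mul_dvd_of_dvd_of_dvd (by norm_num : Nat.Coprime (2903040 * 23) 11)
      (Nat.Coprime.mul_dvd_of_dvd_of_dvd (by norm_num : Nat.Coprime 2903040 23) hC h1) h2
  obtain ⟨m, hm⟩ := hdH
  have hmul : H.index * Nat.card H = Nat.card K := H.index_mul_card
  rw [hK, hm] at hmul
  have hidx : H.index * m = 675 := by linarith
  have hi1 : H.index ≠ 1 := fun e => hne (Subgroup.index_eq_one.1 e)
  have hbig : 23 ≤ H.index := by
    have hnt : H.normalCore = ⊥ := by
      refine (IsSimpleGroup.eq_bot_or_eq_top_of_normal _ H.normalCore_normal).resolve_right fun e => hne ?_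
      exact eq_top_iff.2 (e ▸ H.normalCore_le)
    have hinj : Function.Injective (MulAction.toPermHom K (K ⧸ H)) := by
      rw [← MonoidHom.ker_eq_bot_iff, ← Subgroup.normalCore_eq_ker, hnt]
    haveI : Fintype (K ⧸ H) := Fintype.ofFinite _
    have h := Subgroup.card_dvd_of_injective _ hinj
    rw [hK, Nat.card_eq_fintype_card (α := Equiv.Perm _), Fintype.card_perm,
      ← Nat.card_eq_fintype_card, ← Subgroup.index_eq_card] at h
    exact (Nat.Prime.dvd_factorial (by norm_num : Nat.Prime 23)).1 (dvd_trans (by norm_num) h)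
  have h23 : ¬ 23 ^ 2 ∣ Nat.card K := by rw [hK]; norm_num
  -- the normaliser of the subgroup of order 23
  let X : Subgroup K := Subgroup.zpowers (x : K)
  have hxK : orderOf (x : K) = 23 := (Subgroup.orderOf_coe x).trans hx
  obtain ⟨h, i, e⟩ := LeechAut.Crit23.exists_conj hg h23 hxK
  have hexp : ∀ c ∈ Subgroup.normalizer (X : Set K), c ^ 253 = 1 := by
    intro c hc
    set d := h * c * h⁻¹ with hd
    suffices hd1 : d ^ 253 = 1 by
      have := congrArg (fun t => h⁻¹ * t * h) hd1
      simp only [hd, conj_pow, mul_one, inv_mul_cancel] at this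
      simpa [mul_assoc] using this
    have hgX : h⁻¹ * g * h ∈ X := by
      refine Subgroup.mem_zpowers_iff.2 ⟨i, ?_⟩
      rw [← e]; group
    have himg := (Subgroup.mem_normalizer_iff.1 hc _).1 hgX
    obtain ⟨j, hj⟩ := Subgroup.mem_zpowers_iff.1 himg
    have hgz : g ∈ Subgroup.zpowers (h * (x : K) * h⁻¹) :=
      Subgroup.mem_zpowers_iff.2 ⟨i, by rw [conj_zpow]; exact e⟩
    have hxg : h * (x : K) * h⁻¹ ∈ Subgroup.zpowers g := by
      have hle : Subgroup.zpowers g ≤ Subgroup.zpowers (h * (x : K) * h⁻¹) := Subgroup.zpowers_le.2 hgz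
      have hcard : Nat.card (Subgroup.zpowers (h * (x : K) * h⁻¹)) ≤ Nat.card (Subgroup.zpowers g) := by
        rw [Nat.card_zpowers, Nat.card_zpowers, hg, show orderOf (h * (x : K) * h⁻¹) = 23 from
          (MulEquiv.orderOf_eq (MulAut.conj h) (x : K)).trans hxK]
      exact (Subgroup.eq_of_le_of_card_ge hle hcard) ▸ Subgroup.mem_zpowers _
    have hdg : d * g * d⁻¹ ∈ Subgroup.zpowers g := by
      have : d * g * d⁻¹ = (h * (x : K) * h⁻¹) ^ j := by
        rw [conj_zpow, hj, hd]; group
      exact this ▸ Subgroup.zpow_mem _ hxg j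
    obtain ⟨k, hk⟩ := mem_powers_iff_mem_zpowers.2 hdg
    change g ^ k = _ at hk
    have hk' : ∀ i : ℕ, (g ^ k) ^ i = d * g ^ i * d⁻¹ := fun i => by
      rw [hk]; exact conj_pow
    have hpow : ∀ n : ℕ, d ^ n * g * (d ^ n)⁻¹ = g ^ k ^ n := by
      intro n
      induction n with
      | zero => simp
      | succ n ih =>
        rw [pow_succ k n, mul_comm (k ^ n) k, pow_mul, hk', ← ih, pow_succ']
        group
    have h11 : Commute (d ^ 11) g := by
      have h1 := hpow 11
      rw [← pow_mod_orderOf g, hg, hnorm d k hk.symm, pow_one] at h1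
      exact (mul_inv_eq_iff_eq_mul.1 h1)
    obtain ⟨l, hl⟩ := Subgroup.mem_zpowers_iff.1 (hcent _ h11)
    rw [show (253 : ℕ) = 11 * 23 by rfl, pow_mul, ← hl, ← zpow_natCast, ← zpow_mul, mul_comm, zpow_mul,
      zpow_natCast, ← hg, pow_orderOf_eq_one, one_zpow]
  -- the Sylow subgroup of `H`
  have hf : (Nat.card H).factorization 23 = 1 :=
    LeechAut.Crit23.fact_one (by norm_num) (fun h' => h23 (h'.trans H.card_subgroup_dvd_card))
      (hx ▸ orderOf_dvd_natCard x)
  let P : Sylow 23 H := Sylow.ofCard (Subgroup.zpowers x) (by rw [Nat.card_zpowers, hx, hf]; rfl)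
  set N := Subgroup.normalizer ((P : Subgroup H) : Set H) with hNdef
  have hNexp : ∀ c ∈ N, c ^ 253 = 1 := by
    intro c hc
    refine Subtype.ext ?_
    rw [Subgroup.coe_pow, Subgroup.coe_one]
    refine hexp _ (Subgroup.mem_normalizer_iff.2 fun t => ?_)
    have hmem : ∀ t : K, t ∈ X ↔ ∃ s : H, s ∈ (P : Subgroup H) ∧ (s : K) = t := by
      intro t
      constructor
      · intro ht
        obtain ⟨j, rfl⟩ := Subgroup.mem_zpowers_iff.1 ht
        exact ⟨x ^ j, Subgroup.mem_zpowers_iff.2 ⟨j, rfl⟩, by simp⟩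
      · rintro ⟨s, hs, rfl⟩
        obtain ⟨j, rfl⟩ := Subgroup.mem_zpowers_iff.1 hs
        exact Subgroup.mem_zpowers_iff.2 ⟨j, by simp⟩
    constructor
    · intro ht
      obtain ⟨s, hs, rfl⟩ := (hmem t).1 ht
      exact (hmem _).2 ⟨_, (Subgroup.mem_normalizer_iff.1 hc s).1 hs, rfl⟩
    · intro ht
      obtain ⟨s, hs, hs'⟩ := (hmem _).1 ht
      refine (hmem _).2 ⟨c⁻¹ * s * c, (Subgroup.mem_normalizer_iff.1 hc _).2 (by simpa [mul_assoc] using hs), ?_⟩
      simp [hs', mul_assoc]
  have hN : Nat.card N ∣ 253 := by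
    have hdvd : Nat.card N ∣ 495766656000 :=
      hK ▸ (N.card_subgroup_dvd_card.trans H.card_subgroup_dvd_card)
    have hN0 : Nat.card N ≠ 0 := Nat.card_pos.ne'
    refine (Nat.factorization_le_iff_dvd hN0 (by norm_num)).1 (Finsupp.le_def.2 fun p => ?_)
    by_cases hp : p.Prime
    · haveI : Fact p.Prime := ⟨hp⟩
      by_cases hpd : p ∣ Nat.card N
      · obtain ⟨c, hc⟩ := exists_prime_orderOf_dvd_card' p hpd
        have hp253 : p ∣ 253 := hc ▸ orderOf_dvd_of_pow_eq_one
          (Subtype.ext (by rw [Subgroup.coe_pow]; exact hNexp _ c.2))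
        have hple : 1 ≤ (253 : ℕ).factorization p :=
          (hp.pow_dvd_iff_le_factorization (by norm_num)).1 (by rwa [pow_one])
        refine le_trans ?_ hple
        by_contra hgt
        have h2 : p ^ 2 ∣ 495766656000 :=
          ((hp.pow_dvd_iff_le_factorization hN0).2 (by omega)).trans hdvd
        rw [show (253 : ℕ) = 11 * 23 by rfl] at hp253
        rcases (Nat.Prime.dvd_mul hp).1 hp253 with h' | h'
        · rw [(Nat.prime_dvd_prime_iff_eq hp (by norm_num)).1 h'] at h2; norm_num at h2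
        · rw [(Nat.prime_dvd_prime_iff_eq hp (by norm_num)).1 h'] at h2; norm_num at h2
      · rw [Nat.factorization_eq_zero_of_not_dvd hpd]; exact Nat.zero_le _
    · rw [Nat.factorization_eq_zero_of_not_prime _ hp]; exact Nat.zero_le _
  have h23N : 23 ∣ Nat.card N := by
    have h1 : (P : Subgroup H) ≤ N := Subgroup.le_normalizer
    have h2 := Subgroup.card_dvd_of_le h1
    rwa [show Nat.card (P : Subgroup H) = 23 from (Nat.card_zpowers x).trans hx] at h2
  have hcount : Nat.card (Sylow 23 H) * Nat.card N = Nat.card H := by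
    rw [P.card_eq_index_normalizer]; exact N.index_mul_card
  have hmod : Nat.card (Sylow 23 H) % 23 = 1 := card_sylow_modEq_one 23 H
  rw [hm] at hcount
  have hidx675 : H.index ∈ Nat.divisors 675 := Nat.mem_divisors.2 ⟨⟨m, hidx.symm⟩, by norm_num⟩
  have hN253 : Nat.card N = 23 ∨ Nat.card N = 253 := by
    have h1 : Nat.card N ∈ Nat.divisors 253 := Nat.mem_divisors.2 ⟨hN, by norm_num⟩
    rw [show Nat.divisors 253 = {1, 11, 23, 253} from by decide +kernel] at h1
    simp only [Finset.mem_insert, Finset.mem_singleton] at h1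
    rcases h1 with h1 | h1 | h1 | h1 <;> simp_all
  rw [show Nat.divisors 675 = {1, 3, 5, 9, 15, 25, 27, 45, 75, 135, 225, 675} from by decide +kernel] at hidx675
  simp only [Finset.mem_insert, Finset.mem_singleton] at hidx675
  rcases hN253 with hn | hn <;> rw [hn] at hcount <;>
    rcases hidx675 with h' | h' | h' | h' | h' | h' | h' | h' | h' | h' | h' | h' <;>
      rw [h'] at hidx hbig <;> omega

open LeechAut.Conway23 in
/-- A subgroup of `Co₃` with this much of it is everything. -/
theorem co3_eq_top (H : Subgroup Spor.Co3) (hC : 2903040 ∣ Nat.card H) (x : H) (hx : orderOf x = 23)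
    (y : H) (hy : orderOf y = 11) : H = ⊤ := by
  obtain ⟨c, hc⟩ := LeechAut.Shells.transitive48 Spor.leechV (LeechAut.Pairs.v0 + LeechAut.McL.w1)
    (show sqNorm Spor.vecV = 48 by decide +kernel) norm3
  obtain ⟨e'⟩ := stab_equiv hc
  let e : ↥Spor.Co3 ≃* MulAction.stabilizer Co0 (LeechAut.Pairs.v0 + LeechAut.McL.w1) :=
    (Lib.PcMult.Leech.stabEquiv Spor.leechV).trans e'
  haveI : Finite (MulAction.stabilizer Co0 (LeechAut.Pairs.v0 + LeechAut.McL.w1)) :=
    Nat.finite_of_card_ne_zero (by rw [card_stab48 norm3]; norm_num)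
  haveI := isSimple3
  have hcard : Nat.card (H.map e.toMonoidHom) = Nat.card H :=
    (Nat.card_congr (H.equivMapOfInjective e.toMonoidHom e.injective).toEquiv).symm
  have htop := eq_top_of_norm ((card_stab48 norm3).trans (by norm_num)) (gen flat3)
    (by rw [← Subgroup.orderOf_coe]; exact orderOf_g23)
    (fun c hc => by
      obtain ⟨i, hi⟩ := Subgroup.mem_zpowers_iff.1 (cent flat3 (by norm_num) c.2
        (congrArg Subtype.val hc : (c : Co0) * g23 = g23 * (c : Co0)))
      exact Subgroup.mem_zpowers_iff.2 ⟨i, Subtype.ext hi⟩)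
    (fun c k hk => norm_exp flat3 (by norm_num) c.2 (congrArg Subtype.val hk))
    (H.map e.toMonoidHom) (hcard ▸ hC)
    (H.equivMapOfInjective e.toMonoidHom e.injective x) ((MulEquiv.orderOf_eq _ x).trans hx)
    (H.equivMapOfInjective e.toMonoidHom e.injective y) ((MulEquiv.orderOf_eq _ y).trans hy)
  refine eq_top_iff.2 fun t _ => ?_
  have ht : e t ∈ H.map e.toMonoidHom := htop ▸ Subgroup.mem_top _
  obtain ⟨s, hs, hst⟩ := Subgroup.mem_map.1 ht
  exact e.injective hst ▸ hs

end Cfsg.Agent.Co3Type
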