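import Cfsg.Agent.Lib.Co3Type.GenD
import Cfsg.Agent.Lib.Co3Type.Co3Data
import Cfsg.Agent.Lib.Co3Type.Generate
import Cfsg.Agent.Lib.PcMult.Co3.Main

/-!
# The configuration inside the third Conway group

Eight integer matrices fix the lattice vector: seven give a double cover of `Sp₆(2)`, the last is the cycling
element.  They generate the group.
-/

set_option autoImplicit false
set_option maxRecDepth 100000
set_option Elab.async false
set_option linter.style.haveILetI false

open Subgroup

namespace Cfsg.Agent.Co3Type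

open Model
open Cfsg.Agent.Lib.PcMult (frc frc_eq)
open Cfsg.Agent.Lib.PcMult.Leech (Mat okMat codeOf elem Rep rep_elem rep_one mulP encM idRows fixAll elem_fix)
open Cfsg.Agent.Sp6Mult (cm)

noncomputable section

/-- The vector fixed. -/
def vecL : List ℤ := [-1, -1, -1, -1, -1, -1, -1, -1, -1, -1, -1, -1, -1, -1, -1, -1, -1, -1, -1, -1, -1, -1, -1, -5]

theorem vecL_eq : LeechAut.Gens.vec vecL = Spor.vecV := by decide +kernel

theorem fix_ok : fixAll (LeechAut.Gens.vec vecL) Data.matL = true := by decide +kernel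

/-- The matrices give automorphisms with the listed codes. -/
def matB : Bool :=
  allB 8 fun i => okMat (Data.matL.getD i []) && codeOf (Data.matL.getD i []) == Data.codeL.getD i 0

theorem mat_ok : matB = true := by decide +kernel

theorem mat_mem {i : ℕ} (hi : i < 8) : Data.matL.getD i [] ∈ Data.matL := by
  have h : i < Data.matL.length := hi
  rw [List.getD_eq_getElem _ _ h]; exact List.getElem_mem h

/-- The eight elements. -/
def co (i : Fin 8) : Spor.Co3 :=
  ⟨(elem (Data.matL.getD i [])).1, (elem (Data.matL.getD i [])).2,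
    elem_fix fix_ok (mat_mem i.2) (v := Spor.leechV) vecL_eq.symm⟩

/-- The inclusion in the automorphism group of the lattice. -/
def inc : Spor.Co3 →* Co0 where
  toFun g := ⟨g.1, g.2.1⟩
  map_one' := rfl
  map_mul' _ _ := rfl

theorem inc_injective : Function.Injective inc := fun a b e => by
  exact Subtype.ext (congrArg (fun z : Co0 => (z : Equiv.Perm leechLattice)) e)

/-- The code of a word in the eight elements. -/
def evalW : List ℕ → ℕ
  | [] => encM idRows
  | i :: l => frc (evalW l) fun a => frc (mulP (Data.codeL.getD i 0) a) fun b => b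

/-- The product of a word. -/
def coW (w : List ℕ) : Spor.Co3 := (w.map fun i => co (Fin.ofNat 8 i)).prod

theorem rep_coW : ∀ w : List ℕ, (∀ i ∈ w, i < 8) → Rep (inc (coW w)) (evalW w)
  | [], _ => by rw [coW, List.map_nil, List.prod_nil, map_one]; exact rep_one
  | i :: w, h => by
    have hi := h i List.mem_cons_self
    have hok := allB_spec mat_ok i hi
    simp only [Bool.and_eq_true, beq_iff_eq] at hok
    rw [coW, List.map_cons, List.prod_cons, map_mul, evalW, frc_eq, frc_eq]
    refine Rep.mul ?_ (rep_coW w fun j hj => h j (List.mem_cons_of_mem _ hj))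
    have : (Fin.ofNat 8 i : ℕ) = i := by simp [Nat.mod_eq_of_lt hi]
    show Rep (elem (Data.matL.getD (Fin.ofNat 8 i : ℕ) [])) _
    rw [this]
    exact rep_elem hok.1 hok.2

/-- Two words give the same element. -/
def wEq (u v : List ℕ) : Bool :=
  ((u ++ v).all fun i => Nat.blt i 8) && evalW u == evalW v

theorem of_wEq {u v : List ℕ} (h : wEq u v = true) : coW u = coW v := by
  simp only [wEq, Bool.and_eq_true, List.all_eq_true, Nat.blt_eq, beq_iff_eq] at h
  refine inc_injective (Rep.eq (rep_coW u fun i hi => h.1 i (List.mem_append_left _ hi)) ?_)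
  rw [h.2]
  exact rep_coW v fun i hi => h.1 i (List.mem_append_right _ hi)

theorem lin_single (A : List (List ℕ)) (k : Fin 24) :
    Cfsg.Agent.Lib.PcMult.Leech.lin A (Pi.single k 1) = Cfsg.Agent.Lib.PcMult.Leech.dec (A.getD k []) := by
  rw [Cfsg.Agent.Lib.PcMult.Leech.lin, Finset.sum_eq_single k (fun i _ hi => by
    rw [Pi.single_eq_of_ne hi, zero_smul]) (by simp), Pi.single_eq_same, one_smul]

theorem rep_unique {g : Co0} {a b : ℕ} (ha : Rep g a) (hb : Rep g b) : a = b := by
  obtain ⟨A, hA, rfl, fa⟩ := ha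
  obtain ⟨B, hB, rfl, fb⟩ := hb
  refine congrArg encM (List.ext_getElem (hA.1.trans hB.1.symm) fun k k1 k2 => ?_)
  refine Cfsg.Agent.Lib.PcMult.Leech.dec_injective (hA.2 _ (List.getElem_mem k1))
    (hB.2 _ (List.getElem_mem k2)) ?_
  have e := (fa (Pi.single ⟨k, hA.1 ▸ k1⟩ 1)).symm.trans (fb (Pi.single ⟨k, hA.1 ▸ k1⟩ 1))
  rw [lin_single, lin_single, List.getD_eq_getElem _ _ k1, List.getD_eq_getElem _ _ k2] at e
  exact e

theorem coW_ne_one {w : List ℕ} (hw : ∀ i ∈ w, i < 8) (h : ¬ evalW w = evalW []) : coW w ≠ 1 := fun e => by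
  refine h (rep_unique (g := inc (coW w)) (rep_coW w hw) ?_)
  rw [e, map_one]
  exact rep_one

theorem coW_append (u v : List ℕ) : coW (u ++ v) = coW u * coW v := by
  simp [coW, List.prod_append]

theorem coW_cons (i : ℕ) (v : List ℕ) : coW (i :: v) = co (Fin.ofNat 8 i) * coW v := by
  simp [coW]

theorem coW_nil : coW [] = 1 := rfl

/-- The relations. -/
def coRelB : Bool :=
  (allB 7 fun i => wEq [i, i] [0, 0] && wEq [i, 0, 0] [0, 0, i]) && wEq [0, 1] [0, 0, 1, 0] && wEq [0, 0, 0, 0] [] &&
    !(evalW [0, 0] == evalW []) && wEq ((List.replicate 9 (List.range 7)).flatten) [] &&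
    allB 7 fun i => allB 7 fun j =>
      (cm (Fin.ofNat 7 i) (Fin.ofNat 7 j) != 2 || (wEq [i, j] [j, i] || wEq [i, j] [0, 0, j, i])) &&
      (cm (Fin.ofNat 7 i) (Fin.ofNat 7 j) != 3 || wEq [i, j, i] [j, i, j])

theorem coRel_ok : coRelB = true := by decide +kernel

/-- The seven generators. -/
def cg (i : Fin 7) : Spor.Co3 := co i.castSucc

theorem coW_range : coW (List.range 7) = (List.ofFn cg).prod := by
  refine congrArg List.prod ?_
  rw [List.ofFn_eq_map]
  rfl

theorem co_eq_cg (i : Fin 7) : co (Fin.ofNat 8 (i : ℕ)) = cg i := by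
  refine congrArg co (Fin.ext ?_)
  simp [Nat.mod_eq_of_lt (i.2.trans (by norm_num : 7 < 8))]

/-- The central involution. -/
def cz : Spor.Co3 := cg 0 * cg 0

theorem cz_word : coW [0, 0] = cz := by simp [coW, cz, ← co_eq_cg 0]

theorem coW_two (i j : Fin 7) : coW [(i : ℕ), j] = cg i * cg j := by simp [coW, ← co_eq_cg]

theorem cg_rels : (∀ i, cg i * cg i = cz) ∧ (∀ i, Commute (cg i) cz) ∧ cg 0 * cg 1 = cz * (cg 1 * cg 0) ∧
    cz * cz = 1 ∧ cz ≠ 1 ∧ ((List.ofFn cg).prod) ^ 9 = 1 ∧
    (∀ i j, cm i j = 2 → cg i * cg j = cg j * cg i ∨ cg i * cg j = cz * (cg j * cg i)) ∧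
    ∀ i j, cm i j = 3 → cg i * cg j * cg i = cg j * cg i * cg j := by
  have h := coRel_ok
  simp only [coRelB, Bool.and_eq_true, Bool.not_eq_true', beq_eq_false_iff_ne] at h
  obtain ⟨⟨⟨⟨⟨h1, h2⟩, h3⟩, h4⟩, h5⟩, h6⟩ := h
  have e0 : co (Fin.ofNat 8 0) = cg 0 := co_eq_cg 0
  have e1 : co (Fin.ofNat 8 1) = cg 1 := co_eq_cg 1
  refine ⟨fun i => ?_, fun i => ?_, ?_, ?_, fun e => ?_, ?_, fun i j hij => ?_, fun i j hij => ?_⟩
  · have h := allB_spec h1 i i.2
    rw [Bool.and_eq_true] at h
    rw [← coW_two, of_wEq h.1, cz_word]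
  · have h := allB_spec h1 i i.2
    rw [Bool.and_eq_true] at h
    have e := of_wEq h.2
    simp only [coW_cons, coW_nil, mul_one, co_eq_cg, e0] at e
    show cg i * (cg 0 * cg 0) = cg 0 * cg 0 * cg i
    rw [e, mul_assoc]
  · have e := of_wEq h2
    simp only [coW_cons, coW_nil, mul_one, e0, e1] at e
    rw [e, cz, mul_assoc]
  · have e := of_wEq h3
    simp only [coW_cons, coW_nil, mul_one, e0] at e
    rw [cz, ← e, mul_assoc]
  · exact coW_ne_one (w := [0, 0]) (by simp) h4 (cz_word.trans e)
  · have e := of_wEq h5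
    rw [coW_nil] at e
    rw [← e, coW, List.map_flatten, List.map_replicate, List.prod_flatten, List.map_replicate, List.prod_replicate,
      ← coW, coW_range]
  · have h := allB_spec (allB_spec h6 i i.2) j j.2
    simp only [Fin.ofNat_eq_cast, Fin.cast_val_eq_self, hij, Bool.and_eq_true, Bool.or_eq_true] at h
    rcases h.1 with h | h
    · simp at h
    rcases h with h | h
    · left; rw [← coW_two, ← coW_two, of_wEq h]
    · right
      have e := of_wEq h
      rw [coW_two, show ([0, 0, (j : ℕ), (i : ℕ)] : List ℕ) = [0, 0] ++ [(j : ℕ), (i : ℕ)] from rfl, coW_append, cz_word,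
        coW_two] at e
      exact e
  · have h := allB_spec (allB_spec h6 i i.2) j j.2
    simp only [Fin.ofNat_eq_cast, Fin.cast_val_eq_self, hij, Bool.and_eq_true, Bool.or_eq_true] at h
    rcases h.2 with h | h
    · simp at h
    have e := of_wEq h
    simp only [coW_cons, coW_nil, mul_one, co_eq_cg] at e
    rw [mul_assoc, e, mul_assoc]

/-- The generators of the product. -/
def pg (i : Fin 7) : W × Spor.Co3 := (gW i, cg i)

theorem finite_co3 : Finite Spor.Co3 := Nat.finite_of_card_ne_zero (by rw [Lib.PcMult.Co3.card_eq]; norm_num)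

/-- A group generated by seven elements with the relations has the order of the cover. -/
theorem card_of_rels {H : Type*} [Group H] [Finite H] (g : Fin 7 → H) (ε : H) (hε1 : ε ≠ 1) (hε2 : ε * ε = 1)
    (hc : ∀ i, Commute (g i) ε) (hsq : ∀ i, g i * g i = ε)
    (h2 : ∀ i j, cm i j = 2 → g i * g j = g j * g i ∨ g i * g j = ε * (g j * g i))
    (h3 : ∀ i j, cm i j = 3 → g i * g j * g i = g j * g i * g j)
    (hanti : g 0 * g 1 = ε * (g 1 * g 0)) (hcox : ((List.ofFn g).prod) ^ 9 = 1)
    (hgen : closure (Set.range g) = ⊤) : Nat.card H = 2903040 := by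
  have hall : ∀ h : H, Commute h ε := fun h => by
    have hm : h ∈ centralizer ({ε} : Set H) := by
      have := mem_top h
      rw [← hgen] at this
      refine (closure_le _).2 ?_ this
      rintro _ ⟨i, rfl⟩
      exact mem_centralizer_singleton_iff.2 (hc i).eq
    exact mem_centralizer_singleton_iff.1 hm
  obtain ⟨ξ, hξ, -⟩ := isDouble_of_rels g ε hgen hε2 hε1 hall hsq h2 h3 hanti (Or.inl hcox)
  rw [Subgroup.card_eq_card_quotient_mul_card_subgroup ξ.ker,
    Nat.card_congr (QuotientGroup.quotientKerEquivOfSurjective ξ hξ.surj).toEquiv, hξ.card,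
    Sp6Mult.card_psp (ZMod.card 2)]

/-- The same inside the closure of the generators. -/
theorem card_closure_rels {K : Type*} [Group K] [Finite K] (g : Fin 7 → K) (ε : K) (hmem : ε ∈ closure (Set.range g))
    (hε1 : ε ≠ 1) (hε2 : ε * ε = 1)
    (hc : ∀ i, Commute (g i) ε) (hsq : ∀ i, g i * g i = ε)
    (h2 : ∀ i j, cm i j = 2 → g i * g j = g j * g i ∨ g i * g j = ε * (g j * g i))
    (h3 : ∀ i j, cm i j = 3 → g i * g j * g i = g j * g i * g j)
    (hanti : g 0 * g 1 = ε * (g 1 * g 0)) (hcox : ((List.ofFn g).prod) ^ 9 = 1) :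
    Nat.card (closure (Set.range g)) = 2903040 := by
  let g' : Fin 7 → closure (Set.range g) := fun i => ⟨g i, subset_closure ⟨i, rfl⟩⟩
  refine card_of_rels g' ⟨ε, hmem⟩ (fun e => hε1 (congrArg Subtype.val e)) (Subtype.ext hε2)
    (fun i => Subtype.ext (hc i)) (fun i => Subtype.ext (hsq i))
    (fun i j h => (h2 i j h).imp Subtype.ext Subtype.ext) (fun i j h => Subtype.ext (h3 i j h))
    (Subtype.ext hanti) (Subtype.ext ?_) ?_
  · rw [SubmonoidClass.coe_pow, Subgroup.val_list_prod, List.map_ofFn, OneMemClass.coe_one]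
    exact hcox
  · have h : Set.range g' = Subtype.val ⁻¹' Set.range g := by
      ext x
      constructor
      · rintro ⟨i, rfl⟩; exact ⟨i, rfl⟩
      · rintro ⟨i, hi⟩; exact ⟨i, Subtype.ext hi⟩
    rw [h]
    exact closure_closure_coe_preimage

/-- The embedding of the model. -/
theorem exists_psi : ∃ ψ : W →* Spor.Co3, Function.Injective ψ ∧ ∀ i, ψ (gW i) = cg i := by
  haveI := finite_co3
  obtain ⟨r1, r2, r3, r4, r5, r6, r7, r8⟩ := rels
  obtain ⟨s1, s2, s3, s4, s5, s6, s7, s8⟩ := cg_rels
  set U := closure (Set.range pg) with hU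
  have hz : ((zW, cz) : W × Spor.Co3) ∈ U := by
    have : ((zW, cz) : W × Spor.Co3) = pg 0 * pg 0 := Prod.ext (r1 0).symm (s1 0).symm
    rw [this]; exact mul_mem (subset_closure ⟨0, rfl⟩) (subset_closure ⟨0, rfl⟩)
  -- which alternative of each relation holds is the same on both sides
  have h2' : ∀ i j, cm i j = 2 → pg i * pg j = pg j * pg i ∨ pg i * pg j = (zW, cz) * (pg j * pg i) := by
    intro i j hij
    have hw := allB_spec (allB_spec (show allB 7 (fun i => allB 7 fun j =>
      cm (Fin.ofNat 7 i) (Fin.ofNat 7 j) != 2 || ((wordEq [i, j] [j, i] && wEq [i, j] [j, i]) ||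
        (wordEq [i, j] [7, j, i] && wEq [i, j] [0, 0, j, i]))) = true by decide +kernel) i i.2) j j.2
    simp only [Fin.ofNat_eq_cast, Fin.cast_val_eq_self, hij, Bool.and_eq_true, Bool.or_eq_true, bne_self_eq_false,
      Bool.false_eq_true, false_or] at hw
    rcases hw with ⟨a, b⟩ | ⟨a, b⟩
    · exact Or.inl (Prod.ext (by simpa [gN_gen, pg] using of_wordEq a) (by simpa [pg, coW_two] using of_wEq b))
    · refine Or.inr (Prod.ext (by simpa [gN_gen, zW, pg] using of_wordEq a) ?_)
      have e := of_wEq b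
      rw [coW_two, show ([0, 0, (j : ℕ), (i : ℕ)] : List ℕ) = [0, 0] ++ [(j : ℕ), (i : ℕ)] from rfl, coW_append,
        cz_word, coW_two] at e
      exact e
  have hprod : (List.ofFn pg).prod = ((List.ofFn gW).prod, (List.ofFn cg).prod) := by
    simp [List.ofFn_succ, pg]
  have cardU : Nat.card U = 2903040 := by
    refine card_closure_rels pg (zW, cz) hz (fun e => r5 (congrArg Prod.fst e)) (Prod.ext r4 s4)
      (fun i => Prod.ext (r2 (gW i)) (s2 i)) (fun i => Prod.ext (r1 i) (s1 i)) h2'
      (fun i j h => Prod.ext (r8 i j h) (s8 i j h)) (Prod.ext r3 s3) ?_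
    rw [hprod]; exact Prod.ext r6 s6
  have cardV : Nat.card (closure (Set.range cg)) = 2903040 :=
    card_closure_rels cg cz (by rw [cz]; exact mul_mem (subset_closure ⟨0, rfl⟩) (subset_closure ⟨0, rfl⟩))
      s5 s4 s2 s1 s7 s8 s3 s6
  let p : U →* W := (MonoidHom.fst W Spor.Co3).comp U.subtype
  let q : U →* Spor.Co3 := (MonoidHom.snd W Spor.Co3).comp U.subtype
  have hps : Function.Surjective p := by
    rw [← MonoidHom.range_eq_top, eq_top_iff, ← closure_gW, closure_le]
    rintro _ ⟨i, rfl⟩
    exact ⟨⟨pg i, subset_closure ⟨i, rfl⟩⟩, rfl⟩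
  have hpb : Function.Bijective p :=
    (Nat.bijective_iff_surjective_and_card p).2 ⟨hps, by rw [cardU, card_W]⟩
  let ψ : W →* Spor.Co3 := q.comp (MulEquiv.ofBijective p hpb).symm.toMonoidHom
  have hval : ∀ i, ψ (gW i) = cg i := fun i => by
    show q ((MulEquiv.ofBijective p hpb).symm (gW i)) = _
    rw [show gW i = MulEquiv.ofBijective p hpb ⟨pg i, subset_closure ⟨i, rfl⟩⟩ from rfl, MulEquiv.symm_apply_apply]
    rfl
  have hr : ψ.range = closure (Set.range cg) := by
    rw [MonoidHom.range_eq_map, ← closure_gW, MonoidHom.map_closure, ← Set.range_comp]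
    exact congrArg _ (congrArg Set.range (funext hval))
  refine ⟨ψ, ?_, hval⟩
  have hb : Function.Bijective ψ.rangeRestrict := by
    refine (Nat.bijective_iff_surjective_and_card _).2 ⟨ψ.rangeRestrict_surjective, ?_⟩
    rw [card_W, hr, cardV]
  exact fun a b e => hb.1 (Subtype.ext e)

/-- The embedding. -/
def psi : W →* Spor.Co3 := exists_psi.choose

theorem psi_injective : Function.Injective psi := exists_psi.choose_spec.1

theorem psi_gW (i : Fin 7) : psi (gW i) = cg i := exists_psi.choose_spec.2 i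

/-- The cycling element. -/
def coC : Spor.Co3 := co 7

/-- The word of a coded element. -/
def wordOf (m : ℕ) : List ℕ := ((Data.coWord.find? fun p => p.1 == m).map Prod.snd).getD []

/-- The words are right. -/
def wordB : Bool :=
  Data.coWord.all fun p => Nat.blt p.1 2903040 && (p.2.all fun i => Nat.blt i 7) && cEq (p.2.map (· + 1)) [p.1]

theorem word_ok : wordB = true := by decide +kernel

theorem gen_codes : allB 7 (fun i => cEq [i + 1] [i + 1]) = true ∧
    ∀ i : Fin 7, el (i + 1) = gW i := by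
  refine ⟨by decide +kernel, fun i => ?_⟩
  have h : allB 7 (fun i => wordEq [rI 0, qI 0, wI (i + 1)] [i]) = true := by decide +kernel
  have e := of_wordEq (allB_spec h i i.2)
  simp only [List.map_cons, List.map_nil, List.prod_cons, List.prod_nil, mul_one, gN_gen] at e
  rw [el, elD, show ((i : ℕ) + 1) / 630 = 0 by omega, show ((i : ℕ) + 1) % 630 = (i : ℕ) + 1 by omega, mul_assoc, e]

theorem psi_el {m : ℕ} {w : List ℕ} (h : (m, w) ∈ Data.coWord) : psi (el m) = coW w ∧ ∀ i ∈ w, i < 8 := by
  have hok := word_ok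
  simp only [wordB, List.all_eq_true, Bool.and_eq_true, Nat.blt_eq] at hok
  obtain ⟨⟨-, hlt⟩, hw⟩ := hok _ h
  have key : ∀ u : List ℕ, (∀ i ∈ u, i < 7) → psi (((u.map (· + 1)).map el).prod) = coW u := by
    intro u hu
    induction u with
    | nil => simp [coW_nil]
    | cons i u ih =>
      have hi : i < 7 := hu i List.mem_cons_self
      rw [List.map_cons, List.map_cons, List.prod_cons, map_mul, ih fun j hj => hu j (List.mem_cons_of_mem _ hj),
        coW_cons, show el (i + 1) = gW ⟨i, hi⟩ from gen_codes.2 ⟨i, hi⟩, psi_gW]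
      rw [← co_eq_cg]
  refine ⟨?_, fun i hi => (hlt i hi).trans (by norm_num)⟩
  rw [← key w hlt, of_cEq hw]
  simp

/-- The configuration of the model. -/
def confB : Bool :=
  (allB 7 fun g =>
    wEq ([7] ++ wordOf (Data.srcA.getD g 0)) (wordOf ((dstL 0).getD g 0) ++ [7])) &&
  wEq [7, 7, 7] [] && wEq (wordOf Data.sC ++ [7] ++ wordOf Data.sC ++ [7]) [] &&
  wEq ([7] ++ wordOf u0C ++ [7]) (wordOf a0C ++ [7] ++ wordOf b0C) &&
  ((Data.srcA ++ dstL 0 ++ [Data.sC, u0C, a0C, b0C]).all fun m => Data.coWord.any fun p => p.1 == m)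

theorem conf_ok : confB = true := by decide +kernel

theorem psi_wordOf {m : ℕ} (h : (Data.coWord.any fun p => p.1 == m) = true) : psi (el m) = coW (wordOf m) := by
  obtain ⟨p, hp, e⟩ := List.any_eq_true.1 h
  cases hf : Data.coWord.find? fun p => p.1 == m with
  | none => exact absurd e (List.find?_eq_none.1 hf p hp)
  | some r =>
    have hm := List.mem_of_find?_eq_some hf
    have he : r.1 = m := beq_iff_eq.1 (List.find?_some hf :)
    rw [wordOf, hf, Option.map_some, Option.getD_some, ← he]
    exact (psi_el hm).1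

theorem coC_word : coW [7] = coC := by simp [coW, coC]

theorem conf_co3 : Conf psi coC := by
  have h := conf_ok
  simp only [confB, Bool.and_eq_true, List.all_eq_true] at h
  obtain ⟨⟨⟨⟨ha, hc⟩, hf⟩, he⟩, hk⟩ := h
  have hin : ∀ m ∈ Data.srcA ++ dstL 0 ++ [Data.sC, u0C, a0C, b0C], psi (el m) = coW (wordOf m) :=
    fun m hm => psi_wordOf (hk m hm)
  refine ⟨fun i => ?_, ?_, ?_, ?_⟩
  · by_cases hi : i < 7
    · have hl1 : i < Data.srcA.length := hi
      have hl2 : i < (dstL 0).length := by rw [(atoms_spec.2.2.2.1 0 (by norm_num)).2.2]; exact hi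
      have e := of_wEq (allB_spec ha i hi)
      rw [coW_append, coW_append, coC_word, ← hin _ ?_, ← hin _ ?_] at e
      · rw [Sends, e, mul_inv_cancel_right]
      · refine List.mem_append_left _ (List.mem_append_right _ ?_)
        rw [List.getD_eq_getElem _ _ hl2]; exact List.getElem_mem _
      · refine List.mem_append_left _ (List.mem_append_left _ ?_)
        rw [List.getD_eq_getElem _ _ hl1]; exact List.getElem_mem _
    · have h1 : Data.srcA.length = 7 := rfl
      have h2 := (atoms_spec.2.2.2.1 0 (by norm_num)).2.2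
      rw [List.getD_eq_getElem?_getD, List.getD_eq_getElem?_getD, List.getElem?_eq_none (by omega),
        List.getElem?_eq_none (by omega)]
      simp [Sends, el_zero]
  · have e := of_wEq hc
    simp only [coW_cons, coW_nil, mul_one] at e
    rw [← coC_word, coW_cons, coW_nil, mul_one, mul_assoc]; exact e
  · have e := of_wEq hf
    rw [coW_append, coW_append, coW_append, coC_word, ← hin _ (by simp), coW_nil] at e
    exact e
  · have e := of_wEq he
    rw [coW_append, coW_append, coW_append, coW_append, coC_word, ← hin _ (by simp), ← hin _ (by simp),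
      ← hin _ (by simp)] at e
    exact e

/-- The orders of the two words. -/
def ordB : Bool :=
  wEq (List.replicate 23 Data.w23).flatten [] && !(evalW Data.w23 == evalW []) &&
  wEq (List.replicate 11 Data.w11).flatten [] && !(evalW Data.w11 == evalW [])

theorem ord_ok3 : ordB = true := by decide +kernel

theorem coW_mem (w : List ℕ) : coW w ∈ closure (Set.range psi ∪ {coC}) := by
  induction w with
  | nil => exact one_mem _
  | cons i w ih =>
    rw [coW_cons]
    refine mul_mem ?_ ih
    generalize Fin.ofNat 8 i = j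
    induction j using Fin.lastCases with
    | last => exact subset_closure (Or.inr rfl)
    | cast j => exact subset_closure (Or.inl ⟨gW j, psi_gW j⟩)

theorem orderOf_word {w : List ℕ} {p : ℕ} [Fact p.Prime] (h : wEq (List.replicate p w).flatten [] = true)
    (hne : evalW w ≠ evalW []) (hw : ∀ i ∈ w, i < 8) : orderOf (coW w) = p := by
  refine orderOf_eq_prime ?_ (coW_ne_one hw hne)
  · have e := of_wEq h
    rw [coW, List.map_flatten, List.map_replicate, List.prod_flatten, List.map_replicate, List.prod_replicate] at e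
    exact e.trans coW_nil

/-- The model generates the third Conway group. -/
theorem co3_gen : closure (Set.range psi ∪ {coC}) = ⊤ := by
  haveI := finite_co3
  haveI : Fact (Nat.Prime 23) := ⟨by norm_num⟩
  haveI : Fact (Nat.Prime 11) := ⟨by norm_num⟩
  have h := ord_ok3
  simp only [ordB, Bool.and_eq_true, Bool.not_eq_true', beq_eq_false_iff_ne] at h
  obtain ⟨⟨⟨a, a'⟩, b⟩, b'⟩ := h
  refine co3_eq_top _ ?_ ⟨_, coW_mem Data.w23⟩ ?_ ⟨_, coW_mem Data.w11⟩ ?_
  · rw [← card_W, Nat.card_congr (MonoidHom.ofInjective psi_injective).toEquiv]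
    exact card_dvd_of_le (by rintro _ ⟨w, rfl⟩; exact subset_closure (Or.inl ⟨w, rfl⟩))
  · rw [← Subgroup.orderOf_coe]; exact orderOf_word a a' (by decide)
  · rw [← Subgroup.orderOf_coe]; exact orderOf_word b b' (by decide)

end

end Cfsg.Agent.Co3Type
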