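import Cfsg.Agent.Lib.Co3Type.Model

/-!
# Coded elements of the double cover of `Sp₆(2)`

Every element has exactly one code below `2903040`, and is determined by the images of four points.
-/

set_option autoImplicit false
set_option maxRecDepth 100000
set_option Elab.async false
set_option linter.style.haveILetI false

namespace Cfsg.Agent.Co3Type.Model

open Cfsg.Agent.Sp6Mult (cm)

noncomputable section

/-- The node of a representative. -/
def rI (a : ℕ) : ℕ := Data.repT.get a

/-- The node of a member of the subgroup of order 256. -/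
def qI (b : ℕ) : ℕ := Data.qT.get b

/-- The node of a member of the transversal. -/
def wI (n : ℕ) : ℕ := Data.wT.get n

/-- The node of its inverse. -/
def wiI (n : ℕ) : ℕ := Data.wiT.get n

/-- The involution `y`. -/
def yW : W := gN 1235

/-- The check of the indices. -/
def idxOK : Bool :=
  (allB 18 fun a => Nat.blt (rI a) 1512 && wordEq [rI a, 1235] [1235, rI a]) &&
  (allB 256 fun b => Nat.blt (qI b) 1512 && wordEq [qI b, 1235] [1235, qI b]) &&
  allB 630 fun n => Nat.blt (wI n) 1512 && Nat.blt (wiI n) 1512 && wordEq [wI n, wiI n] []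

theorem idx_ok : idxOK = true := by decide +kernel

theorem idx_spec :
    (∀ a < 18, rI a < 1512 ∧ Commute (gN (rI a)) yW) ∧ (∀ b < 256, qI b < 1512 ∧ Commute (gN (qI b)) yW) ∧
      ∀ n < 630, wI n < 1512 ∧ wiI n < 1512 ∧ gN (wiI n) = (gN (wI n))⁻¹ := by
  have h := idx_ok
  simp only [idxOK, Bool.and_eq_true] at h
  refine ⟨fun a ha => ?_, fun b hb => ?_, fun n hn => ?_⟩
  · have := allB_spec h.1.1 a ha
    simp only [Bool.and_eq_true, Nat.blt_eq] at this
    exact ⟨this.1, by simpa [Commute, SemiconjBy, yW] using of_wordEq this.2⟩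
  · have := allB_spec h.1.2 b hb
    simp only [Bool.and_eq_true, Nat.blt_eq] at this
    exact ⟨this.1, by simpa [Commute, SemiconjBy, yW] using of_wordEq this.2⟩
  · have := allB_spec h.2 n hn
    simp only [Bool.and_eq_true, Nat.blt_eq] at this
    exact ⟨this.1.1, this.1.2, eq_inv_of_mul_eq_one_right (by simpa using of_wordEq this.2)⟩

/-- The member of the centraliser of `y` with a code below 4608. -/
def elD (d : ℕ) : W := gN (rI (d / 256)) * gN (qI (d % 256))

/-- The element of a code. -/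
def el (m : ℕ) : W := elD (m / 630) * gN (wI (m % 630))

/-- The image of a point under the inverse of a coded element. -/
def app (m v : ℕ) : ℕ :=
  pT (nd (wI (m % 630))) (pT (nd (qI (m / 630 % 256))) (pT (nd (rI (m / 630 / 256))) v))

theorem el_app {m : ℕ} (hm : m < 2903040) (v : Fin 240) :
    (((((el m : W) : Equiv.Perm (Fin 240)))⁻¹ v : Fin 240) : ℕ) = app m v := by
  obtain ⟨h1, h2, h3⟩ := idx_spec
  have a := h1 (m / 630 / 256) (by omega)
  have b := h2 (m / 630 % 256) (by omega)
  have c := h3 (m % 630) (by omega)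
  rw [el, elD, Subgroup.coe_mul, mul_inv_rev, Equiv.Perm.mul_apply, gN_tab c.1]
  rw [Subgroup.coe_mul, mul_inv_rev, Equiv.Perm.mul_apply, gN_tab b.1, gN_tab a.1]
  rfl

theorem app_lt {m : ℕ} (hm : m < 2903040) {v : ℕ} (hv : v < 240) : app m v < 240 := by
  have := el_app hm ⟨v, hv⟩
  rw [← this]; exact Fin.is_lt _

/-- The base points. -/
def bpt : List ℕ := [0, 2, 3, 4]

/-- The images of the base. -/
def bim (g : W) : Fin 4 → Fin 240 := fun i => (g : Equiv.Perm (Fin 240))⁻¹ (![0, 2, 3, 4] i)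

/-- One level of the chain of stabilisers: points fixed before, the image listed. -/
def lvlB (k p : ℕ) (fixd : List ℕ) (l : List (ℕ × ℕ)) : Bool :=
  Nat.beq l.length k && decide ((l.map Prod.fst).Nodup) &&
    l.all fun e => Nat.blt e.2 2903040 && (app e.2 p == e.1) && fixd.all fun v => app e.2 v == v

theorem chain_ok : (lvlB 240 0 [] Data.chain0 && lvlB 126 2 [0] Data.chain1 && lvlB 32 3 [0, 2] Data.chain2 &&
    lvlB 3 4 [0, 2, 3] Data.chain3) = true := by decide +kernel

theorem exists_lvl {k p : ℕ} (hp : p < 240) {fixd : List ℕ} {l : List (ℕ × ℕ)} (h : lvlB k p fixd l = true) :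
    ∃ f : Fin k → W, Function.Injective (fun i => ((f i : Equiv.Perm (Fin 240)))⁻¹ ⟨p, hp⟩) ∧
      ∀ i, ∀ v : Fin 240, v.1 ∈ fixd → ((f i : Equiv.Perm (Fin 240)))⁻¹ v = v := by
  simp only [lvlB, Bool.and_eq_true, decide_eq_true_eq, List.all_eq_true, Nat.blt_eq, beq_iff_eq] at h
  obtain ⟨⟨hl, hnd⟩, hall⟩ := h
  have hl' : l.length = k := Nat.eq_of_beq_eq_true hl
  refine ⟨fun i => el (l.get (i.cast hl'.symm)).2, fun i j hij => ?_, fun i v hv => ?_⟩
  · obtain ⟨⟨hi, hi'⟩, -⟩ := hall _ (List.get_mem l (i.cast hl'.symm))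
    obtain ⟨⟨hj, hj'⟩, -⟩ := hall _ (List.get_mem l (j.cast hl'.symm))
    have e := congrArg Fin.val hij
    simp only [el_app hi ⟨p, hp⟩, el_app hj ⟨p, hp⟩, hi', hj'] at e
    have := (List.nodup_iff_injective_get.1 hnd) (a₁ := (i.cast (by simp [hl'])))
      (a₂ := (j.cast (by simp [hl']))) (by simpa using e)
    exact Fin.ext (by simpa using congrArg Fin.val this)
  · obtain ⟨⟨hi, -⟩, hf⟩ := hall _ (List.get_mem l (i.cast hl'.symm))
    exact Fin.ext ((el_app hi v).trans (hf v hv))

theorem bim_injective : Function.Injective bim := by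
  have h := chain_ok
  simp only [Bool.and_eq_true] at h
  obtain ⟨⟨⟨h0, h1⟩, h2⟩, h3⟩ := h
  obtain ⟨f0, i0, -⟩ := exists_lvl (p := 0) (by norm_num) h0
  obtain ⟨f1, i1, x1⟩ := exists_lvl (p := 2) (by norm_num) h1
  obtain ⟨f2, i2, x2⟩ := exists_lvl (p := 3) (by norm_num) h2
  obtain ⟨f3, i3, x3⟩ := exists_lvl (p := 4) (by norm_num) h3
  let T := Fin 240 × Fin 126 × Fin 32 × Fin 3
  let F : T → W := fun a => f3 a.2.2.2 * (f2 a.2.2.1 * (f1 a.2.1 * f0 a.1))
  have ev : ∀ (a : T) (v : Fin 240), ((F a : Equiv.Perm (Fin 240)))⁻¹ v =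
      ((f0 a.1 : Equiv.Perm (Fin 240)))⁻¹ (((f1 a.2.1 : Equiv.Perm (Fin 240)))⁻¹
        (((f2 a.2.2.1 : Equiv.Perm (Fin 240)))⁻¹ (((f3 a.2.2.2 : Equiv.Perm (Fin 240)))⁻¹ v))) := fun a v => by
    simp [F, mul_inv_rev]
  have hF : Function.Injective (bim ∘ F) := by
    rintro ⟨a, b, c, d⟩ ⟨a', b', c', d'⟩ e
    have e0 : bim (F (a, b, c, d)) 0 = bim (F (a', b', c', d')) 0 := congrFun e 0
    have e1 : bim (F (a, b, c, d)) 1 = bim (F (a', b', c', d')) 1 := congrFun e 1
    have e2 : bim (F (a, b, c, d)) 2 = bim (F (a', b', c', d')) 2 := congrFun e 2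
    have e3 : bim (F (a, b, c, d)) 3 = bim (F (a', b', c', d')) 3 := congrFun e 3
    simp only [bim, ev, Matrix.cons_val] at e0 e1 e2 e3
    rw [x3 d 0 (by simp), x3 d' 0 (by simp), x2 c 0 (by simp), x2 c' 0 (by simp), x1 b 0 (by simp),
      x1 b' 0 (by simp)] at e0
    obtain rfl := i0 e0
    rw [x3 d 2 (by simp), x3 d' 2 (by simp), x2 c 2 (by simp), x2 c' 2 (by simp)] at e1
    obtain rfl := i1 (Equiv.injective _ e1)
    rw [x3 d 3 (by simp), x3 d' 3 (by simp)] at e2
    obtain rfl := i2 (Equiv.injective _ (Equiv.injective _ e2))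
    obtain rfl := i3 (Equiv.injective _ (Equiv.injective _ (Equiv.injective _ e3)))
    rfl
  have hb : Function.Bijective F := (Nat.bijective_iff_injective_and_card F).2
    ⟨hF.of_comp, by rw [card_W]; simp [T]⟩
  intro g g' e
  obtain ⟨a, rfl⟩ := hb.2 g
  obtain ⟨a', rfl⟩ := hb.2 g'
  rw [hF e]

/-- The images of the base under a product of coded elements. -/
def mulB (a b c : ℕ) : Bool :=
  Nat.blt a 2903040 && Nat.blt b 2903040 && Nat.blt c 2903040 && bpt.all fun v => app b (app a v) == app c v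

theorem eq_of_base {g h : W} (e : ∀ v : Fin 240, v.1 ∈ bpt →
    (g : Equiv.Perm (Fin 240))⁻¹ v = (h : Equiv.Perm (Fin 240))⁻¹ v) : g = h :=
  bim_injective (funext fun i => e _ (by fin_cases i <;> simp [bpt]))

theorem of_mulB {a b c : ℕ} (h : mulB a b c = true) : el a * el b = el c := by
  simp only [mulB, Bool.and_eq_true, Nat.blt_eq, List.all_eq_true, beq_iff_eq] at h
  obtain ⟨⟨⟨ha, hb⟩, hc⟩, h⟩ := h
  refine eq_of_base fun v hv => Fin.ext ?_
  rw [el_app hc v, Subgroup.coe_mul, mul_inv_rev, Equiv.Perm.mul_apply, el_app hb, el_app ha]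
  exact h v hv

/-- A number giving the images of the base. -/
def pack4 (f : ℕ → ℕ) : ℕ := f 0 + 240 * (f 2 + 240 * (f 3 + 240 * f 4))

/-- The images of the base under the conjugate of `y` by a member of the transversal. -/
def csig (n : ℕ) : ℕ := pack4 fun v => pT (nd (wI n)) (pT (nd 1235) (pT (nd (wiI n)) v))

/-- The two orderings. -/
def ordOK : Bool :=
  (allB 4608 fun d => Nat.blt (Data.dRank.get d) 4608 && (Data.dOrd.get (Data.dRank.get d) == d)) &&
  (allB 630 fun n => Nat.blt (Data.wRank.get n) 630 && (Data.wOrd.get (Data.wRank.get n) == n)) &&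
  (allB 4607 fun j => Nat.blt (pack4 (app (Data.dOrd.get j * 630))) (pack4 (app (Data.dOrd.get (j + 1) * 630)))) &&
  allB 629 fun j => Nat.blt (csig (Data.wOrd.get j)) (csig (Data.wOrd.get (j + 1)))

theorem ord_ok : ordOK = true := by decide +kernel

theorem inj_of_order {N : ℕ} {rk o f : ℕ → ℕ} (hr : ∀ d < N, rk d < N ∧ o (rk d) = d)
    (hm : ∀ j, j + 1 < N → f (o j) < f (o (j + 1))) {a b : ℕ} (ha : a < N) (hb : b < N) (e : f a = f b) :
    a = b := by
  have mono : ∀ i j, i < j → j < N → f (o i) < f (o j) := by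
    intro i j hij
    induction hij with
    | refl => exact hm i
    | step _ ih => exact fun h => (ih (Nat.lt_of_succ_lt h)).trans (hm _ h)
  obtain ⟨h1, h2⟩ := hr a ha
  obtain ⟨h3, h4⟩ := hr b hb
  rcases lt_trichotomy (rk a) (rk b) with h | h | h
  · exact absurd e ((h2 ▸ h4 ▸ mono _ _ h h3 : f a < f b)).ne
  · rw [← h2, h, h4]
  · exact absurd e ((h4 ▸ h2 ▸ mono _ _ h h1 : f b < f a)).ne'

theorem zero_wI : wordEq [wI 0] [] = true := by decide +kernel

theorem gN_wI_zero : gN (wI 0) = 1 := by simpa using of_wordEq zero_wI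

theorem el_mul (d : ℕ) {n : ℕ} (hn : n < 630) : el (d * 630 + n) = elD d * gN (wI n) := by
  rw [el, show (d * 630 + n) / 630 = d by omega, show (d * 630 + n) % 630 = n by omega]

theorem elD_eq (d : ℕ) : elD d = el (d * 630) := by
  rw [← Nat.add_zero (d * 630), el_mul d (by norm_num), gN_wI_zero, mul_one]

theorem elD_comm {d : ℕ} (hd : d < 4608) : Commute (elD d) yW :=
  (idx_spec.1 _ (by omega)).2.mul_left (idx_spec.2.1 _ (Nat.mod_lt _ (by norm_num))).2

theorem elD_injective {a b : ℕ} (ha : a < 4608) (hb : b < 4608) (e : elD a = elD b) : a = b := by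
  have h := ord_ok
  simp only [ordOK, Bool.and_eq_true] at h
  refine inj_of_order (rk := fun d => Data.dRank.get d) (o := fun j => Data.dOrd.get j)
    (f := fun d => pack4 (app (d * 630))) (fun d hd => ?_) (fun j hj => ?_) ha hb ?_
  · have := allB_spec h.1.1.1 d hd
    simpa [Bool.and_eq_true] using this
  · simpa using allB_spec h.1.2 j (by omega)
  · have key : ∀ v, v < 240 → app (a * 630) v = app (b * 630) v := fun v hv => by
      rw [← el_app (show a * 630 < 2903040 by omega) ⟨v, hv⟩, ← el_app (show b * 630 < 2903040 by omega) ⟨v, hv⟩,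
        ← elD_eq, ← elD_eq, e]
    simp only [pack4, key 0 (by norm_num), key 2 (by norm_num), key 3 (by norm_num), key 4 (by norm_num)]

theorem conj_injective {a b : ℕ} (ha : a < 630) (hb : b < 630)
    (e : (gN (wI a))⁻¹ * yW * gN (wI a) = (gN (wI b))⁻¹ * yW * gN (wI b)) : a = b := by
  have h := ord_ok
  simp only [ordOK, Bool.and_eq_true] at h
  refine inj_of_order (rk := fun d => Data.wRank.get d) (o := fun j => Data.wOrd.get j) (f := csig)
    (fun d hd => ?_) (fun j hj => ?_) ha hb ?_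
  · have := allB_spec h.1.1.2 d hd
    simpa [Bool.and_eq_true] using this
  · simpa using allB_spec h.2 j (by omega)
  · have key : ∀ n < 630, ∀ v : Fin 240,
        pT (nd (wI n)) (pT (nd 1235) (pT (nd (wiI n)) v)) =
          (((((gN (wI n))⁻¹ * yW * gN (wI n) : W) : Equiv.Perm (Fin 240))⁻¹ v : Fin 240) : ℕ) := by
      intro n hn v
      obtain ⟨h1, h2, h3⟩ := idx_spec.2.2 n hn
      rw [← h3, Subgroup.coe_mul, mul_inv_rev, Equiv.Perm.mul_apply, gN_tab h1, Subgroup.coe_mul, mul_inv_rev,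
        Equiv.Perm.mul_apply, yW, gN_tab (by norm_num), gN_tab h2]
    have k0 : ∀ v : Fin 240, pT (nd (wI a)) (pT (nd 1235) (pT (nd (wiI a)) v)) =
        pT (nd (wI b)) (pT (nd 1235) (pT (nd (wiI b)) v)) := fun v => by rw [key a ha, key b hb, e]
    simp only [csig, pack4]
    rw [k0 ⟨0, by norm_num⟩, k0 ⟨2, by norm_num⟩, k0 ⟨3, by norm_num⟩, k0 ⟨4, by norm_num⟩]

theorem el_injective {a b : ℕ} (ha : a < 2903040) (hb : b < 2903040) (e : el a = el b) : a = b := by
  have hn : a % 630 = b % 630 := by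
    refine conj_injective (Nat.mod_lt _ (by norm_num)) (Nat.mod_lt _ (by norm_num)) ?_
    have ca := (elD_comm (show a / 630 < 4608 by omega))
    have cb := (elD_comm (show b / 630 < 4608 by omega))
    have hx : ∀ d w : W, Commute d yW → w⁻¹ * yW * w = (d * w)⁻¹ * yW * (d * w) := fun d w h => by
      calc w⁻¹ * yW * w = w⁻¹ * (d⁻¹ * (d * yW)) * w := by group
        _ = w⁻¹ * (d⁻¹ * (yW * d)) * w := by rw [h.eq]
        _ = _ := by group
    rw [hx _ (gN (wI (a % 630))) ca, hx _ (gN (wI (b % 630))) cb]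
    exact congrArg (fun g => g⁻¹ * yW * g) e
  rw [el, el, hn] at e
  have := elD_injective (show a / 630 < 4608 by omega) (show b / 630 < 4608 by omega) (mul_right_cancel e)
  omega

theorem el_bijective : Function.Bijective fun m : Fin 2903040 => el m :=
  (Nat.bijective_iff_injective_and_card _).2
    ⟨fun a b e => Fin.ext (el_injective a.2 b.2 e), by rw [card_W, Nat.card_eq_fintype_card, Fintype.card_fin]⟩

theorem exists_code (g : W) : ∃ m < 2903040, el m = g :=
  let ⟨m, hm⟩ := el_bijective.2 g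
  ⟨m, m.2, hm⟩

theorem comm_yW_iff (g : W) : Commute g yW ↔ ∃ d < 4608, elD d = g := by
  refine ⟨fun h => ?_, fun ⟨d, hd, e⟩ => e ▸ elD_comm hd⟩
  obtain ⟨m, hm, rfl⟩ := exists_code g
  have hd := elD_comm (show m / 630 < 4608 by omega)
  have hw : Commute (gN (wI (m % 630))) yW := by
    have := hd.inv_left.mul_left h
    rwa [el, inv_mul_cancel_left] at this
  have h0 : m % 630 = 0 := conj_injective (Nat.mod_lt _ (by norm_num)) (by norm_num) (by
    rw [gN_wI_zero, inv_one, one_mul, mul_one, mul_assoc, ← hw.eq, inv_mul_cancel_left])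
  exact ⟨m / 630, by omega, by rw [el, h0, gN_wI_zero, mul_one]⟩

end

end Cfsg.Agent.Co3Type.Model
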