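import Cfsg.Prelude.Def_SporadicB
import Cfsg.Prelude.Def_Spor_Mathieu

/-!
# The data for the last step of the third Conway group recognition

A subgroup `M` containing the centraliser of the involution `t`, with a second involution `e`
whose centraliser meets that of `t` in a double cover of the centraliser of a central
involution of `M₁₂`.
-/

set_option autoImplicit false

open Subgroup

namespace Cfsg.Agent.Co3Type

/-- What the last step needs to know about the subgroup `M` and the two involutions. -/
structure EndData {G : Type*} [Group G] (t e : G) (M : Subgroup G) : Prop where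
  cent : centralizer ({t} : Set G) ≤ M
  ord : orderOf e = 2
  comm : Commute t e
  /-- `t * e` is conjugate to `e`. -/
  te : IsConj (t * e) e
  classes : ∀ u ∈ M, orderOf u = 2 →
    (∃ m ∈ M, m * u * m⁻¹ = t) ∨ (∃ m ∈ M, m * u * m⁻¹ = e)
  eleven : ∃ y ∈ M, Commute y e ∧ orderOf y = 11
  five : ∃ y ∈ M, Commute y e ∧ orderOf y = 5
  quot : ∃ u : ↥Cfsg.Spor.M12, Cfsg.IsTwoCentralInvolution u ∧
    ∃ φ : ↥(centralizer ({t} : Set G) ⊓ centralizer ({e} : Set G)) →*
        ↥(centralizer ({u} : Set ↥Cfsg.Spor.M12)),
      Function.Surjective φ ∧ ∀ g, φ g = 1 ↔ (g : G) = 1 ∨ (g : G) = e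
  gen : ∀ g : G, Commute g t → Commute g e →
    g ∈ closure (({e} : Set G) ∪ {x | ∃ m ∈ M, Commute m e ∧ m * t * m⁻¹ = x})

end Cfsg.Agent.Co3Type
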