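import Cfsg.Agent.Lib.CosetCert.Check

/-!
Witnesses for the data of the last step.
Produced by a search outside Lean; every entry is checked where it is used.
-/

set_option autoImplicit false
set_option maxRecDepth 100000

namespace Cfsg.Agent.Co3Type.Data

open Cfsg.Agent.CosetCert (Tree)

/-- A word of the second representative. -/
def bWord : List ℕ :=
  [2, 0, 3, 1, 2, 0, 3, 2, 4, 3, 1, 2, 0, 3, 2, 4, 3, 5, 4, 3, 1, 2, 0, 3, 4, 2, 3]

/-- A word of the central involution. -/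
def zWord : List ℕ :=
  [0, 0]

/-- It carries the product with the central involution to the second representative. -/
def zbConj : ℕ :=
  11

/-- Conjugates of the central involution in the centraliser of the second representative: codes, words, conjugating words. -/
def conjGen : List (ℕ × List ℕ × List ℕ) :=
  [(630, [0, 0], []),
  (517887, [2, 3, 1, 2, 0, 3, 2, 4, 3, 1, 5, 4, 3, 1, 2, 0, 6, 5, 4, 3, 1, 2, 3], [4, 3, 7, 2, 5, 4, 6, 3, 5]),
  (196773, [0, 2, 4, 3, 1, 2, 0, 3, 2, 4, 3, 1, 5, 4, 3, 1, 2, 0, 6, 5, 4, 3, 1, 2, 0, 3, 4], [0, 1, 3, 4, 5, 3, 4, 3, 1, 4, 3, 7, 2, 5, 4, 6, 3, 5]),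
  (1458961, [0, 2, 3, 2, 4, 3, 1, 2, 3, 4, 5, 4, 3, 1, 6, 5, 4, 3, 1, 2, 0, 3, 4], [1, 3, 4, 3, 2, 5, 0, 4, 3, 1, 4, 3, 7, 2, 5, 4, 6, 3, 5]),
  (2364295, [0, 1, 2, 3, 1, 2, 3, 5, 4, 3, 1, 2, 3, 0, 4, 5], [0, 1, 2, 0, 3, 1, 5, 4, 3, 1, 2, 0, 3, 2, 4, 3, 5, 4, 6, 5, 4, 3, 1, 2, 3, 0, 4, 4, 3, 7, 2, 5, 4, 6, 3, 5])]

/-- A word for an element of order 5. -/
def endFive : List ℕ :=
  [4, 3, 7, 2, 5, 4, 6, 3, 5, 1, 3, 4, 3, 2, 5, 0, 4, 3, 1, 4, 3, 7, 2, 5, 4, 6, 3, 5]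

/-- A word for an element of order 11. -/
def endEleven : List ℕ :=
  [1, 3, 4, 3, 2, 5, 0, 4, 3, 1, 4, 3, 7, 2, 5, 4, 6, 3, 5, 0, 1, 3, 4, 5, 3, 4, 3, 1, 1, 3, 4, 3, 2, 5, 0, 4, 3, 1, 0, 1, 3, 4, 5, 3, 4, 3, 1]

/-- The centraliser of the second representative. -/
def hT : List ℕ :=
  [
  0, 2128187, 630, 517887, 196773, 1458961, 2364295, 2128817, 1205332, 1458014, 647545, 1780261,
  518517, 197403, 1458331, 2364925, 514107, 1227382, 1221082, 168423, 2241762, 1936786, 718735, 2242392,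
  328907, 1838851, 1937416, 1204702, 1458644, 646915, 1779631, 1200292, 622467, 616797, 1539284, 843736,
  461382, 1515031, 843106, 1336860, 2398315, 462012, 514737, 1228012, 1221712, 167793, 719365, 329537,
  1839481, 5670, 1222342, 1226122, 2191817, 1222972, 519777, 2180477, 1226752, 2232312, 2057116, 1994469,
  1779314, 629925, 956506, 2191187, 1421910, 1993839, 1779944, 489652, 398382, 1424430, 2179847, 629295,
  1199662, 623097, 616167, 1538654, 1515661, 1337490, 2398945, 2097317, 621207, 618057, 99540, 621837,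
  1204072, 96390, 617427, 883426, 482802, 1223385, 2626683, 871809, 2137182, 100170, 442307, 1222755,
  2626053, 1173087, 2069716, 430967, 95760, 871179, 5040, 519147, 2231682, 2056486, 957136, 1421280,
  489022, 399012, 1423800, 1538971, 2367445, 2201267, 523557, 2210087, 1514714, 1879171, 2201897, 522927,
  4410, 1555664, 724405, 2210717, 2034159, 1539601, 1820264, 626145, 2366815, 1200075, 2034789, 1954149,
  1860584, 838419, 634335, 625515, 1200705, 2695983, 1515344, 1879801, 1229787, 2695353, 1953519, 1859954,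
  484612, 1239237, 1230417, 839049, 2675823, 1238607, 2675193, 723775, 1555034, 634965, 2096687, 1203442,
  884056, 483432, 2137812, 442937, 1173717, 2069086, 431597, 653845, 1819951, 95130, 1209112, 90720,
  305763, 2393905, 94500, 1208482, 2117477, 286233, 1555351, 91350, 1228425, 653215, 2638023, 830859,
  1820581, 1942179, 1227795, 1222125, 2658183, 484395, 912129, 831489, 1942809, 1879484, 305133, 2393275,
  625102, 1878854, 1221495, 2657553, 1169937, 633922, 625732, 485025, 1838534, 634552, 1839164, 1555981,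
  286863, 911499, 3780, 1819634, 483982, 722515, 349697, 1798531, 1595354, 723145, 1919491, 8820,
  1475024, 718105, 1799161, 1595984, 390192, 2359885, 389562, 1920121, 9450, 177873, 1579291, 2359255,
  1474394, 875236, 1579921, 874606, 717475, 1205115, 2074479, 349067, 1900274, 878739, 630555, 1204485,
  1205745, 2075109, 2220972, 1203855, 358517, 1977736, 2220342, 959379, 1977106, 960009, 631185, 879369,
  2665743, 1233567, 488392, 2665113, 357887, 1234827, 1235457, 487762, 1234197, 2685903, 2685273, 2116847,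
  2637393, 1169307, 1595671, 1334970, 2396425, 295683, 1596301, 2390755, 2108027, 316473, 1474711, 2395795,
  295053, 1989706, 1901221, 1990336, 2391385, 2108657, 1579604, 652585, 1900591, 317103, 2149152, 651955,
  2148522, 1475341, 2063139, 1227165, 1334340, 2646843, 488175, 951819, 1982499, 2063769, 1226535, 963436,
  1983129, 1331820, 472092, 962806, 489435, 471462, 490065, 952449, 488805, 1798214, 630772, 1174977,
  1798844, 1332450, 628882, 629512, 1174347, 630142, 1919804, 1919174, 178503, 1900904, 916186, 1428840,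
  493432, 378852, 1426320, 369402, 916816, 1429470, 2361775, 370032, 187323, 1499281, 2362405, 834916,
  1498651, 834286, 1426950, 378222, 919059, 2016796, 337727, 919689, 186693, 2250582, 2251212, 338357,
  2016166, 1209525, 1208895, 492802, 1578974, 2646213, 2169312, 420887, 1178127, 1950016, 412067, 2028766,
  2168682, 421517, 1860271, 2029396, 1498334, 648805, 1860901, 2157342, 648175, 2157972, 412697, 1949386,
  493215, 452562, 1340010, 493845, 1498964, 922486, 923116, 1339380, 453192, 2022819, 2023449, 1178757]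

/-- The tree of the same. -/
def hC : Tree :=
  (.node 192 (.node 96 (.node 48 (.node 24 (.node 12 (.node 6 (.node 3 (.node 1 (.leaf
  0) (.node 1 (.leaf
  2128187) (.leaf
  630))) (.node 1 (.leaf
  517887) (.node 1 (.leaf
  196773) (.leaf
  1458961)))) (.node 3 (.node 1 (.leaf
  2364295) (.node 1 (.leaf
  2128817) (.leaf
  1205332))) (.node 1 (.leaf
  1458014) (.node 1 (.leaf
  647545) (.leaf
  1780261))))) (.node 6 (.node 3 (.node 1 (.leaf
  518517) (.node 1 (.leaf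
  197403) (.leaf
  1458331))) (.node 1 (.leaf
  2364925) (.node 1 (.leaf
  514107) (.leaf
  1227382)))) (.node 3 (.node 1 (.leaf
  1221082) (.node 1 (.leaf
  168423) (.leaf
  2241762))) (.node 1 (.leaf
  1936786) (.node 1 (.leaf
  718735) (.leaf
  2242392)))))) (.node 12 (.node 6 (.node 3 (.node 1 (.leaf
  328907) (.node 1 (.leaf
  1838851) (.leaf
  1937416))) (.node 1 (.leaf
  1204702) (.node 1 (.leaf
  1458644) (.leaf
  646915)))) (.node 3 (.node 1 (.leaf
  1779631) (.node 1 (.leaf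
  1200292) (.leaf
  622467))) (.node 1 (.leaf
  616797) (.node 1 (.leaf
  1539284) (.leaf
  843736))))) (.node 6 (.node 3 (.node 1 (.leaf
  461382) (.node 1 (.leaf
  1515031) (.leaf
  843106))) (.node 1 (.leaf
  1336860) (.node 1 (.leaf
  2398315) (.leaf
  462012)))) (.node 3 (.node 1 (.leaf
  514737) (.node 1 (.leaf
  1228012) (.leaf
  1221712))) (.node 1 (.leaf
  167793) (.node 1 (.leaf
  719365) (.leaf
  329537))))))) (.node 24 (.node 12 (.node 6 (.node 3 (.node 1 (.leaf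
  1839481) (.node 1 (.leaf
  5670) (.leaf
  1222342))) (.node 1 (.leaf
  1226122) (.node 1 (.leaf
  2191817) (.leaf
  1222972)))) (.node 3 (.node 1 (.leaf
  519777) (.node 1 (.leaf
  2180477) (.leaf
  1226752))) (.node 1 (.leaf
  2232312) (.node 1 (.leaf
  2057116) (.leaf
  1994469))))) (.node 6 (.node 3 (.node 1 (.leaf
  1779314) (.node 1 (.leaf
  629925) (.leaf
  956506))) (.node 1 (.leaf
  2191187) (.node 1 (.leaf
  1421910) (.leaf
  1993839)))) (.node 3 (.node 1 (.leaf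
  1779944) (.node 1 (.leaf
  489652) (.leaf
  398382))) (.node 1 (.leaf
  1424430) (.node 1 (.leaf
  2179847) (.leaf
  629295)))))) (.node 12 (.node 6 (.node 3 (.node 1 (.leaf
  1199662) (.node 1 (.leaf
  623097) (.leaf
  616167))) (.node 1 (.leaf
  1538654) (.node 1 (.leaf
  1515661) (.leaf
  1337490)))) (.node 3 (.node 1 (.leaf
  2398945) (.node 1 (.leaf
  2097317) (.leaf
  621207))) (.node 1 (.leaf
  618057) (.node 1 (.leaf
  99540) (.leaf
  621837))))) (.node 6 (.node 3 (.node 1 (.leaf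
  1204072) (.node 1 (.leaf
  96390) (.leaf
  617427))) (.node 1 (.leaf
  883426) (.node 1 (.leaf
  482802) (.leaf
  1223385)))) (.node 3 (.node 1 (.leaf
  2626683) (.node 1 (.leaf
  871809) (.leaf
  2137182))) (.node 1 (.leaf
  100170) (.node 1 (.leaf
  442307) (.leaf
  1222755)))))))) (.node 48 (.node 24 (.node 12 (.node 6 (.node 3 (.node 1 (.leaf
  2626053) (.node 1 (.leaf
  1173087) (.leaf
  2069716))) (.node 1 (.leaf
  430967) (.node 1 (.leaf
  95760) (.leaf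
  871179)))) (.node 3 (.node 1 (.leaf
  5040) (.node 1 (.leaf
  519147) (.leaf
  2231682))) (.node 1 (.leaf
  2056486) (.node 1 (.leaf
  957136) (.leaf
  1421280))))) (.node 6 (.node 3 (.node 1 (.leaf
  489022) (.node 1 (.leaf
  399012) (.leaf
  1423800))) (.node 1 (.leaf
  1538971) (.node 1 (.leaf
  2367445) (.leaf
  2201267)))) (.node 3 (.node 1 (.leaf
  523557) (.node 1 (.leaf
  2210087) (.leaf
  1514714))) (.node 1 (.leaf
  1879171) (.node 1 (.leaf
  2201897) (.leaf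
  522927)))))) (.node 12 (.node 6 (.node 3 (.node 1 (.leaf
  4410) (.node 1 (.leaf
  1555664) (.leaf
  724405))) (.node 1 (.leaf
  2210717) (.node 1 (.leaf
  2034159) (.leaf
  1539601)))) (.node 3 (.node 1 (.leaf
  1820264) (.node 1 (.leaf
  626145) (.leaf
  2366815))) (.node 1 (.leaf
  1200075) (.node 1 (.leaf
  2034789) (.leaf
  1954149))))) (.node 6 (.node 3 (.node 1 (.leaf
  1860584) (.node 1 (.leaf
  838419) (.leaf
  634335))) (.node 1 (.leaf
  625515) (.node 1 (.leaf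
  1200705) (.leaf
  2695983)))) (.node 3 (.node 1 (.leaf
  1515344) (.node 1 (.leaf
  1879801) (.leaf
  1229787))) (.node 1 (.leaf
  2695353) (.node 1 (.leaf
  1953519) (.leaf
  1859954))))))) (.node 24 (.node 12 (.node 6 (.node 3 (.node 1 (.leaf
  484612) (.node 1 (.leaf
  1239237) (.leaf
  1230417))) (.node 1 (.leaf
  839049) (.node 1 (.leaf
  2675823) (.leaf
  1238607)))) (.node 3 (.node 1 (.leaf
  2675193) (.node 1 (.leaf
  723775) (.leaf
  1555034))) (.node 1 (.leaf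
  634965) (.node 1 (.leaf
  2096687) (.leaf
  1203442))))) (.node 6 (.node 3 (.node 1 (.leaf
  884056) (.node 1 (.leaf
  483432) (.leaf
  2137812))) (.node 1 (.leaf
  442937) (.node 1 (.leaf
  1173717) (.leaf
  2069086)))) (.node 3 (.node 1 (.leaf
  431597) (.node 1 (.leaf
  653845) (.leaf
  1819951))) (.node 1 (.leaf
  95130) (.node 1 (.leaf
  1209112) (.leaf
  90720)))))) (.node 12 (.node 6 (.node 3 (.node 1 (.leaf
  305763) (.node 1 (.leaf
  2393905) (.leaf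
  94500))) (.node 1 (.leaf
  1208482) (.node 1 (.leaf
  2117477) (.leaf
  286233)))) (.node 3 (.node 1 (.leaf
  1555351) (.node 1 (.leaf
  91350) (.leaf
  1228425))) (.node 1 (.leaf
  653215) (.node 1 (.leaf
  2638023) (.leaf
  830859))))) (.node 6 (.node 3 (.node 1 (.leaf
  1820581) (.node 1 (.leaf
  1942179) (.leaf
  1227795))) (.node 1 (.leaf
  1222125) (.node 1 (.leaf
  2658183) (.leaf
  484395)))) (.node 3 (.node 1 (.leaf
  912129) (.node 1 (.leaf
  831489) (.leaf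
  1942809))) (.node 1 (.leaf
  1879484) (.node 1 (.leaf
  305133) (.leaf
  2393275))))))))) (.node 96 (.node 48 (.node 24 (.node 12 (.node 6 (.node 3 (.node 1 (.leaf
  625102) (.node 1 (.leaf
  1878854) (.leaf
  1221495))) (.node 1 (.leaf
  2657553) (.node 1 (.leaf
  1169937) (.leaf
  633922)))) (.node 3 (.node 1 (.leaf
  625732) (.node 1 (.leaf
  485025) (.leaf
  1838534))) (.node 1 (.leaf
  634552) (.node 1 (.leaf
  1839164) (.leaf
  1555981))))) (.node 6 (.node 3 (.node 1 (.leaf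
  286863) (.node 1 (.leaf
  911499) (.leaf
  3780))) (.node 1 (.leaf
  1819634) (.node 1 (.leaf
  483982) (.leaf
  722515)))) (.node 3 (.node 1 (.leaf
  349697) (.node 1 (.leaf
  1798531) (.leaf
  1595354))) (.node 1 (.leaf
  723145) (.node 1 (.leaf
  1919491) (.leaf
  8820)))))) (.node 12 (.node 6 (.node 3 (.node 1 (.leaf
  1475024) (.node 1 (.leaf
  718105) (.leaf
  1799161))) (.node 1 (.leaf
  1595984) (.node 1 (.leaf
  390192) (.leaf
  2359885)))) (.node 3 (.node 1 (.leaf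
  389562) (.node 1 (.leaf
  1920121) (.leaf
  9450))) (.node 1 (.leaf
  177873) (.node 1 (.leaf
  1579291) (.leaf
  2359255))))) (.node 6 (.node 3 (.node 1 (.leaf
  1474394) (.node 1 (.leaf
  875236) (.leaf
  1579921))) (.node 1 (.leaf
  874606) (.node 1 (.leaf
  717475) (.leaf
  1205115)))) (.node 3 (.node 1 (.leaf
  2074479) (.node 1 (.leaf
  349067) (.leaf
  1900274))) (.node 1 (.leaf
  878739) (.node 1 (.leaf
  630555) (.leaf
  1204485))))))) (.node 24 (.node 12 (.node 6 (.node 3 (.node 1 (.leaf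
  1205745) (.node 1 (.leaf
  2075109) (.leaf
  2220972))) (.node 1 (.leaf
  1203855) (.node 1 (.leaf
  358517) (.leaf
  1977736)))) (.node 3 (.node 1 (.leaf
  2220342) (.node 1 (.leaf
  959379) (.leaf
  1977106))) (.node 1 (.leaf
  960009) (.node 1 (.leaf
  631185) (.leaf
  879369))))) (.node 6 (.node 3 (.node 1 (.leaf
  2665743) (.node 1 (.leaf
  1233567) (.leaf
  488392))) (.node 1 (.leaf
  2665113) (.node 1 (.leaf
  357887) (.leaf
  1234827)))) (.node 3 (.node 1 (.leaf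
  1235457) (.node 1 (.leaf
  487762) (.leaf
  1234197))) (.node 1 (.leaf
  2685903) (.node 1 (.leaf
  2685273) (.leaf
  2116847)))))) (.node 12 (.node 6 (.node 3 (.node 1 (.leaf
  2637393) (.node 1 (.leaf
  1169307) (.leaf
  1595671))) (.node 1 (.leaf
  1334970) (.node 1 (.leaf
  2396425) (.leaf
  295683)))) (.node 3 (.node 1 (.leaf
  1596301) (.node 1 (.leaf
  2390755) (.leaf
  2108027))) (.node 1 (.leaf
  316473) (.node 1 (.leaf
  1474711) (.leaf
  2395795))))) (.node 6 (.node 3 (.node 1 (.leaf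
  295053) (.node 1 (.leaf
  1989706) (.leaf
  1901221))) (.node 1 (.leaf
  1990336) (.node 1 (.leaf
  2391385) (.leaf
  2108657)))) (.node 3 (.node 1 (.leaf
  1579604) (.node 1 (.leaf
  652585) (.leaf
  1900591))) (.node 1 (.leaf
  317103) (.node 1 (.leaf
  2149152) (.leaf
  651955)))))))) (.node 48 (.node 24 (.node 12 (.node 6 (.node 3 (.node 1 (.leaf
  2148522) (.node 1 (.leaf
  1475341) (.leaf
  2063139))) (.node 1 (.leaf
  1227165) (.node 1 (.leaf
  1334340) (.leaf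
  2646843)))) (.node 3 (.node 1 (.leaf
  488175) (.node 1 (.leaf
  951819) (.leaf
  1982499))) (.node 1 (.leaf
  2063769) (.node 1 (.leaf
  1226535) (.leaf
  963436))))) (.node 6 (.node 3 (.node 1 (.leaf
  1983129) (.node 1 (.leaf
  1331820) (.leaf
  472092))) (.node 1 (.leaf
  962806) (.node 1 (.leaf
  489435) (.leaf
  471462)))) (.node 3 (.node 1 (.leaf
  490065) (.node 1 (.leaf
  952449) (.leaf
  488805))) (.node 1 (.leaf
  1798214) (.node 1 (.leaf
  630772) (.leaf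
  1174977)))))) (.node 12 (.node 6 (.node 3 (.node 1 (.leaf
  1798844) (.node 1 (.leaf
  1332450) (.leaf
  628882))) (.node 1 (.leaf
  629512) (.node 1 (.leaf
  1174347) (.leaf
  630142)))) (.node 3 (.node 1 (.leaf
  1919804) (.node 1 (.leaf
  1919174) (.leaf
  178503))) (.node 1 (.leaf
  1900904) (.node 1 (.leaf
  916186) (.leaf
  1428840))))) (.node 6 (.node 3 (.node 1 (.leaf
  493432) (.node 1 (.leaf
  378852) (.leaf
  1426320))) (.node 1 (.leaf
  369402) (.node 1 (.leaf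
  916816) (.leaf
  1429470)))) (.node 3 (.node 1 (.leaf
  2361775) (.node 1 (.leaf
  370032) (.leaf
  187323))) (.node 1 (.leaf
  1499281) (.node 1 (.leaf
  2362405) (.leaf
  834916))))))) (.node 24 (.node 12 (.node 6 (.node 3 (.node 1 (.leaf
  1498651) (.node 1 (.leaf
  834286) (.leaf
  1426950))) (.node 1 (.leaf
  378222) (.node 1 (.leaf
  919059) (.leaf
  2016796)))) (.node 3 (.node 1 (.leaf
  337727) (.node 1 (.leaf
  919689) (.leaf
  186693))) (.node 1 (.leaf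
  2250582) (.node 1 (.leaf
  2251212) (.leaf
  338357))))) (.node 6 (.node 3 (.node 1 (.leaf
  2016166) (.node 1 (.leaf
  1209525) (.leaf
  1208895))) (.node 1 (.leaf
  492802) (.node 1 (.leaf
  1578974) (.leaf
  2646213)))) (.node 3 (.node 1 (.leaf
  2169312) (.node 1 (.leaf
  420887) (.leaf
  1178127))) (.node 1 (.leaf
  1950016) (.node 1 (.leaf
  412067) (.leaf
  2028766)))))) (.node 12 (.node 6 (.node 3 (.node 1 (.leaf
  2168682) (.node 1 (.leaf
  421517) (.leaf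
  1860271))) (.node 1 (.leaf
  2029396) (.node 1 (.leaf
  1498334) (.leaf
  648805)))) (.node 3 (.node 1 (.leaf
  1860901) (.node 1 (.leaf
  2157342) (.leaf
  648175))) (.node 1 (.leaf
  2157972) (.node 1 (.leaf
  412697) (.leaf
  1949386))))) (.node 6 (.node 3 (.node 1 (.leaf
  493215) (.node 1 (.leaf
  452562) (.leaf
  1340010))) (.node 1 (.leaf
  493845) (.node 1 (.leaf
  1498964) (.leaf
  922486)))) (.node 3 (.node 1 (.leaf
  923116) (.node 1 (.leaf
  1339380) (.leaf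
  453192))) (.node 1 (.leaf
  2022819) (.node 1 (.leaf
  2023449) (.leaf
  1178757))))))))))

/-- The products with the generators. -/
def hMul : Tree :=
  (.node 1152 (.node 576 (.node 288 (.node 144 (.node 72 (.node 36 (.node 18 (.node 9 (.node 4 (.node 2 (.node 1 (.leaf
  1) (.leaf
  2)) (.node 1 (.leaf
  3) (.leaf
  4))) (.node 2 (.node 1 (.leaf
  5) (.leaf
  6)) (.node 1 (.leaf
  0) (.node 1 (.leaf
  7) (.leaf
  8))))) (.node 4 (.node 2 (.node 1 (.leaf
  9) (.leaf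
  10)) (.node 1 (.leaf
  11) (.leaf
  7))) (.node 2 (.node 1 (.leaf
  0) (.leaf
  12)) (.node 1 (.leaf
  13) (.node 1 (.leaf
  14) (.leaf
  15)))))) (.node 9 (.node 4 (.node 2 (.node 1 (.leaf
  8) (.leaf
  12)) (.node 1 (.leaf
  0) (.leaf
  16))) (.node 2 (.node 1 (.leaf
  17) (.leaf
  18)) (.node 1 (.leaf
  9) (.node 1 (.leaf
  13) (.leaf
  19))))) (.node 4 (.node 2 (.node 1 (.leaf
  0) (.leaf
  20)) (.node 1 (.leaf
  21) (.leaf
  10))) (.node 2 (.node 1 (.leaf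
  14) (.leaf
  22)) (.node 1 (.leaf
  23) (.node 1 (.leaf
  0) (.leaf
  24))))))) (.node 18 (.node 9 (.node 4 (.node 2 (.node 1 (.leaf
  11) (.leaf
  15)) (.node 1 (.leaf
  25) (.leaf
  26))) (.node 2 (.node 1 (.leaf
  24) (.leaf
  0)) (.node 1 (.leaf
  2) (.node 1 (.leaf
  1) (.leaf
  27))))) (.node 4 (.node 2 (.node 1 (.leaf
  28) (.leaf
  29)) (.node 1 (.leaf
  30) (.leaf
  3))) (.node 2 (.node 1 (.leaf
  27) (.leaf
  1)) (.node 1 (.leaf
  31) (.node 1 (.leaf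
  32) (.leaf
  33)))))) (.node 9 (.node 4 (.node 2 (.node 1 (.leaf
  4) (.leaf
  28)) (.node 1 (.leaf
  34) (.leaf
  1))) (.node 2 (.node 1 (.leaf
  35) (.leaf
  36)) (.node 1 (.leaf
  5) (.node 1 (.leaf
  29) (.leaf
  37))))) (.node 4 (.node 2 (.node 1 (.leaf
  38) (.leaf
  1)) (.node 1 (.leaf
  39) (.leaf
  6))) (.node 2 (.node 1 (.leaf
  30) (.leaf
  40)) (.node 1 (.leaf
  41) (.node 1 (.leaf
  39) (.leaf
  1)))))))) (.node 36 (.node 18 (.node 9 (.node 4 (.node 2 (.node 1 (.leaf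
  27) (.leaf
  3)) (.node 1 (.leaf
  2) (.leaf
  42))) (.node 2 (.node 1 (.leaf
  43) (.leaf
  44)) (.node 1 (.leaf
  28) (.node 1 (.leaf
  4) (.leaf
  45))))) (.node 4 (.node 2 (.node 1 (.leaf
  2) (.leaf
  23)) (.node 1 (.leaf
  26) (.leaf
  29))) (.node 2 (.node 1 (.leaf
  5) (.leaf
  46)) (.node 1 (.leaf
  20) (.node 1 (.leaf
  2) (.leaf
  47)))))) (.node 9 (.node 4 (.node 2 (.node 1 (.leaf
  30) (.leaf
  6)) (.node 1 (.leaf
  48) (.leaf
  21))) (.node 2 (.node 1 (.leaf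
  47) (.leaf
  2)) (.node 1 (.leaf
  31) (.node 1 (.leaf
  42) (.leaf
  49))))) (.node 4 (.node 2 (.node 1 (.leaf
  3) (.leaf
  50)) (.node 1 (.leaf
  51) (.leaf
  32))) (.node 2 (.node 1 (.leaf
  43) (.leaf
  52)) (.node 1 (.leaf
  53) (.node 1 (.leaf
  3) (.leaf
  54))))))) (.node 18 (.node 9 (.node 4 (.node 2 (.node 1 (.leaf
  33) (.leaf
  44)) (.node 1 (.leaf
  55) (.leaf
  56))) (.node 2 (.node 1 (.leaf
  54) (.leaf
  3)) (.node 1 (.leaf
  34) (.node 1 (.leaf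
  45) (.leaf
  4))))) (.node 4 (.node 2 (.node 1 (.leaf
  49) (.leaf
  57)) (.node 1 (.leaf
  58) (.leaf
  35))) (.node 2 (.node 1 (.leaf
  23) (.leaf
  59)) (.node 1 (.leaf
  14) (.node 1 (.leaf
  4) (.leaf
  60)))))) (.node 9 (.node 4 (.node 2 (.node 1 (.leaf
  36) (.leaf
  26)) (.node 1 (.leaf
  61) (.leaf
  15))) (.node 2 (.node 1 (.leaf
  60) (.leaf
  4)) (.node 1 (.leaf
  37) (.node 1 (.leaf
  46) (.leaf
  5))))) (.node 4 (.node 2 (.node 1 (.leaf
  62) (.leaf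
  63)) (.node 1 (.leaf
  64) (.leaf
  38))) (.node 2 (.node 1 (.leaf
  20) (.leaf
  65)) (.node 1 (.leaf
  5) (.node 1 (.leaf
  13) (.leaf
  66))))))))) (.node 72 (.node 36 (.node 18 (.node 9 (.node 4 (.node 2 (.node 1 (.leaf
  39) (.leaf
  47)) (.node 1 (.leaf
  67) (.leaf
  60))) (.node 2 (.node 1 (.leaf
  6) (.leaf
  5)) (.node 1 (.leaf
  40) (.node 1 (.leaf
  48) (.leaf
  6))))) (.node 4 (.node 2 (.node 1 (.leaf
  68) (.leaf
  69)) (.node 1 (.leaf
  70) (.leaf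
  41))) (.node 2 (.node 1 (.leaf
  21) (.leaf
  71)) (.node 1 (.leaf
  6) (.node 1 (.leaf
  66) (.leaf
  13)))))) (.node 9 (.node 4 (.node 2 (.node 1 (.leaf
  12) (.leaf
  8)) (.node 1 (.leaf
  7) (.leaf
  72))) (.node 2 (.node 1 (.leaf
  73) (.leaf
  74)) (.node 1 (.leaf
  13) (.node 1 (.leaf
  9) (.leaf
  75))))) (.node 4 (.node 2 (.node 1 (.leaf
  7) (.leaf
  38)) (.node 1 (.leaf
  41) (.leaf
  14))) (.node 2 (.node 1 (.leaf
  10) (.leaf
  76)) (.node 1 (.leaf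
  35) (.node 1 (.leaf
  7) (.leaf
  77))))))) (.node 18 (.node 9 (.node 4 (.node 2 (.node 1 (.leaf
  15) (.leaf
  11)) (.node 1 (.leaf
  78) (.leaf
  36))) (.node 2 (.node 1 (.leaf
  77) (.leaf
  7)) (.node 1 (.leaf
  16) (.node 1 (.leaf
  72) (.leaf
  79))))) (.node 4 (.node 2 (.node 1 (.leaf
  8) (.leaf
  80)) (.node 1 (.leaf
  81) (.leaf
  17))) (.node 2 (.node 1 (.leaf
  73) (.leaf
  82)) (.node 1 (.leaf
  83) (.node 1 (.leaf
  8) (.leaf
  84)))))) (.node 9 (.node 4 (.node 2 (.node 1 (.leaf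
  18) (.leaf
  74)) (.node 1 (.leaf
  85) (.leaf
  86))) (.node 2 (.node 1 (.leaf
  84) (.leaf
  8)) (.node 1 (.leaf
  19) (.node 1 (.leaf
  75) (.leaf
  9))))) (.node 4 (.node 2 (.node 1 (.leaf
  79) (.leaf
  87)) (.node 1 (.leaf
  88) (.leaf
  20))) (.node 2 (.node 1 (.leaf
  38) (.leaf
  89)) (.node 1 (.leaf
  29) (.node 1 (.leaf
  9) (.leaf
  90)))))))) (.node 36 (.node 18 (.node 9 (.node 4 (.node 2 (.node 1 (.leaf
  21) (.leaf
  41)) (.node 1 (.leaf
  91) (.leaf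
  30))) (.node 2 (.node 1 (.leaf
  90) (.leaf
  9)) (.node 1 (.leaf
  22) (.node 1 (.leaf
  76) (.leaf
  10))))) (.node 4 (.node 2 (.node 1 (.leaf
  92) (.leaf
  93)) (.node 1 (.leaf
  94) (.leaf
  23))) (.node 2 (.node 1 (.leaf
  35) (.leaf
  95)) (.node 1 (.leaf
  10) (.node 1 (.leaf
  28) (.leaf
  96)))))) (.node 9 (.node 4 (.node 2 (.node 1 (.leaf
  24) (.leaf
  77)) (.node 1 (.leaf
  97) (.leaf
  90))) (.node 2 (.node 1 (.leaf
  11) (.leaf
  10)) (.node 1 (.leaf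
  25) (.node 1 (.leaf
  78) (.leaf
  11))))) (.node 4 (.node 2 (.node 1 (.leaf
  98) (.leaf
  99)) (.node 1 (.leaf
  100) (.leaf
  26))) (.node 2 (.node 1 (.leaf
  36) (.leaf
  101)) (.node 1 (.leaf
  11) (.node 1 (.leaf
  96) (.leaf
  28))))))) (.node 18 (.node 9 (.node 4 (.node 2 (.node 1 (.leaf
  72) (.leaf
  16)) (.node 1 (.leaf
  102) (.leaf
  12))) (.node 2 (.node 1 (.leaf
  53) (.leaf
  56)) (.node 1 (.leaf
  73) (.node 1 (.leaf
  17) (.leaf
  63))))) (.node 4 (.node 2 (.node 1 (.leaf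
  50) (.leaf
  12)) (.node 1 (.leaf
  103) (.leaf
  74))) (.node 2 (.node 1 (.leaf
  18) (.leaf
  70)) (.node 1 (.leaf
  51) (.node 1 (.leaf
  103) (.leaf
  12)))))) (.node 9 (.node 4 (.node 2 (.node 1 (.leaf
  75) (.leaf
  19)) (.node 1 (.leaf
  13) (.leaf
  102))) (.node 2 (.node 1 (.leaf
  104) (.leaf
  105)) (.node 1 (.leaf
  76) (.node 1 (.leaf
  22) (.leaf
  14))))) (.node 4 (.node 2 (.node 1 (.leaf
  106) (.leaf
  52)) (.node 1 (.leaf
  107) (.leaf
  77))) (.node 2 (.node 1 (.leaf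
  24) (.leaf
  108)) (.node 1 (.leaf
  66) (.node 1 (.leaf
  15) (.leaf
  14)))))))))) (.node 144 (.node 72 (.node 36 (.node 18 (.node 9 (.node 4 (.node 2 (.node 1 (.leaf
  78) (.leaf
  25)) (.node 1 (.leaf
  15) (.leaf
  109))) (.node 2 (.node 1 (.leaf
  110) (.leaf
  55)) (.node 1 (.leaf
  79) (.node 1 (.leaf
  102) (.leaf
  16))))) (.node 4 (.node 2 (.node 1 (.leaf
  19) (.leaf
  111)) (.node 1 (.leaf
  112) (.leaf
  80))) (.node 2 (.node 1 (.leaf
  53) (.leaf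
  113)) (.node 1 (.leaf
  43) (.node 1 (.leaf
  16) (.leaf
  114)))))) (.node 9 (.node 4 (.node 2 (.node 1 (.leaf
  81) (.leaf
  56)) (.node 1 (.leaf
  115) (.leaf
  44))) (.node 2 (.node 1 (.leaf
  114) (.leaf
  16)) (.node 1 (.leaf
  82) (.node 1 (.leaf
  63) (.leaf
  17))))) (.node 4 (.node 2 (.node 1 (.leaf
  116) (.leaf
  46)) (.node 1 (.leaf
  117) (.leaf
  83))) (.node 2 (.node 1 (.leaf
  50) (.leaf
  118)) (.node 1 (.leaf
  17) (.node 1 (.leaf
  42) (.leaf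
  119))))))) (.node 18 (.node 9 (.node 4 (.node 2 (.node 1 (.leaf
  84) (.leaf
  103)) (.node 1 (.leaf
  120) (.leaf
  114))) (.node 2 (.node 1 (.leaf
  18) (.leaf
  17)) (.node 1 (.leaf
  85) (.node 1 (.leaf
  70) (.leaf
  18))))) (.node 4 (.node 2 (.node 1 (.leaf
  121) (.leaf
  122)) (.node 1 (.leaf
  48) (.leaf
  86))) (.node 2 (.node 1 (.leaf
  51) (.leaf
  123)) (.node 1 (.leaf
  18) (.node 1 (.leaf
  119) (.leaf
  42)))))) (.node 9 (.node 4 (.node 2 (.node 1 (.leaf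
  87) (.leaf
  104)) (.node 1 (.leaf
  124) (.leaf
  125))) (.node 2 (.node 1 (.leaf
  19) (.leaf
  126)) (.node 1 (.leaf
  88) (.node 1 (.leaf
  105) (.leaf
  127))))) (.node 4 (.node 2 (.node 1 (.leaf
  128) (.leaf
  126)) (.node 1 (.leaf
  19) (.leaf
  89))) (.node 2 (.node 1 (.leaf
  65) (.leaf
  20)) (.node 1 (.leaf
  129) (.node 1 (.leaf
  130) (.leaf
  131)))))))) (.node 36 (.node 18 (.node 9 (.node 4 (.node 2 (.node 1 (.leaf
  90) (.leaf
  66)) (.node 1 (.leaf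
  132) (.leaf
  24))) (.node 2 (.node 1 (.leaf
  21) (.leaf
  20)) (.node 1 (.leaf
  91) (.node 1 (.leaf
  71) (.leaf
  21))))) (.node 4 (.node 2 (.node 1 (.leaf
  133) (.leaf
  134)) (.node 1 (.leaf
  135) (.leaf
  92))) (.node 2 (.node 1 (.leaf
  106) (.leaf
  136)) (.node 1 (.leaf
  22) (.node 1 (.leaf
  116) (.leaf
  137)))))) (.node 9 (.node 4 (.node 2 (.node 1 (.leaf
  93) (.leaf
  52)) (.node 1 (.leaf
  43) (.leaf
  138))) (.node 2 (.node 1 (.leaf
  22) (.leaf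
  139)) (.node 1 (.leaf
  94) (.node 1 (.leaf
  107) (.leaf
  140))))) (.node 4 (.node 2 (.node 1 (.leaf
  141) (.leaf
  139)) (.node 1 (.leaf
  22) (.leaf
  95))) (.node 2 (.node 1 (.leaf
  59) (.leaf
  23)) (.node 1 (.leaf
  136) (.node 1 (.leaf
  124) (.leaf
  142))))))) (.node 18 (.node 9 (.node 4 (.node 2 (.node 1 (.leaf
  96) (.leaf
  60)) (.node 1 (.leaf
  143) (.leaf
  47))) (.node 2 (.node 1 (.leaf
  26) (.leaf
  23)) (.node 1 (.leaf
  97) (.node 1 (.leaf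
  108) (.leaf
  24))))) (.node 4 (.node 2 (.node 1 (.leaf
  144) (.leaf
  145)) (.node 1 (.leaf
  146) (.leaf
  98))) (.node 2 (.node 1 (.leaf
  109) (.leaf
  147)) (.node 1 (.leaf
  25) (.node 1 (.leaf
  148) (.leaf
  121)))))) (.node 9 (.node 4 (.node 2 (.node 1 (.leaf
  99) (.leaf
  110)) (.node 1 (.leaf
  149) (.leaf
  150))) (.node 2 (.node 1 (.leaf
  25) (.leaf
  151)) (.node 1 (.leaf
  100) (.node 1 (.leaf
  55) (.leaf
  44))))) (.node 4 (.node 2 (.node 1 (.leaf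
  152) (.leaf
  151)) (.node 1 (.leaf
  25) (.leaf
  101))) (.node 2 (.node 1 (.leaf
  61) (.leaf
  26)) (.node 1 (.leaf
  147) (.node 1 (.leaf
  153) (.leaf
  127))))))))) (.node 72 (.node 36 (.node 18 (.node 9 (.node 4 (.node 2 (.node 1 (.leaf
  42) (.leaf
  31)) (.node 1 (.leaf
  154) (.leaf
  27))) (.node 2 (.node 1 (.leaf
  83) (.leaf
  86)) (.node 1 (.leaf
  43) (.node 1 (.leaf
  32) (.leaf
  93))))) (.node 4 (.node 2 (.node 1 (.leaf
  80) (.leaf
  27)) (.node 1 (.leaf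
  155) (.leaf
  44))) (.node 2 (.node 1 (.leaf
  33) (.leaf
  100)) (.node 1 (.leaf
  81) (.node 1 (.leaf
  155) (.leaf
  27)))))) (.node 9 (.node 4 (.node 2 (.node 1 (.leaf
  45) (.leaf
  34)) (.node 1 (.leaf
  28) (.leaf
  154))) (.node 2 (.node 1 (.leaf
  156) (.leaf
  157)) (.node 1 (.leaf
  46) (.node 1 (.leaf
  37) (.leaf
  29))))) (.node 4 (.node 2 (.node 1 (.leaf
  158) (.leaf
  82)) (.node 1 (.leaf
  159) (.leaf
  47))) (.node 2 (.node 1 (.leaf
  39) (.leaf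
  160)) (.node 1 (.leaf
  96) (.node 1 (.leaf
  30) (.leaf
  29))))))) (.node 18 (.node 9 (.node 4 (.node 2 (.node 1 (.leaf
  48) (.leaf
  40)) (.node 1 (.leaf
  30) (.leaf
  161))) (.node 2 (.node 1 (.leaf
  162) (.leaf
  85)) (.node 1 (.leaf
  49) (.node 1 (.leaf
  154) (.leaf
  31))))) (.node 4 (.node 2 (.node 1 (.leaf
  34) (.leaf
  163)) (.node 1 (.leaf
  164) (.leaf
  50))) (.node 2 (.node 1 (.leaf
  83) (.leaf
  165)) (.node 1 (.leaf
  73) (.node 1 (.leaf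
  31) (.leaf
  166)))))) (.node 9 (.node 4 (.node 2 (.node 1 (.leaf
  51) (.leaf
  86)) (.node 1 (.leaf
  167) (.leaf
  74))) (.node 2 (.node 1 (.leaf
  166) (.leaf
  31)) (.node 1 (.leaf
  52) (.node 1 (.leaf
  93) (.leaf
  32))))) (.node 4 (.node 2 (.node 1 (.leaf
  168) (.leaf
  76)) (.node 1 (.leaf
  169) (.leaf
  53))) (.node 2 (.node 1 (.leaf
  80) (.leaf
  170)) (.node 1 (.leaf
  32) (.node 1 (.leaf
  72) (.leaf
  171)))))))) (.node 36 (.node 18 (.node 9 (.node 4 (.node 2 (.node 1 (.leaf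
  54) (.leaf
  155)) (.node 1 (.leaf
  172) (.leaf
  166))) (.node 2 (.node 1 (.leaf
  33) (.leaf
  32)) (.node 1 (.leaf
  55) (.node 1 (.leaf
  100) (.leaf
  33))))) (.node 4 (.node 2 (.node 1 (.leaf
  173) (.leaf
  174)) (.node 1 (.leaf
  78) (.leaf
  56))) (.node 2 (.node 1 (.leaf
  81) (.leaf
  175)) (.node 1 (.leaf
  33) (.node 1 (.leaf
  171) (.leaf
  72)))))) (.node 9 (.node 4 (.node 2 (.node 1 (.leaf
  57) (.leaf
  156)) (.node 1 (.leaf
  176) (.leaf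
  177))) (.node 2 (.node 1 (.leaf
  34) (.leaf
  178)) (.node 1 (.leaf
  58) (.node 1 (.leaf
  157) (.leaf
  179))))) (.node 4 (.node 2 (.node 1 (.leaf
  180) (.leaf
  178)) (.node 1 (.leaf
  34) (.leaf
  59))) (.node 2 (.node 1 (.leaf
  95) (.leaf
  35)) (.node 1 (.leaf
  181) (.node 1 (.leaf
  182) (.leaf
  183))))))) (.node 18 (.node 9 (.node 4 (.node 2 (.node 1 (.leaf
  60) (.leaf
  96)) (.node 1 (.leaf
  184) (.leaf
  39))) (.node 2 (.node 1 (.leaf
  36) (.leaf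
  35)) (.node 1 (.leaf
  61) (.node 1 (.leaf
  101) (.leaf
  36))))) (.node 4 (.node 2 (.node 1 (.leaf
  185) (.leaf
  186)) (.node 1 (.leaf
  187) (.leaf
  62))) (.node 2 (.node 1 (.leaf
  158) (.leaf
  188)) (.node 1 (.leaf
  37) (.node 1 (.leaf
  168) (.leaf
  189)))))) (.node 9 (.node 4 (.node 2 (.node 1 (.leaf
  63) (.leaf
  82)) (.node 1 (.leaf
  73) (.leaf
  190))) (.node 2 (.node 1 (.leaf
  37) (.leaf
  191)) (.node 1 (.leaf
  64) (.node 1 (.leaf
  159) (.leaf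
  192))))) (.node 4 (.node 2 (.node 1 (.leaf
  193) (.leaf
  191)) (.node 1 (.leaf
  37) (.leaf
  65))) (.node 2 (.node 1 (.leaf
  89) (.leaf
  38)) (.node 1 (.leaf
  188) (.node 1 (.leaf
  176) (.leaf
  194))))))))))) (.node 288 (.node 144 (.node 72 (.node 36 (.node 18 (.node 9 (.node 4 (.node 2 (.node 1 (.leaf
  66) (.leaf
  90)) (.node 1 (.leaf
  195) (.leaf
  77))) (.node 2 (.node 1 (.leaf
  41) (.leaf
  38)) (.node 1 (.leaf
  67) (.node 1 (.leaf
  160) (.leaf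
  39))))) (.node 4 (.node 2 (.node 1 (.leaf
  196) (.leaf
  197)) (.node 1 (.leaf
  198) (.leaf
  68))) (.node 2 (.node 1 (.leaf
  161) (.leaf
  199)) (.node 1 (.leaf
  40) (.node 1 (.leaf
  200) (.leaf
  173)))))) (.node 9 (.node 4 (.node 2 (.node 1 (.leaf
  69) (.leaf
  162)) (.node 1 (.leaf
  201) (.leaf
  202))) (.node 2 (.node 1 (.leaf
  40) (.leaf
  203)) (.node 1 (.leaf
  70) (.node 1 (.leaf
  85) (.leaf
  74))))) (.node 4 (.node 2 (.node 1 (.leaf
  204) (.leaf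
  203)) (.node 1 (.leaf
  40) (.leaf
  71))) (.node 2 (.node 1 (.leaf
  91) (.leaf
  41)) (.node 1 (.leaf
  199) (.node 1 (.leaf
  205) (.leaf
  179))))))) (.node 18 (.node 9 (.node 4 (.node 2 (.node 1 (.leaf
  154) (.leaf
  49)) (.node 1 (.leaf
  42) (.leaf
  45))) (.node 2 (.node 1 (.leaf
  125) (.leaf
  128)) (.node 1 (.leaf
  155) (.node 1 (.leaf
  54) (.leaf
  206))))) (.node 4 (.node 2 (.node 1 (.leaf
  119) (.leaf
  44)) (.node 1 (.leaf
  43) (.leaf
  156))) (.node 2 (.node 1 (.leaf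
  57) (.leaf
  130)) (.node 1 (.leaf
  111) (.node 1 (.leaf
  45) (.leaf
  207)))))) (.node 9 (.node 4 (.node 2 (.node 1 (.leaf
  157) (.leaf
  58)) (.node 1 (.leaf
  135) (.leaf
  112))) (.node 2 (.node 1 (.leaf
  207) (.leaf
  45)) (.node 1 (.leaf
  158) (.node 1 (.leaf
  62) (.leaf
  129))))) (.node 4 (.node 2 (.node 1 (.leaf
  46) (.leaf
  138)) (.node 1 (.leaf
  141) (.leaf
  159))) (.node 2 (.node 1 (.leaf
  64) (.leaf
  146)) (.node 1 (.leaf
  137) (.node 1 (.leaf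
  117) (.leaf
  46)))))))) (.node 36 (.node 18 (.node 9 (.node 4 (.node 2 (.node 1 (.leaf
  160) (.leaf
  67)) (.node 1 (.leaf
  47) (.leaf
  208))) (.node 2 (.node 1 (.leaf
  149) (.leaf
  140)) (.node 1 (.leaf
  161) (.node 1 (.leaf
  68) (.leaf
  133))))) (.node 4 (.node 2 (.node 1 (.leaf
  48) (.leaf
  150)) (.node 1 (.leaf
  152) (.leaf
  162))) (.node 2 (.node 1 (.leaf
  69) (.leaf
  145)) (.node 1 (.leaf
  148) (.node 1 (.leaf
  48) (.leaf
  122)))))) (.node 9 (.node 4 (.node 2 (.node 1 (.leaf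
  163) (.leaf
  125)) (.node 1 (.leaf
  209) (.leaf
  104))) (.node 2 (.node 1 (.leaf
  49) (.leaf
  210)) (.node 1 (.leaf
  164) (.node 1 (.leaf
  128) (.leaf
  211))))) (.node 4 (.node 2 (.node 1 (.leaf
  105) (.leaf
  210)) (.node 1 (.leaf
  49) (.leaf
  165))) (.node 2 (.node 1 (.leaf
  118) (.leaf
  50)) (.node 1 (.leaf
  212) (.node 1 (.leaf
  213) (.leaf
  214))))))) (.node 18 (.node 9 (.node 4 (.node 2 (.node 1 (.leaf
  166) (.leaf
  119)) (.node 1 (.leaf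
  215) (.leaf
  54))) (.node 2 (.node 1 (.leaf
  51) (.leaf
  50)) (.node 1 (.leaf
  167) (.node 1 (.leaf
  123) (.leaf
  51))))) (.node 4 (.node 2 (.node 1 (.leaf
  216) (.leaf
  217)) (.node 1 (.leaf
  218) (.leaf
  168))) (.node 2 (.node 1 (.leaf
  138) (.leaf
  219)) (.node 1 (.leaf
  52) (.node 1 (.leaf
  62) (.leaf
  220)))))) (.node 9 (.node 4 (.node 2 (.node 1 (.leaf
  169) (.leaf
  139)) (.node 1 (.leaf
  221) (.leaf
  222))) (.node 2 (.node 1 (.leaf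
  107) (.leaf
  52)) (.node 1 (.leaf
  170) (.node 1 (.leaf
  113) (.leaf
  53))))) (.node 4 (.node 2 (.node 1 (.leaf
  219) (.leaf
  209)) (.node 1 (.leaf
  223) (.leaf
  171))) (.node 2 (.node 1 (.leaf
  114) (.leaf
  224)) (.node 1 (.leaf
  103) (.node 1 (.leaf
  56) (.leaf
  53))))))))) (.node 72 (.node 36 (.node 18 (.node 9 (.node 4 (.node 2 (.node 1 (.leaf
  172) (.leaf
  206)) (.node 1 (.leaf
  54) (.leaf
  225))) (.node 2 (.node 1 (.leaf
  226) (.leaf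
  227)) (.node 1 (.leaf
  173) (.node 1 (.leaf
  152) (.leaf
  228))))) (.node 4 (.node 2 (.node 1 (.leaf
  55) (.leaf
  229)) (.node 1 (.leaf
  68) (.leaf
  174))) (.node 2 (.node 1 (.leaf
  151) (.leaf
  230)) (.node 1 (.leaf
  231) (.node 1 (.leaf
  55) (.leaf
  110)))))) (.node 9 (.node 4 (.node 2 (.node 1 (.leaf
  175) (.leaf
  115)) (.node 1 (.leaf
  56) (.leaf
  228))) (.node 2 (.node 1 (.leaf
  232) (.leaf
  211)) (.node 1 (.leaf
  176) (.node 1 (.leaf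
  130) (.leaf
  57))))) (.node 4 (.node 2 (.node 1 (.leaf
  233) (.leaf
  65)) (.node 1 (.leaf
  234) (.leaf
  177))) (.node 2 (.node 1 (.leaf
  111) (.leaf
  213)) (.node 1 (.leaf
  57) (.node 1 (.leaf
  102) (.leaf
  235))))))) (.node 18 (.node 9 (.node 4 (.node 2 (.node 1 (.leaf
  178) (.leaf
  207)) (.node 1 (.leaf
  236) (.leaf
  210))) (.node 2 (.node 1 (.leaf
  58) (.leaf
  57)) (.node 1 (.leaf
  179) (.node 1 (.leaf
  135) (.leaf
  58))))) (.node 4 (.node 2 (.node 1 (.leaf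
  237) (.leaf
  238)) (.node 1 (.leaf
  71) (.leaf
  180))) (.node 2 (.node 1 (.leaf
  112) (.leaf
  218)) (.node 1 (.leaf
  58) (.node 1 (.leaf
  235) (.leaf
  102)))))) (.node 9 (.node 4 (.node 2 (.node 1 (.leaf
  181) (.leaf
  136)) (.node 1 (.leaf
  106) (.leaf
  59))) (.node 2 (.node 1 (.leaf
  233) (.leaf
  239)) (.node 1 (.leaf
  182) (.node 1 (.leaf
  124) (.leaf
  104))))) (.node 4 (.node 2 (.node 1 (.leaf
  240) (.leaf
  59)) (.node 1 (.leaf
  241) (.leaf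
  183))) (.node 2 (.node 1 (.leaf
  142) (.leaf
  242)) (.node 1 (.leaf
  243) (.node 1 (.leaf
  241) (.leaf
  59)))))))) (.node 36 (.node 18 (.node 9 (.node 4 (.node 2 (.node 1 (.leaf
  184) (.leaf
  143)) (.node 1 (.leaf
  60) (.leaf
  244))) (.node 2 (.node 1 (.leaf
  245) (.leaf
  246)) (.node 1 (.leaf
  185) (.node 1 (.leaf
  147) (.leaf
  109))))) (.node 4 (.node 2 (.node 1 (.leaf
  61) (.leaf
  247)) (.node 1 (.leaf
  237) (.leaf
  186))) (.node 2 (.node 1 (.leaf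
  153) (.leaf
  248)) (.node 1 (.leaf
  249) (.node 1 (.leaf
  61) (.leaf
  250)))))) (.node 9 (.node 4 (.node 2 (.node 1 (.leaf
  187) (.leaf
  127)) (.node 1 (.leaf
  105) (.leaf
  251))) (.node 2 (.node 1 (.leaf
  250) (.leaf
  61)) (.node 1 (.leaf
  188) (.node 1 (.leaf
  129) (.leaf
  62))))) (.node 4 (.node 2 (.node 1 (.leaf
  65) (.leaf
  240)) (.node 1 (.leaf
  243) (.leaf
  189))) (.node 2 (.node 1 (.leaf
  141) (.leaf
  252)) (.node 1 (.leaf
  107) (.node 1 (.leaf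
  220) (.leaf
  62))))))) (.node 18 (.node 9 (.node 4 (.node 2 (.node 1 (.leaf
  190) (.leaf
  116)) (.node 1 (.leaf
  212) (.leaf
  63))) (.node 2 (.node 1 (.leaf
  106) (.leaf
  222)) (.node 1 (.leaf
  191) (.node 1 (.leaf
  117) (.leaf
  227))))) (.node 4 (.node 2 (.node 1 (.leaf
  220) (.leaf
  64)) (.node 1 (.leaf
  63) (.leaf
  192))) (.node 2 (.node 1 (.leaf
  146) (.leaf
  64)) (.node 1 (.leaf
  253) (.node 1 (.leaf
  254) (.leaf
  108)))))) (.node 9 (.node 4 (.node 2 (.node 1 (.leaf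
  193) (.leaf
  137)) (.node 1 (.leaf
  255) (.leaf
  64))) (.node 2 (.node 1 (.leaf
  222) (.leaf
  106)) (.node 1 (.leaf
  194) (.node 1 (.leaf
  131) (.leaf
  246))))) (.node 4 (.node 2 (.node 1 (.leaf
  239) (.leaf
  234)) (.node 1 (.leaf
  65) (.leaf
  195))) (.node 2 (.node 1 (.leaf
  132) (.leaf
  66)) (.node 1 (.leaf
  256) (.node 1 (.leaf
  248) (.leaf
  242)))))))))) (.node 144 (.node 72 (.node 36 (.node 18 (.node 9 (.node 4 (.node 2 (.node 1 (.leaf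
  196) (.leaf
  208)) (.node 1 (.leaf
  244) (.leaf
  67))) (.node 2 (.node 1 (.leaf
  257) (.leaf
  253)) (.node 1 (.leaf
  197) (.node 1 (.leaf
  149) (.leaf
  110))))) (.node 4 (.node 2 (.node 1 (.leaf
  258) (.leaf
  67)) (.node 1 (.leaf
  259) (.leaf
  198))) (.node 2 (.node 1 (.leaf
  140) (.leaf
  107)) (.node 1 (.leaf
  260) (.node 1 (.leaf
  259) (.leaf
  67)))))) (.node 9 (.node 4 (.node 2 (.node 1 (.leaf
  199) (.leaf
  133)) (.node 1 (.leaf
  68) (.leaf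
  71))) (.node 2 (.node 1 (.leaf
  249) (.leaf
  251)) (.node 1 (.leaf
  200) (.node 1 (.leaf
  150) (.leaf
  261))))) (.node 4 (.node 2 (.node 1 (.leaf
  110) (.leaf
  68)) (.node 1 (.leaf
  229) (.leaf
  201))) (.node 2 (.node 1 (.leaf
  145) (.leaf
  69)) (.node 1 (.leaf
  257) (.node 1 (.leaf
  108) (.leaf
  254))))))) (.node 18 (.node 9 (.node 4 (.node 2 (.node 1 (.leaf
  202) (.leaf
  148)) (.node 1 (.leaf
  262) (.leaf
  69))) (.node 2 (.node 1 (.leaf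
  109) (.leaf
  231)) (.node 1 (.leaf
  203) (.node 1 (.leaf
  122) (.leaf
  226))))) (.node 4 (.node 2 (.node 1 (.leaf
  229) (.leaf
  70)) (.node 1 (.leaf
  69) (.leaf
  204))) (.node 2 (.node 1 (.leaf
  121) (.leaf
  216)) (.node 1 (.leaf
  70) (.node 1 (.leaf
  231) (.leaf
  109)))))) (.node 9 (.node 4 (.node 2 (.node 1 (.leaf
  205) (.leaf
  134)) (.node 1 (.leaf
  245) (.leaf
  247))) (.node 2 (.node 1 (.leaf
  71) (.leaf
  238)) (.node 1 (.leaf
  102) (.node 1 (.leaf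
  79) (.leaf
  72))))) (.node 4 (.node 2 (.node 1 (.leaf
  75) (.leaf
  177)) (.node 1 (.leaf
  180) (.leaf
  103))) (.node 2 (.node 1 (.leaf
  84) (.leaf
  263)) (.node 1 (.leaf
  171) (.node 1 (.leaf
  74) (.leaf
  73)))))))) (.node 36 (.node 18 (.node 9 (.node 4 (.node 2 (.node 1 (.leaf
  104) (.leaf
  87)) (.node 1 (.leaf
  182) (.leaf
  163))) (.node 2 (.node 1 (.leaf
  75) (.leaf
  264)) (.node 1 (.leaf
  105) (.node 1 (.leaf
  88) (.leaf
  187))))) (.node 4 (.node 2 (.node 1 (.leaf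
  164) (.leaf
  264)) (.node 1 (.leaf
  75) (.leaf
  106))) (.node 2 (.node 1 (.leaf
  92) (.leaf
  181)) (.node 1 (.leaf
  76) (.node 1 (.leaf
  190) (.leaf
  193)))))) (.node 9 (.node 4 (.node 2 (.node 1 (.leaf
  107) (.leaf
  94)) (.node 1 (.leaf
  198) (.leaf
  189))) (.node 2 (.node 1 (.leaf
  169) (.leaf
  76)) (.node 1 (.leaf
  108) (.node 1 (.leaf
  97) (.leaf
  77))))) (.node 4 (.node 2 (.node 1 (.leaf
  265) (.leaf
  201)) (.node 1 (.leaf
  192) (.leaf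
  109))) (.node 2 (.node 1 (.leaf
  98) (.leaf
  185)) (.node 1 (.leaf
  78) (.node 1 (.leaf
  202) (.leaf
  204))))))) (.node 18 (.node 9 (.node 4 (.node 2 (.node 1 (.leaf
  110) (.leaf
  99)) (.node 1 (.leaf
  197) (.leaf
  200))) (.node 2 (.node 1 (.leaf
  78) (.leaf
  174)) (.node 1 (.leaf
  111) (.node 1 (.leaf
  177) (.leaf
  266))))) (.node 4 (.node 2 (.node 1 (.leaf
  156) (.leaf
  79)) (.node 1 (.leaf
  267) (.leaf
  112))) (.node 2 (.node 1 (.leaf
  180) (.leaf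
  268)) (.node 1 (.leaf
  157) (.node 1 (.leaf
  267) (.leaf
  79)))))) (.node 9 (.node 4 (.node 2 (.node 1 (.leaf
  113) (.leaf
  170)) (.node 1 (.leaf
  80) (.leaf
  269))) (.node 2 (.node 1 (.leaf
  270) (.leaf
  271)) (.node 1 (.leaf
  114) (.node 1 (.leaf
  171) (.leaf
  272))))) (.node 4 (.node 2 (.node 1 (.leaf
  84) (.leaf
  81)) (.node 1 (.leaf
  80) (.leaf
  115))) (.node 2 (.node 1 (.leaf
  175) (.leaf
  81)) (.node 1 (.leaf
  273) (.node 1 (.leaf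
  274) (.leaf
  275))))))))) (.node 72 (.node 36 (.node 18 (.node 9 (.node 4 (.node 2 (.node 1 (.leaf
  116) (.leaf
  190)) (.node 1 (.leaf
  276) (.leaf
  82))) (.node 2 (.node 1 (.leaf
  92) (.leaf
  277)) (.node 1 (.leaf
  117) (.node 1 (.leaf
  191) (.leaf
  278))))) (.node 4 (.node 2 (.node 1 (.leaf
  279) (.leaf
  159)) (.node 1 (.leaf
  82) (.leaf
  118))) (.node 2 (.node 1 (.leaf
  165) (.leaf
  83)) (.node 1 (.leaf
  276) (.node 1 (.leaf
  266) (.leaf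
  280)))))) (.node 9 (.node 4 (.node 2 (.node 1 (.leaf
  119) (.leaf
  166)) (.node 1 (.leaf
  281) (.leaf
  155))) (.node 2 (.node 1 (.leaf
  86) (.leaf
  83)) (.node 1 (.leaf
  120) (.node 1 (.leaf
  263) (.leaf
  84))))) (.node 4 (.node 2 (.node 1 (.leaf
  282) (.leaf
  283)) (.node 1 (.leaf
  284) (.leaf
  121))) (.node 2 (.node 1 (.leaf
  204) (.leaf
  285)) (.node 1 (.leaf
  85) (.node 1 (.leaf
  286) (.leaf
  98))))))) (.node 18 (.node 9 (.node 4 (.node 2 (.node 1 (.leaf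
  122) (.leaf
  203)) (.node 1 (.leaf
  287) (.leaf
  288))) (.node 2 (.node 1 (.leaf
  85) (.leaf
  162)) (.node 1 (.leaf
  123) (.node 1 (.leaf
  167) (.leaf
  86))))) (.node 4 (.node 2 (.node 1 (.leaf
  285) (.leaf
  289)) (.node 1 (.leaf
  268) (.leaf
  124))) (.node 2 (.node 1 (.leaf
  182) (.leaf
  87)) (.node 1 (.leaf
  290) (.node 1 (.leaf
  95) (.leaf
  291)))))) (.node 9 (.node 4 (.node 2 (.node 1 (.leaf
  125) (.leaf
  163)) (.node 1 (.leaf
  270) (.leaf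
  87))) (.node 2 (.node 1 (.leaf
  154) (.leaf
  292)) (.node 1 (.leaf
  126) (.node 1 (.leaf
  264) (.leaf
  293))))) (.node 4 (.node 2 (.node 1 (.leaf
  267) (.leaf
  88)) (.node 1 (.leaf
  87) (.leaf
  127))) (.node 2 (.node 1 (.leaf
  187) (.leaf
  88)) (.node 1 (.leaf
  294) (.node 1 (.leaf
  295) (.leaf
  101)))))))) (.node 36 (.node 18 (.node 9 (.node 4 (.node 2 (.node 1 (.leaf
  128) (.leaf
  164)) (.node 1 (.leaf
  275) (.leaf
  88))) (.node 2 (.node 1 (.leaf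
  292) (.leaf
  154)) (.node 1 (.leaf
  129) (.node 1 (.leaf
  188) (.leaf
  158))))) (.node 4 (.node 2 (.node 1 (.leaf
  89) (.leaf
  290)) (.node 1 (.leaf
  296) (.leaf
  130))) (.node 2 (.node 1 (.leaf
  176) (.leaf
  156)) (.node 1 (.leaf
  297) (.node 1 (.leaf
  89) (.leaf
  298)))))) (.node 9 (.node 4 (.node 2 (.node 1 (.leaf
  131) (.leaf
  194)) (.node 1 (.leaf
  299) (.leaf
  300))) (.node 2 (.node 1 (.leaf
  298) (.leaf
  89)) (.node 1 (.leaf
  132) (.node 1 (.leaf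
  195) (.leaf
  90))))) (.node 4 (.node 2 (.node 1 (.leaf
  301) (.leaf
  302)) (.node 1 (.leaf
  303) (.leaf
  133))) (.node 2 (.node 1 (.leaf
  199) (.leaf
  161)) (.node 1 (.leaf
  91) (.node 1 (.leaf
  304) (.leaf
  294))))))) (.node 18 (.node 9 (.node 4 (.node 2 (.node 1 (.leaf
  134) (.leaf
  205)) (.node 1 (.leaf
  305) (.leaf
  306))) (.node 2 (.node 1 (.leaf
  91) (.leaf
  307)) (.node 1 (.leaf
  135) (.node 1 (.leaf
  179) (.leaf
  157))))) (.node 4 (.node 2 (.node 1 (.leaf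
  308) (.leaf
  307)) (.node 1 (.leaf
  91) (.leaf
  136))) (.node 2 (.node 1 (.leaf
  181) (.leaf
  92)) (.node 1 (.leaf
  95) (.node 1 (.leaf
  297) (.leaf
  300)))))) (.node 9 (.node 4 (.node 2 (.node 1 (.leaf
  137) (.leaf
  193)) (.node 1 (.leaf
  309) (.leaf
  159))) (.node 2 (.node 1 (.leaf
  277) (.leaf
  92)) (.node 1 (.leaf
  138) (.node 1 (.leaf
  168) (.leaf
  269))))) (.node 4 (.node 2 (.node 1 (.leaf
  93) (.leaf
  158)) (.node 1 (.leaf
  279) (.leaf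
  139))) (.node 2 (.node 1 (.leaf
  169) (.leaf
  284)) (.node 1 (.leaf
  277) (.node 1 (.leaf
  94) (.leaf
  93)))))))))))) (.node 576 (.node 288 (.node 144 (.node 72 (.node 36 (.node 18 (.node 9 (.node 4 (.node 2 (.node 1 (.leaf
  140) (.leaf
  198)) (.node 1 (.leaf
  94) (.leaf
  310))) (.node 2 (.node 1 (.leaf
  311) (.leaf
  160)) (.node 1 (.leaf
  141) (.node 1 (.leaf
  189) (.leaf
  312))))) (.node 4 (.node 2 (.node 1 (.leaf
  94) (.leaf
  279)) (.node 1 (.leaf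
  158) (.leaf
  142))) (.node 2 (.node 1 (.leaf
  183) (.leaf
  303)) (.node 1 (.leaf
  296) (.node 1 (.leaf
  291) (.leaf
  95)))))) (.node 9 (.node 4 (.node 2 (.node 1 (.leaf
  143) (.leaf
  184)) (.node 1 (.leaf
  96) (.leaf
  313))) (.node 2 (.node 1 (.leaf
  305) (.leaf
  299)) (.node 1 (.leaf
  144) (.node 1 (.leaf
  265) (.leaf
  301))))) (.node 4 (.node 2 (.node 1 (.leaf
  97) (.leaf
  314)) (.node 1 (.leaf
  310) (.leaf
  145))) (.node 2 (.node 1 (.leaf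
  201) (.leaf
  162)) (.node 1 (.leaf
  315) (.node 1 (.leaf
  97) (.leaf
  316))))))) (.node 18 (.node 9 (.node 4 (.node 2 (.node 1 (.leaf
  146) (.leaf
  192)) (.node 1 (.leaf
  159) (.leaf
  317))) (.node 2 (.node 1 (.leaf
  316) (.leaf
  97)) (.node 1 (.leaf
  147) (.node 1 (.leaf
  185) (.leaf
  98))))) (.node 4 (.node 2 (.node 1 (.leaf
  101) (.leaf
  306)) (.node 1 (.leaf
  308) (.leaf
  148))) (.node 2 (.node 1 (.leaf
  202) (.leaf
  318)) (.node 1 (.leaf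
  162) (.node 1 (.leaf
  98) (.leaf
  286)))))) (.node 9 (.node 4 (.node 2 (.node 1 (.leaf
  149) (.leaf
  197)) (.node 1 (.leaf
  99) (.leaf
  314))) (.node 2 (.node 1 (.leaf
  160) (.leaf
  311)) (.node 1 (.leaf
  150) (.node 1 (.leaf
  200) (.leaf
  319))))) (.node 4 (.node 2 (.node 1 (.leaf
  99) (.leaf
  161)) (.node 1 (.leaf
  288) (.leaf
  151))) (.node 2 (.node 1 (.leaf
  174) (.leaf
  283)) (.node 1 (.leaf
  286) (.node 1 (.leaf
  100) (.leaf
  99)))))))) (.node 36 (.node 18 (.node 9 (.node 4 (.node 2 (.node 1 (.leaf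
  152) (.leaf
  173)) (.node 1 (.leaf
  273) (.leaf
  100))) (.node 2 (.node 1 (.leaf
  288) (.leaf
  161)) (.node 1 (.leaf
  153) (.node 1 (.leaf
  186) (.leaf
  302))))) (.node 4 (.node 2 (.node 1 (.leaf
  304) (.leaf
  101)) (.node 1 (.leaf
  295) (.leaf
  263))) (.node 2 (.node 1 (.leaf
  120) (.leaf
  103)) (.node 1 (.leaf
  320) (.node 1 (.leaf
  230) (.leaf
  221)))))) (.node 9 (.node 4 (.node 2 (.node 1 (.leaf
  264) (.leaf
  126)) (.node 1 (.leaf
  321) (.leaf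
  235))) (.node 2 (.node 1 (.leaf
  105) (.leaf
  104)) (.node 1 (.leaf
  265) (.node 1 (.leaf
  144) (.leaf
  256))))) (.node 4 (.node 2 (.node 1 (.leaf
  108) (.leaf
  258)) (.node 1 (.leaf
  260) (.leaf
  266))) (.node 2 (.node 1 (.leaf
  213) (.leaf
  111)) (.node 1 (.leaf
  322) (.node 1 (.leaf
  118) (.leaf
  323))))))) (.node 18 (.node 9 (.node 4 (.node 2 (.node 1 (.leaf
  267) (.leaf
  235)) (.node 1 (.leaf
  324) (.leaf
  126))) (.node 2 (.node 1 (.leaf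
  112) (.leaf
  111)) (.node 1 (.leaf
  268) (.node 1 (.leaf
  218) (.leaf
  112))))) (.node 4 (.node 2 (.node 1 (.leaf
  325) (.leaf
  326)) (.node 1 (.leaf
  123) (.leaf
  269))) (.node 2 (.node 1 (.leaf
  219) (.leaf
  138)) (.node 1 (.leaf
  113) (.node 1 (.leaf
  322) (.leaf
  327)))))) (.node 9 (.node 4 (.node 2 (.node 1 (.leaf
  270) (.leaf
  209)) (.node 1 (.leaf
  125) (.leaf
  328))) (.node 2 (.node 1 (.leaf
  113) (.leaf
  329)) (.node 1 (.leaf
  271) (.node 1 (.leaf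
  223) (.leaf
  330))))) (.node 4 (.node 2 (.node 1 (.leaf
  331) (.leaf
  329)) (.node 1 (.leaf
  113) (.leaf
  272))) (.node 2 (.node 1 (.leaf
  224) (.leaf
  114)) (.node 1 (.leaf
  332) (.node 1 (.leaf
  333) (.leaf
  334))))))))) (.node 72 (.node 36 (.node 18 (.node 9 (.node 4 (.node 2 (.node 1 (.leaf
  273) (.leaf
  228)) (.node 1 (.leaf
  152) (.leaf
  115))) (.node 2 (.node 1 (.leaf
  335) (.leaf
  325)) (.node 1 (.leaf
  274) (.node 1 (.leaf
  232) (.leaf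
  336))))) (.node 4 (.node 2 (.node 1 (.leaf
  337) (.leaf
  115)) (.node 1 (.leaf
  338) (.leaf
  275))) (.node 2 (.node 1 (.leaf
  211) (.leaf
  128)) (.node 1 (.leaf
  339) (.node 1 (.leaf
  338) (.leaf
  115)))))) (.node 9 (.node 4 (.node 2 (.node 1 (.leaf
  276) (.leaf
  212)) (.node 1 (.leaf
  116) (.leaf
  118))) (.node 2 (.node 1 (.leaf
  328) (.leaf
  331)) (.node 1 (.leaf
  277) (.node 1 (.leaf
  222) (.leaf
  340))))) (.node 4 (.node 2 (.node 1 (.leaf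
  139) (.leaf
  137)) (.node 1 (.leaf
  116) (.leaf
  278))) (.node 2 (.node 1 (.leaf
  227) (.leaf
  117)) (.node 1 (.leaf
  341) (.node 1 (.leaf
  342) (.leaf
  206))))))) (.node 18 (.node 9 (.node 4 (.node 2 (.node 1 (.leaf
  279) (.leaf
  220)) (.node 1 (.leaf
  343) (.leaf
  117))) (.node 2 (.node 1 (.leaf
  141) (.leaf
  138)) (.node 1 (.leaf
  280) (.node 1 (.leaf
  214) (.leaf
  334))))) (.node 4 (.node 2 (.node 1 (.leaf
  327) (.leaf
  323)) (.node 1 (.leaf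
  118) (.leaf
  281))) (.node 2 (.node 1 (.leaf
  215) (.leaf
  119)) (.node 1 (.leaf
  344) (.node 1 (.leaf
  336) (.leaf
  330)))))) (.node 9 (.node 4 (.node 2 (.node 1 (.leaf
  282) (.leaf
  320)) (.node 1 (.leaf
  332) (.leaf
  120))) (.node 2 (.node 1 (.leaf
  345) (.leaf
  341)) (.node 1 (.leaf
  283) (.node 1 (.leaf
  230) (.leaf
  151))))) (.node 4 (.node 2 (.node 1 (.leaf
  346) (.leaf
  120)) (.node 1 (.leaf
  347) (.leaf
  284))) (.node 2 (.node 1 (.leaf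
  221) (.leaf
  139)) (.node 1 (.leaf
  348) (.node 1 (.leaf
  347) (.leaf
  120)))))))) (.node 36 (.node 18 (.node 9 (.node 4 (.node 2 (.node 1 (.leaf
  285) (.leaf
  216)) (.node 1 (.leaf
  121) (.leaf
  123))) (.node 2 (.node 1 (.leaf
  337) (.leaf
  339)) (.node 1 (.leaf
  286) (.node 1 (.leaf
  231) (.leaf
  349))))) (.node 4 (.node 2 (.node 1 (.leaf
  151) (.leaf
  121)) (.node 1 (.leaf
  148) (.leaf
  287))) (.node 2 (.node 1 (.leaf
  226) (.leaf
  122)) (.node 1 (.leaf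
  345) (.node 1 (.leaf
  206) (.leaf
  342)))))) (.node 9 (.node 4 (.node 2 (.node 1 (.leaf
  288) (.leaf
  229)) (.node 1 (.leaf
  350) (.leaf
  122))) (.node 2 (.node 1 (.leaf
  152) (.leaf
  150)) (.node 1 (.leaf
  289) (.node 1 (.leaf
  217) (.leaf
  333))))) (.node 4 (.node 2 (.node 1 (.leaf
  335) (.leaf
  123)) (.node 1 (.leaf
  326) (.leaf
  290))) (.node 2 (.node 1 (.leaf
  240) (.leaf
  328)) (.node 1 (.leaf
  124) (.node 1 (.leaf
  129) (.leaf
  349))))))) (.node 18 (.node 9 (.node 4 (.node 2 (.node 1 (.leaf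
  291) (.leaf
  241)) (.node 1 (.leaf
  345) (.leaf
  350))) (.node 2 (.node 1 (.leaf
  142) (.leaf
  124)) (.node 1 (.leaf
  292) (.node 1 (.leaf
  210) (.leaf
  351))))) (.node 4 (.node 2 (.node 1 (.leaf
  207) (.leaf
  128)) (.node 1 (.leaf
  125) (.leaf
  293))) (.node 2 (.node 1 (.leaf
  321) (.leaf
  126)) (.node 1 (.leaf
  342) (.node 1 (.leaf
  348) (.leaf
  346)))))) (.node 9 (.node 4 (.node 2 (.node 1 (.leaf
  294) (.leaf
  251)) (.node 1 (.leaf
  339) (.leaf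
  127))) (.node 2 (.node 1 (.leaf
  340) (.leaf
  133)) (.node 1 (.leaf
  295) (.node 1 (.leaf
  250) (.leaf
  341))))) (.node 4 (.node 2 (.node 1 (.leaf
  343) (.leaf
  127)) (.node 1 (.leaf
  153) (.leaf
  296))) (.node 2 (.node 1 (.leaf
  243) (.leaf
  335)) (.node 1 (.leaf
  142) (.node 1 (.leaf
  349) (.leaf
  129)))))))))) (.node 144 (.node 72 (.node 36 (.node 18 (.node 9 (.node 4 (.node 2 (.node 1 (.leaf
  297) (.leaf
  233)) (.node 1 (.leaf
  322) (.leaf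
  130))) (.node 2 (.node 1 (.leaf
  136) (.leaf
  350)) (.node 1 (.leaf
  298) (.node 1 (.leaf
  234) (.leaf
  346))))) (.node 4 (.node 2 (.node 1 (.leaf
  349) (.leaf
  131)) (.node 1 (.leaf
  130) (.leaf
  299))) (.node 2 (.node 1 (.leaf
  246) (.leaf
  131)) (.node 1 (.leaf
  336) (.node 1 (.leaf
  332) (.leaf
  143)))))) (.node 9 (.node 4 (.node 2 (.node 1 (.leaf
  300) (.leaf
  239)) (.node 1 (.leaf
  337) (.leaf
  131))) (.node 2 (.node 1 (.leaf
  350) (.leaf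
  136)) (.node 1 (.leaf
  301) (.node 1 (.leaf
  256) (.leaf
  144))))) (.node 4 (.node 2 (.node 1 (.leaf
  132) (.leaf
  330)) (.node 1 (.leaf
  336) (.leaf
  302))) (.node 2 (.node 1 (.leaf
  248) (.leaf
  153)) (.node 1 (.leaf
  334) (.node 1 (.leaf
  132) (.leaf
  344))))))) (.node 18 (.node 9 (.node 4 (.node 2 (.node 1 (.leaf
  303) (.leaf
  242)) (.node 1 (.leaf
  142) (.leaf
  333))) (.node 2 (.node 1 (.leaf
  344) (.leaf
  132)) (.node 1 (.leaf
  304) (.node 1 (.leaf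
  249) (.leaf
  327))))) (.node 4 (.node 2 (.node 1 (.leaf
  153) (.leaf
  133)) (.node 1 (.leaf
  340) (.leaf
  305))) (.node 2 (.node 1 (.leaf
  245) (.leaf
  134)) (.node 1 (.leaf
  330) (.node 1 (.leaf
  143) (.leaf
  332)))))) (.node 9 (.node 4 (.node 2 (.node 1 (.leaf
  306) (.leaf
  247)) (.node 1 (.leaf
  331) (.leaf
  134))) (.node 2 (.node 1 (.leaf
  147) (.leaf
  343)) (.node 1 (.leaf
  307) (.node 1 (.leaf
  238) (.leaf
  348))))) (.node 4 (.node 2 (.node 1 (.leaf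
  340) (.leaf
  135)) (.node 1 (.leaf
  134) (.leaf
  308))) (.node 2 (.node 1 (.leaf
  237) (.leaf
  325)) (.node 1 (.leaf
  135) (.node 1 (.leaf
  343) (.leaf
  147)))))))) (.node 36 (.node 18 (.node 9 (.node 4 (.node 2 (.node 1 (.leaf
  309) (.leaf
  255)) (.node 1 (.leaf
  137) (.leaf
  338))) (.node 2 (.node 1 (.leaf
  325) (.leaf
  335)) (.node 1 (.leaf
  310) (.node 1 (.leaf
  260) (.leaf
  326))))) (.node 4 (.node 2 (.node 1 (.leaf
  140) (.leaf
  351)) (.node 1 (.leaf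
  144) (.leaf
  311))) (.node 2 (.node 1 (.leaf
  259) (.leaf
  342)) (.node 1 (.leaf
  324) (.node 1 (.leaf
  140) (.leaf
  149)))))) (.node 9 (.node 4 (.node 2 (.node 1 (.leaf
  312) (.leaf
  252)) (.node 1 (.leaf
  141) (.leaf
  326))) (.node 2 (.node 1 (.leaf
  339) (.leaf
  337)) (.node 1 (.leaf
  313) (.node 1 (.leaf
  244) (.leaf
  208))))) (.node 4 (.node 2 (.node 1 (.leaf
  143) (.leaf
  334)) (.node 1 (.leaf
  333) (.leaf
  314))) (.node 2 (.node 1 (.leaf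
  258) (.leaf
  323)) (.node 1 (.leaf
  149) (.node 1 (.leaf
  144) (.leaf
  351))))))) (.node 18 (.node 9 (.node 4 (.node 2 (.node 1 (.leaf
  315) (.leaf
  257)) (.node 1 (.leaf
  329) (.leaf
  145))) (.node 2 (.node 1 (.leaf
  208) (.leaf
  324)) (.node 1 (.leaf
  316) (.node 1 (.leaf
  254) (.leaf
  347))))) (.node 4 (.node 2 (.node 1 (.leaf
  351) (.leaf
  146)) (.node 1 (.leaf
  145) (.leaf
  317))) (.node 2 (.node 1 (.leaf
  253) (.leaf
  338)) (.node 1 (.leaf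
  146) (.node 1 (.leaf
  324) (.leaf
  208)))))) (.node 9 (.node 4 (.node 2 (.node 1 (.leaf
  318) (.leaf
  262)) (.node 1 (.leaf
  148) (.leaf
  329))) (.node 2 (.node 1 (.leaf
  327) (.leaf
  322)) (.node 1 (.leaf
  319) (.node 1 (.leaf
  261) (.leaf
  150))))) (.node 4 (.node 2 (.node 1 (.leaf
  323) (.leaf
  331)) (.node 1 (.leaf
  328) (.leaf
  206))) (.node 2 (.node 1 (.leaf
  172) (.leaf
  155)) (.node 1 (.leaf
  352) (.node 1 (.leaf
  287) (.leaf
  278))))))))) (.node 72 (.node 36 (.node 18 (.node 9 (.node 4 (.node 2 (.node 1 (.leaf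
  207) (.leaf
  178)) (.node 1 (.leaf
  353) (.leaf
  292))) (.node 2 (.node 1 (.leaf
  157) (.leaf
  156)) (.node 1 (.leaf
  208) (.node 1 (.leaf
  196) (.leaf
  313))))) (.node 4 (.node 2 (.node 1 (.leaf
  160) (.leaf
  315)) (.node 1 (.leaf
  317) (.leaf
  209))) (.node 2 (.node 1 (.leaf
  270) (.leaf
  163)) (.node 1 (.leaf
  354) (.node 1 (.leaf
  170) (.leaf
  355)))))) (.node 9 (.node 4 (.node 2 (.node 1 (.leaf
  210) (.leaf
  292)) (.node 1 (.leaf
  356) (.leaf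
  178))) (.node 2 (.node 1 (.leaf
  164) (.leaf
  163)) (.node 1 (.leaf
  211) (.node 1 (.leaf
  275) (.leaf
  164))))) (.node 4 (.node 2 (.node 1 (.leaf
  357) (.leaf
  358)) (.node 1 (.leaf
  175) (.leaf
  212))) (.node 2 (.node 1 (.leaf
  276) (.leaf
  190)) (.node 1 (.leaf
  165) (.node 1 (.leaf
  354) (.leaf
  359))))))) (.node 18 (.node 9 (.node 4 (.node 2 (.node 1 (.leaf
  213) (.leaf
  266)) (.node 1 (.leaf
  177) (.leaf
  360))) (.node 2 (.node 1 (.leaf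
  165) (.leaf
  361)) (.node 1 (.leaf
  214) (.node 1 (.leaf
  280) (.leaf
  362))))) (.node 4 (.node 2 (.node 1 (.leaf
  363) (.leaf
  361)) (.node 1 (.leaf
  165) (.leaf
  215))) (.node 2 (.node 1 (.leaf
  281) (.leaf
  166)) (.node 1 (.leaf
  364) (.node 1 (.leaf
  365) (.leaf
  366)))))) (.node 9 (.node 4 (.node 2 (.node 1 (.leaf
  216) (.leaf
  285)) (.node 1 (.leaf
  204) (.leaf
  167))) (.node 2 (.node 1 (.leaf
  367) (.leaf
  357)) (.node 1 (.leaf
  217) (.node 1 (.leaf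
  289) (.leaf
  368))))) (.node 4 (.node 2 (.node 1 (.leaf
  369) (.leaf
  167)) (.node 1 (.leaf
  370) (.leaf
  218))) (.node 2 (.node 1 (.leaf
  268) (.leaf
  180)) (.node 1 (.leaf
  371) (.node 1 (.leaf
  370) (.leaf
  167)))))))) (.node 36 (.node 18 (.node 9 (.node 4 (.node 2 (.node 1 (.leaf
  219) (.leaf
  269)) (.node 1 (.leaf
  168) (.leaf
  170))) (.node 2 (.node 1 (.leaf
  360) (.leaf
  363)) (.node 1 (.leaf
  220) (.node 1 (.leaf
  279) (.leaf
  372))))) (.node 4 (.node 2 (.node 1 (.leaf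
  191) (.leaf
  189)) (.node 1 (.leaf
  168) (.leaf
  221))) (.node 2 (.node 1 (.leaf
  284) (.leaf
  169)) (.node 1 (.leaf
  373) (.node 1 (.leaf
  374) (.leaf
  263)))))) (.node 9 (.node 4 (.node 2 (.node 1 (.leaf
  222) (.leaf
  277)) (.node 1 (.leaf
  375) (.leaf
  169))) (.node 2 (.node 1 (.leaf
  193) (.leaf
  190)) (.node 1 (.leaf
  223) (.node 1 (.leaf
  271) (.leaf
  366))))) (.node 4 (.node 2 (.node 1 (.leaf
  359) (.leaf
  355)) (.node 1 (.leaf
  170) (.leaf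
  224))) (.node 2 (.node 1 (.leaf
  272) (.leaf
  171)) (.node 1 (.leaf
  376) (.node 1 (.leaf
  368) (.leaf
  362))))))) (.node 18 (.node 9 (.node 4 (.node 2 (.node 1 (.leaf
  225) (.leaf
  352)) (.node 1 (.leaf
  364) (.leaf
  172))) (.node 2 (.node 1 (.leaf
  377) (.leaf
  373)) (.node 1 (.leaf
  226) (.node 1 (.leaf
  287) (.leaf
  203))))) (.node 4 (.node 2 (.node 1 (.leaf
  378) (.leaf
  172)) (.node 1 (.leaf
  379) (.leaf
  227))) (.node 2 (.node 1 (.leaf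
  278) (.leaf
  191)) (.node 1 (.leaf
  380) (.node 1 (.leaf
  379) (.leaf
  172)))))) (.node 9 (.node 4 (.node 2 (.node 1 (.leaf
  228) (.leaf
  273)) (.node 1 (.leaf
  173) (.leaf
  175))) (.node 2 (.node 1 (.leaf
  369) (.leaf
  371)) (.node 1 (.leaf
  229) (.node 1 (.leaf
  288) (.leaf
  381))))) (.node 4 (.node 2 (.node 1 (.leaf
  203) (.leaf
  173)) (.node 1 (.leaf
  200) (.leaf
  230))) (.node 2 (.node 1 (.leaf
  283) (.leaf
  174)) (.node 1 (.leaf
  377) (.node 1 (.leaf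
  263) (.leaf
  374))))))))))) (.node 288 (.node 144 (.node 72 (.node 36 (.node 18 (.node 9 (.node 4 (.node 2 (.node 1 (.leaf
  231) (.leaf
  286)) (.node 1 (.leaf
  382) (.leaf
  174))) (.node 2 (.node 1 (.leaf
  204) (.leaf
  202)) (.node 1 (.leaf
  232) (.node 1 (.leaf
  274) (.leaf
  365))))) (.node 4 (.node 2 (.node 1 (.leaf
  367) (.leaf
  175)) (.node 1 (.leaf
  358) (.leaf
  233))) (.node 2 (.node 1 (.leaf
  297) (.leaf
  360)) (.node 1 (.leaf
  176) (.node 1 (.leaf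
  181) (.leaf
  381)))))) (.node 9 (.node 4 (.node 2 (.node 1 (.leaf
  234) (.leaf
  298)) (.node 1 (.leaf
  377) (.leaf
  382))) (.node 2 (.node 1 (.leaf
  194) (.leaf
  176)) (.node 1 (.leaf
  235) (.node 1 (.leaf
  267) (.leaf
  383))))) (.node 4 (.node 2 (.node 1 (.leaf
  264) (.leaf
  180)) (.node 1 (.leaf
  177) (.leaf
  236))) (.node 2 (.node 1 (.leaf
  353) (.leaf
  178)) (.node 1 (.leaf
  374) (.node 1 (.leaf
  380) (.leaf
  378))))))) (.node 18 (.node 9 (.node 4 (.node 2 (.node 1 (.leaf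
  237) (.leaf
  308)) (.node 1 (.leaf
  371) (.leaf
  179))) (.node 2 (.node 1 (.leaf
  372) (.leaf
  185)) (.node 1 (.leaf
  238) (.node 1 (.leaf
  307) (.leaf
  373))))) (.node 4 (.node 2 (.node 1 (.leaf
  375) (.leaf
  179)) (.node 1 (.leaf
  205) (.leaf
  239))) (.node 2 (.node 1 (.leaf
  300) (.leaf
  367)) (.node 1 (.leaf
  194) (.node 1 (.leaf
  381) (.leaf
  181)))))) (.node 9 (.node 4 (.node 2 (.node 1 (.leaf
  240) (.leaf
  290)) (.node 1 (.leaf
  354) (.leaf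
  182))) (.node 2 (.node 1 (.leaf
  188) (.leaf
  382)) (.node 1 (.leaf
  241) (.node 1 (.leaf
  291) (.leaf
  378))))) (.node 4 (.node 2 (.node 1 (.leaf
  381) (.leaf
  183)) (.node 1 (.leaf
  182) (.leaf
  242))) (.node 2 (.node 1 (.leaf
  303) (.leaf
  183)) (.node 1 (.leaf
  368) (.node 1 (.leaf
  364) (.leaf
  195)))))))) (.node 36 (.node 18 (.node 9 (.node 4 (.node 2 (.node 1 (.leaf
  243) (.leaf
  296)) (.node 1 (.leaf
  369) (.leaf
  183))) (.node 2 (.node 1 (.leaf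
  382) (.leaf
  188)) (.node 1 (.leaf
  244) (.node 1 (.leaf
  313) (.leaf
  196))))) (.node 4 (.node 2 (.node 1 (.leaf
  184) (.leaf
  362)) (.node 1 (.leaf
  368) (.leaf
  245))) (.node 2 (.node 1 (.leaf
  305) (.leaf
  205)) (.node 1 (.leaf
  366) (.node 1 (.leaf
  184) (.leaf
  376)))))) (.node 9 (.node 4 (.node 2 (.node 1 (.leaf
  246) (.leaf
  299)) (.node 1 (.leaf
  194) (.leaf
  365))) (.node 2 (.node 1 (.leaf
  376) (.leaf
  184)) (.node 1 (.leaf
  247) (.node 1 (.leaf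
  306) (.leaf
  359))))) (.node 4 (.node 2 (.node 1 (.leaf
  205) (.leaf
  185)) (.node 1 (.leaf
  372) (.leaf
  248))) (.node 2 (.node 1 (.leaf
  302) (.leaf
  186)) (.node 1 (.leaf
  362) (.node 1 (.leaf
  195) (.leaf
  364))))))) (.node 18 (.node 9 (.node 4 (.node 2 (.node 1 (.leaf
  249) (.leaf
  304)) (.node 1 (.leaf
  363) (.leaf
  186))) (.node 2 (.node 1 (.leaf
  199) (.leaf
  375)) (.node 1 (.leaf
  250) (.node 1 (.leaf
  295) (.leaf
  380))))) (.node 4 (.node 2 (.node 1 (.leaf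
  372) (.leaf
  187)) (.node 1 (.leaf
  186) (.leaf
  251))) (.node 2 (.node 1 (.leaf
  294) (.leaf
  357)) (.node 1 (.leaf
  187) (.node 1 (.leaf
  375) (.leaf
  199)))))) (.node 9 (.node 4 (.node 2 (.node 1 (.leaf
  252) (.leaf
  312)) (.node 1 (.leaf
  189) (.leaf
  370))) (.node 2 (.node 1 (.leaf
  357) (.leaf
  367)) (.node 1 (.leaf
  253) (.node 1 (.leaf
  317) (.leaf
  358))))) (.node 4 (.node 2 (.node 1 (.leaf
  192) (.leaf
  383)) (.node 1 (.leaf
  196) (.leaf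
  254))) (.node 2 (.node 1 (.leaf
  316) (.leaf
  374)) (.node 1 (.leaf
  356) (.node 1 (.leaf
  192) (.leaf
  201))))))))) (.node 72 (.node 36 (.node 18 (.node 9 (.node 4 (.node 2 (.node 1 (.leaf
  255) (.leaf
  309)) (.node 1 (.leaf
  193) (.leaf
  358))) (.node 2 (.node 1 (.leaf
  371) (.leaf
  369)) (.node 1 (.leaf
  256) (.node 1 (.leaf
  301) (.leaf
  265))))) (.node 4 (.node 2 (.node 1 (.leaf
  195) (.leaf
  366)) (.node 1 (.leaf
  365) (.leaf
  257))) (.node 2 (.node 1 (.leaf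
  315) (.leaf
  355)) (.node 1 (.leaf
  201) (.node 1 (.leaf
  196) (.leaf
  383)))))) (.node 9 (.node 4 (.node 2 (.node 1 (.leaf
  258) (.leaf
  314)) (.node 1 (.leaf
  361) (.leaf
  197))) (.node 2 (.node 1 (.leaf
  265) (.leaf
  356)) (.node 1 (.leaf
  259) (.node 1 (.leaf
  311) (.leaf
  379))))) (.node 4 (.node 2 (.node 1 (.leaf
  383) (.leaf
  198)) (.node 1 (.leaf
  197) (.leaf
  260))) (.node 2 (.node 1 (.leaf
  310) (.leaf
  370)) (.node 1 (.leaf
  198) (.node 1 (.leaf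
  356) (.leaf
  265))))))) (.node 18 (.node 9 (.node 4 (.node 2 (.node 1 (.leaf
  261) (.leaf
  319)) (.node 1 (.leaf
  200) (.leaf
  361))) (.node 2 (.node 1 (.leaf
  359) (.leaf
  354)) (.node 1 (.leaf
  262) (.node 1 (.leaf
  318) (.leaf
  202))))) (.node 4 (.node 2 (.node 1 (.leaf
  355) (.leaf
  363)) (.node 1 (.leaf
  360) (.leaf
  352))) (.node 2 (.node 1 (.leaf
  225) (.leaf
  344)) (.node 1 (.leaf
  206) (.node 1 (.leaf
  346) (.leaf
  348)))))) (.node 9 (.node 4 (.node 2 (.node 1 (.leaf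
  353) (.leaf
  236)) (.node 1 (.leaf
  207) (.leaf
  347))) (.node 2 (.node 1 (.leaf
  341) (.leaf
  345)) (.node 1 (.leaf
  354) (.node 1 (.leaf
  328) (.leaf
  240))))) (.node 4 (.node 2 (.node 1 (.leaf
  209) (.leaf
  212)) (.node 1 (.leaf
  261) (.leaf
  355))) (.node 2 (.node 1 (.leaf
  329) (.leaf
  257)) (.node 1 (.leaf
  262) (.node 1 (.leaf
  223) (.leaf
  209)))))))) (.node 36 (.node 18 (.node 9 (.node 4 (.node 2 (.node 1 (.leaf
  356) (.leaf
  351)) (.node 1 (.leaf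
  210) (.leaf
  254))) (.node 2 (.node 1 (.leaf
  260) (.leaf
  258)) (.node 1 (.leaf
  357) (.node 1 (.leaf
  339) (.leaf
  251))))) (.node 4 (.node 2 (.node 1 (.leaf
  211) (.leaf
  252)) (.node 1 (.leaf
  216) (.leaf
  358))) (.node 2 (.node 1 (.leaf
  338) (.leaf
  253)) (.node 1 (.leaf
  255) (.node 1 (.leaf
  211) (.leaf
  232)))))) (.node 9 (.node 4 (.node 2 (.node 1 (.leaf
  359) (.leaf
  331)) (.node 1 (.leaf
  247) (.leaf
  223))) (.node 2 (.node 1 (.leaf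
  261) (.leaf
  212)) (.node 1 (.leaf
  360) (.node 1 (.leaf
  322) (.leaf
  233))))) (.node 4 (.node 2 (.node 1 (.leaf
  213) (.leaf
  219)) (.node 1 (.leaf
  262) (.leaf
  361))) (.node 2 (.node 1 (.leaf
  323) (.leaf
  258)) (.node 1 (.leaf
  261) (.node 1 (.leaf
  214) (.leaf
  213))))))) (.node 18 (.node 9 (.node 4 (.node 2 (.node 1 (.leaf
  362) (.leaf
  334)) (.node 1 (.leaf
  214) (.leaf
  248))) (.node 2 (.node 1 (.leaf
  244) (.leaf
  224)) (.node 1 (.leaf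
  363) (.node 1 (.leaf
  327) (.leaf
  249))))) (.node 4 (.node 2 (.node 1 (.leaf
  214) (.leaf
  262)) (.node 1 (.leaf
  219) (.leaf
  364))) (.node 2 (.node 1 (.leaf
  344) (.leaf
  225)) (.node 1 (.leaf
  215) (.node 1 (.leaf
  242) (.leaf
  248)))))) (.node 9 (.node 4 (.node 2 (.node 1 (.leaf
  365) (.leaf
  336)) (.node 1 (.leaf
  232) (.leaf
  246))) (.node 2 (.node 1 (.leaf
  215) (.leaf
  256)) (.node 1 (.leaf
  366) (.node 1 (.leaf
  330) (.leaf
  223))))) (.node 4 (.node 2 (.node 1 (.leaf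
  245) (.leaf
  256)) (.node 1 (.leaf
  215) (.leaf
  367))) (.node 2 (.node 1 (.leaf
  337) (.leaf
  239)) (.node 1 (.leaf
  232) (.node 1 (.leaf
  216) (.leaf
  252)))))))))) (.node 144 (.node 72 (.node 36 (.node 18 (.node 9 (.node 4 (.node 2 (.node 1 (.leaf
  368) (.leaf
  333)) (.node 1 (.leaf
  217) (.leaf
  242))) (.node 2 (.node 1 (.leaf
  224) (.leaf
  244)) (.node 1 (.leaf
  369) (.node 1 (.leaf
  335) (.leaf
  243))))) (.node 4 (.node 2 (.node 1 (.leaf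
  217) (.leaf
  228)) (.node 1 (.leaf
  255) (.leaf
  370))) (.node 2 (.node 1 (.leaf
  326) (.leaf
  260)) (.node 1 (.leaf
  252) (.node 1 (.leaf
  218) (.leaf
  217)))))) (.node 9 (.node 4 (.node 2 (.node 1 (.leaf
  371) (.leaf
  325)) (.node 1 (.leaf
  237) (.leaf
  218))) (.node 2 (.node 1 (.leaf
  255) (.leaf
  228)) (.node 1 (.leaf
  372) (.node 1 (.leaf
  343) (.leaf
  220))))) (.node 4 (.node 2 (.node 1 (.leaf
  250) (.leaf
  237)) (.node 1 (.leaf
  247) (.leaf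
  373))) (.node 2 (.node 1 (.leaf
  348) (.leaf
  238)) (.node 1 (.leaf
  221) (.node 1 (.leaf
  321) (.leaf
  225))))))) (.node 18 (.node 9 (.node 4 (.node 2 (.node 1 (.leaf
  374) (.leaf
  347)) (.node 1 (.leaf
  254) (.leaf
  236))) (.node 2 (.node 1 (.leaf
  221) (.leaf
  230)) (.node 1 (.leaf
  375) (.node 1 (.leaf
  340) (.leaf
  222))))) (.node 4 (.node 2 (.node 1 (.leaf
  238) (.leaf
  251)) (.node 1 (.leaf
  249) (.leaf
  376))) (.node 2 (.node 1 (.leaf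
  332) (.leaf
  320)) (.node 1 (.leaf
  224) (.node 1 (.leaf
  246) (.leaf
  245)))))) (.node 9 (.node 4 (.node 2 (.node 1 (.leaf
  377) (.leaf
  346)) (.node 1 (.leaf
  234) (.leaf
  230))) (.node 2 (.node 1 (.leaf
  225) (.leaf
  321)) (.node 1 (.leaf
  378) (.node 1 (.leaf
  345) (.leaf
  241))))) (.node 4 (.node 2 (.node 1 (.leaf
  226) (.leaf
  320)) (.node 1 (.leaf
  236) (.leaf
  379))) (.node 2 (.node 1 (.leaf
  342) (.leaf
  259)) (.node 1 (.leaf
  321) (.node 1 (.leaf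
  227) (.leaf
  226)))))))) (.node 36 (.node 18 (.node 9 (.node 4 (.node 2 (.node 1 (.leaf
  380) (.leaf
  341)) (.node 1 (.leaf
  250) (.leaf
  227))) (.node 2 (.node 1 (.leaf
  236) (.leaf
  320)) (.node 1 (.leaf
  381) (.node 1 (.leaf
  350) (.leaf
  229))))) (.node 4 (.node 2 (.node 1 (.leaf
  241) (.leaf
  239)) (.node 1 (.leaf
  233) (.leaf
  382))) (.node 2 (.node 1 (.leaf
  349) (.leaf
  231)) (.node 1 (.leaf
  234) (.node 1 (.leaf
  243) (.leaf
  240)))))) (.node 9 (.node 4 (.node 2 (.node 1 (.leaf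
  383) (.leaf
  324)) (.node 1 (.leaf
  235) (.leaf
  259))) (.node 2 (.node 1 (.leaf
  253) (.leaf
  257)) (.node 1 (.leaf
  320) (.node 1 (.leaf
  282) (.leaf
  376))))) (.node 4 (.node 2 (.node 1 (.leaf
  263) (.leaf
  378)) (.node 1 (.leaf
  380) (.leaf
  321))) (.node 2 (.node 1 (.leaf
  293) (.leaf
  264)) (.node 1 (.leaf
  379) (.node 1 (.leaf
  373) (.leaf
  377))))))) (.node 18 (.node 9 (.node 4 (.node 2 (.node 1 (.leaf
  322) (.leaf
  360)) (.node 1 (.leaf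
  297) (.leaf
  266))) (.node 2 (.node 1 (.leaf
  269) (.leaf
  318)) (.node 1 (.leaf
  323) (.node 1 (.leaf
  361) (.leaf
  314))))) (.node 4 (.node 2 (.node 1 (.leaf
  319) (.leaf
  280)) (.node 1 (.leaf
  266) (.leaf
  324))) (.node 2 (.node 1 (.leaf
  383) (.leaf
  267)) (.node 1 (.leaf
  311) (.node 1 (.leaf
  317) (.leaf
  315)))))) (.node 9 (.node 4 (.node 2 (.node 1 (.leaf
  325) (.leaf
  371)) (.node 1 (.leaf
  308) (.leaf
  268))) (.node 2 (.node 1 (.leaf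
  309) (.leaf
  273)) (.node 1 (.leaf
  326) (.node 1 (.leaf
  370) (.leaf
  310))))) (.node 4 (.node 2 (.node 1 (.leaf
  312) (.leaf
  268)) (.node 1 (.leaf
  289) (.leaf
  327))) (.node 2 (.node 1 (.leaf
  363) (.leaf
  304)) (.node 1 (.leaf
  280) (.node 1 (.leaf
  318) (.leaf
  269))))))))) (.node 72 (.node 36 (.node 18 (.node 9 (.node 4 (.node 2 (.node 1 (.leaf
  328) (.leaf
  354)) (.node 1 (.leaf
  290) (.leaf
  270))) (.node 2 (.node 1 (.leaf
  276) (.leaf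
  319)) (.node 1 (.leaf
  329) (.node 1 (.leaf
  355) (.leaf
  315))))) (.node 4 (.node 2 (.node 1 (.leaf
  318) (.leaf
  271)) (.node 1 (.leaf
  270) (.leaf
  330))) (.node 2 (.node 1 (.leaf
  366) (.leaf
  271)) (.node 1 (.leaf
  305) (.node 1 (.leaf
  301) (.leaf
  281)))))) (.node 9 (.node 4 (.node 2 (.node 1 (.leaf
  331) (.leaf
  359)) (.node 1 (.leaf
  306) (.leaf
  271))) (.node 2 (.node 1 (.leaf
  319) (.leaf
  276)) (.node 1 (.leaf
  332) (.node 1 (.leaf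
  376) (.leaf
  282))))) (.node 4 (.node 2 (.node 1 (.leaf
  272) (.leaf
  299)) (.node 1 (.leaf
  305) (.leaf
  333))) (.node 2 (.node 1 (.leaf
  368) (.leaf
  289)) (.node 1 (.leaf
  303) (.node 1 (.leaf
  272) (.leaf
  313))))))) (.node 18 (.node 9 (.node 4 (.node 2 (.node 1 (.leaf
  334) (.leaf
  362)) (.node 1 (.leaf
  280) (.leaf
  302))) (.node 2 (.node 1 (.leaf
  313) (.leaf
  272)) (.node 1 (.leaf
  335) (.node 1 (.leaf
  369) (.leaf
  296))))) (.node 4 (.node 2 (.node 1 (.leaf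
  289) (.leaf
  273)) (.node 1 (.leaf
  309) (.leaf
  336))) (.node 2 (.node 1 (.leaf
  365) (.leaf
  274)) (.node 1 (.leaf
  299) (.node 1 (.leaf
  281) (.leaf
  301)))))) (.node 9 (.node 4 (.node 2 (.node 1 (.leaf
  337) (.leaf
  367)) (.node 1 (.leaf
  300) (.leaf
  274))) (.node 2 (.node 1 (.leaf
  285) (.leaf
  312)) (.node 1 (.leaf
  338) (.node 1 (.leaf
  358) (.leaf
  317))))) (.node 4 (.node 2 (.node 1 (.leaf
  309) (.leaf
  275)) (.node 1 (.leaf
  274) (.leaf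
  339))) (.node 2 (.node 1 (.leaf
  357) (.leaf
  294)) (.node 1 (.leaf
  275) (.node 1 (.leaf
  312) (.leaf
  285)))))))) (.node 36 (.node 18 (.node 9 (.node 4 (.node 2 (.node 1 (.leaf
  340) (.leaf
  375)) (.node 1 (.leaf
  277) (.leaf
  307))) (.node 2 (.node 1 (.leaf
  294) (.leaf
  304)) (.node 1 (.leaf
  341) (.node 1 (.leaf
  380) (.leaf
  295))))) (.node 4 (.node 2 (.node 1 (.leaf
  278) (.leaf
  353)) (.node 1 (.leaf
  282) (.leaf
  342))) (.node 2 (.node 1 (.leaf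
  379) (.leaf
  311)) (.node 1 (.leaf
  293) (.node 1 (.leaf
  278) (.leaf
  287)))))) (.node 9 (.node 4 (.node 2 (.node 1 (.leaf
  343) (.leaf
  372)) (.node 1 (.leaf
  279) (.leaf
  295))) (.node 2 (.node 1 (.leaf
  308) (.leaf
  306)) (.node 1 (.leaf
  344) (.node 1 (.leaf
  364) (.leaf
  352))))) (.node 4 (.node 2 (.node 1 (.leaf
  281) (.leaf
  303)) (.node 1 (.leaf
  302) (.leaf
  345))) (.node 2 (.node 1 (.leaf
  378) (.leaf
  291)) (.node 1 (.leaf
  287) (.node 1 (.leaf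
  282) (.leaf
  353))))))) (.node 18 (.node 9 (.node 4 (.node 2 (.node 1 (.leaf
  346) (.leaf
  377)) (.node 1 (.leaf
  298) (.leaf
  283))) (.node 2 (.node 1 (.leaf
  352) (.leaf
  293)) (.node 1 (.leaf
  347) (.node 1 (.leaf
  374) (.leaf
  316))))) (.node 4 (.node 2 (.node 1 (.leaf
  353) (.leaf
  284)) (.node 1 (.leaf
  283) (.leaf
  348))) (.node 2 (.node 1 (.leaf
  373) (.leaf
  307)) (.node 1 (.leaf
  284) (.node 1 (.leaf
  293) (.leaf
  352)))))) (.node 9 (.node 4 (.node 2 (.node 1 (.leaf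
  349) (.leaf
  382)) (.node 1 (.leaf
  286) (.leaf
  298))) (.node 2 (.node 1 (.leaf
  296) (.leaf
  290)) (.node 1 (.leaf
  350) (.node 1 (.leaf
  381) (.leaf
  288))))) (.node 4 (.node 2 (.node 1 (.leaf
  291) (.leaf
  300)) (.node 1 (.leaf
  297) (.leaf
  351))) (.node 2 (.node 1 (.leaf
  356) (.leaf
  292)) (.node 1 (.leaf
  316) (.node 1 (.leaf
  310) (.leaf
  314)))))))))))))

/-- How each member arises. -/
def hPar : Tree :=
  (.node 192 (.node 96 (.node 48 (.node 24 (.node 12 (.node 6 (.node 3 (.node 1 (.leaf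
  0) (.node 1 (.leaf
  0) (.leaf
  1))) (.node 1 (.leaf
  2) (.node 1 (.leaf
  3) (.leaf
  4)))) (.node 3 (.node 1 (.leaf
  5) (.node 1 (.leaf
  9) (.leaf
  10))) (.node 1 (.leaf
  11) (.node 1 (.leaf
  12) (.leaf
  13))))) (.node 6 (.node 3 (.node 1 (.leaf
  18) (.node 1 (.leaf
  19) (.leaf
  20))) (.node 1 (.leaf
  21) (.node 1 (.leaf
  27) (.leaf
  28)))) (.node 3 (.node 1 (.leaf
  29) (.node 1 (.leaf
  34) (.leaf
  36))) (.node 1 (.leaf
  37) (.node 1 (.leaf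
  42) (.leaf
  43)))))) (.node 12 (.node 6 (.node 3 (.node 1 (.leaf
  45) (.node 1 (.leaf
  50) (.leaf
  51))) (.node 1 (.leaf
  58) (.node 1 (.leaf
  59) (.leaf
  60)))) (.node 3 (.node 1 (.leaf
  61) (.node 1 (.leaf
  67) (.leaf
  68))) (.node 1 (.leaf
  69) (.node 1 (.leaf
  74) (.leaf
  76))))) (.node 6 (.node 3 (.node 1 (.leaf
  77) (.node 1 (.leaf
  82) (.leaf
  83))) (.node 1 (.leaf
  85) (.node 1 (.leaf
  90) (.leaf
  91)))) (.node 3 (.node 1 (.leaf
  99) (.node 1 (.leaf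
  100) (.leaf
  101))) (.node 1 (.leaf
  106) (.node 1 (.leaf
  114) (.leaf
  117))))))) (.node 24 (.node 12 (.node 6 (.node 3 (.node 1 (.leaf
  122) (.node 1 (.leaf
  130) (.leaf
  132))) (.node 1 (.leaf
  133) (.node 1 (.leaf
  138) (.leaf
  139)))) (.node 3 (.node 1 (.leaf
  141) (.node 1 (.leaf
  146) (.leaf
  147))) (.node 1 (.leaf
  156) (.node 1 (.leaf
  157) (.leaf
  162))))) (.node 6 (.node 3 (.node 1 (.leaf
  165) (.node 1 (.leaf
  170) (.leaf
  179))) (.node 1 (.leaf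
  180) (.node 1 (.leaf
  181) (.leaf
  186)))) (.node 3 (.node 1 (.leaf
  189) (.node 1 (.leaf
  194) (.leaf
  203))) (.node 1 (.leaf
  204) (.node 1 (.leaf
  205) (.leaf
  210)))))) (.node 12 (.node 6 (.node 3 (.node 1 (.leaf
  219) (.node 1 (.leaf
  220) (.leaf
  221))) (.node 1 (.leaf
  226) (.node 1 (.leaf
  234) (.leaf
  237)))) (.node 3 (.node 1 (.leaf
  242) (.node 1 (.leaf
  250) (.leaf
  252))) (.node 1 (.leaf
  253) (.node 1 (.leaf
  258) (.leaf
  259))))) (.node 6 (.node 3 (.node 1 (.leaf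
  261) (.node 1 (.leaf
  266) (.leaf
  267))) (.node 1 (.leaf
  276) (.node 1 (.leaf
  277) (.leaf
  282)))) (.node 3 (.node 1 (.leaf
  285) (.node 1 (.leaf
  290) (.leaf
  299))) (.node 1 (.leaf
  300) (.node 1 (.leaf
  301) (.leaf
  306)))))))) (.node 48 (.node 24 (.node 12 (.node 6 (.node 3 (.node 1 (.leaf
  309) (.node 1 (.leaf
  314) (.leaf
  323))) (.node 1 (.leaf
  324) (.node 1 (.leaf
  325) (.leaf
  330)))) (.node 3 (.node 1 (.leaf
  338) (.node 1 (.leaf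
  349) (.leaf
  364))) (.node 1 (.leaf
  365) (.node 1 (.leaf
  371) (.leaf
  373))))) (.node 6 (.node 3 (.node 1 (.leaf
  378) (.node 1 (.leaf
  387) (.leaf
  388))) (.node 1 (.leaf
  396) (.node 1 (.leaf
  397) (.leaf
  402)))) (.node 3 (.node 1 (.leaf
  405) (.node 1 (.leaf
  410) (.leaf
  419))) (.node 1 (.leaf
  421) (.node 1 (.leaf
  426) (.leaf
  429)))))) (.node 12 (.node 6 (.node 3 (.node 1 (.leaf
  434) (.node 1 (.leaf
  443) (.leaf
  444))) (.node 1 (.leaf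
  450) (.node 1 (.leaf
  458) (.leaf
  459)))) (.node 3 (.node 1 (.leaf
  461) (.node 1 (.leaf
  466) (.leaf
  467))) (.node 1 (.leaf
  475) (.node 1 (.leaf
  476) (.leaf
  477))))) (.node 6 (.node 3 (.node 1 (.leaf
  482) (.node 1 (.leaf
  491) (.leaf
  492))) (.node 1 (.leaf
  493) (.node 1 (.leaf
  498) (.leaf
  501)))) (.node 3 (.node 1 (.leaf
  507) (.node 1 (.leaf
  509) (.leaf
  514))) (.node 1 (.leaf
  515) (.node 1 (.leaf
  525) (.leaf
  530))))))) (.node 24 (.node 12 (.node 6 (.node 3 (.node 1 (.leaf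
  539) (.node 1 (.leaf
  540) (.leaf
  541))) (.node 1 (.leaf
  546) (.node 1 (.leaf
  548) (.leaf
  554)))) (.node 3 (.node 1 (.leaf
  555) (.node 1 (.leaf
  557) (.leaf
  563))) (.node 1 (.leaf
  572) (.node 1 (.leaf
  578) (.leaf
  589))))) (.node 6 (.node 3 (.node 1 (.leaf
  604) (.node 1 (.leaf
  605) (.leaf
  611))) (.node 1 (.leaf
  613) (.node 1 (.leaf
  618) (.leaf
  627)))) (.node 3 (.node 1 (.leaf
  628) (.node 1 (.leaf
  636) (.leaf
  637))) (.node 1 (.leaf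
  642) (.node 1 (.leaf
  645) (.leaf
  650)))))) (.node 12 (.node 6 (.node 3 (.node 1 (.leaf
  659) (.node 1 (.leaf
  661) (.leaf
  666))) (.node 1 (.leaf
  669) (.node 1 (.leaf
  674) (.leaf
  683)))) (.node 3 (.node 1 (.leaf
  684) (.node 1 (.leaf
  690) (.leaf
  698))) (.node 1 (.leaf
  699) (.node 1 (.leaf
  701) (.leaf
  706))))) (.node 6 (.node 3 (.node 1 (.leaf
  707) (.node 1 (.leaf
  715) (.leaf
  716))) (.node 1 (.leaf
  717) (.node 1 (.leaf
  722) (.leaf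
  731)))) (.node 3 (.node 1 (.leaf
  732) (.node 1 (.leaf
  733) (.leaf
  738))) (.node 1 (.leaf
  741) (.node 1 (.leaf
  747) (.leaf
  749))))))))) (.node 96 (.node 48 (.node 24 (.node 12 (.node 6 (.node 3 (.node 1 (.leaf
  754) (.node 1 (.leaf
  755) (.leaf
  765))) (.node 1 (.leaf
  770) (.node 1 (.leaf
  779) (.leaf
  780)))) (.node 3 (.node 1 (.leaf
  781) (.node 1 (.leaf
  786) (.leaf
  788))) (.node 1 (.leaf
  794) (.node 1 (.leaf
  795) (.leaf
  797))))) (.node 6 (.node 3 (.node 1 (.leaf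
  803) (.node 1 (.leaf
  812) (.leaf
  826))) (.node 1 (.leaf
  837) (.node 1 (.leaf
  867) (.leaf
  890)))) (.node 3 (.node 1 (.leaf
  893) (.node 1 (.leaf
  898) (.leaf
  907))) (.node 1 (.leaf
  908) (.node 1 (.leaf
  909) (.leaf
  914)))))) (.node 12 (.node 6 (.node 3 (.node 1 (.leaf
  923) (.node 1 (.leaf
  924) (.leaf
  925))) (.node 1 (.leaf
  930) (.node 1 (.leaf
  933) (.leaf
  938)))) (.node 3 (.node 1 (.leaf
  939) (.node 1 (.leaf
  949) (.leaf
  954))) (.node 1 (.leaf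
  963) (.node 1 (.leaf
  964) (.leaf
  965))))) (.node 6 (.node 3 (.node 1 (.leaf
  970) (.node 1 (.leaf
  972) (.leaf
  978))) (.node 1 (.leaf
  979) (.node 1 (.leaf
  988) (.leaf
  995)))) (.node 3 (.node 1 (.leaf
  997) (.node 1 (.leaf
  1005) (.leaf
  1010))) (.node 1 (.leaf
  1019) (.node 1 (.leaf
  1020) (.leaf
  1037))))))) (.node 24 (.node 12 (.node 6 (.node 3 (.node 1 (.leaf
  1043) (.node 1 (.leaf
  1045) (.leaf
  1050))) (.node 1 (.leaf
  1051) (.node 1 (.leaf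
  1059) (.leaf
  1060)))) (.node 3 (.node 1 (.leaf
  1061) (.node 1 (.leaf
  1068) (.leaf
  1074))) (.node 1 (.leaf
  1075) (.node 1 (.leaf
  1077) (.leaf
  1083))))) (.node 6 (.node 3 (.node 1 (.leaf
  1098) (.node 1 (.leaf
  1123) (.leaf
  1124))) (.node 1 (.leaf
  1130) (.node 1 (.leaf
  1147) (.leaf
  1156)))) (.node 3 (.node 1 (.leaf
  1163) (.node 1 (.leaf
  1165) (.leaf
  1171))) (.node 1 (.leaf
  1186) (.node 1 (.leaf
  1202) (.leaf
  1242)))))) (.node 12 (.node 6 (.node 3 (.node 1 (.leaf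
  1253) (.node 1 (.leaf
  1283) (.leaf
  1306))) (.node 1 (.leaf
  1309) (.node 1 (.leaf
  1314) (.leaf
  1323)))) (.node 3 (.node 1 (.leaf
  1324) (.node 1 (.leaf
  1325) (.leaf
  1330))) (.node 1 (.leaf
  1339) (.node 1 (.leaf
  1340) (.leaf
  1341))))) (.node 6 (.node 3 (.node 1 (.leaf
  1346) (.node 1 (.leaf
  1349) (.leaf
  1354))) (.node 1 (.leaf
  1355) (.node 1 (.leaf
  1365) (.leaf
  1370)))) (.node 3 (.node 1 (.leaf
  1379) (.node 1 (.leaf
  1380) (.leaf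
  1381))) (.node 1 (.leaf
  1386) (.node 1 (.leaf
  1388) (.leaf
  1394)))))))) (.node 48 (.node 24 (.node 12 (.node 6 (.node 3 (.node 1 (.leaf
  1395) (.node 1 (.leaf
  1404) (.leaf
  1411))) (.node 1 (.leaf
  1413) (.node 1 (.leaf
  1421) (.leaf
  1426)))) (.node 3 (.node 1 (.leaf
  1435) (.node 1 (.leaf
  1436) (.leaf
  1453))) (.node 1 (.leaf
  1459) (.node 1 (.leaf
  1461) (.leaf
  1466))))) (.node 6 (.node 3 (.node 1 (.leaf
  1467) (.node 1 (.leaf
  1475) (.leaf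
  1476))) (.node 1 (.leaf
  1477) (.node 1 (.leaf
  1484) (.leaf
  1490)))) (.node 3 (.node 1 (.leaf
  1491) (.node 1 (.leaf
  1493) (.leaf
  1499))) (.node 1 (.leaf
  1514) (.node 1 (.leaf
  1539) (.leaf
  1540)))))) (.node 12 (.node 6 (.node 3 (.node 1 (.leaf
  1546) (.node 1 (.leaf
  1563) (.leaf
  1572))) (.node 1 (.leaf
  1579) (.node 1 (.leaf
  1581) (.leaf
  1587)))) (.node 3 (.node 1 (.leaf
  1602) (.node 1 (.leaf
  1618) (.leaf
  1651))) (.node 1 (.leaf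
  1658) (.node 1 (.leaf
  1675) (.leaf
  1677))))) (.node 6 (.node 3 (.node 1 (.leaf
  1682) (.node 1 (.leaf
  1691) (.leaf
  1692))) (.node 1 (.leaf
  1701) (.node 1 (.leaf
  1707) (.leaf
  1709)))) (.node 3 (.node 1 (.leaf
  1714) (.node 1 (.leaf
  1715) (.leaf
  1723))) (.node 1 (.leaf
  1724) (.node 1 (.leaf
  1725) (.leaf
  1732))))))) (.node 24 (.node 12 (.node 6 (.node 3 (.node 1 (.leaf
  1738) (.node 1 (.leaf
  1739) (.leaf
  1741))) (.node 1 (.leaf
  1747) (.node 1 (.leaf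
  1762) (.leaf
  1771)))) (.node 3 (.node 1 (.leaf
  1772) (.node 1 (.leaf
  1778) (.leaf
  1795))) (.node 1 (.leaf
  1804) (.node 1 (.leaf
  1811) (.leaf
  1813))))) (.node 6 (.node 3 (.node 1 (.leaf
  1819) (.node 1 (.leaf
  1834) (.leaf
  1850))) (.node 1 (.leaf
  1882) (.node 1 (.leaf
  2107) (.leaf
  2114)))) (.node 3 (.node 1 (.leaf
  2131) (.node 1 (.leaf
  2133) (.leaf
  2138))) (.node 1 (.leaf
  2147) (.node 1 (.leaf
  2148) (.leaf
  2157)))))) (.node 12 (.node 6 (.node 3 (.node 1 (.leaf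
  2163) (.node 1 (.leaf
  2165) (.leaf
  2170))) (.node 1 (.leaf
  2171) (.node 1 (.leaf
  2179) (.leaf
  2180)))) (.node 3 (.node 1 (.leaf
  2181) (.node 1 (.leaf
  2188) (.leaf
  2194))) (.node 1 (.leaf
  2195) (.node 1 (.leaf
  2197) (.leaf
  2203))))) (.node 6 (.node 3 (.node 1 (.leaf
  2218) (.node 1 (.leaf
  2227) (.leaf
  2228))) (.node 1 (.leaf
  2234) (.node 1 (.leaf
  2251) (.leaf
  2260)))) (.node 3 (.node 1 (.leaf
  2267) (.node 1 (.leaf
  2269) (.leaf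
  2275))) (.node 1 (.leaf
  2290) (.node 1 (.leaf
  2306) (.leaf
  2338))))))))))

/-- The images in the centraliser in the Mathieu group. -/
def hImg : Tree :=
  (.node 192 (.node 96 (.node 48 (.node 24 (.node 12 (.node 6 (.node 3 (.node 1 (.leaf
  0xbdab49ca307b9ac5a928398a418820) (.node 1 (.leaf
  0xbdab49ca307b9ac5a928398a418820) (.leaf
  0xabee59ca30b39a159d0951a8201183))) (.node 1 (.leaf
  0x2be955ca26b39a49a9093c2ec18440) (.node 1 (.leaf
  0x3bd549ca30b2cc87542cbb4a219120) (.leaf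
  0xb96af9c232a2da171d2851ac010d84)))) (.node 3 (.node 1 (.leaf
  0xbd2b68ca702b8c159d28535e320182) (.node 1 (.leaf
  0xabee59ca30b39a159d0951a8201183) (.leaf
  0x2be955ca26b39a49a9093c2ec18440))) (.node 1 (.leaf
  0x3bd549ca30b2cc87542cbb4a219120) (.node 1 (.leaf
  0xb96af9c232a2da171d2851ac010d84) (.leaf
  0xbd2b68ca702b8c159d28535e320182))))) (.node 6 (.node 3 (.node 1 (.leaf
  0xa58b75ca267b9a299d28542a103083) (.node 1 (.leaf
  0x558e59ca307acc975d81ab68400903) (.leaf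
  0xad2f69c2322adac72909399e320022))) (.node 1 (.leaf
  0xa96ef8ca70a38cc5a9093b6c010c24) (.node 1 (.leaf
  0x3d9555ca267ce09750442b6e11b100) (.leaf
  0x2de9659a32acda271d09541e008c8c)))) (.node 3 (.node 1 (.leaf
  0x2d68f8c966bba0299d09536c360081) (.node 1 (.leaf
  0x2da8a74a2d7acc29d581bc0e81a480) (.leaf
  0x395569c232a38c95dc2cab5e020d02))) (.node 1 (.leaf
  0x3d14f8ca702ada975c2ca9ac310104) (.node 1 (.leaf
  0xb51f5742262ada099d0954ae113064) (.leaf
  0x550ef9c2322b8c85d581bb6c310124)))))) (.node 12 (.node 6 (.node 3 (.node 1 (.leaf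
  0xbbea58c272b2ccc729283b68201023) (.node 1 (.leaf
  0x796d55ca6da38c389d09542e123002) (.leaf
  0x514f68ca70a2da875581b99e020d22))) (.node 1 (.leaf
  0xa58b75ca267b9a299d28542a103083) (.node 1 (.leaf
  0x558e59ca307acc975d81ab68400903) (.leaf
  0xad2f69c2322adac72909399e320022)))) (.node 3 (.node 1 (.leaf
  0xa96ef8ca70a38cc5a9093b6c010c24) (.node 1 (.leaf
  0x3d9555ca267ce09750442b6e11b100) (.leaf
  0x2de9659a32acda271d09541e008c8c))) (.node 1 (.leaf
  0x2d68f8c966bba0299d09536c360081) (.node 1 (.leaf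
  0x2da8a74a2d7acc29d581bc0e81a480) (.leaf
  0x395569c232a38c95dc2cab5e020d02))))) (.node 6 (.node 3 (.node 1 (.leaf
  0x3d14f8ca702ada975c2ca9ac310104) (.node 1 (.leaf
  0xb51f5742262ada099d0954ae113064) (.leaf
  0x550ef9c2322b8c85d581bb6c310124))) (.node 1 (.leaf
  0xbbea58c272b2ccc729283b68201023) (.node 1 (.leaf
  0x796d55ca6da38c389d09542e123002) (.leaf
  0x514f68ca70a2da875581b99e020d22)))) (.node 3 (.node 1 (.leaf
  0x53cf75ca26b4e0871482a36ac00523) (.node 1 (.leaf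
  0xa54af59a32bcda4729283c2c360041) (.leaf
  0xa5cb68c966aba049a9283b5e008c4c))) (.node 1 (.leaf
  0xa3ca774a2db2cc49dc2cac14902043) (.node 1 (.leaf
  0x796d774226a2da39a9283caac20402) (.leaf
  0xadaf48c2727acc171d09534a418980))))))) (.node 24 (.node 12 (.node 6 (.node 3 (.node 1 (.leaf
  0xb51f75ca6d2b8c08a9283c2ac10464) (.node 1 (.leaf
  0xbbeaa74a2db4e015d082298e91a180) (.leaf
  0x3dd4f59a32aba0899444a36c060d21))) (.node 1 (.leaf
  0x3d5568c966bcda871444a41e30812c) (.node 1 (.leaf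
  0x7d6d471a30bcda059d28548a20906c) (.leaf
  0x554f659a32bba099d0822b5e30810c)))) (.node 3 (.node 1 (.leaf
  0x2da97899727ce04729093b6a103043) (.node 1 (.leaf
  0xb5df49c96daba0389d28518a261001) (.leaf
  0x55cef8c966acda9750822c2c060d01))) (.node 1 (.leaf
  0x29e8f7363254cc45dd81ac2c048c48) (.node 1 (.leaf
  0x2aa968c9cd3ae049dd81a99e340049) (.leaf
  0x7d2ca5c22d2b8c09dd81ac8e922062))))) (.node 6 (.node 3 (.node 1 (.leaf
  0x3d9458c2727b9a85d42cb9a8400923) (.node 1 (.leaf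
  0xb15ea74a66a2da38dd81ac0e912004) (.leaf
  0x514f574226a4e495bc60b36ec10504))) (.node 1 (.leaf
  0xb5de571a30acda35a9093ca8460801) (.node 1 (.leaf
  0xb55f48c1c6bae439a9093b4a20900c) (.leaf
  0xb15e75c22da38c39d42cbc94812404)))) (.node 3 (.node 1 (.leaf
  0x53cf48c272b39a95dd81a98a219100) (.node 1 (.leaf
  0xa58b57426d7acc28a9093caec00483) (.leaf
  0x550f55ca6d2c6097580379aec20502))) (.node 1 (.leaf
  0x7ded45b672ac4c0729093c0a261061) (.node 1 (.leaf
  0x7d6c59c96dbba008a90939a840886c) (.leaf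
  0x7d2c774a662ada08d42cbc14822462)))))) (.node 12 (.node 6 (.node 3 (.node 1 (.leaf
  0x53cf75ca26b4e0871482a36ac00523) (.node 1 (.leaf
  0xa54af59a32bcda4729283c2c360041) (.leaf
  0xa5cb68c966aba049a9283b5e008c4c))) (.node 1 (.leaf
  0xa3ca774a2db2cc49dc2cac14902043) (.node 1 (.leaf
  0x796d774226a2da39a9283caac20402) (.leaf
  0xadaf48c2727acc171d09534a418980)))) (.node 3 (.node 1 (.leaf
  0xb51f75ca6d2b8c08a9283c2ac10464) (.node 1 (.leaf
  0xbbeaa74a2db4e015d082298e91a180) (.leaf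
  0x3dd4f59a32aba0899444a36c060d21))) (.node 1 (.leaf
  0x3d5568c966bcda871444a41e30812c) (.node 1 (.leaf
  0x7d6d471a30bcda059d28548a20906c) (.leaf
  0x554f659a32bba099d0822b5e30810c))))) (.node 6 (.node 3 (.node 1 (.leaf
  0x2da97899727ce04729093b6a103043) (.node 1 (.leaf
  0xb5df49c96daba0389d28518a261001) (.leaf
  0x55cef8c966acda9750822c2c060d01))) (.node 1 (.leaf
  0x29e8f7363254cc45dd81ac2c048c48) (.node 1 (.leaf
  0x2aa968c9cd3ae049dd81a99e340049) (.leaf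
  0x7d2ca5c22d2b8c09dd81ac8e922062)))) (.node 3 (.node 1 (.leaf
  0x3d9458c2727b9a85d42cb9a8400923) (.node 1 (.leaf
  0xb15ea74a66a2da38dd81ac0e912004) (.leaf
  0x514f574226a4e495bc60b36ec10504))) (.node 1 (.leaf
  0xb5de571a30acda35a9093ca8460801) (.node 1 (.leaf
  0xb55f48c1c6bae439a9093b4a20900c) (.leaf
  0xb15e75c22da38c39d42cbc94812404)))))))) (.node 48 (.node 24 (.node 12 (.node 6 (.node 3 (.node 1 (.leaf
  0x53cf48c272b39a95dd81a98a219100) (.node 1 (.leaf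
  0xa58b57426d7acc28a9093caec00483) (.leaf
  0x550f55ca6d2c6097580379aec20502))) (.node 1 (.leaf
  0x7ded45b672ac4c0729093c0a261061) (.node 1 (.leaf
  0x7d6c59c96dbba008a90939a840886c) (.leaf
  0x7d2c774a662ada08d42cbc14822462)))) (.node 3 (.node 1 (.leaf
  0xadae774a2d7ce0c59444a194802423) (.node 1 (.leaf
  0xa3cb589972b4e0271d28536ec18480) (.leaf
  0xa28b6736323ccc25d42cbc1e340089))) (.node 1 (.leaf
  0xa1caf8c9cd52e029d42cb9ac048c88) (.node 1 (.leaf
  0x3d157742262ce485d8037b6a123122) (.leaf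
  0x7dec58c1c6aae4099d285368460861))))) (.node 6 (.node 3 (.node 1 (.leaf
  0x2be977426db2cc489d2854aa11b040) (.node 1 (.leaf
  0x395575ca6da460873c60b1aa113124) (.leaf
  0xb55e55b672bc4c371d28542840880c))) (.node 1 (.leaf
  0xb9eb67363252e0c99482a19e040c29) (.node 1 (.leaf
  0xbaaaf8c9cd3cccc59482a42c348028) (.leaf
  0xb55ea99a2dbba0059482a48e862461)))) (.node 3 (.node 1 (.leaf
  0x3bd5789972b39a99d0442c2ac00503) (.node 1 (.leaf
  0x7deca74970acda389482a18e80a40c) (.leaf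
  0x55cf471a30aae489d8607b4a40892c))) (.node 1 (.leaf
  0x7d2d5899d02ce435a9283b6e113004) (.node 1 (.leaf
  0x7dec799a2daba035d0442c9490a00c) (.leaf
  0x558f5899727b9a899482a42e11b120)))))) (.node 12 (.node 6 (.node 3 (.node 1 (.leaf
  0xabef47196db4e018a9283c8a400983) (.node 1 (.leaf
  0x554f49c96dbc4c873c03b40a460921) (.leaf
  0xb15f59b572a46007292839ae123062))) (.node 1 (.leaf
  0xb55e774970bcda08d0442994962061) (.node 1 (.leaf
  0xb29f45b6303ccc075c2cac8a448868) (.leaf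
  0xaaaef736323ae019d04429ac348188)))) (.node 3 (.node 1 (.leaf
  0x2be878b5d2b4e025d581b994902083) (.node 1 (.leaf
  0x79ed49c9c652e038dc2cab4a440809) (.leaf
  0xa9ef68c9cd54cc15d0442c1e040d89))) (.node 1 (.leaf
  0xa96ea5c22da4e4175860798e822582) (.node 1 (.leaf
  0x79ec55b63054cc375581bca8241009) (.leaf
  0x7aad48c16d3ba439d581b98a448808))))) (.node 6 (.node 3 (.node 1 (.leaf
  0xa3caa5c266b39a48d581bc8e802443) (.node 1 (.leaf
  0xad2ea74a662c6015bc03b34e812584) (.leaf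
  0xb1df471a72545a05d581bc0a440869))) (.node 1 (.leaf
  0xb29e59c9c63ae008d581bb68249068) (.node 1 (.leaf
  0xbd2a75c22d2ce4c73c03b194912024) (.leaf
  0x554e58c1c6bcda85d8607ca8261121)))) (.node 3 (.node 1 (.leaf
  0x3d54571a30bae499bc03b368261101) (.node 1 (.leaf
  0xb15f7899d0a4e4059d09536ac20462) (.leaf
  0x2de8f9c1cdaae428a92839ac30808c))) (.node 1 (.leaf
  0x3dd548c1c6acda95bc03b48a40890c) (.node 1 (.leaf
  0xb1de58c16d53a409dc2ca9a8241069) (.leaf
  0x2da875c2667b9a28dc2cac9491a080))))))) (.node 24 (.node 12 (.node 6 (.node 3 (.node 1 (.leaf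
  0x3bd557426db464959482a1ae103103) (.node 1 (.leaf
  0xa5caf73670ac4c459d0954ac30804c) (.leaf
  0xa54b69c1cdbae4489d09519e060c41))) (.node 1 (.leaf
  0xb96a774a66a460c5d8607b54922022) (.node 1 (.leaf
  0x55ce55b672aba088bc03b1a820912c) (.leaf
  0x2d69673670bc4c25a9283c9e060c81)))) (.node 3 (.node 1 (.leaf
  0x3d5545b672bba098d860798a460901) (.node 1 (.leaf
  0x7d2d79b5722c60371d0951aac10404) (.leaf
  0x3dd459c96dac4c9758607c2820910c))) (.node 1 (.leaf
  0x7aac571a723c5a35dc2cac28249008) (.node 1 (.leaf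
  0xadae774a2d7ce0c59444a194802423) (.leaf
  0xa3cb589972b4e0271d28536ec18480))))) (.node 6 (.node 3 (.node 1 (.leaf
  0xa28b6736323ccc25d42cbc1e340089) (.node 1 (.leaf
  0xa1caf8c9cd52e029d42cb9ac048c88) (.leaf
  0x3d157742262ce485d8037b6a123122))) (.node 1 (.leaf
  0x7dec58c1c6aae4099d285368460861) (.node 1 (.leaf
  0x2be977426db2cc489d2854aa11b040) (.leaf
  0x395575ca6da460873c60b1aa113124)))) (.node 3 (.node 1 (.leaf
  0xb55e55b672bc4c371d28542840880c) (.node 1 (.leaf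
  0xb9eb67363252e0c99482a19e040c29) (.leaf
  0xbaaaf8c9cd3cccc59482a42c348028))) (.node 1 (.leaf
  0xb55ea99a2dbba0059482a48e862461) (.node 1 (.leaf
  0x3bd5789972b39a99d0442c2ac00503) (.leaf
  0x7deca74970acda389482a18e80a40c)))))) (.node 12 (.node 6 (.node 3 (.node 1 (.leaf
  0x55cf471a30aae489d8607b4a40892c) (.node 1 (.leaf
  0x7d2d5899d02ce435a9283b6e113004) (.leaf
  0x7dec799a2daba035d0442c9490a00c))) (.node 1 (.leaf
  0x558f5899727b9a899482a42e11b120) (.node 1 (.leaf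
  0xabef47196db4e018a9283c8a400983) (.leaf
  0x554f49c96dbc4c873c03b40a460921)))) (.node 3 (.node 1 (.leaf
  0xb15f59b572a46007292839ae123062) (.node 1 (.leaf
  0xb55e774970bcda08d0442994962061) (.leaf
  0xb29f45b6303ccc075c2cac8a448868))) (.node 1 (.leaf
  0xaaaef736323ae019d04429ac348188) (.node 1 (.leaf
  0x2be878b5d2b4e025d581b994902083) (.leaf
  0x79ed49c9c652e038dc2cab4a440809))))) (.node 6 (.node 3 (.node 1 (.leaf
  0xa9ef68c9cd54cc15d0442c1e040d89) (.node 1 (.leaf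
  0xa96ea5c22da4e4175860798e822582) (.leaf
  0x79ec55b63054cc375581bca8241009))) (.node 1 (.leaf
  0x7aad48c16d3ba439d581b98a448808) (.node 1 (.leaf
  0xa3caa5c266b39a48d581bc8e802443) (.leaf
  0xad2ea74a662c6015bc03b34e812584)))) (.node 3 (.node 1 (.leaf
  0xb1df471a72545a05d581bc0a440869) (.node 1 (.leaf
  0xb29e59c9c63ae008d581bb68249068) (.leaf
  0xbd2a75c22d2ce4c73c03b194912024))) (.node 1 (.leaf
  0x554e58c1c6bcda85d8607ca8261121) (.node 1 (.leaf
  0x3d54571a30bae499bc03b368261101) (.leaf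
  0xb15f7899d0a4e4059d09536ac20462))))))))) (.node 96 (.node 48 (.node 24 (.node 12 (.node 6 (.node 3 (.node 1 (.leaf
  0x2de8f9c1cdaae428a92839ac30808c) (.node 1 (.leaf
  0x3dd548c1c6acda95bc03b48a40890c) (.leaf
  0xb1de58c16d53a409dc2ca9a8241069))) (.node 1 (.leaf
  0x2da875c2667b9a28dc2cac9491a080) (.node 1 (.leaf
  0x3bd557426db464959482a1ae103103) (.leaf
  0xa5caf73670ac4c459d0954ac30804c)))) (.node 3 (.node 1 (.leaf
  0xa54b69c1cdbae4489d09519e060c41) (.node 1 (.leaf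
  0xb96a774a66a460c5d8607b54922022) (.leaf
  0x55ce55b672aba088bc03b1a820912c))) (.node 1 (.leaf
  0x2d69673670bc4c25a9283c9e060c81) (.node 1 (.leaf
  0x3d5545b672bba098d860798a460901) (.leaf
  0x7d2d79b5722c60371d0951aac10404))))) (.node 6 (.node 3 (.node 1 (.leaf
  0x3dd459c96dac4c9758607c2820910c) (.node 1 (.leaf
  0x7aac571a723c5a35dc2cac28249008) (.leaf
  0xbdaa57196d7ce0c89d0954a8219020))) (.node 1 (.leaf
  0xa58aa8b5d27ce045dc2ca98e81a440) (.node 1 (.leaf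
  0x558f77426d7c6485d04429aac18520) (.leaf
  0x7aad59b6263ae0071444a4aec40469)))) (.node 3 (.node 1 (.leaf
  0xbdaa78b5d27acc19d0822c14802583) (.node 1 (.leaf
  0xb1df55c9d054cc389444a36ec48408) (.leaf
  0xa5caa99a2daae4273c60b40e962081))) (.node 1 (.leaf
  0xb1df79b62652e03750822caa14b008) (.node 1 (.leaf
  0xb29f589a6d3ba435d0822c2ec40409) (.leaf
  0xadaea999707b9ac8d0822c8e902023)))))) (.node 12 (.node 6 (.node 3 (.node 1 (.leaf
  0xa54aa74970bc4c29d8037b4e90a08c) (.node 1 (.leaf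
  0x79ed574172545a09d08229aec48468) (.leaf
  0x7aad75c9d03ccc08d0822b6a143069))) (.node 1 (.leaf
  0x2d68799a2dbae44758037c1480a44c) (.node 1 (.leaf
  0x550f7899d02ada99bc60b4aa123102) (.leaf
  0xb96b6599cda4e418a9093c1e310184)))) (.node 3 (.node 1 (.leaf
  0x39555899d0a2da89d8037caec10524) (.node 1 (.leaf
  0x79ed789a6d53a4059444a42a14b068) (.leaf
  0xbbea799970b39a189444a49481a580))) (.node 1 (.leaf
  0x3d9547196d7c6489dd81ac0a201123) (.node 1 (.leaf
  0xa96f673566a460c99d28549e310024) (.leaf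
  0xad2ef599cd2ce4c89d28542c020c22))))) (.node 6 (.node 3 (.node 1 (.leaf
  0x2de8774970ac4c49bc60b354862441) (.node 1 (.leaf
  0x514f79b572a38c98d8037c2a113104) (.leaf
  0xbd2af735662c6019a9093cac020d82))) (.node 1 (.leaf
  0x3d1559b5722b8c88bc60b42ec20522) (.node 1 (.leaf
  0xb29f7741723c5a399444a1aa143009) (.leaf
  0xa9ef45b63053a4c9bc60b18a249028)))) (.node 3 (.node 1 (.leaf
  0xb51ea8b5702ce437542cb98e922002) (.node 1 (.leaf
  0xabeea8b5d2b2ccc99444a40e91a020) (.leaf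
  0x558f45b5c67ce098d42cbc8a201103))) (.node 1 (.leaf
  0xaaaf49c9c63c5ac5d8037c0a241029) (.node 1 (.leaf
  0x796ca999d2a46005d42cbb4e912064) (.leaf
  0xaaae58c16d3cccc73c60b4a8440829))))))) (.node 24 (.node 12 (.node 6 (.node 3 (.node 1 (.leaf
  0xbaaa55b6303ba419d80379a8440989) (.node 1 (.leaf
  0x796c78b570a4e4075d81a994812464) (.leaf
  0x29e969c16653a448d42cbb5e348048))) (.node 1 (.leaf
  0xb9eb48c16d54cc1758037c8a249188) (.node 1 (.leaf
  0xbdaaa5c2667c64171444a34e902183) (.leaf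
  0xa1cb659a70545a275d81ac9e348088)))) (.node 3 (.node 1 (.leaf
  0xa28af9c1663ba428dd81ab6c040c89) (.node 1 (.leaf
  0xa9ee571a7252e0c8d8037b68448828) (.leaf
  0x2aa8f59a703c5a47542cbcac040c49))) (.node 1 (.leaf
  0xbaab471a723ae018bc60b34a241189) (.node 1 (.leaf
  0xb51e7999d22c6035dd81ab54822402) (.leaf
  0xb9ea59c9c6545a15bc60b428448988))))) (.node 6 (.node 3 (.node 1 (.leaf
  0xa5ca75c1d2acda28d8037994862481) (.node 1 (.leaf
  0x3d54f9c1cdbc4c85d0822cac008d2c) (.leaf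
  0x2da959b5d07c64459d2851aec00443))) (.node 1 (.leaf
  0x2d68a5c1d2bcda48bc60b18e90a04c) (.node 1 (.leaf
  0xabee75c266b464c750822b5481a420) (.leaf
  0x3dd5673670aae488d082299e360121)))) (.node 3 (.node 1 (.leaf
  0x554ef73670bae4989444a1ac008d0c) (.node 1 (.leaf
  0xa3cb79b5d0b46425a90939aa11b080) (.leaf
  0x55cf69c1cdac4c959444a49e360101))) (.node 1 (.leaf
  0xa54a78b666bba025bc60b49480a48c) (.node 1 (.leaf
  0x2de8a8b666aba045d8037c8e962041) (.leaf
  0xbdaa57196d7ce0c89d0954a8219020)))))) (.node 12 (.node 6 (.node 3 (.node 1 (.leaf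
  0xa58aa8b5d27ce045dc2ca98e81a440) (.node 1 (.leaf
  0x558f77426d7c6485d04429aac18520) (.leaf
  0x7aad59b6263ae0071444a4aec40469))) (.node 1 (.leaf
  0xbdaa78b5d27acc19d0822c14802583) (.node 1 (.leaf
  0xb1df55c9d054cc389444a36ec48408) (.leaf
  0xa5caa99a2daae4273c60b40e962081)))) (.node 3 (.node 1 (.leaf
  0xb1df79b62652e03750822caa14b008) (.node 1 (.leaf
  0xb29f589a6d3ba435d0822c2ec40409) (.leaf
  0xadaea999707b9ac8d0822c8e902023))) (.node 1 (.leaf
  0xa54aa74970bc4c29d8037b4e90a08c) (.node 1 (.leaf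
  0x79ed574172545a09d08229aec48468) (.leaf
  0x7aad75c9d03ccc08d0822b6a143069))))) (.node 6 (.node 3 (.node 1 (.leaf
  0x2d68799a2dbae44758037c1480a44c) (.node 1 (.leaf
  0x550f7899d02ada99bc60b4aa123102) (.leaf
  0xb96b6599cda4e418a9093c1e310184))) (.node 1 (.leaf
  0x39555899d0a2da89d8037caec10524) (.node 1 (.leaf
  0x79ed789a6d53a4059444a42a14b068) (.leaf
  0xbbea799970b39a189444a49481a580)))) (.node 3 (.node 1 (.leaf
  0x3d9547196d7c6489dd81ac0a201123) (.node 1 (.leaf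
  0xa96f673566a460c99d28549e310024) (.leaf
  0xad2ef599cd2ce4c89d28542c020c22))) (.node 1 (.leaf
  0x2de8774970ac4c49bc60b354862441) (.node 1 (.leaf
  0x514f79b572a38c98d8037c2a113104) (.leaf
  0xbd2af735662c6019a9093cac020d82)))))))) (.node 48 (.node 24 (.node 12 (.node 6 (.node 3 (.node 1 (.leaf
  0x3d1559b5722b8c88bc60b42ec20522) (.node 1 (.leaf
  0xb29f7741723c5a399444a1aa143009) (.leaf
  0xa9ef45b63053a4c9bc60b18a249028))) (.node 1 (.leaf
  0xb51ea8b5702ce437542cb98e922002) (.node 1 (.leaf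
  0xabeea8b5d2b2ccc99444a40e91a020) (.leaf
  0x558f45b5c67ce098d42cbc8a201103)))) (.node 3 (.node 1 (.leaf
  0xaaaf49c9c63c5ac5d8037c0a241029) (.node 1 (.leaf
  0x796ca999d2a46005d42cbb4e912064) (.leaf
  0xaaae58c16d3cccc73c60b4a8440829))) (.node 1 (.leaf
  0xbaaa55b6303ba419d80379a8440989) (.node 1 (.leaf
  0x796c78b570a4e4075d81a994812464) (.leaf
  0x29e969c16653a448d42cbb5e348048))))) (.node 6 (.node 3 (.node 1 (.leaf
  0xb9eb48c16d54cc1758037c8a249188) (.node 1 (.leaf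
  0xbdaaa5c2667c64171444a34e902183) (.leaf
  0xa1cb659a70545a275d81ac9e348088))) (.node 1 (.leaf
  0xa28af9c1663ba428dd81ab6c040c89) (.node 1 (.leaf
  0xa9ee571a7252e0c8d8037b68448828) (.leaf
  0x2aa8f59a703c5a47542cbcac040c49)))) (.node 3 (.node 1 (.leaf
  0xbaab471a723ae018bc60b34a241189) (.node 1 (.leaf
  0xb51e7999d22c6035dd81ab54822402) (.leaf
  0xb9ea59c9c6545a15bc60b428448988))) (.node 1 (.leaf
  0xa5ca75c1d2acda28d8037994862481) (.node 1 (.leaf
  0x3d54f9c1cdbc4c85d0822cac008d2c) (.leaf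
  0x2da959b5d07c64459d2851aec00443)))))) (.node 12 (.node 6 (.node 3 (.node 1 (.leaf
  0x2d68a5c1d2bcda48bc60b18e90a04c) (.node 1 (.leaf
  0xabee75c266b464c750822b5481a420) (.leaf
  0x3dd5673670aae488d082299e360121))) (.node 1 (.leaf
  0x554ef73670bae4989444a1ac008d0c) (.node 1 (.leaf
  0xa3cb79b5d0b46425a90939aa11b080) (.leaf
  0x55cf69c1cdac4c959444a49e360101)))) (.node 3 (.node 1 (.leaf
  0xa54a78b666bba025bc60b49480a48c) (.node 1 (.leaf
  0x2de8a8b666aba045d8037c8e962041) (.leaf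
  0x53ce57196db46499d42cbc28418900))) (.node 1 (.leaf
  0x3bd455b5c6b4e088dd81aca8418920) (.node 1 (.leaf
  0xa1cb59b62653a445d8607c2e143049) (.leaf
  0x7d6ca8b666bae43750442c0e862401))))) (.node 6 (.node 3 (.node 1 (.leaf
  0x53cf59b5d0b2cc88d0442cae103123) (.node 1 (.leaf
  0xa28b55c9d03c5a49bc03b1ae14b048) (.leaf
  0xb5dea5c1d2ac4c09d0442b4e80a46c))) (.node 1 (.leaf
  0xa28b789a6d3ae04758607caac48448) (.node 1 (.leaf
  0x2aa979b6263ba425bc03b42ac48488) (.leaf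
  0xb5de78b666aae4071482a41490a06c)))) (.node 3 (.node 1 (.leaf
  0xb9eaf59a7053a4c8d0442b6c340029) (.node 1 (.leaf
  0x29e9589a6d52e0273c03b4ae143089) (.leaf
  0x2be8a99970b464275c2cab4e802483))) (.node 1 (.leaf
  0xa9eef9c166545a171482a4ac340189) (.node 1 (.leaf
  0xaaaf659a703ba4189482a35e048d88) (.leaf
  0xa1cb77417254cc48bc03b36ac40449))))))) (.node 24 (.node 12 (.node 6 (.node 3 (.node 1 (.leaf
  0xbaab69c1663c5ac750442c9e048c28) (.node 1 (.leaf
  0x2aa95741723ccc28d8607b6e14b088) (.leaf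
  0x7d6c75c1d2bc4c399482a354962001))) (.node 1 (.leaf
  0x29e975c9d0545a29d86079aac40489) (.node 1 (.leaf
  0xa96e7999d2a2da18bc03b414922182) (.leaf
  0x3d156599cd2c6099d581bc9e010d04)))) (.node 3 (.node 1 (.leaf
  0xbbeb45b5c6b464c99d09540a400823) (.node 1 (.leaf
  0xbd2aa999d22adac8d8607c0e812424) (.leaf
  0xa58a7999707c64475581bb5491a040))) (.node 1 (.leaf
  0x3954f73566a4e498d581bc2c320102) (.node 1 (.leaf
  0x550f6735662ce488dc2cac1e010d24) (.leaf
  0xadae55b5c67c6419a9283c28219180))))) (.node 6 (.node 3 (.node 1 (.leaf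
  0x514ef599cda46089dc2cacac320122) (.node 1 (.leaf
  0xad2e78b5702b8c19d8607c94912184) (.leaf
  0xb96aa8b570a38cc9bc03b48e822422))) (.node 1 (.leaf
  0x3d9579b5d07acc989482a4aac18500) (.node 1 (.leaf
  0x53ce57196db46499d42cbc28418900) (.leaf
  0x3bd455b5c6b4e088dd81aca8418920)))) (.node 3 (.node 1 (.leaf
  0xa1cb59b62653a445d8607c2e143049) (.node 1 (.leaf
  0x7d6ca8b666bae43750442c0e862401) (.leaf
  0x53cf59b5d0b2cc88d0442cae103123))) (.node 1 (.leaf
  0xa28b55c9d03c5a49bc03b1ae14b048) (.node 1 (.leaf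
  0xb5dea5c1d2ac4c09d0442b4e80a46c) (.leaf
  0xa28b789a6d3ae04758607caac48448)))))) (.node 12 (.node 6 (.node 3 (.node 1 (.leaf
  0x2aa979b6263ba425bc03b42ac48488) (.node 1 (.leaf
  0xb5de78b666aae4071482a41490a06c) (.leaf
  0xb9eaf59a7053a4c8d0442b6c340029))) (.node 1 (.leaf
  0x29e9589a6d52e0273c03b4ae143089) (.node 1 (.leaf
  0x2be8a99970b464275c2cab4e802483) (.leaf
  0xa9eef9c166545a171482a4ac340189)))) (.node 3 (.node 1 (.leaf
  0xaaaf659a703ba4189482a35e048d88) (.node 1 (.leaf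
  0xa1cb77417254cc48bc03b36ac40449) (.leaf
  0xbaab69c1663c5ac750442c9e048c28))) (.node 1 (.leaf
  0x2aa95741723ccc28d8607b6e14b088) (.node 1 (.leaf
  0x7d6c75c1d2bc4c399482a354962001) (.leaf
  0x29e975c9d0545a29d86079aac40489))))) (.node 6 (.node 3 (.node 1 (.leaf
  0xa96e7999d2a2da18bc03b414922182) (.node 1 (.leaf
  0x3d156599cd2c6099d581bc9e010d04) (.leaf
  0xbbeb45b5c6b464c99d09540a400823))) (.node 1 (.leaf
  0xbd2aa999d22adac8d8607c0e812424) (.node 1 (.leaf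
  0xa58a7999707c64475581bb5491a040) (.leaf
  0x3954f73566a4e498d581bc2c320102)))) (.node 3 (.node 1 (.leaf
  0x550f6735662ce488dc2cac1e010d24) (.node 1 (.leaf
  0xadae55b5c67c6419a9283c28219180) (.leaf
  0x514ef599cda46089dc2cacac320122))) (.node 1 (.leaf
  0xad2e78b5702b8c19d8607c94912184) (.node 1 (.leaf
  0xb96aa8b570a38cc9bc03b48e822422) (.leaf
  0x3d9579b5d07acc989482a4aac18500))))))))))

end Cfsg.Agent.Co3Type.Data
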