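import Cfsg.Agent.Lib.Co3Type.Iso
import Cfsg.Agent.Lib.Co3Type.EndWitData
import Cfsg.Agent.Lib.Co3Type.EndDefs
import Cfsg.Agent.Lib.M12Central.Model

/-!
# The data for the last step

The subgroup generated by the centraliser of `t` and the cycling element, with the image `e` of the second
representative, has everything the last step asks for.
-/

set_option autoImplicit false
set_option maxRecDepth 100000
set_option Elab.async false
set_option linter.style.haveILetI false

open Subgroup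

namespace Cfsg.Agent.Co3Type

open Model
open Cfsg.Agent.Golay.TabList (mulTab)

noncomputable section

/-- The centraliser of the second representative as a numbered list, with its map onto a Mathieu centraliser. -/
def hB : Bool :=
  Nat.beq (Data.hC.get 0) 0 && Nat.beq (Data.hC.get 1) Data.bC &&
  decide (Data.hT = (List.range 384).map fun i => Data.hC.get i) && decide Data.hT.Nodup &&
  Nat.beq (Data.hImg.get 0) Golay.Cert.idTab &&
  (allB 384 fun i =>
    Nat.blt (Data.hC.get i) 2903040 && cEq [Data.hC.get i, Data.bC] [Data.bC, Data.hC.get i] &&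
    (M12Central.Data.elems.any fun x => Nat.beq x (Data.hImg.get i)) &&
    (Nat.blt i 2 == Nat.beq (Data.hImg.get i) Golay.Cert.idTab)) &&
  (allB 384 fun i => allB 6 fun j =>
    let g := if Nat.beq j 0 then Data.bC else (Data.conjGen.getD (j - 1) (0, [], [])).1
    let gi := if Nat.beq j 0 then Data.hImg.get 1 else Data.hImg.get (Data.hMul.get j)
    Nat.blt (Data.hMul.get (6 * i + j)) 384 && cEq [Data.hC.get i, g] [Data.hC.get (Data.hMul.get (6 * i + j))] &&
      Nat.beq (mulTab (Data.hImg.get i) gi) (Data.hImg.get (Data.hMul.get (6 * i + j)))) &&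
  (allB 384 fun i => Nat.beq i 0 || (Nat.blt (Data.hPar.get i / 8) i && Nat.blt (Data.hPar.get i % 8) 6 &&
    Nat.beq (Data.hMul.get (6 * (Data.hPar.get i / 8) + Data.hPar.get i % 8)) i)) &&
  (M12Central.Data.elems.all fun x => allB 1 fun _ => (List.range 384).any fun i => Nat.beq (Data.hImg.get i) x) &&
  (M12Central.Data.syl.any fun x => Nat.beq x M12Central.Data.zT)

theorem h_ok : hB = true := by decide +kernel

/-- The checks on the representative and the witnesses. -/
def witB : Bool :=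
  cEq [Data.bC, Data.bC] [] && !(cEq [Data.bC] []) &&
  cEq (Data.bWord.map (· + 1)) [Data.bC] && (Data.bWord.all fun i => Nat.blt i 7) &&
  cEq (Data.zWord.map (· + 1)) [630] && (Data.zWord.all fun i => Nat.blt i 7) &&
  cEq [Data.bC, Data.zbConj] [Data.zbConj, 630, Data.bC] &&
  Nat.beq Data.conjGen.length 5 &&
  (Data.conjGen.all fun p => Nat.blt p.1 2903040 && (p.2.1.all fun i => Nat.blt i 7) && (p.2.2.all fun i => Nat.blt i 8) &&
    cEq (p.2.1.map (· + 1)) [p.1] && wEq (p.2.2 ++ Data.bWord) (Data.bWord ++ p.2.2) &&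
    wEq (p.2.2 ++ Data.zWord) (p.2.1 ++ p.2.2)) &&
  wEq (Data.endFive ++ Data.bWord) (Data.bWord ++ Data.endFive) &&
  wEq (List.replicate 5 Data.endFive).flatten [] && !(evalW Data.endFive == evalW []) &&
  (Data.endFive.all fun i => Nat.blt i 8) &&
  wEq (Data.endEleven ++ Data.bWord) (Data.bWord ++ Data.endEleven) &&
  wEq (List.replicate 11 Data.endEleven).flatten [] && !(evalW Data.endEleven == evalW []) &&
  (Data.endEleven.all fun i => Nat.blt i 8)

theorem wit_ok : witB = true := by decide +kernel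

/-- The coded members. -/
def hE (i : ℕ) : W := el (Data.hC.get i)

/-- Their images. -/
def hI (i : ℕ) : Spor.M12 := M12Central.Model.el0 (Data.hImg.get i)

theorem psi_word {m : ℕ} {w : List ℕ} (hw : ∀ i ∈ w, i < 7) (h : cEq (w.map (· + 1)) [m] = true) :
    psi (el m) = coW w := by
  have e : el m = ((w.map (· + 1)).map el).prod := by rw [of_cEq h]; simp
  rw [e]
  clear h e
  induction w with
  | nil => simp [coW_nil]
  | cons i u ih =>
    have hi : i < 7 := hw i List.mem_cons_self
    rw [List.map_cons, List.map_cons, List.prod_cons, map_mul, ih fun j hj => hw j (List.mem_cons_of_mem _ hj),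
      coW_cons, show el (i + 1) = gW ⟨i, hi⟩ from gen_codes.2 ⟨i, hi⟩, psi_gW, ← co_eq_cg]

theorem h_spec :
    hE 0 = 1 ∧ hE 1 = bW ∧ (∀ i < 384, ∀ j < 384, hE i = hE j → i = j) ∧
    (∀ w : W, Commute w bW ↔ ∃ i < 384, hE i = w) ∧
    (∀ i < 384, Data.hImg.get i ∈ M12Central.Data.elems) ∧ (∀ i < 384, (hI i = 1 ↔ i < 2)) ∧
    (∀ i < 384, ∀ k < 384, ∃ l < 384, hE i * hE k = hE l ∧ hI i * hI k = hI l) ∧
    (∀ x ∈ M12Central.Data.elems, ∃ i < 384, Data.hImg.get i = x) ∧
    (∀ (P : Subgroup W), bW ∈ P → (∀ p ∈ Data.conjGen, el p.1 ∈ P) → ∀ i < 384, hE i ∈ P) := by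
  have hok := h_ok
  simp only [hB, Bool.and_eq_true, decide_eq_true_eq, List.all_eq_true, List.any_eq_true, Nat.beq_eq] at hok
  obtain ⟨⟨⟨⟨⟨⟨⟨⟨⟨e0, e1⟩, hlist⟩, hnd⟩, i0⟩, hbase⟩, hmul⟩, hpar⟩, hsur⟩, -⟩ := hok
  have hE0 : hE 0 = 1 := by rw [hE, e0, el_zero]
  have hE1 : hE 1 = bW := by rw [hE, e1, bW]
  have hb : ∀ i < 384, Data.hC.get i < 2903040 ∧ Commute (hE i) bW ∧
      Data.hImg.get i ∈ M12Central.Data.elems ∧ (i < 2 ↔ Data.hImg.get i = Golay.Cert.idTab) := by
    intro i hi
    have h := allB_spec hbase i hi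
    simp only [Bool.and_eq_true, Nat.blt_eq, beq_iff_eq, List.any_eq_true, Nat.beq_eq] at h
    obtain ⟨⟨⟨h1, h2⟩, x, hx, hx'⟩, h4⟩ := h
    refine ⟨h1, by simpa [Commute, SemiconjBy, hE, bW] using of_cEq h2, hx' ▸ hx, ?_⟩
    have h4' := congrArg (fun b : Bool => b = true) h4
    simpa [Nat.blt_eq, Nat.beq_eq] using h4'
  have inj : ∀ i < 384, ∀ j < 384, hE i = hE j → i = j := by
    intro i hi j hj e
    have e' := el_injective (hb i hi).1 (hb j hj).1 e
    have hn : ((List.range 384).map fun i => Data.hC.get i).Nodup := hlist ▸ hnd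
    exact (List.nodup_iff_injective_get.1 hn) (a₁ := ⟨i, by simpa using hi⟩) (a₂ := ⟨j, by simpa using hj⟩)
      (by simpa using e') |> congrArg Fin.val
  have hone : hI 0 = 1 := by
    rw [hI, i0]; exact M12Central.Model.localM12.el_one
  have hm : ∀ x y, x ∈ M12Central.Data.elems → y ∈ M12Central.Data.elems →
      M12Central.Model.el0 (mulTab x y) = M12Central.Model.el0 x * M12Central.Model.el0 y := fun x y hx hy =>
    M12Central.Model.localM12.el_mul hx hy
  -- the index of a generator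
  let gIdx : ℕ → ℕ := fun j => if Nat.beq j 0 then 1 else Data.hMul.get j
  have step : ∀ i < 384, ∀ j < 6, Data.hMul.get (6 * i + j) < 384 ∧ gIdx j < 384 ∧
      hE i * hE (gIdx j) = hE (Data.hMul.get (6 * i + j)) ∧ hI i * hI (gIdx j) = hI (Data.hMul.get (6 * i + j)) := by
    intro i hi j hj
    have h := allB_spec (allB_spec hmul i hi) j hj
    have h0 := allB_spec (allB_spec hmul 0 (by norm_num)) j hj
    simp only [Bool.and_eq_true, Nat.blt_eq, Nat.beq_eq] at h h0
    rw [Nat.mul_zero, Nat.zero_add] at h0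
    have q0 := of_cEq h0.1.2
    have q := of_cEq h.1.2
    simp only [List.map_cons, List.map_nil, List.prod_cons, List.prod_nil, mul_one] at q q0
    rw [e0, el_zero, one_mul] at q0
    have hgi : gIdx j < 384 := by
      by_cases h : j = 0
      · simp [gIdx, h]
      · simp [gIdx, h, h0.1.1]
    refine ⟨h.1.1, hgi, ?_, ?_⟩
    · by_cases hj0 : j = 0
      · subst hj0
        simp only [Nat.beq_refl, if_true] at q
        simpa [gIdx, hE, e1] using q
      · simp only [hj0, if_false] at q q0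
        simp only [gIdx, Nat.beq_eq, hj0, if_false, hE]
        rw [← q0]; exact q
    · have hg := (hb _ hgi).2.2.1
      by_cases hj0 : j = 0
      · subst hj0
        simp only [Nat.beq_refl, if_true] at h
        simp only [hI, gIdx, Nat.beq_refl, if_true] at hg ⊢
        rw [← h.2, hm _ _ (hb i hi).2.2.1 hg]
      · simp only [hj0, if_false] at h
        simp only [hI, gIdx, Nat.beq_eq, hj0, if_false] at hg ⊢
        rw [← h.2, hm _ _ (hb i hi).2.2.1 hg]
  have parent : ∀ k, 0 < k → k < 384 → ∃ p < k, ∃ j < 6, Data.hMul.get (6 * p + j) = k := by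
    intro k h0 hk
    have h := allB_spec hpar k hk
    simp only [Bool.or_eq_true, Bool.and_eq_true, Nat.beq_eq, Nat.blt_eq] at h
    obtain ⟨⟨h1, h2⟩, h3⟩ := h.resolve_left (by omega)
    exact ⟨_, h1, _, h2, h3⟩
  have mul : ∀ i < 384, ∀ k < 384, ∃ l < 384, hE i * hE k = hE l ∧ hI i * hI k = hI l := by
    intro i hi k
    induction k using Nat.strong_induction_on with
    | _ k ih =>
    intro hk
    rcases Nat.eq_zero_or_pos k with rfl | h0
    · exact ⟨i, hi, by rw [hE0, mul_one], by rw [hone, mul_one]⟩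
    · obtain ⟨p, hp, j, hj, rfl⟩ := parent k h0 hk
      obtain ⟨-, -, a1, a2⟩ := step p (hp.trans hk) j hj
      obtain ⟨l, hl, b1, b2⟩ := ih p hp (hp.trans hk)
      obtain ⟨h1, -, c1, c2⟩ := step l hl j hj
      exact ⟨_, h1, by rw [← a1, ← mul_assoc, b1, c1], by rw [← a2, ← mul_assoc, b2, c2]⟩
  refine ⟨hE0, hE1, inj, fun w => ⟨fun hw => ?_, fun ⟨i, hi, e⟩ => e ▸ (hb i hi).2.1⟩, fun i hi => (hb i hi).2.2.1,
    fun i hi => ?_, mul, fun x hx => ?_, ?_⟩
  · haveI : Finite W := inferInstance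
    let g : Fin 384 → centralizer ({bW} : Set W) := fun i =>
      ⟨hE i, mem_centralizer_singleton_iff.2 (hb i i.2).2.1.eq⟩
    have hg : Function.Injective g := fun a b e => Fin.ext (inj a a.2 b b.2 (congrArg Subtype.val e))
    have hbij : Function.Bijective g := (Nat.bijective_iff_injective_and_card g).2
      ⟨hg, le_antisymm (Nat.card_le_card_of_injective g hg) (by rw [Nat.card_fin]; exact centB_spec.1)⟩
    obtain ⟨i, hi⟩ := hbij.2 ⟨w, mem_centralizer_singleton_iff.2 hw.eq⟩
    exact ⟨i, i.2, congrArg Subtype.val hi⟩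
  · rw [(hb i hi).2.2.2, hI]
    exact M12Central.Model.localM12.el_eq_one (hb i hi).2.2.1
  · obtain ⟨i, hi, e⟩ := List.any_eq_true.1 (by simpa [allB] using hsur x hx :
      ((List.range 384).any fun i => Nat.beq (Data.hImg.get i) x) = true)
    exact ⟨i, List.mem_range.1 hi, Nat.eq_of_beq_eq_true e⟩
  · intro P hP hg i
    induction i using Nat.strong_induction_on with
    | _ i ih =>
    intro hi
    rcases Nat.eq_zero_or_pos i with rfl | h0
    · rw [hE0]; exact one_mem P
    · obtain ⟨p, hp, j, hj, rfl⟩ := parent i h0 hi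
      obtain ⟨-, -, a1, -⟩ := step p (hp.trans hi) j hj
      rw [← a1]
      refine mul_mem (ih p hp (hp.trans hi)) ?_
      have hlen : Data.conjGen.length = 5 := rfl
      rcases Nat.eq_zero_or_pos j with rfl | hj0
      · simpa [gIdx, hE1] using hP
      · have h0' := allB_spec (allB_spec hmul 0 (by norm_num)) j hj
        simp only [Bool.and_eq_true, Nat.blt_eq, Nat.beq_eq, if_neg (Nat.pos_iff_ne_zero.1 hj0)] at h0'
        rw [Nat.mul_zero, Nat.zero_add] at h0'
        have q0 := of_cEq h0'.1.2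
        simp only [List.map_cons, List.map_nil, List.prod_cons, List.prod_nil, mul_one] at q0
        rw [e0, el_zero, one_mul] at q0
        simp only [gIdx, Nat.beq_eq, Nat.pos_iff_ne_zero.1 hj0, if_false, hE]
        rw [← q0]
        refine hg _ ?_
        rw [List.getD_eq_getElem _ _ (by omega)]
        exact List.getElem_mem _

theorem z0_central : Cfsg.IsTwoCentralInvolution M12Central.Model.z0 := by
  obtain ⟨P, hP⟩ := M12Central.Model.sylow_subgroup_card
  obtain ⟨h, -, -, -⟩ := M12Central.Facts.syl_ok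
  simp only [Bool.and_eq_true, beq_iff_eq, List.all_eq_true, M12Central.Facts.closedList,
    List.contains_iff_mem] at h
  obtain ⟨⟨⟨hsub, -⟩, -⟩, -⟩ := h
  have hok := h_ok
  simp only [hB, Bool.and_eq_true, List.any_eq_true, Nat.beq_eq] at hok
  obtain ⟨x, hx, e⟩ := hok.2
  refine ⟨M12Central.Model.localM12.orderOf_t, P, (hP _).2 ⟨M12Central.Data.zT, e ▸ hx, rfl⟩, fun g hg => ?_⟩
  obtain ⟨y, hy, rfl⟩ := (hP g).1 hg
  exact M12Central.Model.commute_z0 (hsub y hy)

variable {G : Type*} [Group G] [Finite G] {t : G} {φ : W →* G}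

/-- The data of the last step. -/
theorem Setting.endData (S : Setting t φ) {c : G} (hc : Cyc φ c) (hf : Conf φ c) :
    ∃ M : Subgroup G, EndData t (φ bW) M ∧ Nonempty (Spor.Co3 ≃* M) := by
  obtain ⟨f, hfi, hfv, hfc, hfr⟩ := exists_hom S.inj hf
  refine ⟨f.range, ?_, ⟨MonoidHom.ofInjective hfi⟩⟩
  have hw := wit_ok
  simp only [witB, Bool.and_eq_true, List.all_eq_true, Nat.blt_eq, Bool.not_eq_true', beq_eq_false_iff_ne] at hw
  obtain ⟨⟨⟨⟨⟨⟨⟨⟨⟨⟨⟨⟨⟨⟨⟨⟨b2, b1⟩, bw⟩, bl⟩, zw⟩, zl⟩, zbw⟩, -⟩, hcg⟩, f5c⟩, f5o⟩, f5n⟩, f5l⟩, f11c⟩, f11o⟩, f11n⟩,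
    f11l⟩ := hw
  have hφr : φ.range ≤ f.range := by
    rintro _ ⟨w, rfl⟩; exact ⟨psi w, hfv w⟩
  have hcm : c ∈ f.range := ⟨coC, hfc⟩
  have pb : psi bW = coW Data.bWord := psi_word bl bw
  have pz : psi zW = coW Data.zWord := by rw [← el_630]; exact psi_word zl zw
  have hee : φ bW * φ bW = 1 := by
    rw [← map_mul]
    have : bW * bW = 1 := by simpa [bW] using of_cEq b2
    rw [this, map_one]
  have hb1 : bW ≠ 1 := by
    intro e
    rw [← Bool.not_eq_true] at b1
    refine b1 ((cEq_iff (fun a ha => ?_) (by simp)).2 (by simpa [bW] using e))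
    simp only [List.mem_singleton] at ha
    have hh := centB_ok
    simp only [centBB, Bool.and_eq_true, Nat.blt_eq] at hh
    rw [ha]; exact hh.1.1.1.1.1.1.1.1
  have hord : orderOf (φ bW) = 2 :=
    orderOf_eq_prime (by rw [pow_two, hee]) fun e => hb1 (S.inj (e.trans (map_one φ).symm))
  have hcomm : Commute t (φ bW) := (S.commute bW).symm
  have hword : ∀ {w : List ℕ}, wEq (w ++ Data.bWord) (Data.bWord ++ w) = true →
      Commute (f (coW w)) (φ bW) := fun {w} h => by
    have e := of_wEq h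
    rw [coW_append, coW_append, ← pb] at e
    rw [← hfv]
    exact (show Commute (coW w) (psi bW) from e).map f
  refine
    { cent := S.range ▸ hφr, ord := hord, comm := hcomm, te := ?_, classes := ?_, eleven := ?_, five := ?_,
      quot := ?_, gen := ?_ }
  · refine isConj_iff.2 ⟨φ (el Data.zbConj), ?_⟩
    have e := of_cEq zbw
    simp only [List.map_cons, List.map_nil, List.prod_cons, List.prod_nil, mul_one] at e
    have e' := congrArg φ e
    simp only [map_mul, el_630, S.map_zW] at e'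
    change φ bW * φ (el Data.zbConj) = φ (el Data.zbConj) * (t * φ bW) at e'
    rw [← e', mul_inv_cancel_right]
  · intro u hu hu2
    haveI : Fact (Nat.Prime 2) := ⟨Nat.prime_two⟩
    haveI := finite_co3
    obtain ⟨P⟩ : Nonempty (Sylow 2 W) := Sylow.nonempty
    obtain ⟨v, hv⟩ := hu
    have hcard : Nat.card (Subgroup.map psi (P : Subgroup W)) = 2 ^ (Nat.card Spor.Co3).factorization 2 := by
      have hW : (Nat.card W).factorization 2 = (Nat.card Spor.Co3).factorization 2 := by
        rw [card_W, Lib.PcMult.Co3.card_eq, show (2903040 : ℕ) = 2 ^ 10 * 2835 by norm_num,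
          show (495766656000 : ℕ) = 2 ^ 10 * 484147125 by norm_num,
          Nat.factorization_mul (by norm_num) (by norm_num), Nat.factorization_mul (by norm_num) (by norm_num),
          Finsupp.add_apply, Finsupp.add_apply,
          Nat.factorization_eq_zero_of_not_dvd (show ¬ 2 ∣ 2835 by norm_num),
          Nat.factorization_eq_zero_of_not_dvd (show ¬ 2 ∣ 484147125 by norm_num)]
      rw [Subgroup.card_map_of_injective psi_injective, P.card_eq_multiplicity, hW]
    let Q := Sylow.ofCard _ hcard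
    have hv2 : orderOf v = 2 := by rw [← orderOf_injective f hfi v, hv, hu2]
    have hp : IsPGroup 2 (Subgroup.zpowers v) :=
      IsPGroup.of_card (n := 1) (by rw [Nat.card_zpowers, hv2, pow_one])
    obtain ⟨R, hR⟩ := hp.exists_le_sylow
    obtain ⟨g, hg⟩ := MulAction.exists_smul_eq Spor.Co3 R Q
    have hm : g * v * g⁻¹ ∈ (Q : Subgroup Spor.Co3) := by
      rw [← hg]; exact ⟨v, hR (Subgroup.mem_zpowers v), rfl⟩
    obtain ⟨w, -, hwv⟩ := hm
    have hfw : f g * u * (f g)⁻¹ = φ w := by rw [← hfv, hwv, map_mul, map_mul, map_inv, hv]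
    have hw2 : orderOf w = 2 := by
      rw [← orderOf_injective psi psi_injective w, hwv]
      rw [← hv2]
      exact orderOf_injective (MulAut.conj g).toMonoidHom (MulAut.conj g).injective v
    obtain ⟨hww, hw1⟩ := (Involutions.Basic.orderOf_two_iff).1 hw2
    by_cases hz : w = zW
    · exact Or.inl ⟨f g, ⟨g, rfl⟩, by rw [hfw, hz, S.map_zW]⟩
    obtain ⟨k, hk⟩ := involution_cases hww hw1 hz
    rcases hk with hk | hk
    · refine Or.inl ⟨c * φ k * f g, mul_mem (mul_mem hcm (hφr ⟨k, rfl⟩)) ⟨g, rfl⟩, ?_⟩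
      calc c * φ k * f g * u * (c * φ k * f g)⁻¹ = c * (φ k * (f g * u * (f g)⁻¹) * (φ k)⁻¹) * c⁻¹ := by group
        _ = t := by rw [hfw, ← map_inv, ← map_mul, ← map_mul, hk, ← el_1260, hc.2, S.t_eq]
    · refine Or.inr ⟨φ k * f g, mul_mem (hφr ⟨k, rfl⟩) ⟨g, rfl⟩, ?_⟩
      calc φ k * f g * u * (φ k * f g)⁻¹ = φ k * (f g * u * (f g)⁻¹) * (φ k)⁻¹ := by group
        _ = φ bW := by rw [hfw, ← map_inv, ← map_mul, ← map_mul, hk]
  · haveI : Fact (Nat.Prime 11) := ⟨by norm_num⟩
    exact ⟨f (coW Data.endEleven), ⟨_, rfl⟩, hword f11c,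
      (orderOf_injective f hfi _).trans (orderOf_word f11o f11n f11l)⟩
  · haveI : Fact (Nat.Prime 5) := ⟨by norm_num⟩
    exact ⟨f (coW Data.endFive), ⟨_, rfl⟩, hword f5c,
      (orderOf_injective f hfi _).trans (orderOf_word f5o f5n f5l)⟩
  · obtain ⟨h0, h1, hinj, hmem, hel, hker, hmul, hsur, -⟩ := h_spec
    have pre : ∀ g : ↥(centralizer ({t} : Set G) ⊓ centralizer ({φ bW} : Set G)),
        ∃ i < 384, φ (hE i) = g.1 := by
      intro g
      obtain ⟨w, hw⟩ := S.exists_pre (mem_centralizer_singleton_iff.1 g.2.1)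
      have h2 : Commute w bW := S.inj (by
        rw [map_mul, map_mul, hw]; exact mem_centralizer_singleton_iff.1 g.2.2)
      obtain ⟨i, hi, e⟩ := (hmem w).1 h2
      exact ⟨i, hi, e ▸ hw⟩
    choose idx hidx hidxe using pre
    have hval : ∀ g i, i < 384 → φ (hE i) = g.1 → idx g = i := fun g i hi e =>
      hinj _ (hidx g) _ hi (S.inj ((hidxe g).trans e.symm))
    have hcen : ∀ i < 384, hI i ∈ centralizer ({M12Central.Model.z0} : Set Spor.M12) := fun i hi =>
      (M12Central.Model.mem_centralizer_z0 _).2 ⟨_, hel i hi, rfl⟩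
    refine ⟨M12Central.Model.z0, z0_central, MonoidHom.mk' (fun g => ⟨hI (idx g), hcen _ (hidx g)⟩)
      (fun a b => Subtype.ext ?_), fun y => ?_, fun g => ?_⟩
    · obtain ⟨l, hl, e1, e2⟩ := hmul _ (hidx a) _ (hidx b)
      have : idx (a * b) = l := hval _ l hl (by rw [← e1, map_mul, hidxe, hidxe]; rfl)
      show hI (idx (a * b)) = hI (idx a) * hI (idx b)
      rw [this, e2]
    · obtain ⟨x, hx, e⟩ := (M12Central.Model.mem_centralizer_z0 _).1 y.2
      obtain ⟨i, hi, rfl⟩ := hsur x hx
      refine ⟨⟨φ (hE i), mem_centralizer_singleton_iff.2 (S.commute _).eq,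
        mem_centralizer_singleton_iff.2 (((hmem _).2 ⟨i, hi, rfl⟩).map φ).eq⟩, Subtype.ext ?_⟩
      show hI (idx _) = y.1
      rw [hval _ i hi rfl, ← e, hI]
    · have hiff : (MonoidHom.mk' (fun g => (⟨hI (idx g), hcen _ (hidx g)⟩ :
          centralizer ({M12Central.Model.z0} : Set Spor.M12))) (fun a b => Subtype.ext (by
            obtain ⟨l, hl, e1, e2⟩ := hmul _ (hidx a) _ (hidx b)
            have : idx (a * b) = l := hval _ l hl (by rw [← e1, map_mul, hidxe, hidxe]; rfl)
            show hI (idx (a * b)) = hI (idx a) * hI (idx b)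
            rw [this, e2]))) g = 1 ↔ idx g < 2 := by
        rw [← hker _ (hidx g)]
        exact ⟨fun e => congrArg Subtype.val e, fun e => Subtype.ext e⟩
      refine hiff.trans ⟨fun h => ?_, ?_⟩
      · rcases (show idx g = 0 ∨ idx g = 1 by omega) with e | e
        · left; rw [← hidxe g, e, h0, map_one]
        · right; rw [← hidxe g, e, h1]
      · rintro (e | e)
        · rw [hval g 0 (by norm_num) (by rw [h0, map_one, e])]; norm_num
        · rw [hval g 1 (by norm_num) (by rw [h1, e])]; norm_num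
  · intro g h1 h2
    obtain ⟨w, rfl⟩ := S.exists_pre h1
    obtain ⟨-, -, -, hmem, -, -, -, -, hgen⟩ := h_spec
    obtain ⟨i, hi, rfl⟩ := (hmem w).1 (S.inj (by rw [map_mul, map_mul]; exact h2.eq))
    refine hgen ((closure (({φ bW} : Set G) ∪ {x | ∃ m ∈ f.range, Commute m (φ bW) ∧ m * t * m⁻¹ = x})).comap φ)
      (subset_closure (Or.inl rfl)) (fun p hp => subset_closure (Or.inr ?_)) i hi
    obtain ⟨⟨⟨⟨⟨-, q2⟩, q3⟩, q4⟩, q5⟩, q6⟩ := hcg p hp
    refine ⟨f (coW p.2.2), ⟨_, rfl⟩, hword q5, ?_⟩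
    have e := of_wEq q6
    rw [coW_append, coW_append, ← pz, ← psi_word q2 q4] at e
    have e' := congrArg f e
    rw [map_mul, map_mul, hfv, hfv, S.map_zW] at e'
    rw [e', mul_inv_cancel_right]

end

end Cfsg.Agent.Co3Type
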