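import Cfsg.Agent.Lib.Co3Type.Class
import Cfsg.Agent.Lib.ZStar.InvariantSylow

/-!
# Fusion of the involution with the double cover of `Sp₆(2)` as centraliser

The involution is conjugate to `y` and not to `b`, and some element permutes the three involutions of the four
group on it and `y` cyclically.
-/

set_option autoImplicit false
set_option maxRecDepth 100000
set_option linter.style.haveILetI false

open Subgroup

namespace Cfsg.Agent.Co3Type

open Model

/-- The centraliser of `t` is an image of the model, the central involution going to `t`. -/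
structure Setting {G : Type*} [Group G] (t : G) (φ : W →* G) : Prop where
  inj : Function.Injective φ
  range : φ.range = centralizer ({t} : Set G)
  map_zW : φ zW = t

variable {G : Type*} [Group G] {t : G}

theorem exists_setting [Finite G] (ht : orderOf t = 2)
    (hC : Cfsg.IsNonsplitDoubleCover (centralizer ({t} : Set G)) (Matrix.symplecticGroup (Fin 3) (ZMod 2))) :
    ∃ φ : W →* G, Setting t φ := by
  obtain ⟨ξ₁, h₁, -⟩ := exists_isDouble hC
  obtain ⟨ξ₂, h₂, -⟩ := Model.isDouble
  obtain ⟨f⟩ := double_unique h₂ h₁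
  have htC : t ∈ centralizer ({t} : Set G) := mem_centralizer_singleton_iff.2 rfl
  refine ⟨(centralizer ({t} : Set G)).subtype.comp f.toMonoidHom, ⟨?_, ?_, ?_⟩⟩
  · exact (Subgroup.subtype_injective _).comp f.injective
  · rw [MonoidHom.range_comp, MonoidHom.range_eq_top.2 f.surjective, ← MonoidHom.range_eq_map,
      Subgroup.range_subtype]
  · have hz : f zW ∈ center (centralizer ({t} : Set G)) := mem_center_iff.2 fun g => by
      obtain ⟨w, rfl⟩ := f.surjective g
      rw [← map_mul, ← map_mul, (rels.2.1 w).eq]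
    have htz : (⟨t, htC⟩ : centralizer ({t} : Set G)) ∈ center (centralizer ({t} : Set G)) :=
      mem_center_iff.2 fun g => Subtype.ext (mem_centralizer_singleton_iff.1 g.2)
    obtain ⟨a, b, -, hab⟩ := Nat.card_eq_two_iff.1 hC.1
    have hu : ∀ x : center (centralizer ({t} : Set G)), x = a ∨ x = b := fun x => by
      have : x ∈ ({a, b} : Set _) := hab ▸ Set.mem_univ x
      simpa using this
    have h1 : (⟨t, htC⟩ : centralizer ({t} : Set G)) ≠ 1 := fun e => by
      have : t = 1 := congrArg Subtype.val e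
      rw [this, orderOf_one] at ht; omega
    have h2 : f zW ≠ 1 := fun e => rels.2.2.2.2.1 (f.injective (e.trans (map_one f).symm))
    have key : (⟨f zW, hz⟩ : center (centralizer ({t} : Set G))) = ⟨⟨t, htC⟩, htz⟩ := by
      rcases hu ⟨f zW, hz⟩ with e | e <;> rcases hu ⟨⟨t, htC⟩, htz⟩ with e' | e' <;>
        rcases hu 1 with e'' | e'' <;> first
        | exact e.trans e'.symm
        | exact absurd (congrArg Subtype.val (e.trans e''.symm)) h2
        | exact absurd (congrArg Subtype.val (e'.trans e''.symm)) h1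
    exact congrArg (fun x => ((x.1 : centralizer ({t} : Set G)) : G)) key

namespace Model

theorem sC_ok : cEq [Data.sC, 1260] [1260, 630, Data.sC] = true := by decide +kernel

/-- An element taking `y` to the product with the central involution. -/
theorem sC_spec : el Data.sC * yW * (el Data.sC)⁻¹ = yW * zW := by
  rw [mul_inv_eq_iff_eq_mul, mul_assoc]
  simpa [el_1260, el_630] using of_cEq sC_ok

theorem yW_facts : yW * yW = 1 ∧ yW ≠ 1 ∧ yW ≠ zW := by
  have h : cEq [1260, 1260] [] = true := by decide +kernel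
  refine ⟨by simpa [el_1260] using of_cEq h, fun e => ?_, fun e => ?_⟩
  · have := el_injective (show 1260 < 2903040 by norm_num) (show 0 < 2903040 by norm_num) (by rw [el_1260, el_zero, e])
    omega
  · have := el_injective (show 1260 < 2903040 by norm_num) (show 630 < 2903040 by norm_num) (by rw [el_1260, el_630, e])
    omega

theorem card_cent_yW : Nat.card (centralizer ({yW} : Set W)) = 4608 := by
  let f : Fin 4608 → centralizer ({yW} : Set W) := fun d => ⟨elD d, mem_centralizer_singleton_iff.2 (elD_comm d.2).eq⟩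
  rw [← Nat.card_congr (Equiv.ofBijective f ⟨fun a b e => Fin.ext (elD_injective a.2 b.2 (congrArg Subtype.val e)),
    fun g => by
      obtain ⟨d, hd, e⟩ := (comm_yW_iff g.1).1 (mem_centralizer_singleton_iff.1 g.2)
      exact ⟨⟨d, hd⟩, Subtype.ext e⟩⟩), Nat.card_eq_fintype_card, Fintype.card_fin]

end Model

namespace Setting

variable {φ : W →* G} (S : Setting t φ)
include S

theorem commute (g : W) : Commute (φ g) t := S.map_zW ▸ (rels.2.1 g).map φ

theorem exists_pre {g : G} (h : Commute g t) : ∃ w, φ w = g :=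
  MonoidHom.mem_range.1 (S.range ▸ mem_centralizer_singleton_iff.2 h.eq)

/-- Conjugation exchanging the central involution and another one gives a bijection of centralisers. -/
theorem card_cent_eq {x : G} {r u : W} (hr : x * t * x⁻¹ = φ r) (hu : x * φ u * x⁻¹ = t) :
    Nat.card (centralizer ({u} : Set W)) = Nat.card (centralizer ({r} : Set W)) ∧
      ∀ h : W, Commute h u → h * h = zW → ∃ k : W, Commute k r ∧ k * k = r := by
  have conj_com : ∀ {a b : G}, Commute a b → Commute (x * a * x⁻¹) (x * b * x⁻¹) := fun {a b} h => by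
    simpa [SemiconjBy, MulAut.conj_apply] using h.map (MulAut.conj x).toMonoidHom
  have fwd : ∀ g : W, g * u = u * g → ∃ k : W, φ k = x * φ g * x⁻¹ ∧ Commute k r := fun g hg => by
    have h1 : Commute (x * φ g * x⁻¹) t := hu ▸ conj_com (Commute.map (show Commute g u from hg) φ)
    obtain ⟨k, hk⟩ := S.exists_pre h1
    refine ⟨k, hk, S.inj ?_⟩
    rw [map_mul, map_mul, hk, ← hr]
    exact (conj_com (S.commute g)).eq
  have bwd : ∀ k : W, Commute k r → ∃ g : W, φ g = x⁻¹ * φ k * x ∧ Commute g u := fun k hk => by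
    have hc : ∀ {a b : G}, Commute a b → Commute (x⁻¹ * a * x) (x⁻¹ * b * x) := fun {a b} h => by
      simpa [SemiconjBy, MulAut.conj_apply] using h.map (MulAut.conj x⁻¹).toMonoidHom
    have e1 : x⁻¹ * φ r * x = t := by rw [← hr]; group
    have e2 : x⁻¹ * t * x = φ u := by rw [← hu]; group
    obtain ⟨g, hg⟩ := S.exists_pre (g := x⁻¹ * φ k * x) (e1 ▸ hc (hk.map φ))
    refine ⟨g, hg, S.inj ?_⟩
    rw [map_mul, map_mul, hg, ← e2]
    exact (hc (S.commute k)).eq
  choose f hf using fwd
  refine ⟨Nat.card_congr (Equiv.ofBijective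
    (fun g : centralizer ({u} : Set W) => (⟨f g.1 (mem_centralizer_singleton_iff.1 g.2),
      mem_centralizer_singleton_iff.2 (hf g.1 _).2.eq⟩ : centralizer ({r} : Set W))) ⟨fun g g' e => ?_, fun k => ?_⟩),
    fun h hh hz => ?_⟩
  · have e' : φ (f g.1 (mem_centralizer_singleton_iff.1 g.2)) = φ (f g'.1 (mem_centralizer_singleton_iff.1 g'.2)) :=
      congrArg (fun k : centralizer ({r} : Set W) => φ k.1) e
    rw [(hf _ _).1, (hf _ _).1, mul_left_inj, mul_right_inj] at e'
    exact Subtype.ext (S.inj e')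
  · obtain ⟨g, hg, hgu⟩ := bwd k.1 (mem_centralizer_singleton_iff.1 k.2)
    refine ⟨⟨g, mem_centralizer_singleton_iff.2 hgu.eq⟩, Subtype.ext (S.inj ?_)⟩
    show φ (f g _) = φ k.1
    rw [(hf _ _).1, hg]; group
  · refine ⟨f h hh, (hf h hh).2, S.inj ?_⟩
    rw [map_mul, (hf h hh).1, ← hr, ← S.map_zW, ← hz, map_mul]; group

/-- A conjugate of `t` in its centraliser, other than itself, comes from the class of `y`. -/
theorem fusion {x : G} {u : W} (hx : x * t * x⁻¹ = φ u) (hne : u ≠ zW) :
    (∃ h : W, h * u * h⁻¹ = yW) ∧ ∃ x₁ : G, x₁ * t * x₁⁻¹ = φ yW ∧ x₁ * φ yW * x₁⁻¹ = t := by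
  have ht2 : t * t = 1 := by rw [← S.map_zW, ← map_mul, rels.2.2.2.1, map_one]
  have hu2 : u * u = 1 := S.inj (by
    rw [map_mul, map_one, ← hx, show x * t * x⁻¹ * (x * t * x⁻¹) = x * (t * t) * x⁻¹ by group, ht2]; group)
  have hu1 : u ≠ 1 := fun e => by
    rw [e, map_one, conj_eq_one_iff, ← S.map_zW, ← map_one φ] at hx
    exact rels.2.2.2.2.1 (S.inj hx)
  obtain ⟨h, hh⟩ := involution_cases hu2 hu1 hne
  set r := h * u * h⁻¹ with hr_def
  have hr : φ h * x * t * (φ h * x)⁻¹ = φ r := by
    rw [hr_def, map_mul, map_mul, map_inv, ← hx]; group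
  generalize φ h * x = x₀ at hr
  -- the image of `t` under the inverse
  have hcomm : Commute (x₀⁻¹ * t * x₀) t := by
    have := (S.commute r).symm.map (MulAut.conj x₀⁻¹).toMonoidHom
    rw [← hr] at this
    simpa [SemiconjBy, Commute, MulAut.conj_apply, mul_assoc] using this
  obtain ⟨u', hu'⟩ := S.exists_pre hcomm
  have hu'x : x₀ * φ u' * x₀⁻¹ = t := by rw [hu']; group
  have hrz : r ≠ zW := by
    intro e
    refine hne ?_
    have hc := (rels.2.1 h).eq
    calc u = h⁻¹ * r * h := by rw [hr_def]; group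
      _ = zW := by rw [e, mul_assoc, ← hc, inv_mul_cancel_left]
  have hu'z : u' ≠ zW := by
    intro e
    rw [e, S.map_zW] at hu'x
    exact hrz (S.inj (hr.symm.trans (hu'x.trans S.map_zW.symm)))
  have hu'2 : u' * u' = 1 := S.inj (by
    rw [map_mul, map_one, hu', show x₀⁻¹ * t * x₀ * (x₀⁻¹ * t * x₀) = x₀⁻¹ * (t * t) * x₀ by group, ht2]; group)
  have hu'1 : u' ≠ 1 := fun e => by
    rw [e, map_one, mul_one, mul_inv_cancel, ← S.map_zW, ← map_one φ] at hu'x
    exact rels.2.2.2.2.1 (S.inj hu'x.symm)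
  obtain ⟨k, hk⟩ := involution_cases hu'2 hu'1 hu'z
  obtain ⟨hb1, hb2, hb3⟩ := centB_spec
  obtain ⟨hcard, hsq⟩ := S.card_cent_eq hr hu'x
  have hcc : ∀ a g : W, Nat.card (centralizer ({g * a * g⁻¹} : Set W)) = Nat.card (centralizer ({a} : Set W)) :=
    fun a g => (Nat.card_congr (Equiv.subtypeEquiv (MulAut.conj g).toEquiv fun w => by
      simp only [mem_centralizer_singleton_iff, MulEquiv.toEquiv_eq_coe, EquivLike.coe_coe, MulAut.conj_apply]
      rw [show g * w * g⁻¹ * (g * a * g⁻¹) = g * (w * a) * g⁻¹ by group,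
        show g * a * g⁻¹ * (g * w * g⁻¹) = g * (a * w) * g⁻¹ by group, mul_left_inj, mul_right_inj])).symm
  have hry : r = yW := by
    refine hh.resolve_right fun e => ?_
    rw [e] at hcard hsq
    rcases hk with hk | hk
    · have := hcc u' k
      rw [hk, card_cent_yW] at this
      omega
    · obtain ⟨q, hq, hq2⟩ := hb3
      have hq' : Commute (k⁻¹ * q * k) u' := by
        have e0 : u' = k⁻¹ * bW * k := by rw [← hk]; group
        rw [e0]
        simpa [SemiconjBy, MulAut.conj_apply] using hq.map (MulAut.conj k⁻¹).toMonoidHom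
      obtain ⟨p, hp, hp2⟩ := hsq _ hq' (by
        rw [show k⁻¹ * q * k * (k⁻¹ * q * k) = k⁻¹ * (q * q) * k by group, hq2, mul_assoc, ← (rels.2.1 k).eq,
          inv_mul_cancel_left])
      exact hb2 p hp hp2
  refine ⟨⟨h, hry⟩, ?_⟩
  rw [hry] at hr hcard
  have hk' : k * u' * k⁻¹ = yW := by
    refine hk.resolve_right fun e => ?_
    have := hcc u' k
    rw [e, hcard, card_cent_yW] at this
    omega
  have hkt := S.commute k
  refine ⟨x₀ * (φ k)⁻¹, ?_, ?_⟩
  · rw [mul_inv_rev, inv_inv, mul_assoc x₀, (hkt.inv_left).eq]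
    simpa [mul_assoc] using hr
  · rw [← hk', map_mul, map_mul, map_inv, ← hu'x]; group

/-- The conjugates of `t` in its centraliser. -/
theorem conj_cases {u : W} (h : IsConj t (φ u)) : u = zW ∨ ∃ k : W, k * u * k⁻¹ = yW := by
  obtain ⟨x, hx⟩ := isConj_iff.1 h
  exact or_iff_not_imp_left.2 fun hne => (S.fusion hx hne).1

/-- The second representative is not a conjugate of `t`. -/
theorem not_conj_bW : ¬ IsConj t (φ bW) := by
  intro h
  obtain ⟨hle, hb2, r, hr, hr2⟩ := centB_spec
  rcases S.conj_cases h with e | ⟨k, hk⟩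
  · exact hb2 r hr (hr2.trans e.symm)
  · have hc : Nat.card (centralizer ({bW} : Set W)) = 4608 := by
      rw [← card_cent_yW, ← hk]
      refine Nat.card_congr (Equiv.subtypeEquiv (MulAut.conj k).toEquiv fun w => ?_)
      simp only [mem_centralizer_singleton_iff, MulEquiv.toEquiv_eq_coe, EquivLike.coe_coe, MulAut.conj_apply]
      rw [show k * w * k⁻¹ * (k * bW * k⁻¹) = k * (w * bW) * k⁻¹ by group,
        show k * bW * k⁻¹ * (k * w * k⁻¹) = k * (bW * w) * k⁻¹ by group, mul_left_inj, mul_right_inj]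
    omega

/-- An element permuting the involutions of the four group on `t` and `y` cyclically. -/
theorem exists_cycle (hx : ∃ x : G, Commute (x * t * x⁻¹) t ∧ x * t * x⁻¹ ≠ t) :
    ∃ c : G, c * t * c⁻¹ = φ (yW * zW) ∧ c * φ yW * c⁻¹ = t ∧ c * φ (yW * zW) * c⁻¹ = φ yW := by
  obtain ⟨x, hxc, hxt⟩ := hx
  obtain ⟨u, hu⟩ := S.exists_pre hxc
  obtain ⟨-, x₁, h1, h2⟩ := S.fusion hu.symm (fun e => hxt (by rw [← hu, e, S.map_zW]))
  have hs := congrArg φ sC_spec
  rw [map_mul, map_mul, map_inv] at hs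
  have hst := S.commute (el Data.sC)
  generalize φ (el Data.sC) = s at hs hst
  have e2 : s * x₁ * φ yW * (s * x₁)⁻¹ = t := by
    rw [show s * x₁ * φ yW * (s * x₁)⁻¹ = s * (x₁ * φ yW * x₁⁻¹) * s⁻¹ by group, h2, hst.eq, mul_inv_cancel_right]
  have e1 : s * x₁ * t * (s * x₁)⁻¹ = φ (yW * zW) := by
    rw [show s * x₁ * t * (s * x₁)⁻¹ = s * (x₁ * t * x₁⁻¹) * s⁻¹ by group, h1, hs]
  refine ⟨s * x₁, e1, e2, ?_⟩
  rw [show φ (yW * zW) = φ yW * t by rw [map_mul, S.map_zW],
    show s * x₁ * (φ yW * t) * (s * x₁)⁻¹ = s * x₁ * φ yW * (s * x₁)⁻¹ * (s * x₁ * t * (s * x₁)⁻¹) by group, e1, e2,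
    map_mul, S.map_zW]
  have ht2 : t * t = 1 := by rw [← S.map_zW, ← map_mul, rels.2.2.2.1, map_one]
  rw [← mul_assoc, ← (S.commute yW).eq, mul_assoc, ht2, mul_one]

end Setting

end Cfsg.Agent.Co3Type
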