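import Cfsg.Agent.Lib.CosetCert.Check

/-!
The atoms generate the centraliser of the four group: how each member arises.
Produced by a search outside Lean; every entry is checked where it is used.
-/

set_option autoImplicit false
set_option maxRecDepth 100000

namespace Cfsg.Agent.Co3Type.Data

open Cfsg.Agent.CosetCert (Tree)

/-- An earlier member and an atom. -/
def dPar : Tree :=
  (.node 2304 (.node 1152 (.node 576 (.node 288 (.node 144 (.node 72 (.node 36 (.node 18 (.node 9 (.node 4 (.node 2 (.node 1 (.leaf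
  0) (.leaf
  0)) (.node 1 (.leaf
  1) (.leaf
  9))) (.node 2 (.node 1 (.leaf
  2) (.leaf
  10)) (.node 1 (.leaf
  18) (.node 1 (.leaf
  26) (.leaf
  3))))) (.node 4 (.node 2 (.node 1 (.leaf
  11) (.leaf
  19)) (.node 1 (.leaf
  27) (.leaf
  35))) (.node 2 (.node 1 (.leaf
  43) (.leaf
  51)) (.node 1 (.leaf
  59) (.node 1 (.leaf
  27660) (.leaf
  27652)))))) (.node 9 (.node 4 (.node 2 (.node 1 (.leaf
  27676) (.leaf
  27668)) (.node 1 (.leaf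
  27788) (.leaf
  130))) (.node 2 (.node 1 (.leaf
  27804) (.leaf
  146)) (.node 1 (.leaf
  28060) (.node 1 (.leaf
  16326) (.leaf
  139))))) (.node 4 (.node 2 (.node 1 (.leaf
  131) (.leaf
  27932)) (.node 1 (.leaf
  16302) (.leaf
  171))) (.node 2 (.node 1 (.leaf
  163) (.leaf
  28188)) (.node 1 (.leaf
  28180) (.node 1 (.leaf
  28172) (.leaf
  28164))))))) (.node 18 (.node 9 (.node 4 (.node 2 (.node 1 (.leaf
  282) (.leaf
  274)) (.node 1 (.leaf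
  28300) (.leaf
  15854))) (.node 2 (.node 1 (.leaf
  15830) (.leaf
  15838)) (.node 1 (.leaf
  15814) (.node 1 (.leaf
  15822) (.leaf
  15806))))) (.node 4 (.node 2 (.node 1 (.leaf
  15798) (.leaf
  330)) (.node 1 (.leaf
  322) (.leaf
  27156))) (.node 2 (.node 1 (.leaf
  27164) (.leaf
  27140)) (.node 1 (.leaf
  27148) (.node 1 (.leaf
  402) (.leaf
  410)))))) (.node 9 (.node 4 (.node 2 (.node 1 (.leaf
  27268) (.leaf
  27276)) (.node 1 (.leaf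
  15318) (.leaf
  15326))) (.node 2 (.node 1 (.leaf
  15302) (.leaf
  15310)) (.node 1 (.leaf
  466) (.node 1 (.leaf
  474) (.leaf
  15278))))) (.node 4 (.node 2 (.node 1 (.leaf
  15270) (.leaf
  26692)) (.node 1 (.leaf
  26700) (.leaf
  26708))) (.node 2 (.node 1 (.leaf
  26716) (.leaf
  26844)) (.node 1 (.leaf
  26836) (.node 1 (.leaf
  26828) (.leaf
  514)))))))) (.node 36 (.node 18 (.node 9 (.node 4 (.node 2 (.node 1 (.leaf
  27100) (.leaf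
  27092)) (.node 1 (.leaf
  27084) (.leaf
  27076))) (.node 2 (.node 1 (.leaf
  26948) (.leaf
  26956)) (.node 1 (.leaf
  586) (.node 1 (.leaf
  578) (.leaf
  27740))))) (.node 4 (.node 2 (.node 1 (.leaf
  27732) (.leaf
  27724)) (.node 1 (.leaf
  27716) (.leaf
  27844))) (.node 2 (.node 1 (.leaf
  27852) (.leaf
  642)) (.node 1 (.leaf
  650) (.node 1 (.leaf
  28100) (.leaf
  28108)))))) (.node 9 (.node 4 (.node 2 (.node 1 (.leaf
  643) (.leaf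
  651)) (.node 1 (.leaf
  27996) (.leaf
  27988))) (.node 2 (.node 1 (.leaf
  675) (.leaf
  683)) (.node 1 (.leaf
  28228) (.node 1 (.leaf
  10125) (.leaf
  28244))))) (.node 4 (.node 2 (.node 1 (.leaf
  28252) (.leaf
  10205)) (.node 1 (.leaf
  10197) (.leaf
  10189))) (.node 2 (.node 1 (.leaf
  10181) (.leaf
  15446)) (.node 1 (.leaf
  787) (.node 1 (.leaf
  28620) (.leaf
  28612))))))) (.node 18 (.node 9 (.node 4 (.node 2 (.node 1 (.leaf
  10149) (.leaf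
  10157)) (.node 1 (.leaf
  811) (.leaf
  803))) (.node 2 (.node 1 (.leaf
  27228) (.leaf
  27220)) (.node 1 (.leaf
  27212) (.node 1 (.leaf
  27204) (.leaf
  27332))))) (.node 4 (.node 2 (.node 1 (.leaf
  898) (.leaf
  27348)) (.node 1 (.leaf
  914) (.leaf
  27588))) (.node 2 (.node 1 (.leaf
  9837) (.leaf
  27604)) (.node 1 (.leaf
  27612) (.node 1 (.leaf
  27484) (.leaf
  962)))))) (.node 9 (.node 4 (.node 2 (.node 1 (.leaf
  27468) (.leaf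
  978)) (.node 1 (.leaf
  26668) (.leaf
  26660))) (.node 2 (.node 1 (.leaf
  26684) (.leaf
  26676)) (.node 1 (.leaf
  1034) (.node 1 (.leaf
  26796) (.leaf
  1050))))) (.node 4 (.node 2 (.node 1 (.leaf
  26812) (.leaf
  27052)) (.node 1 (.leaf
  27044) (.leaf
  1027))) (.node 2 (.node 1 (.leaf
  1035) (.leaf
  1098)) (.node 1 (.leaf
  26924) (.node 1 (.leaf
  1059) (.leaf
  1067))))))))) (.node 72 (.node 36 (.node 18 (.node 9 (.node 4 (.node 2 (.node 1 (.leaf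
  16022) (.leaf
  27684)) (.node 1 (.leaf
  16006) (.leaf
  16014))) (.node 2 (.node 1 (.leaf
  16126) (.leaf
  16118)) (.node 1 (.leaf
  16110) (.node 1 (.leaf
  16102) (.leaf
  16094))))) (.node 4 (.node 2 (.node 1 (.leaf
  16086) (.leaf
  16078)) (.node 1 (.leaf
  16070) (.leaf
  16054))) (.node 2 (.node 1 (.leaf
  16062) (.leaf
  16038)) (.node 1 (.leaf
  16046) (.node 1 (.leaf
  28196) (.leaf
  28204)))))) (.node 9 (.node 4 (.node 2 (.node 1 (.leaf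
  28212) (.leaf
  28220)) (.node 1 (.leaf
  1298) (.leaf
  1306))) (.node 2 (.node 1 (.leaf
  9173) (.leaf
  28340)) (.node 1 (.leaf
  15582) (.node 1 (.leaf
  28588) (.leaf
  28596))))) (.node 4 (.node 2 (.node 1 (.leaf
  28604) (.leaf
  15542)) (.node 1 (.leaf
  15550) (.leaf
  15526))) (.node 2 (.node 1 (.leaf
  15534) (.leaf
  27172)) (.node 1 (.leaf
  27180) (.node 1 (.leaf
  27188) (.leaf
  27196))))))) (.node 18 (.node 9 (.node 4 (.node 2 (.node 1 (.leaf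
  1434) (.leaf
  1426)) (.node 1 (.leaf
  27324) (.leaf
  27316))) (.node 2 (.node 1 (.leaf
  1435) (.leaf
  1427)) (.node 1 (.leaf
  27572) (.node 1 (.leaf
  27580) (.leaf
  15038))))) (.node 4 (.node 2 (.node 1 (.leaf
  15030) (.leaf
  15022)) (.node 1 (.leaf
  15014) (.leaf
  26732))) (.node 2 (.node 1 (.leaf
  26724) (.leaf
  1611)) (.node 1 (.leaf
  26740) (.node 1 (.leaf
  26876) (.leaf
  26868)))))) (.node 9 (.node 4 (.node 2 (.node 1 (.leaf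
  1538) (.leaf
  1546)) (.node 1 (.leaf
  27108) (.leaf
  27116))) (.node 2 (.node 1 (.leaf
  1547) (.leaf
  27132)) (.node 1 (.leaf
  26996) (.node 1 (.leaf
  27004) (.leaf
  1602))))) (.node 4 (.node 2 (.node 1 (.leaf
  1610) (.leaf
  27772)) (.node 1 (.leaf
  27764) (.leaf
  9349))) (.node 2 (.node 1 (.leaf
  27748) (.leaf
  27884)) (.node 1 (.leaf
  27876) (.node 1 (.leaf
  1674) (.leaf
  9429)))))))) (.node 36 (.node 18 (.node 9 (.node 4 (.node 2 (.node 1 (.leaf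
  9453) (.leaf
  9445)) (.node 1 (.leaf
  9469) (.leaf
  9461))) (.node 2 (.node 1 (.leaf
  1754) (.leaf
  9405)) (.node 1 (.leaf
  28020) (.node 1 (.leaf
  9389) (.leaf
  9605))))) (.node 4 (.node 2 (.node 1 (.leaf
  9613) (.leaf
  9621)) (.node 1 (.leaf
  9629) (.leaf
  9693))) (.node 2 (.node 1 (.leaf
  1794) (.leaf
  9677)) (.node 1 (.leaf
  1810) (.node 1 (.leaf
  9725) (.leaf
  9717)))))) (.node 9 (.node 4 (.node 2 (.node 1 (.leaf
  9709) (.leaf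
  9701)) (.node 1 (.leaf
  9637) (.leaf
  9645))) (.node 2 (.node 1 (.leaf
  9653) (.leaf
  9661)) (.node 1 (.leaf
  27244) (.node 1 (.leaf
  27236) (.leaf
  27260))))) (.node 4 (.node 2 (.node 1 (.leaf
  27252) (.leaf
  15206)) (.node 1 (.leaf
  27380) (.leaf
  27372))) (.node 2 (.node 1 (.leaf
  27364) (.leaf
  1939)) (.node 1 (.leaf
  1947) (.node 1 (.leaf
  27636) (.leaf
  27644))))))) (.node 18 (.node 9 (.node 4 (.node 2 (.node 1 (.leaf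
  9277) (.leaf
  1979)) (.node 1 (.leaf
  9261) (.leaf
  27500))) (.node 2 (.node 1 (.leaf
  23004) (.leaf
  22996)) (.node 1 (.leaf
  22988) (.node 1 (.leaf
  22980) (.leaf
  2050))))) (.node 4 (.node 2 (.node 1 (.leaf
  2058) (.leaf
  2066)) (.node 1 (.leaf
  2074) (.leaf
  2051))) (.node 2 (.node 1 (.leaf
  2059) (.leaf
  2067)) (.node 1 (.leaf
  2075) (.node 1 (.leaf
  4485) (.leaf
  22724)))))) (.node 9 (.node 4 (.node 2 (.node 1 (.leaf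
  4501) (.leaf
  22740)) (.node 1 (.leaf
  24020) (.leaf
  24028))) (.node 2 (.node 1 (.leaf
  24004) (.leaf
  24012)) (.node 1 (.leaf
  2186) (.node 1 (.leaf
  2178) (.leaf
  2202))))) (.node 4 (.node 2 (.node 1 (.leaf
  2194) (.leaf
  2203)) (.node 1 (.leaf
  23628) (.leaf
  2187))) (.node 2 (.node 1 (.leaf
  2179) (.leaf
  23748)) (.node 1 (.leaf
  23756) (.node 1 (.leaf
  4109) (.leaf
  4101)))))))))) (.node 144 (.node 72 (.node 36 (.node 18 (.node 9 (.node 4 (.node 2 (.node 1 (.leaf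
  24516) (.leaf
  24524)) (.node 1 (.leaf
  24532) (.leaf
  24540))) (.node 2 (.node 1 (.leaf
  2330) (.leaf
  2322)) (.node 1 (.leaf
  2314) (.node 1 (.leaf
  2306) (.leaf
  2323))))) (.node 4 (.node 2 (.node 1 (.leaf
  12190) (.leaf
  2307)) (.node 1 (.leaf
  2315) (.leaf
  4365))) (.node 2 (.node 1 (.leaf
  24284) (.leaf
  4381)) (.node 1 (.leaf
  4373) (.node 1 (.leaf
  23500) (.leaf
  23492)))))) (.node 9 (.node 4 (.node 2 (.node 1 (.leaf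
  23516) (.leaf
  23508)) (.node 1 (.leaf
  2450) (.leaf
  2458))) (.node 2 (.node 1 (.leaf
  2434) (.leaf
  2442)) (.node 1 (.leaf
  23132) (.node 1 (.leaf
  2435) (.leaf
  23116))))) (.node 4 (.node 2 (.node 1 (.leaf
  2451) (.leaf
  23260)) (.node 1 (.leaf
  23252) (.leaf
  23244))) (.node 2 (.node 1 (.leaf
  23236) (.leaf
  22932)) (.node 1 (.leaf
  22940) (.node 1 (.leaf
  22916) (.leaf
  22924))))))) (.node 18 (.node 9 (.node 4 (.node 2 (.node 1 (.leaf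
  2586) (.leaf
  2578)) (.node 1 (.leaf
  10806) (.leaf
  10814))) (.node 2 (.node 1 (.leaf
  10782) (.leaf
  10774)) (.node 1 (.leaf
  10766) (.node 1 (.leaf
  10758) (.leaf
  2650))))) (.node 4 (.node 2 (.node 1 (.leaf
  2642) (.leaf
  2634)) (.node 1 (.leaf
  2626) (.leaf
  23948))) (.node 2 (.node 1 (.leaf
  23940) (.leaf
  11358)) (.node 1 (.leaf
  11350) (.node 1 (.leaf
  11318) (.leaf
  11326)))))) (.node 9 (.node 4 (.node 2 (.node 1 (.leaf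
  11302) (.leaf
  11310)) (.node 1 (.leaf
  11278) (.leaf
  11270))) (.node 2 (.node 1 (.leaf
  11294) (.leaf
  11286)) (.node 1 (.leaf
  2770) (.node 1 (.leaf
  2778) (.leaf
  2754))))) (.node 4 (.node 2 (.node 1 (.leaf
  2762) (.leaf
  24468)) (.node 1 (.leaf
  24476) (.leaf
  24452))) (.node 2 (.node 1 (.leaf
  24460) (.leaf
  2818)) (.node 1 (.leaf
  2826) (.node 1 (.leaf
  11830) (.leaf
  11838)))))))) (.node 36 (.node 18 (.node 9 (.node 4 (.node 2 (.node 1 (.leaf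
  11806) (.leaf
  11798)) (.node 1 (.leaf
  11790) (.leaf
  11782))) (.node 2 (.node 1 (.leaf
  2882) (.leaf
  2890)) (.node 1 (.leaf
  2898) (.node 1 (.leaf
  2906) (.leaf
  10318))))) (.node 4 (.node 2 (.node 1 (.leaf
  10310) (.leaf
  10334)) (.node 1 (.leaf
  10326) (.leaf
  10294))) (.node 2 (.node 1 (.leaf
  10302) (.leaf
  10278)) (.node 1 (.leaf
  10286) (.node 1 (.leaf
  10254) (.leaf
  10246)))))) (.node 9 (.node 4 (.node 2 (.node 1 (.leaf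
  10270) (.leaf
  10262)) (.node 1 (.leaf
  3018) (.leaf
  3010))) (.node 2 (.node 1 (.leaf
  3034) (.leaf
  3026)) (.node 1 (.leaf
  23012) (.node 1 (.leaf
  23020) (.leaf
  23028))))) (.node 4 (.node 2 (.node 1 (.leaf
  23036) (.leaf
  3187)) (.node 1 (.leaf
  3195) (.leaf
  5117))) (.node 2 (.node 1 (.leaf
  3090) (.leaf
  5061)) (.node 1 (.leaf
  5069) (.node 1 (.leaf
  5077) (.leaf
  5085))))))) (.node 18 (.node 9 (.node 4 (.node 2 (.node 1 (.leaf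
  4997) (.leaf
  5005)) (.node 1 (.leaf
  5013) (.leaf
  5021))) (.node 2 (.node 1 (.leaf
  4661) (.leaf
  4669)) (.node 1 (.leaf
  4645) (.node 1 (.leaf
  4653) (.leaf
  4725))))) (.node 4 (.node 2 (.node 1 (.leaf
  4733) (.leaf
  4709)) (.node 1 (.leaf
  4717) (.leaf
  4701))) (.node 2 (.node 1 (.leaf
  4693) (.leaf
  4685)) (.node 1 (.leaf
  4677) (.node 1 (.leaf
  4637) (.leaf
  3274)))))) (.node 9 (.node 4 (.node 2 (.node 1 (.leaf
  4621) (.leaf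
  3290)) (.node 1 (.leaf
  4901) (.leaf
  24548))) (.node 2 (.node 1 (.leaf
  4917) (.leaf
  24564)) (.node 1 (.leaf
  4965) (.node 1 (.leaf
  4973) (.leaf
  4981))))) (.node 4 (.node 2 (.node 1 (.leaf
  4989) (.leaf
  4941)) (.node 1 (.leaf
  4933) (.leaf
  4957))) (.node 2 (.node 1 (.leaf
  4949) (.leaf
  4877)) (.node 1 (.leaf
  4869) (.node 1 (.leaf
  4893) (.leaf
  3402))))))))) (.node 72 (.node 36 (.node 18 (.node 9 (.node 4 (.node 2 (.node 1 (.leaf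
  23532) (.leaf
  23524)) (.node 1 (.leaf
  23548) (.leaf
  23540))) (.node 2 (.node 1 (.leaf
  4861) (.leaf
  4853)) (.node 1 (.leaf
  3466) (.node 1 (.leaf
  3458) (.leaf
  4821))))) (.node 4 (.node 2 (.node 1 (.leaf
  23140) (.leaf
  4805)) (.node 1 (.leaf
  4813) (.leaf
  4757))) (.node 2 (.node 1 (.leaf
  3538) (.leaf
  4741)) (.node 1 (.leaf
  4749) (.node 1 (.leaf
  22956) (.leaf
  22948)))))) (.node 9 (.node 4 (.node 2 (.node 1 (.leaf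
  22972) (.leaf
  22964)) (.node 1 (.leaf
  3602) (.leaf
  3610))) (.node 2 (.node 1 (.leaf
  3586) (.leaf
  3594)) (.node 1 (.leaf
  3611) (.node 1 (.leaf
  3603) (.leaf
  3595))))) (.node 4 (.node 2 (.node 1 (.leaf
  3587) (.leaf
  22708)) (.node 1 (.leaf
  3635) (.leaf
  22692))) (.node 2 (.node 1 (.leaf
  3619) (.leaf
  23996)) (.node 1 (.leaf
  23988) (.node 1 (.leaf
  23980) (.leaf
  23972))))))) (.node 18 (.node 9 (.node 4 (.node 2 (.node 1 (.leaf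
  3738) (.leaf
  3730)) (.node 1 (.leaf
  3722) (.leaf
  3714))) (.node 2 (.node 1 (.leaf
  3715) (.leaf
  3723)) (.node 1 (.leaf
  3731) (.node 1 (.leaf
  5213) (.leaf
  5125))))) (.node 4 (.node 2 (.node 1 (.leaf
  5133) (.leaf
  23732)) (.node 1 (.leaf
  11622) (.leaf
  24508))) (.node 2 (.node 1 (.leaf
  24500) (.leaf
  24492)) (.node 1 (.leaf
  24484) (.node 1 (.leaf
  3850) (.leaf
  3842)))))) (.node 9 (.node 4 (.node 2 (.node 1 (.leaf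
  3866) (.leaf
  12078)) (.node 1 (.leaf
  3851) (.leaf
  5469))) (.node 2 (.node 1 (.leaf
  3867) (.leaf
  5453)) (.node 1 (.leaf
  24228) (.node 1 (.leaf
  3875) (.leaf
  24244))))) (.node 4 (.node 2 (.node 1 (.leaf
  3891) (.leaf
  23468)) (.node 1 (.leaf
  23460) (.leaf
  23484))) (.node 2 (.node 1 (.leaf
  23476) (.leaf
  3970)) (.node 1 (.leaf
  3978) (.node 1 (.leaf
  3986) (.leaf
  3994)))))))) (.node 36 (.node 18 (.node 9 (.node 4 (.node 2 (.node 1 (.leaf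
  3987) (.leaf
  3995)) (.node 1 (.leaf
  3971) (.leaf
  3979))) (.node 2 (.node 1 (.leaf
  23220) (.leaf
  10598)) (.node 1 (.leaf
  23204) (.node 1 (.leaf
  10614) (.leaf
  25156))))) (.node 4 (.node 2 (.node 1 (.leaf
  25164) (.leaf
  25172)) (.node 1 (.leaf
  25180) (.leaf
  4098))) (.node 2 (.node 1 (.leaf
  4106) (.leaf
  25284)) (.node 1 (.leaf
  25292) (.node 1 (.leaf
  25564) (.leaf
  4107)))))) (.node 9 (.node 4 (.node 2 (.node 1 (.leaf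
  25548) (.leaf
  4123)) (.node 1 (.leaf
  25420) (.leaf
  25412))) (.node 2 (.node 1 (.leaf
  25436) (.leaf
  25428)) (.node 1 (.leaf
  26188) (.node 1 (.leaf
  26180) (.leaf
  26204))))) (.node 4 (.node 2 (.node 1 (.leaf
  26196) (.leaf
  4234)) (.node 1 (.leaf
  12557) (.leaf
  12565))) (.node 2 (.node 1 (.leaf
  12573) (.leaf
  26580)) (.node 1 (.leaf
  4243) (.node 1 (.leaf
  12581) (.leaf
  4227))))))) (.node 18 (.node 9 (.node 4 (.node 2 (.node 1 (.leaf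
  26436) (.leaf
  26444)) (.node 1 (.leaf
  26452) (.leaf
  26460))) (.node 2 (.node 1 (.leaf
  25692) (.leaf
  25684)) (.node 1 (.leaf
  25676) (.node 1 (.leaf
  25668) (.leaf
  12309))))) (.node 4 (.node 2 (.node 1 (.leaf
  12317) (.leaf
  4362)) (.node 1 (.leaf
  4354) (.leaf
  26052))) (.node 2 (.node 1 (.leaf
  4379) (.leaf
  4355)) (.node 1 (.leaf
  4363) (.node 1 (.leaf
  12405) (.leaf
  12413)))))) (.node 9 (.node 4 (.node 2 (.node 1 (.leaf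
  25924) (.leaf
  25932)) (.node 1 (.leaf
  24660) (.leaf
  24668))) (.node 2 (.node 1 (.leaf
  24644) (.leaf
  24652)) (.node 1 (.leaf
  4498) (.node 1 (.leaf
  4506) (.leaf
  12701))))) (.node 4 (.node 2 (.node 1 (.leaf
  12693) (.leaf
  4491)) (.node 1 (.leaf
  4483) (.leaf
  4507))) (.node 2 (.node 1 (.leaf
  4499) (.leaf
  12781)) (.node 1 (.leaf
  24916) (.node 1 (.leaf
  12797) (.leaf
  4531))))))))))) (.node 288 (.node 144 (.node 72 (.node 36 (.node 18 (.node 9 (.node 4 (.node 2 (.node 1 (.leaf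
  18454) (.leaf
  18462)) (.node 1 (.leaf
  18438) (.leaf
  18446))) (.node 2 (.node 1 (.leaf
  18558) (.leaf
  18550)) (.node 1 (.leaf
  18542) (.node 1 (.leaf
  18534) (.leaf
  18526))))) (.node 4 (.node 2 (.node 1 (.leaf
  18518) (.leaf
  18510)) (.node 1 (.leaf
  18502) (.leaf
  18486))) (.node 2 (.node 1 (.leaf
  4690) (.leaf
  18470)) (.node 1 (.leaf
  4674) (.node 1 (.leaf
  26132) (.leaf
  26140)))))) (.node 9 (.node 4 (.node 2 (.node 1 (.leaf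
  19990) (.leaf
  19998)) (.node 1 (.leaf
  20078) (.leaf
  20070))) (.node 2 (.node 1 (.leaf
  20094) (.leaf
  20086)) (.node 1 (.leaf
  20046) (.node 1 (.leaf
  20038) (.leaf
  20062))))) (.node 4 (.node 2 (.node 1 (.leaf
  20054) (.leaf
  4818)) (.node 1 (.leaf
  20014) (.leaf
  4802))) (.node 2 (.node 1 (.leaf
  20030) (.leaf
  25612)) (.node 1 (.leaf
  25604) (.node 1 (.leaf
  19462) (.leaf
  19470))))))) (.node 18 (.node 9 (.node 4 (.node 2 (.node 1 (.leaf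
  19582) (.leaf
  19574)) (.node 1 (.leaf
  19566) (.leaf
  19558))) (.node 2 (.node 1 (.leaf
  19550) (.leaf
  19542)) (.node 1 (.leaf
  19534) (.node 1 (.leaf
  19526) (.leaf
  4930))))) (.node 4 (.node 2 (.node 1 (.leaf
  19518) (.leaf
  4946)) (.node 1 (.leaf
  19502) (.leaf
  24596))) (.node 2 (.node 1 (.leaf
  24604) (.leaf
  24580)) (.node 1 (.leaf
  24588) (.node 1 (.leaf
  19054) (.leaf
  19046)))))) (.node 9 (.node 4 (.node 2 (.node 1 (.leaf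
  5018) (.leaf
  5010)) (.node 1 (.leaf
  19022) (.leaf
  19014))) (.node 2 (.node 1 (.leaf
  19038) (.leaf
  19030)) (.node 1 (.leaf
  18982) (.node 1 (.leaf
  5058) (.leaf
  5082))))) (.node 4 (.node 2 (.node 1 (.leaf
  5074) (.leaf
  25204)) (.node 1 (.leaf
  25212) (.leaf
  25188))) (.node 2 (.node 1 (.leaf
  25196) (.leaf
  5130)) (.node 1 (.leaf
  5122) (.node 1 (.leaf
  12941) (.leaf
  12933)))))))) (.node 36 (.node 18 (.node 9 (.node 4 (.node 2 (.node 1 (.leaf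
  12973) (.leaf
  12965)) (.node 1 (.leaf
  12989) (.leaf
  12981))) (.node 2 (.node 1 (.leaf
  25444) (.leaf
  25452)) (.node 1 (.leaf
  13037) (.node 1 (.leaf
  13029) (.leaf
  26228))))) (.node 4 (.node 2 (.node 1 (.leaf
  26236) (.leaf
  26212)) (.node 1 (.leaf
  26220) (.leaf
  26348))) (.node 2 (.node 1 (.leaf
  13069) (.leaf
  26364)) (.node 1 (.leaf
  13085) (.node 1 (.leaf
  13109) (.leaf
  13117)))))) (.node 9 (.node 4 (.node 2 (.node 1 (.leaf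
  13093) (.leaf
  13101)) (.node 1 (.leaf
  13157) (.leaf
  5322))) (.node 2 (.node 1 (.leaf
  13173) (.leaf
  13181)) (.node 1 (.leaf
  12869) (.node 1 (.leaf
  12877) (.leaf
  12885))))) (.node 4 (.node 2 (.node 1 (.leaf
  12893) (.leaf
  12821)) (.node 1 (.leaf
  12829) (.leaf
  12805))) (.node 2 (.node 1 (.leaf
  12813) (.leaf
  12837)) (.node 1 (.leaf
  12845) (.node 1 (.leaf
  12853) (.leaf
  12861))))))) (.node 18 (.node 9 (.node 4 (.node 2 (.node 1 (.leaf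
  12917) (.leaf
  12925)) (.node 1 (.leaf
  12901) (.leaf
  12909))) (.node 2 (.node 1 (.leaf
  13277) (.leaf
  24692)) (.node 1 (.leaf
  24684) (.node 1 (.leaf
  24676) (.leaf
  13197))))) (.node 4 (.node 2 (.node 1 (.leaf
  24812) (.leaf
  13213)) (.node 1 (.leaf
  24828) (.leaf
  13245))) (.node 2 (.node 1 (.leaf
  13237) (.leaf
  13229)) (.node 1 (.leaf
  13221) (.node 1 (.leaf
  13293) (.leaf
  13285)))))) (.node 9 (.node 4 (.node 2 (.node 1 (.leaf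
  13309) (.leaf
  5539)) (.node 1 (.leaf
  25148) (.leaf
  25140))) (.node 2 (.node 1 (.leaf
  5707) (.leaf
  13517)) (.node 1 (.leaf
  13445) (.node 1 (.leaf
  25268) (.leaf
  13461))))) (.node 4 (.node 2 (.node 1 (.leaf
  13469) (.leaf
  13493)) (.node 1 (.leaf
  13501) (.leaf
  13477))) (.node 2 (.node 1 (.leaf
  13485) (.leaf
  13541)) (.node 1 (.leaf
  5722) (.node 1 (.leaf
  13557) (.leaf
  5706))))))))) (.node 72 (.node 36 (.node 18 (.node 9 (.node 4 (.node 2 (.node 1 (.leaf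
  13645) (.leaf
  5835)) (.node 1 (.leaf
  13661) (.leaf
  5851))) (.node 2 (.node 1 (.leaf
  13597) (.leaf
  13589)) (.node 1 (.leaf
  13581) (.node 1 (.leaf
  13573) (.leaf
  13613))))) (.node 4 (.node 2 (.node 1 (.leaf
  13605) (.leaf
  13629)) (.node 1 (.leaf
  13621) (.leaf
  5850))) (.node 2 (.node 1 (.leaf
  13685) (.leaf
  5834)) (.node 1 (.leaf
  13669) (.node 1 (.leaf
  25644) (.leaf
  25636)))))) (.node 9 (.node 4 (.node 2 (.node 1 (.leaf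
  13389) (.leaf
  13381)) (.node 1 (.leaf
  25772) (.leaf
  13317))) (.node 2 (.node 1 (.leaf
  25788) (.leaf
  13333)) (.node 1 (.leaf
  13373) (.node 1 (.leaf
  13365) (.leaf
  13357))))) (.node 4 (.node 2 (.node 1 (.leaf
  13349) (.leaf
  5962)) (.node 1 (.leaf
  13413) (.leaf
  5947))) (.node 2 (.node 1 (.leaf
  13429) (.leaf
  13765)) (.node 1 (.leaf
  24628) (.node 1 (.leaf
  24620) (.leaf
  24612))))))) (.node 18 (.node 9 (.node 4 (.node 2 (.node 1 (.leaf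
  13717) (.leaf
  13725)) (.node 1 (.leaf
  13701) (.leaf
  13709))) (.node 2 (.node 1 (.leaf
  13733) (.leaf
  13741)) (.node 1 (.leaf
  13749) (.node 1 (.leaf
  13757) (.leaf
  13813))))) (.node 4 (.node 2 (.node 1 (.leaf
  6090) (.leaf
  13797)) (.node 1 (.leaf
  6059) (.leaf
  33236))) (.node 2 (.node 1 (.leaf
  33244) (.leaf
  33220)) (.node 1 (.leaf
  33228) (.node 1 (.leaf
  17342) (.leaf
  33116)))))) (.node 9 (.node 4 (.node 2 (.node 1 (.leaf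
  17326) (.leaf
  17318)) (.node 1 (.leaf
  17286) (.leaf
  17294))) (.node 2 (.node 1 (.leaf
  17302) (.leaf
  17310)) (.node 1 (.leaf
  17406) (.node 1 (.leaf
  17398) (.leaf
  32980))))) (.node 4 (.node 2 (.node 1 (.leaf
  32988) (.leaf
  141)) (.node 1 (.leaf
  133) (.leaf
  34252))) (.node 2 (.node 1 (.leaf
  149) (.leaf
  6282)) (.node 1 (.leaf
  221) (.node 1 (.leaf
  197) (.leaf
  205)))))))) (.node 36 (.node 18 (.node 9 (.node 4 (.node 2 (.node 1 (.leaf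
  17798) (.leaf
  17806)) (.node 1 (.leaf
  6283) (.leaf
  6275))) (.node 2 (.node 1 (.leaf
  173) (.leaf
  165)) (.node 1 (.leaf
  189) (.node 1 (.leaf
  181) (.leaf
  34764))))) (.node 4 (.node 2 (.node 1 (.leaf
  405) (.leaf
  34780)) (.node 1 (.leaf
  389) (.leaf
  453))) (.node 2 (.node 1 (.leaf
  461) (.leaf
  469)) (.node 1 (.leaf
  477) (.node 1 (.leaf
  18334) (.leaf
  18326)))))) (.node 9 (.node 4 (.node 2 (.node 1 (.leaf
  6403) (.leaf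
  509)) (.node 1 (.leaf
  34524) (.leaf
  437))) (.node 2 (.node 1 (.leaf
  429) (.leaf
  421)) (.node 1 (.leaf
  5) (.node 1 (.leaf
  13) (.leaf
  21))))) (.node 4 (.node 2 (.node 1 (.leaf
  29) (.leaf
  6546)) (.node 1 (.leaf
  85) (.leaf
  6530))) (.node 2 (.node 1 (.leaf
  69) (.leaf
  6539)) (.node 1 (.leaf
  6531) (.node 1 (.leaf
  6626) (.leaf
  6547))))))) (.node 18 (.node 9 (.node 4 (.node 2 (.node 1 (.leaf
  37) (.leaf
  45)) (.node 1 (.leaf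
  53) (.leaf
  6579))) (.node 2 (.node 1 (.leaf
  1805) (.leaf
  1797)) (.node 1 (.leaf
  33164) (.node 1 (.leaf
  1813) (.leaf
  1877))))) (.node 4 (.node 2 (.node 1 (.leaf
  1885) (.leaf
  1861)) (.node 1 (.leaf
  1869) (.leaf
  1909))) (.node 2 (.node 1 (.leaf
  1917) (.leaf
  1893)) (.node 1 (.leaf
  1901) (.node 1 (.leaf
  1837) (.leaf
  1829)))))) (.node 9 (.node 4 (.node 2 (.node 1 (.leaf
  1853) (.leaf
  1845)) (.node 1 (.leaf
  34180) (.leaf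
  34188))) (.node 2 (.node 1 (.leaf
  34196) (.leaf
  34204)) (.node 1 (.leaf
  34076) (.node 1 (.leaf
  6810) (.leaf
  34060))))) (.node 4 (.node 2 (.node 1 (.leaf
  6794) (.leaf
  33820)) (.node 1 (.leaf
  6811) (.leaf
  33804))) (.node 2 (.node 1 (.leaf
  6795) (.leaf
  33924)) (.node 1 (.leaf
  33932) (.node 1 (.leaf
  33940) (.leaf
  33948)))))))))) (.node 144 (.node 72 (.node 36 (.node 18 (.node 9 (.node 4 (.node 2 (.node 1 (.leaf
  34716) (.leaf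
  34708)) (.node 1 (.leaf
  34700) (.leaf
  34692))) (.node 2 (.node 1 (.leaf
  6914) (.leaf
  6922)) (.node 1 (.leaf
  34580) (.node 1 (.leaf
  34588) (.leaf
  34308))))) (.node 4 (.node 2 (.node 1 (.leaf
  34316) (.leaf
  6923)) (.node 1 (.leaf
  6915) (.leaf
  34460))) (.node 2 (.node 1 (.leaf
  34452) (.leaf
  34444)) (.node 1 (.leaf
  34436) (.node 1 (.leaf
  33668) (.leaf
  33676)))))) (.node 9 (.node 4 (.node 2 (.node 1 (.leaf
  33684) (.leaf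
  33692)) (.node 1 (.leaf
  33564) (.leaf
  33556))) (.node 2 (.node 1 (.leaf
  33548) (.leaf
  33540)) (.node 1 (.leaf
  33308) (.node 1 (.leaf
  33300) (.leaf
  33292))))) (.node 4 (.node 2 (.node 1 (.leaf
  33284) (.leaf
  33412)) (.node 1 (.leaf
  33420) (.leaf
  33428))) (.node 2 (.node 1 (.leaf
  33436) (.leaf
  789)) (.node 1 (.leaf
  33252) (.node 1 (.leaf
  33276) (.leaf
  33268))))))) (.node 18 (.node 9 (.node 4 (.node 2 (.node 1 (.leaf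
  33124) (.leaf
  33132)) (.node 1 (.leaf
  7194) (.leaf
  7186))) (.node 2 (.node 1 (.leaf
  7187) (.leaf
  7195)) (.node 1 (.leaf
  32892) (.node 1 (.leaf
  32884) (.leaf
  17150))))) (.node 4 (.node 2 (.node 1 (.leaf
  33004) (.leaf
  17134)) (.node 1 (.leaf
  33020) (.leaf
  34284))) (.node 2 (.node 1 (.leaf
  645) (.leaf
  34300)) (.node 1 (.leaf
  661) (.node 1 (.leaf
  725) (.leaf
  34156)))))) (.node 9 (.node 4 (.node 2 (.node 1 (.leaf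
  709) (.leaf
  34172)) (.node 1 (.leaf
  33900) (.leaf
  33892))) (.node 2 (.node 1 (.leaf
  33916) (.leaf
  33908)) (.node 1 (.leaf
  34020) (.node 1 (.leaf
  677) (.leaf
  34036))))) (.node 4 (.node 2 (.node 1 (.leaf
  693) (.leaf
  18126)) (.node 1 (.leaf
  917) (.leaf
  18142))) (.node 2 (.node 1 (.leaf
  18134) (.leaf
  18102)) (.node 1 (.leaf
  18110) (.node 1 (.leaf
  18086) (.leaf
  18094)))))))) (.node 36 (.node 18 (.node 9 (.node 4 (.node 2 (.node 1 (.leaf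
  18062) (.leaf
  18054)) (.node 1 (.leaf
  18078) (.leaf
  18070))) (.node 2 (.node 1 (.leaf
  18166) (.leaf
  18174)) (.node 1 (.leaf
  18150) (.node 1 (.leaf
  18158) (.leaf
  517))))) (.node 4 (.node 2 (.node 1 (.leaf
  33772) (.leaf
  533)) (.node 1 (.leaf
  33788) (.leaf
  605))) (.node 2 (.node 1 (.leaf
  597) (.leaf
  589)) (.node 1 (.leaf
  581) (.node 1 (.leaf
  33380) (.leaf
  33388)))))) (.node 9 (.node 4 (.node 2 (.node 1 (.leaf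
  7563) (.leaf
  613)) (.node 1 (.leaf
  549) (.leaf
  33508))) (.node 2 (.node 1 (.leaf
  565) (.leaf
  573)) (.node 1 (.leaf
  17238) (.node 1 (.leaf
  17246) (.leaf
  1309))))) (.node 4 (.node 2 (.node 1 (.leaf
  33212) (.leaf
  17198)) (.node 1 (.leaf
  17190) (.leaf
  17214))) (.node 2 (.node 1 (.leaf
  17206) (.leaf
  17174)) (.node 1 (.leaf
  17182) (.node 1 (.leaf
  17158) (.leaf
  17166))))))) (.node 18 (.node 9 (.node 4 (.node 2 (.node 1 (.leaf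
  17262) (.leaf
  17254)) (.node 1 (.leaf
  17278) (.leaf
  17270))) (.node 2 (.node 1 (.leaf
  17742) (.leaf
  17734)) (.node 1 (.leaf
  17758) (.node 1 (.leaf
  17750) (.leaf
  17718))))) (.node 4 (.node 2 (.node 1 (.leaf
  17726) (.leaf
  17702)) (.node 1 (.leaf
  17710) (.leaf
  17678))) (.node 2 (.node 1 (.leaf
  17670) (.leaf
  17694)) (.node 1 (.leaf
  17686) (.node 1 (.leaf
  17782) (.leaf
  17790)))))) (.node 9 (.node 4 (.node 2 (.node 1 (.leaf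
  17766) (.leaf
  17774)) (.node 1 (.leaf
  34740) (.leaf
  1421))) (.node 2 (.node 1 (.leaf
  1429) (.leaf
  1437)) (.node 1 (.leaf
  1501) (.node 1 (.leaf
  18230) (.leaf
  7962))))) (.node 4 (.node 2 (.node 1 (.leaf
  1477) (.leaf
  7947)) (.node 1 (.leaf
  18190) (.leaf
  7963))) (.node 2 (.node 1 (.leaf
  7955) (.leaf
  1445)) (.node 1 (.leaf
  1453) (.node 1 (.leaf
  1461) (.leaf
  1469))))))))) (.node 72 (.node 36 (.node 18 (.node 9 (.node 4 (.node 2 (.node 1 (.leaf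
  1053) (.leaf
  33708)) (.node 1 (.leaf
  1037) (.leaf
  1029))) (.node 2 (.node 1 (.leaf
  1093) (.leaf
  1101)) (.node 1 (.leaf
  8082) (.node 1 (.leaf
  1117) (.leaf
  8083))))) (.node 4 (.node 2 (.node 1 (.leaf
  8091) (.leaf
  8067)) (.node 1 (.leaf
  1149) (.leaf
  1085))) (.node 2 (.node 1 (.leaf
  1077) (.leaf
  1069)) (.node 1 (.leaf
  1061) (.node 1 (.leaf
  6429) (.leaf
  6421)))))) (.node 9 (.node 4 (.node 2 (.node 1 (.leaf
  6413) (.leaf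
  6405)) (.node 1 (.leaf
  6469) (.leaf
  6477))) (.node 2 (.node 1 (.leaf
  8210) (.leaf
  6493)) (.node 1 (.leaf
  6501) (.node 1 (.leaf
  6509) (.leaf
  8211))))) (.node 4 (.node 2 (.node 1 (.leaf
  6525) (.leaf
  6461)) (.node 1 (.leaf
  6453) (.leaf
  6445))) (.node 2 (.node 1 (.leaf
  6437) (.leaf
  32212)) (.node 1 (.leaf
  6285) (.node 1 (.leaf
  32196) (.leaf
  6301))))))) (.node 18 (.node 9 (.node 4 (.node 2 (.node 1 (.leaf
  30134) (.leaf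
  6357)) (.node 1 (.leaf
  6349) (.leaf
  6341))) (.node 2 (.node 1 (.leaf
  30094) (.leaf
  30086)) (.node 1 (.leaf
  30110) (.node 1 (.leaf
  30102) (.leaf
  6309))))) (.node 4 (.node 2 (.node 1 (.leaf
  6317) (.leaf
  6325)) (.node 1 (.leaf
  31964) (.leaf
  6549))) (.node 2 (.node 1 (.leaf
  6557) (.leaf
  6533)) (.node 1 (.leaf
  6541) (.node 1 (.leaf
  6605) (.leaf
  8466)))))) (.node 9 (.node 4 (.node 2 (.node 1 (.leaf
  6621) (.leaf
  8450)) (.node 1 (.leaf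
  8467) (.leaf
  6629))) (.node 2 (.node 1 (.leaf
  8451) (.leaf
  6645)) (.node 1 (.leaf
  6581) (.node 1 (.leaf
  6589) (.leaf
  6565))))) (.node 4 (.node 2 (.node 1 (.leaf
  6573) (.leaf
  31692)) (.node 1 (.leaf
  6149) (.leaf
  31708))) (.node 2 (.node 1 (.leaf
  6165) (.leaf
  6229)) (.node 1 (.leaf
  6237) (.node 1 (.leaf
  31580) (.leaf
  31572)))))))) (.node 36 (.node 18 (.node 9 (.node 4 (.node 2 (.node 1 (.leaf
  31324) (.leaf
  31316)) (.node 1 (.leaf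
  31308) (.leaf
  31300))) (.node 2 (.node 1 (.leaf
  6189) (.leaf
  31444)) (.node 1 (.leaf
  31436) (.node 1 (.leaf
  6197) (.leaf
  31124))))) (.node 4 (.node 2 (.node 1 (.leaf
  7949) (.leaf
  31108)) (.node 1 (.leaf
  7965) (.leaf
  8730))) (.node 2 (.node 1 (.leaf
  8021) (.leaf
  31004)) (.node 1 (.leaf
  30996) (.node 1 (.leaf
  8061) (.leaf
  30724)))))) (.node 9 (.node 4 (.node 2 (.node 1 (.leaf
  8731) (.leaf
  8037)) (.node 1 (.leaf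
  7973) (.leaf
  30876))) (.node 2 (.node 1 (.leaf
  29302) (.leaf
  7997)) (.node 1 (.leaf
  7837) (.node 1 (.leaf
  7829) (.leaf
  7821))))) (.node 4 (.node 2 (.node 1 (.leaf
  7813) (.leaf
  7877)) (.node 1 (.leaf
  7885) (.leaf
  7893))) (.node 2 (.node 1 (.leaf
  7901) (.leaf
  7909)) (.node 1 (.leaf
  7917) (.node 1 (.leaf
  7925) (.leaf
  7933))))))) (.node 18 (.node 9 (.node 4 (.node 2 (.node 1 (.leaf
  7869) (.leaf
  7861)) (.node 1 (.leaf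
  7853) (.leaf
  7845))) (.node 2 (.node 1 (.leaf
  32660) (.leaf
  8069)) (.node 1 (.leaf
  32644) (.node 1 (.leaf
  8085) (.leaf
  32524))))) (.node 4 (.node 2 (.node 1 (.leaf
  32516) (.leaf
  8133)) (.node 1 (.leaf
  32532) (.leaf
  32268))) (.node 2 (.node 1 (.leaf
  32260) (.leaf
  32284)) (.node 1 (.leaf
  32276) (.node 1 (.leaf
  8109) (.leaf
  32412)))))) (.node 9 (.node 4 (.node 2 (.node 1 (.leaf
  8125) (.leaf
  8117)) (.node 1 (.leaf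
  31628) (.leaf
  31620))) (.node 2 (.node 1 (.leaf
  31644) (.leaf
  31636)) (.node 1 (.leaf
  31508) (.node 1 (.leaf
  31516) (.leaf
  31492))))) (.node 4 (.node 2 (.node 1 (.leaf
  31500) (.leaf
  31252)) (.node 1 (.leaf
  31260) (.leaf
  31236))) (.node 2 (.node 1 (.leaf
  31244) (.leaf
  7733)) (.node 1 (.leaf
  31364) (.node 1 (.leaf
  28774) (.leaf
  9170)))))))))))) (.node 576 (.node 288 (.node 144 (.node 72 (.node 36 (.node 18 (.node 9 (.node 4 (.node 2 (.node 1 (.leaf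
  29390) (.leaf
  29382)) (.node 1 (.leaf
  29406) (.leaf
  29398))) (.node 2 (.node 1 (.leaf
  31084) (.leaf
  31076)) (.node 1 (.leaf
  29350) (.node 1 (.leaf
  29358) (.leaf
  9322))))) (.node 4 (.node 2 (.node 1 (.leaf
  29318) (.leaf
  30836)) (.node 1 (.leaf
  29334) (.leaf
  29430))) (.node 2 (.node 1 (.leaf
  29438) (.leaf
  29414)) (.node 1 (.leaf
  29422) (.node 1 (.leaf
  29894) (.leaf
  29902)))))) (.node 9 (.node 4 (.node 2 (.node 1 (.leaf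
  29910) (.leaf
  29918)) (.node 1 (.leaf
  29886) (.leaf
  29878))) (.node 2 (.node 1 (.leaf
  29870) (.leaf
  29862)) (.node 1 (.leaf
  9442) (.node 1 (.leaf
  29838) (.leaf
  9458))))) (.node 4 (.node 2 (.node 1 (.leaf
  29854) (.leaf
  29950)) (.node 1 (.leaf
  29942) (.leaf
  29934))) (.node 2 (.node 1 (.leaf
  29926) (.leaf
  7061)) (.node 1 (.leaf
  32740) (.node 1 (.leaf
  7045) (.leaf
  32756))))))) (.node 18 (.node 9 (.node 4 (.node 2 (.node 1 (.leaf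
  7117) (.leaf
  7109)) (.node 1 (.leaf
  32628) (.leaf
  32636))) (.node 2 (.node 1 (.leaf
  32364) (.leaf
  7141)) (.node 1 (.leaf
  9491) (.node 1 (.leaf
  7157) (.leaf
  30462))))) (.node 4 (.node 2 (.node 1 (.leaf
  32492) (.leaf
  30446)) (.node 1 (.leaf
  30438) (.leaf
  28878))) (.node 2 (.node 1 (.leaf
  28870) (.leaf
  28894)) (.node 1 (.leaf
  28886) (.node 1 (.leaf
  28854) (.leaf
  9618)))))) (.node 9 (.node 4 (.node 2 (.node 1 (.leaf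
  28838) (.leaf
  9602)) (.node 1 (.leaf
  9722) (.leaf
  28806))) (.node 2 (.node 1 (.leaf
  28830) (.leaf
  28822)) (.node 1 (.leaf
  28918) (.node 1 (.leaf
  28926) (.leaf
  28902))))) (.node 4 (.node 2 (.node 1 (.leaf
  28910) (.leaf
  29534)) (.node 1 (.leaf
  29526) (.leaf
  29518))) (.node 2 (.node 1 (.leaf
  29510) (.leaf
  29478)) (.node 1 (.leaf
  29486) (.node 1 (.leaf
  29494) (.leaf
  29502)))))))) (.node 36 (.node 18 (.node 9 (.node 4 (.node 2 (.node 1 (.leaf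
  29470) (.leaf
  29462)) (.node 1 (.leaf
  29454) (.leaf
  29446))) (.node 2 (.node 1 (.leaf
  29542) (.leaf
  29550)) (.node 1 (.leaf
  29558) (.node 1 (.leaf
  29566) (.leaf
  7325))))) (.node 4 (.node 2 (.node 1 (.leaf
  7317) (.leaf
  7309)) (.node 1 (.leaf
  7301) (.leaf
  30014))) (.node 2 (.node 1 (.leaf
  30006) (.leaf
  32060)) (.node 1 (.leaf
  32052) (.node 1 (.leaf
  7397) (.leaf
  7405)))))) (.node 9 (.node 4 (.node 2 (.node 1 (.leaf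
  29974) (.leaf
  7421)) (.node 1 (.leaf
  31908) (.leaf
  7349))) (.node 2 (.node 1 (.leaf
  30062) (.leaf
  7333)) (.node 1 (.leaf
  7565) (.node 1 (.leaf
  7557) (.leaf
  7581))))) (.node 4 (.node 2 (.node 1 (.leaf
  7573) (.leaf
  9994)) (.node 1 (.leaf
  7645) (.leaf
  32572))) (.node 2 (.node 1 (.leaf
  10099) (.leaf
  9995)) (.node 1 (.leaf
  7677) (.node 1 (.leaf
  7653) (.leaf
  7661))))))) (.node 18 (.node 9 (.node 4 (.node 2 (.node 1 (.leaf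
  7597) (.leaf
  7589)) (.node 1 (.leaf
  7613) (.leaf
  7605))) (.node 2 (.node 1 (.leaf
  31660) (.leaf
  10203)) (.node 1 (.leaf
  31676) (.node 1 (.leaf
  10187) (.leaf
  31548))))) (.node 4 (.node 2 (.node 1 (.leaf
  31540) (.leaf
  31532)) (.node 1 (.leaf
  31524) (.leaf
  31268))) (.node 2 (.node 1 (.leaf
  31276) (.leaf
  31284)) (.node 1 (.leaf
  31292) (.node 1 (.leaf
  31412) (.leaf
  31420)))))) (.node 9 (.node 4 (.node 2 (.node 1 (.leaf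
  10194) (.leaf
  10202)) (.node 1 (.leaf
  12) (.leaf
  4))) (.node 2 (.node 1 (.leaf
  28) (.leaf
  20)) (.node 1 (.leaf
  10242) (.node 1 (.leaf
  10250) (.leaf
  10258))))) (.node 4 (.node 2 (.node 1 (.leaf
  10266) (.leaf
  10243)) (.node 1 (.leaf
  10251) (.leaf
  10259))) (.node 2 (.node 1 (.leaf
  10267) (.leaf
  10275)) (.node 1 (.leaf
  10283) (.node 1 (.leaf
  10291) (.leaf
  10299))))))))) (.node 72 (.node 36 (.node 18 (.node 9 (.node 4 (.node 2 (.node 1 (.leaf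
  1028) (.leaf
  1036)) (.node 1 (.leaf
  1044) (.leaf
  1052))) (.node 2 (.node 1 (.leaf
  1156) (.leaf
  1164)) (.node 1 (.leaf
  1172) (.node 1 (.leaf
  1180) (.leaf
  3470))))) (.node 4 (.node 2 (.node 1 (.leaf
  1436) (.leaf
  10379)) (.node 1 (.leaf
  10371) (.leaf
  10427))) (.node 2 (.node 1 (.leaf
  10419) (.leaf
  3558)) (.node 1 (.leaf
  10403) (.node 1 (.leaf
  20717) (.leaf
  1564)))))) (.node 9 (.node 4 (.node 2 (.node 1 (.leaf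
  20733) (.leaf
  1548)) (.node 1 (.leaf
  10611) (.leaf
  10514))) (.node 2 (.node 1 (.leaf
  10595) (.leaf
  10603)) (.node 1 (.leaf
  3990) (.node 1 (.leaf
  3998) (.leaf
  20621))))) (.node 4 (.node 2 (.node 1 (.leaf
  3982) (.leaf
  20693)) (.node 1 (.leaf
  20701) (.leaf
  20677))) (.node 2 (.node 1 (.leaf
  20685) (.leaf
  540)) (.node 1 (.leaf
  532) (.node 1 (.leaf
  524) (.leaf
  516))))))) (.node 18 (.node 9 (.node 4 (.node 2 (.node 1 (.leaf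
  10642) (.leaf
  10650)) (.node 1 (.leaf
  652) (.leaf
  644))) (.node 2 (.node 1 (.leaf
  2454) (.leaf
  2462)) (.node 1 (.leaf
  2438) (.node 1 (.leaf
  2446) (.leaf
  10706))))) (.node 4 (.node 2 (.node 1 (.leaf
  10714) (.leaf
  2558)) (.node 1 (.leaf
  2550) (.leaf
  76))) (.node 2 (.node 1 (.leaf
  68) (.leaf
  92)) (.node 1 (.leaf
  84) (.node 1 (.leaf
  10778) (.leaf
  10770)))))) (.node 9 (.node 4 (.node 2 (.node 1 (.leaf
  10762) (.leaf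
  10754)) (.node 1 (.leaf
  10763) (.leaf
  10755))) (.node 2 (.node 1 (.leaf
  10779) (.leaf
  10771)) (.node 1 (.leaf
  10795) (.node 1 (.leaf
  10787) (.leaf
  10811))))) (.node 4 (.node 2 (.node 1 (.leaf
  10803) (.leaf
  1108)) (.node 1 (.leaf
  1116) (.leaf
  1092))) (.node 2 (.node 1 (.leaf
  1100) (.leaf
  1228)) (.node 1 (.leaf
  1220) (.node 1 (.leaf
  1244) (.leaf
  1236)))))))) (.node 36 (.node 18 (.node 9 (.node 4 (.node 2 (.node 1 (.leaf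
  3086) (.leaf
  3078)) (.node 1 (.leaf
  3102) (.leaf
  3094))) (.node 2 (.node 1 (.leaf
  3190) (.leaf
  3198)) (.node 1 (.leaf
  3174) (.node 1 (.leaf
  3182) (.leaf
  1612))))) (.node 4 (.node 2 (.node 1 (.leaf
  1604) (.leaf
  22245)) (.node 1 (.leaf
  22253) (.leaf
  3622))) (.node 2 (.node 1 (.leaf
  3630) (.leaf
  3638)) (.node 1 (.leaf
  22181) (.node 1 (.leaf
  3614) (.leaf
  3606)))))) (.node 9 (.node 4 (.node 2 (.node 1 (.leaf
  3598) (.leaf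
  3590)) (.node 1 (.leaf
  22221) (.leaf
  22213))) (.node 2 (.node 1 (.leaf
  22237) (.leaf
  22229)) (.node 1 (.leaf
  596) (.node 1 (.leaf
  604) (.leaf
  580))))) (.node 4 (.node 2 (.node 1 (.leaf
  588) (.leaf
  2102)) (.node 1 (.leaf
  2110) (.leaf
  11162))) (.node 2 (.node 1 (.leaf
  11154) (.leaf
  2062)) (.node 1 (.leaf
  2054) (.node 1 (.leaf
  2078) (.leaf
  2070))))))) (.node 18 (.node 9 (.node 4 (.node 2 (.node 1 (.leaf
  2166) (.leaf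
  11202)) (.node 1 (.leaf
  11226) (.leaf
  11218))) (.node 2 (.node 1 (.leaf
  36) (.leaf
  44)) (.node 1 (.leaf
  52) (.node 1 (.leaf
  60) (.leaf
  11274))))) (.node 4 (.node 2 (.node 1 (.leaf
  11266) (.leaf
  11290)) (.node 1 (.leaf
  11282) (.leaf
  11283))) (.node 2 (.node 1 (.leaf
  11291) (.leaf
  11267)) (.node 1 (.leaf
  11275) (.node 1 (.leaf
  11315) (.leaf
  11323)))))) (.node 9 (.node 4 (.node 2 (.node 1 (.leaf
  11299) (.leaf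
  11307)) (.node 1 (.leaf
  1060) (.leaf
  3278))) (.node 2 (.node 1 (.leaf
  3286) (.leaf
  3294)) (.node 1 (.leaf
  3262) (.node 1 (.leaf
  1188) (.leaf
  3246))))) (.node 4 (.node 2 (.node 1 (.leaf
  1204) (.leaf
  3206)) (.node 1 (.leaf
  3214) (.leaf
  3222))) (.node 2 (.node 1 (.leaf
  3230) (.leaf
  3326)) (.node 1 (.leaf
  3318) (.node 1 (.leaf
  3310) (.leaf
  3302)))))))))) (.node 144 (.node 72 (.node 36 (.node 18 (.node 9 (.node 4 (.node 2 (.node 1 (.leaf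
  21229) (.leaf
  21221)) (.node 1 (.leaf
  21245) (.leaf
  21237))) (.node 2 (.node 1 (.leaf
  11619) (.leaf
  21165)) (.node 1 (.leaf
  21173) (.node 1 (.leaf
  21181) (.leaf
  3718))))) (.node 4 (.node 2 (.node 1 (.leaf
  3726) (.leaf
  21133)) (.node 1 (.leaf
  21125) (.leaf
  21205))) (.node 2 (.node 1 (.leaf
  1836) (.leaf
  21189)) (.node 1 (.leaf
  1852) (.node 1 (.leaf
  556) (.leaf
  548)))))) (.node 9 (.node 4 (.node 2 (.node 1 (.leaf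
  572) (.leaf
  564)) (.node 1 (.leaf
  676) (.leaf
  11666))) (.node 2 (.node 1 (.leaf
  11658) (.leaf
  11650)) (.node 1 (.leaf
  2190) (.node 1 (.leaf
  2182) (.leaf
  2206))))) (.node 4 (.node 2 (.node 1 (.leaf
  2198) (.leaf
  2294)) (.node 1 (.leaf
  11730) (.leaf
  2278))) (.node 2 (.node 1 (.leaf
  2286) (.leaf
  100)) (.node 1 (.leaf
  108) (.node 1 (.leaf
  116) (.leaf
  124))))))) (.node 18 (.node 9 (.node 4 (.node 2 (.node 1 (.leaf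
  11794) (.leaf
  11802)) (.node 1 (.leaf
  11778) (.leaf
  11786))) (.node 2 (.node 1 (.leaf
  11803) (.leaf
  11795)) (.node 1 (.leaf
  11787) (.node 1 (.leaf
  11779) (.leaf
  11835))))) (.node 4 (.node 2 (.node 1 (.leaf
  11827) (.leaf
  11819)) (.node 1 (.leaf
  11811) (.leaf
  3398))) (.node 2 (.node 1 (.leaf
  3406) (.leaf
  3414)) (.node 1 (.leaf
  3422) (.node 1 (.leaf
  1252) (.leaf
  1260)))))) (.node 9 (.node 4 (.node 2 (.node 1 (.leaf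
  1268) (.leaf
  1276)) (.node 1 (.leaf
  3334) (.leaf
  3342))) (.node 2 (.node 1 (.leaf
  21893) (.leaf
  21901)) (.node 1 (.leaf
  3454) (.node 1 (.leaf
  3446) (.leaf
  3438))))) (.node 4 (.node 2 (.node 1 (.leaf
  3430) (.leaf
  21749)) (.node 1 (.leaf
  21757) (.leaf
  21733))) (.node 2 (.node 1 (.leaf
  21741) (.leaf
  12042)) (.node 1 (.leaf
  21685) (.node 1 (.leaf
  12058) (.leaf
  21669)))))))) (.node 36 (.node 18 (.node 9 (.node 4 (.node 2 (.node 1 (.leaf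
  3854) (.leaf
  21645)) (.node 1 (.leaf
  3870) (.leaf
  21661))) (.node 2 (.node 1 (.leaf
  21709) (.leaf
  21701)) (.node 1 (.leaf
  21725) (.node 1 (.leaf
  21717) (.leaf
  612))))) (.node 4 (.node 2 (.node 1 (.leaf
  620) (.leaf
  628)) (.node 1 (.leaf
  636) (.leaf
  12162))) (.node 2 (.node 1 (.leaf
  12170) (.leaf
  2366)) (.node 1 (.leaf
  12186) (.node 1 (.leaf
  2326) (.leaf
  12187)))))) (.node 9 (.node 4 (.node 2 (.node 1 (.leaf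
  2310) (.leaf
  2318)) (.node 1 (.leaf
  12226) (.leaf
  2406))) (.node 2 (.node 1 (.leaf
  12242) (.leaf
  12250)) (.node 1 (.leaf
  2325) (.node 1 (.leaf
  35404) (.leaf
  2309))))) (.node 4 (.node 2 (.node 1 (.leaf
  35420) (.leaf
  12290)) (.node 1 (.leaf
  2373) (.leaf
  12306))) (.node 2 (.node 1 (.leaf
  2389) (.leaf
  35804)) (.node 1 (.leaf
  35796) (.node 1 (.leaf
  12307) (.leaf
  12315))))))) (.node 18 (.node 9 (.node 4 (.node 2 (.node 1 (.leaf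
  35660) (.leaf
  2365)) (.node 1 (.leaf
  35676) (.leaf
  35668))) (.node 2 (.node 1 (.leaf
  2189) (.leaf
  36420)) (.node 1 (.leaf
  2205) (.node 1 (.leaf
  2197) (.leaf
  2261))))) (.node 4 (.node 2 (.node 1 (.leaf
  12418) (.leaf
  2245)) (.node 1 (.leaf
  2253) (.leaf
  2293))) (.node 2 (.node 1 (.leaf
  12435) (.leaf
  12427)) (.node 1 (.leaf
  2285) (.node 1 (.leaf
  36676) (.leaf
  36684)))))) (.node 9 (.node 4 (.node 2 (.node 1 (.leaf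
  36692) (.leaf
  2229)) (.node 1 (.leaf
  2461) (.leaf
  2453))) (.node 2 (.node 1 (.leaf
  2445) (.leaf
  2437)) (.node 1 (.leaf
  2501) (.node 1 (.leaf
  2509) (.leaf
  2517))))) (.node 4 (.node 2 (.node 1 (.leaf
  2525) (.leaf
  12563)) (.node 1 (.leaf
  12571) (.leaf
  2549))) (.node 2 (.node 1 (.leaf
  2557) (.leaf
  2493)) (.node 1 (.leaf
  2485) (.node 1 (.leaf
  12579) (.leaf
  2469))))))))) (.node 72 (.node 36 (.node 18 (.node 9 (.node 4 (.node 2 (.node 1 (.leaf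
  34900) (.leaf
  2061)) (.node 1 (.leaf
  34884) (.leaf
  2077))) (.node 2 (.node 1 (.leaf
  2141) (.leaf
  12698)) (.node 1 (.leaf
  2125) (.node 1 (.leaf
  12682) (.leaf
  12683))))) (.node 4 (.node 2 (.node 1 (.leaf
  12675) (.leaf
  12699)) (.node 1 (.leaf
  12691) (.leaf
  35164))) (.node 2 (.node 1 (.leaf
  35156) (.leaf
  2101)) (.node 1 (.leaf
  2109) (.node 1 (.leaf
  20510) (.leaf
  20502)))))) (.node 9 (.node 4 (.node 2 (.node 1 (.leaf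
  20494) (.leaf
  20486)) (.node 1 (.leaf
  20598) (.leaf
  20606))) (.node 2 (.node 1 (.leaf
  20582) (.leaf
  20590)) (.node 1 (.leaf
  20566) (.node 1 (.leaf
  20574) (.leaf
  20550))))) (.node 4 (.node 2 (.node 1 (.leaf
  20558) (.leaf
  20542)) (.node 1 (.leaf
  20534) (.leaf
  20526))) (.node 2 (.node 1 (.leaf
  20518) (.leaf
  22030)) (.node 1 (.leaf
  22022) (.node 1 (.leaf
  3717) (.leaf
  3725))))))) (.node 18 (.node 9 (.node 4 (.node 2 (.node 1 (.leaf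
  22118) (.leaf
  22126)) (.node 1 (.leaf
  22134) (.leaf
  22142))) (.node 2 (.node 1 (.leaf
  22086) (.leaf
  22094)) (.node 1 (.leaf
  22102) (.node 1 (.leaf
  22110) (.leaf
  22062))))) (.node 4 (.node 2 (.node 1 (.leaf
  22054) (.leaf
  36636)) (.node 1 (.leaf
  36628) (.leaf
  3973))) (.node 2 (.node 1 (.leaf
  3981) (.leaf
  21518)) (.node 1 (.leaf
  3997) (.node 1 (.leaf
  21622) (.leaf
  21630)))))) (.node 9 (.node 4 (.node 2 (.node 1 (.leaf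
  21606) (.leaf
  21614)) (.node 1 (.leaf
  21590) (.leaf
  21598))) (.node 2 (.node 1 (.leaf
  21574) (.leaf
  21582)) (.node 1 (.leaf
  21566) (.node 1 (.leaf
  21558) (.leaf
  36100))))) (.node 4 (.node 2 (.node 1 (.leaf
  36108) (.leaf
  3613)) (.node 1 (.leaf
  3605) (.leaf
  34820))) (.node 2 (.node 1 (.leaf
  3589) (.leaf
  21094)) (.node 1 (.leaf
  21102) (.node 1 (.leaf
  21110) (.leaf
  21118)))))))) (.node 36 (.node 18 (.node 9 (.node 4 (.node 2 (.node 1 (.leaf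
  13290) (.leaf
  13195)) (.node 1 (.leaf
  21078) (.leaf
  21086))) (.node 2 (.node 1 (.leaf
  35084) (.leaf
  35076)) (.node 1 (.leaf
  35100) (.node 1 (.leaf
  35092) (.leaf
  2837))))) (.node 4 (.node 2 (.node 1 (.leaf
  35452) (.leaf
  2821)) (.node 1 (.leaf
  2829) (.leaf
  2893))) (.node 2 (.node 1 (.leaf
  20734) (.leaf
  2909)) (.node 1 (.leaf
  2901) (.node 1 (.leaf
  20694) (.leaf
  20702)))))) (.node 9 (.node 4 (.node 2 (.node 1 (.leaf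
  20678) (.leaf
  20686)) (.node 1 (.leaf
  2869) (.leaf
  13378))) (.node 2 (.node 1 (.leaf
  2853) (.leaf
  2861)) (.node 1 (.leaf
  2701) (.node 1 (.leaf
  2693) (.leaf
  2717))))) (.node 4 (.node 2 (.node 1 (.leaf
  13498) (.leaf
  2773)) (.node 1 (.leaf
  2781) (.leaf
  2757))) (.node 2 (.node 1 (.leaf
  2765) (.leaf
  2805)) (.node 1 (.leaf
  2813) (.node 1 (.leaf
  13554) (.leaf
  2797))))))) (.node 18 (.node 9 (.node 4 (.node 2 (.node 1 (.leaf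
  2733) (.leaf
  13514)) (.node 1 (.leaf
  2749) (.leaf
  2741))) (.node 2 (.node 1 (.leaf
  13618) (.leaf
  2965)) (.node 1 (.leaf
  13602) (.node 1 (.leaf
  2949) (.leaf
  3013))))) (.node 4 (.node 2 (.node 1 (.leaf
  3021) (.leaf
  3029)) (.node 1 (.leaf
  3037) (.leaf
  3045))) (.node 2 (.node 1 (.leaf
  3053) (.leaf
  13666)) (.node 1 (.leaf
  3069) (.node 1 (.leaf
  3005) (.leaf
  2997)))))) (.node 9 (.node 4 (.node 2 (.node 1 (.leaf
  2989) (.leaf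
  13642)) (.node 1 (.leaf
  2565) (.leaf
  2573))) (.node 2 (.node 1 (.leaf
  2581) (.leaf
  2589)) (.node 1 (.leaf
  2653) (.node 1 (.leaf
  2645) (.leaf
  2637))))) (.node 4 (.node 2 (.node 1 (.leaf
  2629) (.leaf
  13723)) (.node 1 (.leaf
  13715) (.leaf
  2669))) (.node 2 (.node 1 (.leaf
  2661) (.leaf
  2597)) (.node 1 (.leaf
  2605) (.node 1 (.leaf
  2613) (.leaf
  2621))))))))))) (.node 288 (.node 144 (.node 72 (.node 36 (.node 18 (.node 9 (.node 4 (.node 2 (.node 1 (.leaf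
  35388) (.leaf
  35380)) (.node 1 (.leaf
  35372) (.leaf
  35364))) (.node 2 (.node 1 (.leaf
  3413) (.leaf
  3421)) (.node 1 (.leaf
  3397) (.node 1 (.leaf
  3405) (.leaf
  3445))))) (.node 4 (.node 2 (.node 1 (.leaf
  13843) (.leaf
  3429)) (.node 1 (.leaf
  3437) (.leaf
  3373))) (.node 2 (.node 1 (.leaf
  3365) (.leaf
  35628)) (.node 1 (.leaf
  35620) (.node 1 (.leaf
  3221) (.leaf
  3229)))))) (.node 9 (.node 4 (.node 2 (.node 1 (.leaf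
  3205) (.leaf
  3213)) (.node 1 (.leaf
  3277) (.leaf
  3269))) (.node 2 (.node 1 (.leaf
  3293) (.leaf
  3285)) (.node 1 (.leaf
  3309) (.node 1 (.leaf
  3301) (.leaf
  3325))))) (.node 4 (.node 2 (.node 1 (.leaf
  3317) (.leaf
  3253)) (.node 1 (.leaf
  3261) (.leaf
  3237))) (.node 2 (.node 1 (.leaf
  3245) (.leaf
  3461)) (.node 1 (.leaf
  3469) (.node 1 (.leaf
  35900) (.leaf
  35892))))))) (.node 18 (.node 9 (.node 4 (.node 2 (.node 1 (.leaf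
  3549) (.leaf
  3541)) (.node 1 (.leaf
  14106) (.leaf
  3525))) (.node 2 (.node 1 (.leaf
  14091) (.leaf
  3573)) (.node 1 (.leaf
  3565) (.node 1 (.leaf
  3557) (.leaf
  3493))))) (.node 4 (.node 2 (.node 1 (.leaf
  3501) (.leaf
  36156)) (.node 1 (.leaf
  36148) (.leaf
  34876))) (.node 2 (.node 1 (.leaf
  34868) (.leaf
  34860)) (.node 1 (.leaf
  34852) (.node 1 (.leaf
  3141) (.leaf
  14218)))))) (.node 9 (.node 4 (.node 2 (.node 1 (.leaf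
  3157) (.leaf
  14234)) (.node 1 (.leaf
  14227) (.leaf
  14235))) (.node 2 (.node 1 (.leaf
  3189) (.leaf
  3197)) (.node 1 (.leaf
  35132) (.node 1 (.leaf
  35124) (.leaf
  35116))))) (.node 4 (.node 2 (.node 1 (.leaf
  3109) (.leaf
  2060)) (.node 1 (.leaf
  534) (.leaf
  2076))) (.node 2 (.node 1 (.leaf
  518) (.leaf
  2188)) (.node 1 (.leaf
  2180) (.node 1 (.leaf
  2204) (.leaf
  614)))))))) (.node 36 (.node 18 (.node 9 (.node 4 (.node 2 (.node 1 (.leaf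
  598) (.leaf
  2452)) (.node 1 (.leaf
  582) (.leaf
  2436))) (.node 2 (.node 1 (.leaf
  566) (.leaf
  574)) (.node 1 (.leaf
  550) (.node 1 (.leaf
  2308) (.leaf
  1054))))) (.node 4 (.node 2 (.node 1 (.leaf
  1046) (.leaf
  1038)) (.node 1 (.leaf
  1030) (.leaf
  17821))) (.node 2 (.node 1 (.leaf
  17813) (.leaf
  17805)) (.node 1 (.leaf
  17797) (.node 1 (.leaf
  1110) (.leaf
  1118)))))) (.node 9 (.node 4 (.node 2 (.node 1 (.leaf
  1094) (.leaf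
  1102)) (.node 1 (.leaf
  1078) (.leaf
  1086))) (.node 2 (.node 1 (.leaf
  1062) (.leaf
  1070)) (.node 1 (.leaf
  3604) (.node 1 (.leaf
  3612) (.leaf
  3588))))) (.node 4 (.node 2 (.node 1 (.leaf
  3596) (.leaf
  3732)) (.node 1 (.leaf
  14610) (.leaf
  3716))) (.node 2 (.node 1 (.leaf
  14594) (.leaf
  1614)) (.node 1 (.leaf
  3980) (.node 1 (.leaf
  14595) (.leaf
  3996))))))) (.node 18 (.node 9 (.node 4 (.node 2 (.node 1 (.leaf
  3844) (.leaf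
  3852)) (.node 1 (.leaf
  14666) (.leaf
  3868))) (.node 2 (.node 1 (.leaf
  6) (.leaf
  14)) (.node 1 (.leaf
  22) (.node 1 (.leaf
  30) (.leaf
  14738))))) (.node 4 (.node 2 (.node 1 (.leaf
  14746) (.leaf
  14722)) (.node 1 (.leaf
  14730) (.leaf
  78))) (.node 2 (.node 1 (.leaf
  70) (.leaf
  94)) (.node 1 (.leaf
  86) (.node 1 (.leaf
  46) (.leaf
  38)))))) (.node 9 (.node 4 (.node 2 (.node 1 (.leaf
  62) (.leaf
  54)) (.node 1 (.leaf
  2124) (.leaf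
  902))) (.node 2 (.node 1 (.leaf
  2140) (.leaf
  918)) (.node 1 (.leaf
  14874) (.node 1 (.leaf
  14866) (.leaf
  2244))))) (.node 4 (.node 2 (.node 1 (.leaf
  2252) (.leaf
  2516)) (.node 1 (.leaf
  2524) (.leaf
  2500))) (.node 2 (.node 1 (.leaf
  2508) (.leaf
  14938)) (.node 1 (.leaf
  14930) (.node 1 (.leaf
  950) (.leaf
  2388))))))))) (.node 72 (.node 36 (.node 18 (.node 9 (.node 4 (.node 2 (.node 1 (.leaf
  1438) (.leaf
  17365)) (.node 1 (.leaf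
  1422) (.leaf
  17349))) (.node 2 (.node 1 (.leaf
  17285) (.leaf
  17293)) (.node 1 (.leaf
  17301) (.node 1 (.leaf
  17309) (.leaf
  17333))))) (.node 4 (.node 2 (.node 1 (.leaf
  17341) (.leaf
  17317)) (.node 1 (.leaf
  17325) (.leaf
  15027))) (.node 2 (.node 1 (.leaf
  15035) (.leaf
  17405)) (.node 1 (.leaf
  17397) (.node 1 (.leaf
  3660) (.leaf
  3652)))))) (.node 9 (.node 4 (.node 2 (.node 1 (.leaf
  3676) (.leaf
  3668)) (.node 1 (.leaf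
  15106) (.leaf
  15114))) (.node 2 (.node 1 (.leaf
  3780) (.leaf
  3788)) (.node 1 (.leaf
  4052) (.node 1 (.leaf
  4060) (.leaf
  4036))))) (.node 4 (.node 2 (.node 1 (.leaf
  4044) (.leaf
  17133)) (.node 1 (.leaf
  3908) (.leaf
  17149))) (.node 2 (.node 1 (.leaf
  3924) (.leaf
  2644)) (.node 1 (.leaf
  15307) (.node 1 (.leaf
  2628) (.leaf
  15323))))))) (.node 18 (.node 9 (.node 4 (.node 2 (.node 1 (.leaf
  2764) (.leaf
  2756)) (.node 1 (.leaf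
  2780) (.leaf
  2772))) (.node 2 (.node 1 (.leaf
  3020) (.leaf
  3012)) (.node 1 (.leaf
  3036) (.node 1 (.leaf
  3028) (.leaf
  15306))))) (.node 4 (.node 2 (.node 1 (.leaf
  15298) (.leaf
  15322)) (.node 1 (.leaf
  15314) (.leaf
  15443))) (.node 2 (.node 1 (.leaf
  2092) (.leaf
  2100)) (.node 1 (.leaf
  2108) (.node 1 (.leaf
  2220) (.leaf
  2212)))))) (.node 9 (.node 4 (.node 2 (.node 1 (.leaf
  15386) (.leaf
  2228)) (.node 1 (.leaf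
  2468) (.leaf
  15387))) (.node 2 (.node 1 (.leaf
  2484) (.leaf
  2492)) (.node 1 (.leaf
  2348) (.node 1 (.leaf
  15426) (.leaf
  2364))))) (.node 4 (.node 2 (.node 1 (.leaf
  15442) (.leaf
  18373)) (.node 1 (.leaf
  1310) (.leaf
  18389))) (.node 2 (.node 1 (.leaf
  18397) (.leaf
  18333)) (.node 1 (.leaf
  18325) (.node 1 (.leaf
  18317) (.leaf
  18309)))))))) (.node 36 (.node 18 (.node 9 (.node 4 (.node 2 (.node 1 (.leaf
  18349) (.leaf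
  18341)) (.node 1 (.leaf
  3508) (.leaf
  18357))) (.node 2 (.node 1 (.leaf
  18421) (.leaf
  18429)) (.node 1 (.leaf
  18405) (.node 1 (.leaf
  18413) (.leaf
  1814))))) (.node 4 (.node 2 (.node 1 (.leaf
  18125) (.leaf
  1798)) (.node 1 (.leaf
  18141) (.leaf
  18077))) (.node 2 (.node 1 (.leaf
  18069) (.leaf
  18061)) (.node 1 (.leaf
  18053) (.node 1 (.leaf
  18093) (.leaf
  1878)))))) (.node 9 (.node 4 (.node 2 (.node 1 (.leaf
  18109) (.leaf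
  1862)) (.node 1 (.leaf
  18165) (.leaf
  1846))) (.node 2 (.node 1 (.leaf
  18149) (.leaf
  1830)) (.node 1 (.leaf
  15835) (.node 1 (.leaf
  15827) (.leaf
  2620))))) (.node 4 (.node 2 (.node 1 (.leaf
  2612) (.leaf
  15770)) (.node 1 (.leaf
  2732) (.leaf
  2740))) (.node 2 (.node 1 (.leaf
  2748) (.leaf
  2988)) (.node 1 (.leaf
  2980) (.node 1 (.leaf
  3004) (.leaf
  2996))))))) (.node 18 (.node 9 (.node 4 (.node 2 (.node 1 (.leaf
  15834) (.leaf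
  15826)) (.node 1 (.leaf
  2868) (.leaf
  15810))) (.node 2 (.node 1 (.leaf
  654) (.leaf
  646)) (.node 1 (.leaf
  16461) (.node 1 (.leaf
  662) (.leaf
  16389))))) (.node 4 (.node 2 (.node 1 (.leaf
  16397) (.leaf
  2276)) (.node 1 (.leaf
  2284) (.leaf
  2540))) (.node 2 (.node 1 (.leaf
  2532) (.leaf
  2556)) (.node 1 (.leaf
  2548) (.node 1 (.leaf
  678) (.leaf
  686)))))) (.node 9 (.node 4 (.node 2 (.node 1 (.leaf
  694) (.leaf
  702)) (.node 1 (.leaf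
  16861) (.leaf
  16853))) (.node 2 (.node 1 (.leaf
  16845) (.leaf
  16837)) (.node 1 (.leaf
  16773) (.node 1 (.leaf
  16018) (.leaf
  16789))))) (.node 4 (.node 2 (.node 1 (.leaf
  16002) (.leaf
  16821)) (.node 1 (.leaf
  16829) (.leaf
  16805))) (.node 2 (.node 1 (.leaf
  16813) (.leaf
  16877)) (.node 1 (.leaf
  16869) (.node 1 (.leaf
  16893) (.leaf
  16885)))))))))) (.node 144 (.node 72 (.node 36 (.node 18 (.node 9 (.node 4 (.node 2 (.node 1 (.leaf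
  3700) (.leaf
  3708)) (.node 1 (.leaf
  1678) (.leaf
  16581))) (.node 2 (.node 1 (.leaf
  1790) (.leaf
  16525)) (.node 1 (.leaf
  3828) (.node 1 (.leaf
  16541) (.leaf
  1750))))) (.node 4 (.node 2 (.node 1 (.leaf
  1758) (.leaf
  16549)) (.node 1 (.leaf
  4068) (.leaf
  3948))) (.node 2 (.node 1 (.leaf
  3940) (.leaf
  16637)) (.node 1 (.leaf
  1710) (.node 1 (.leaf
  134) (.leaf
  2668)))))) (.node 9 (.node 4 (.node 2 (.node 1 (.leaf
  16323) (.leaf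
  16331)) (.node 1 (.leaf
  2804) (.leaf
  2812))) (.node 2 (.node 1 (.leaf
  16355) (.leaf
  2796)) (.node 1 (.leaf
  3052) (.node 1 (.leaf
  3044) (.leaf
  3068))))) (.node 4 (.node 2 (.node 1 (.leaf
  3060) (.leaf
  16322)) (.node 1 (.leaf
  16330) (.leaf
  16338))) (.node 2 (.node 1 (.leaf
  16299) (.leaf
  4108)) (.node 1 (.leaf
  7118) (.node 1 (.leaf
  4124) (.leaf
  7134))))))) (.node 18 (.node 9 (.node 4 (.node 2 (.node 1 (.leaf
  7102) (.leaf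
  4228)) (.node 1 (.leaf
  7086) (.leaf
  4244))) (.node 2 (.node 1 (.leaf
  7046) (.leaf
  4500)) (.node 1 (.leaf
  7062) (.node 1 (.leaf
  4484) (.leaf
  4380))))) (.node 4 (.node 2 (.node 1 (.leaf
  7158) (.leaf
  4364)) (.node 1 (.leaf
  7142) (.leaf
  5124))) (.node 2 (.node 1 (.leaf
  5132) (.leaf
  7638)) (.node 1 (.leaf
  7646) (.node 1 (.leaf
  7614) (.leaf
  7606)))))) (.node 9 (.node 4 (.node 2 (.node 1 (.leaf
  7598) (.leaf
  7590)) (.node 1 (.leaf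
  7558) (.leaf
  7566))) (.node 2 (.node 1 (.leaf
  7574) (.leaf
  7582)) (.node 1 (.leaf
  7678) (.node 1 (.leaf
  16578) (.leaf
  7662))))) (.node 4 (.node 2 (.node 1 (.leaf
  7654) (.leaf
  5652)) (.node 1 (.leaf
  29349) (.leaf
  5636))) (.node 2 (.node 1 (.leaf
  8134) (.leaf
  29421)) (.node 1 (.leaf
  5788) (.node 1 (.leaf
  29437) (.leaf
  5772)))))))) (.node 36 (.node 18 (.node 9 (.node 4 (.node 2 (.node 1 (.leaf
  8094) (.leaf
  8086)) (.node 1 (.leaf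
  6036) (.leaf
  6044))) (.node 2 (.node 1 (.leaf
  5892) (.leaf
  29317)) (.node 1 (.leaf
  8182) (.node 1 (.leaf
  8190) (.leaf
  6622))))) (.node 4 (.node 2 (.node 1 (.leaf
  6614) (.leaf
  6606)) (.node 1 (.leaf
  6598) (.leaf
  6566))) (.node 2 (.node 1 (.leaf
  6574) (.leaf
  6582)) (.node 1 (.leaf
  6590) (.node 1 (.leaf
  6558) (.leaf
  6550)))))) (.node 9 (.node 4 (.node 2 (.node 1 (.leaf
  6542) (.leaf
  6534)) (.node 1 (.leaf
  6630) (.leaf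
  16858))) (.node 2 (.node 1 (.leaf
  6646) (.leaf
  16842)) (.node 1 (.leaf
  4172) (.node 1 (.leaf
  4164) (.leaf
  6726))))) (.node 4 (.node 2 (.node 1 (.leaf
  6734) (.leaf
  6702)) (.node 1 (.leaf
  6694) (.leaf
  6718))) (.node 2 (.node 1 (.leaf
  6710) (.leaf
  6678)) (.node 1 (.leaf
  6686) (.node 1 (.leaf
  6662) (.leaf
  6670))))))) (.node 18 (.node 9 (.node 4 (.node 2 (.node 1 (.leaf
  6766) (.leaf
  6758)) (.node 1 (.leaf
  6782) (.leaf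
  6774))) (.node 2 (.node 1 (.leaf
  30141) (.leaf
  30133)) (.node 1 (.leaf
  30125) (.node 1 (.leaf
  30117) (.leaf
  30205))))) (.node 4 (.node 2 (.node 1 (.leaf
  30197) (.leaf
  17123)) (.node 1 (.leaf
  17131) (.leaf
  30173))) (.node 2 (.node 1 (.leaf
  7182) (.leaf
  30157)) (.node 1 (.leaf
  7198) (.node 1 (.leaf
  30109) (.leaf
  30101)))))) (.node 9 (.node 4 (.node 2 (.node 1 (.leaf
  30093) (.leaf
  30085)) (.node 1 (.leaf
  29877) (.leaf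
  29885))) (.node 2 (.node 1 (.leaf
  29861) (.leaf
  17210)) (.node 1 (.leaf
  29941) (.node 1 (.leaf
  29949) (.leaf
  29925))))) (.node 4 (.node 2 (.node 1 (.leaf
  29933) (.leaf
  29909)) (.node 1 (.leaf
  29917) (.leaf
  29893))) (.node 2 (.node 1 (.leaf
  29901) (.leaf
  17211)) (.node 1 (.leaf
  29853) (.node 1 (.leaf
  17195) (.leaf
  29837))))))))) (.node 72 (.node 36 (.node 18 (.node 9 (.node 4 (.node 2 (.node 1 (.leaf
  4692) (.leaf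
  4700)) (.node 1 (.leaf
  4676) (.leaf
  4684))) (.node 2 (.node 1 (.leaf
  4812) (.leaf
  4804)) (.node 1 (.leaf
  17306) (.node 1 (.leaf
  17298) (.leaf
  17283))))) (.node 4 (.node 2 (.node 1 (.leaf
  5060) (.leaf
  17299)) (.node 1 (.leaf
  5076) (.leaf
  4948))) (.node 2 (.node 1 (.leaf
  4956) (.leaf
  4932)) (.node 1 (.leaf
  4940) (.node 1 (.leaf
  4132) (.leaf
  4140)))))) (.node 9 (.node 4 (.node 2 (.node 1 (.leaf
  4148) (.leaf
  4156)) (.node 1 (.leaf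
  28789) (.leaf
  28797))) (.node 2 (.node 1 (.leaf
  28773) (.leaf
  28781)) (.node 1 (.leaf
  4516) (.node 1 (.leaf
  6798) (.leaf
  28741))))) (.node 4 (.node 2 (.node 1 (.leaf
  28749) (.leaf
  28693)) (.node 1 (.leaf
  28701) (.leaf
  6894))) (.node 2 (.node 1 (.leaf
  4404) (.leaf
  7374)) (.node 1 (.leaf
  7366) (.node 1 (.leaf
  7390) (.leaf
  29117))))))) (.node 18 (.node 9 (.node 4 (.node 2 (.node 1 (.leaf
  7350) (.leaf
  7358)) (.node 1 (.leaf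
  7334) (.leaf
  7342))) (.node 2 (.node 1 (.leaf
  7310) (.leaf
  7302)) (.node 1 (.leaf
  7326) (.node 1 (.leaf
  7318) (.leaf
  29061))))) (.node 4 (.node 2 (.node 1 (.leaf
  29069) (.leaf
  29077)) (.node 1 (.leaf
  29085) (.leaf
  17731))) (.node 2 (.node 1 (.leaf
  28837) (.leaf
  17747)) (.node 1 (.leaf
  28853) (.node 1 (.leaf
  28909) (.leaf
  28901)))))) (.node 9 (.node 4 (.node 2 (.node 1 (.leaf
  28925) (.leaf
  28917)) (.node 1 (.leaf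
  28877) (.leaf
  28869))) (.node 2 (.node 1 (.leaf
  28893) (.leaf
  28885)) (.node 1 (.leaf
  17746) (.node 1 (.leaf
  28805) (.leaf
  17730))))) (.node 4 (.node 2 (.node 1 (.leaf
  28821) (.leaf
  4652)) (.node 1 (.leaf
  4644) (.leaf
  4668))) (.node 2 (.node 1 (.leaf
  4660) (.leaf
  4772)) (.node 1 (.leaf
  4780) (.node 1 (.leaf
  4788) (.leaf
  4796)))))))) (.node 36 (.node 18 (.node 9 (.node 4 (.node 2 (.node 1 (.leaf
  5036) (.leaf
  6286)) (.node 1 (.leaf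
  17803) (.leaf
  17795))) (.node 2 (.node 1 (.leaf
  4900) (.leaf
  4908)) (.node 1 (.leaf
  4916) (.node 1 (.leaf
  4924) (.leaf
  4196))))) (.node 4 (.node 2 (.node 1 (.leaf
  4204) (.leaf
  4212)) (.node 1 (.leaf
  4220) (.leaf
  6958))) (.node 2 (.node 1 (.leaf
  6950) (.leaf
  4324)) (.node 1 (.leaf
  4332) (.node 1 (.leaf
  6934) (.leaf
  6942)))))) (.node 9 (.node 4 (.node 2 (.node 1 (.leaf
  6918) (.leaf
  6926)) (.node 1 (.leaf
  7022) (.leaf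
  7014))) (.node 2 (.node 1 (.leaf
  30237) (.leaf
  30229)) (.node 1 (.leaf
  30653) (.node 1 (.leaf
  30645) (.leaf
  30637))))) (.node 4 (.node 2 (.node 1 (.leaf
  30629) (.leaf
  30717)) (.node 1 (.leaf
  30709) (.leaf
  30701))) (.node 2 (.node 1 (.leaf
  30693) (.leaf
  30685)) (.node 1 (.leaf
  30677) (.node 1 (.leaf
  30669) (.leaf
  30661))))))) (.node 18 (.node 9 (.node 4 (.node 2 (.node 1 (.leaf
  30621) (.leaf
  30613)) (.node 1 (.leaf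
  30605) (.leaf
  30597))) (.node 2 (.node 1 (.leaf
  30389) (.leaf
  5756)) (.node 1 (.leaf
  18234) (.node 1 (.leaf
  30381) (.leaf
  5860))))) (.node 4 (.node 2 (.node 1 (.leaf
  30461) (.leaf
  5876)) (.node 1 (.leaf
  30445) (.leaf
  30421))) (.node 2 (.node 1 (.leaf
  30429) (.leaf
  6124)) (.node 1 (.leaf
  30413) (.node 1 (.leaf
  18219) (.leaf
  30365)))))) (.node 9 (.node 4 (.node 2 (.node 1 (.leaf
  18235) (.leaf
  30349)) (.node 1 (.leaf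
  4708) (.leaf
  4716))) (.node 2 (.node 1 (.leaf
  4724) (.leaf
  4732)) (.node 1 (.leaf
  4852) (.node 1 (.leaf
  4860) (.leaf
  18322))))) (.node 4 (.node 2 (.node 1 (.leaf
  18330) (.leaf
  18323)) (.node 1 (.leaf
  18331) (.leaf
  6414))) (.node 2 (.node 1 (.leaf
  6406) (.leaf
  4988)) (.node 1 (.leaf
  4980) (.node 1 (.leaf
  4972) (.leaf
  4964))))))))))))) (.node 1152 (.node 576 (.node 288 (.node 144 (.node 72 (.node 36 (.node 18 (.node 9 (.node 4 (.node 2 (.node 1 (.leaf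
  18466) (.leaf
  18507)) (.node 1 (.leaf
  18515) (.leaf
  18523))) (.node 2 (.node 1 (.leaf
  10285) (.leaf
  10277)) (.node 1 (.leaf
  10301) (.node 1 (.leaf
  18555) (.leaf
  10261))))) (.node 4 (.node 2 (.node 1 (.leaf
  10269) (.leaf
  10245)) (.node 1 (.leaf
  10253) (.leaf
  10333))) (.node 2 (.node 1 (.leaf
  18506) (.leaf
  10317)) (.node 1 (.leaf
  18522) (.node 1 (.leaf
  18651) (.leaf
  10741)))))) (.node 9 (.node 4 (.node 2 (.node 1 (.leaf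
  5126) (.leaf
  5134)) (.node 1 (.leaf
  7300) (.leaf
  10685))) (.node 2 (.node 1 (.leaf
  10661) (.leaf
  10669)) (.node 1 (.leaf
  10637) (.node 1 (.leaf
  7580) (.leaf
  10653))))) (.node 4 (.node 2 (.node 1 (.leaf
  7564) (.leaf
  7444)) (.node 1 (.leaf
  7452) (.leaf
  10709))) (.node 2 (.node 1 (.leaf
  10717) (.leaf
  18746)) (.node 1 (.leaf
  18738) (.node 1 (.leaf
  18730) (.leaf
  5654))))))) (.node 18 (.node 9 (.node 4 (.node 2 (.node 1 (.leaf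
  7828) (.leaf
  7836)) (.node 1 (.leaf
  7812) (.leaf
  7820))) (.node 2 (.node 1 (.leaf
  5702) (.leaf
  5710)) (.node 1 (.leaf
  10381) (.node 1 (.leaf
  10373) (.leaf
  18739))))) (.node 4 (.node 2 (.node 1 (.leaf
  18747) (.leaf
  5686)) (.node 1 (.leaf
  18731) (.leaf
  4110))) (.node 2 (.node 1 (.leaf
  4102) (.leaf
  10597)) (.node 1 (.leaf
  10605) (.node 1 (.leaf
  4206) (.leaf
  4198)))))) (.node 9 (.node 4 (.node 2 (.node 1 (.leaf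
  6796) (.leaf
  6788)) (.node 1 (.leaf
  7052) (.leaf
  7044))) (.node 2 (.node 1 (.leaf
  7068) (.leaf
  7060)) (.node 1 (.leaf
  6924) (.node 1 (.leaf
  4142) (.leaf
  10589))))) (.node 4 (.node 2 (.node 1 (.leaf
  4158) (.leaf
  19019)) (.node 1 (.leaf
  19011) (.leaf
  19035))) (.node 2 (.node 1 (.leaf
  19027) (.leaf
  11829)) (.node 1 (.leaf
  19043) (.node 1 (.leaf
  11813) (.leaf
  19059)))))))) (.node 36 (.node 18 (.node 9 (.node 4 (.node 2 (.node 1 (.leaf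
  6612) (.leaf
  6620)) (.node 1 (.leaf
  6596) (.leaf
  6604))) (.node 2 (.node 1 (.leaf
  19034) (.leaf
  19026)) (.node 1 (.leaf
  19018) (.node 1 (.leaf
  11869) (.leaf
  5526))))) (.node 4 (.node 2 (.node 1 (.leaf
  5534) (.leaf
  5510)) (.node 1 (.leaf
  5518) (.leaf
  7372))) (.node 2 (.node 1 (.leaf
  7364) (.leaf
  5606)) (.node 1 (.leaf
  5614) (.node 1 (.leaf
  5598) (.leaf
  7620)))))) (.node 9 (.node 4 (.node 2 (.node 1 (.leaf
  12165) (.leaf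
  7636)) (.node 1 (.leaf
  7508) (.leaf
  12245))) (.node 2 (.node 1 (.leaf
  5550) (.leaf
  5542)) (.node 1 (.leaf
  6022) (.node 1 (.leaf
  6030) (.leaf
  6038))))) (.node 4 (.node 2 (.node 1 (.leaf
  6046) (.leaf
  7892)) (.node 1 (.leaf
  7900) (.leaf
  7876))) (.node 2 (.node 1 (.leaf
  7884) (.leaf
  6094)) (.node 1 (.leaf
  6086) (.node 1 (.leaf
  6110) (.leaf
  6102))))))) (.node 18 (.node 9 (.node 4 (.node 2 (.node 1 (.leaf
  6062) (.leaf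
  6054)) (.node 1 (.leaf
  6078) (.leaf
  6070))) (.node 2 (.node 1 (.leaf
  4502) (.leaf
  4510)) (.node 1 (.leaf
  4486) (.node 1 (.leaf
  12149) (.leaf
  12069))))) (.node 4 (.node 2 (.node 1 (.leaf
  12077) (.leaf
  12085)) (.node 1 (.leaf
  12093) (.leaf
  7116))) (.node 2 (.node 1 (.leaf
  7108) (.leaf
  12045)) (.node 1 (.leaf
  12037) (.node 1 (.leaf
  4542) (.leaf
  19394)))))) (.node 9 (.node 4 (.node 2 (.node 1 (.leaf
  12101) (.leaf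
  12109)) (.node 1 (.leaf
  19539) (.leaf
  19547))) (.node 2 (.node 1 (.leaf
  19523) (.leaf
  19531)) (.node 1 (.leaf
  19571) (.node 1 (.leaf
  10789) (.leaf
  10813))))) (.node 4 (.node 2 (.node 1 (.leaf
  10805) (.leaf
  6564)) (.node 1 (.leaf
  10781) (.leaf
  6580))) (.node 2 (.node 1 (.leaf
  10765) (.leaf
  19530)) (.node 1 (.leaf
  10837) (.node 1 (.leaf
  19546) (.leaf
  10821))))))))) (.node 72 (.node 36 (.node 18 (.node 9 (.node 4 (.node 2 (.node 1 (.leaf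
  5406) (.leaf
  5398)) (.node 1 (.leaf
  19675) (.leaf
  19667))) (.node 2 (.node 1 (.leaf
  11189) (.leaf
  11197)) (.node 1 (.leaf
  5486) (.node 1 (.leaf
  5478) (.leaf
  5462))))) (.node 4 (.node 2 (.node 1 (.leaf
  5470) (.leaf
  11165)) (.node 1 (.leaf
  11157) (.leaf
  11205))) (.node 2 (.node 1 (.leaf
  5438) (.leaf
  11221)) (.node 1 (.leaf
  11229) (.node 1 (.leaf
  19762) (.leaf
  10981)))))) (.node 9 (.node 4 (.node 2 (.node 1 (.leaf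
  5902) (.leaf
  5894)) (.node 1 (.leaf
  7844) (.leaf
  7852))) (.node 2 (.node 1 (.leaf
  7860) (.leaf
  7868)) (.node 1 (.leaf
  10909) (.node 1 (.leaf
  10901) (.leaf
  10893))))) (.node 4 (.node 2 (.node 1 (.leaf
  5966) (.leaf
  5942)) (.node 1 (.leaf
  5950) (.leaf
  19763))) (.node 2 (.node 1 (.leaf
  19771) (.leaf
  4374)) (.node 1 (.leaf
  4382) (.node 1 (.leaf
  4358) (.leaf
  4366))))))) (.node 18 (.node 9 (.node 4 (.node 2 (.node 1 (.leaf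
  11069) (.leaf
  11061)) (.node 1 (.leaf
  11053) (.leaf
  11045))) (.node 2 (.node 1 (.leaf
  7084) (.leaf
  7076)) (.node 1 (.leaf
  11029) (.node 1 (.leaf
  7092) (.leaf
  11085))))) (.node 4 (.node 2 (.node 1 (.leaf
  11077) (.leaf
  11101)) (.node 1 (.leaf
  11093) (.leaf
  20059))) (.node 2 (.node 1 (.leaf
  20026) (.leaf
  20043)) (.node 1 (.leaf
  20035) (.node 1 (.leaf
  20091) (.leaf
  11325)))))) (.node 9 (.node 4 (.node 2 (.node 1 (.leaf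
  11301) (.leaf
  11309)) (.node 1 (.leaf
  11277) (.leaf
  11269))) (.node 2 (.node 1 (.leaf
  6652) (.leaf
  11285)) (.node 1 (.leaf
  11333) (.node 1 (.leaf
  20058) (.leaf
  11349))))) (.node 4 (.node 2 (.node 1 (.leaf
  20042) (.leaf
  5278)) (.node 1 (.leaf
  5270) (.leaf
  20179))) (.node 2 (.node 1 (.leaf
  11773) (.leaf
  7396)) (.node 1 (.leaf
  11685) (.node 1 (.leaf
  7412) (.leaf
  11701)))))))) (.node 36 (.node 18 (.node 9 (.node 4 (.node 2 (.node 1 (.leaf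
  11669) (.leaf
  11677)) (.node 1 (.leaf
  7660) (.leaf
  11661))) (.node 2 (.node 1 (.leaf
  11741) (.leaf
  11733)) (.node 1 (.leaf
  7548) (.node 1 (.leaf
  7540) (.leaf
  5782))))) (.node 4 (.node 2 (.node 1 (.leaf
  5790) (.leaf
  5766)) (.node 1 (.leaf
  5774) (.leaf
  5878))) (.node 2 (.node 1 (.leaf
  7916) (.leaf
  5862)) (.node 1 (.leaf
  7932) (.node 1 (.leaf
  5854) (.leaf
  5846)))))) (.node 9 (.node 4 (.node 2 (.node 1 (.leaf
  5838) (.leaf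
  5830)) (.node 1 (.leaf
  5822) (.leaf
  5814))) (.node 2 (.node 1 (.leaf
  5806) (.leaf
  5798)) (.node 1 (.leaf
  4238) (.node 1 (.leaf
  11621) (.leaf
  4254))))) (.node 4 (.node 2 (.node 1 (.leaf
  4246) (.leaf
  4334)) (.node 1 (.leaf
  4326) (.leaf
  11573))) (.node 2 (.node 1 (.leaf
  6892) (.leaf
  7148)) (.node 1 (.leaf
  7140) (.node 1 (.leaf
  7164) (.leaf
  7156))))))) (.node 18 (.node 9 (.node 4 (.node 2 (.node 1 (.leaf
  11605) (.leaf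
  11613)) (.node 1 (.leaf
  11589) (.leaf
  4286))) (.node 2 (.node 1 (.leaf
  18541) (.leaf
  18533)) (.node 1 (.leaf
  18557) (.node 1 (.leaf
  18549) (.leaf
  18469))))) (.node 4 (.node 2 (.node 1 (.leaf
  20587) (.leaf
  18485)) (.node 1 (.leaf
  20603) (.leaf
  18461))) (.node 2 (.node 1 (.leaf
  20586) (.leaf
  18445)) (.node 1 (.leaf
  20602) (.node 1 (.leaf
  18517) (.leaf
  18525)))))) (.node 9 (.node 4 (.node 2 (.node 1 (.leaf
  18501) (.leaf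
  18509)) (.node 1 (.leaf
  20699) (.leaf
  20691))) (.node 2 (.node 1 (.leaf
  20683) (.leaf
  20675)) (.node 1 (.leaf
  20731) (.node 1 (.leaf
  20723) (.leaf
  20715))))) (.node 4 (.node 2 (.node 1 (.leaf
  13414) (.leaf
  9620)) (.node 1 (.leaf
  9628) (.leaf
  9604))) (.node 2 (.node 1 (.leaf
  9612) (.leaf
  13366)) (.node 1 (.leaf
  20674) (.node 1 (.leaf
  20698) (.leaf
  20690)))))))))) (.node 144 (.node 72 (.node 36 (.node 18 (.node 9 (.node 4 (.node 2 (.node 1 (.leaf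
  9748) (.leaf
  9756)) (.node 1 (.leaf
  13846) (.leaf
  9740))) (.node 2 (.node 1 (.leaf
  20762) (.leaf
  20754)) (.node 1 (.leaf
  20746) (.node 1 (.leaf
  20738) (.leaf
  10116))))) (.node 4 (.node 2 (.node 1 (.leaf
  10124) (.leaf
  20739)) (.node 1 (.leaf
  20747) (.leaf
  18653))) (.node 2 (.node 1 (.leaf
  18645) (.leaf
  13886)) (.node 1 (.leaf
  13878) (.node 1 (.leaf
  12294) (.leaf
  12302)))))) (.node 9 (.node 4 (.node 2 (.node 1 (.leaf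
  12310) (.leaf
  12318)) (.node 1 (.leaf
  18741) (.leaf
  18749))) (.node 2 (.node 1 (.leaf
  12406) (.leaf
  18733)) (.node 1 (.leaf
  18701) (.node 1 (.leaf
  18693) (.leaf
  18717))))) (.node 4 (.node 2 (.node 1 (.leaf
  18709) (.leaf
  20907)) (.node 1 (.leaf
  18765) (.leaf
  18773))) (.node 2 (.node 1 (.leaf
  8980) (.leaf
  20085)) (.node 1 (.leaf
  20093) (.node 1 (.leaf
  20069) (.leaf
  20077))))))) (.node 18 (.node 9 (.node 4 (.node 2 (.node 1 (.leaf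
  20029) (.leaf
  21091)) (.node 1 (.leaf
  20013) (.leaf
  21107))) (.node 2 (.node 1 (.leaf
  19973) (.leaf
  21106)) (.node 1 (.leaf
  19989) (.node 1 (.leaf
  21090) (.leaf
  20045))))) (.node 4 (.node 2 (.node 1 (.leaf
  8516) (.leaf
  20061)) (.node 1 (.leaf
  8532) (.leaf
  13726))) (.node 2 (.node 1 (.leaf
  13718) (.leaf
  13710)) (.node 1 (.leaf
  13702) (.node 1 (.leaf
  13822) (.leaf
  13814)))))) (.node 9 (.node 4 (.node 2 (.node 1 (.leaf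
  21122) (.leaf
  13798)) (.node 1 (.leaf
  9676) (.leaf
  21242))) (.node 2 (.node 1 (.leaf
  9692) (.leaf
  9684)) (.node 1 (.leaf
  21202) (.node 1 (.leaf
  13758) (.leaf
  13734))))) (.node 4 (.node 2 (.node 1 (.leaf
  13742) (.leaf
  14222)) (.node 1 (.leaf
  9796) (.leaf
  14238))) (.node 2 (.node 1 (.leaf
  14230) (.leaf
  14318)) (.node 1 (.leaf
  14310) (.node 1 (.leaf
  21266) (.leaf
  21274)))))))) (.node 36 (.node 18 (.node 9 (.node 4 (.node 2 (.node 1 (.leaf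
  10196) (.leaf
  10204)) (.node 1 (.leaf
  14294) (.leaf
  10188))) (.node 2 (.node 1 (.leaf
  21314) (.leaf
  21322)) (.node 1 (.leaf
  14262) (.node 1 (.leaf
  14270) (.leaf
  12702))))) (.node 4 (.node 2 (.node 1 (.leaf
  12694) (.leaf
  12686)) (.node 1 (.leaf
  12678) (.leaf
  20269))) (.node 2 (.node 1 (.leaf
  20261) (.leaf
  12782)) (.node 1 (.leaf
  12774) (.node 1 (.leaf
  20245) (.leaf
  20253)))))) (.node 9 (.node 4 (.node 2 (.node 1 (.leaf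
  9180) (.leaf
  9172)) (.node 1 (.leaf
  20317) (.leaf
  20309))) (.node 2 (.node 1 (.leaf
  9028) (.leaf
  20293)) (.node 1 (.leaf
  19053) (.node 1 (.leaf
  19045) (.leaf
  19069))))) (.node 4 (.node 2 (.node 1 (.leaf
  19061) (.leaf
  21619)) (.node 1 (.leaf
  21627) (.leaf
  21603))) (.node 2 (.node 1 (.leaf
  21611) (.leaf
  21610)) (.node 1 (.leaf
  18965) (.node 1 (.leaf
  21626) (.leaf
  18949))))))) (.node 18 (.node 9 (.node 4 (.node 2 (.node 1 (.leaf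
  8492) (.leaf
  19037)) (.node 1 (.leaf
  8508) (.leaf
  19021))) (.node 2 (.node 1 (.leaf
  13590) (.leaf
  13598)) (.node 1 (.leaf
  13574) (.node 1 (.leaf
  13582) (.leaf
  13686))))) (.node 4 (.node 2 (.node 1 (.leaf
  21642) (.leaf
  13670)) (.node 1 (.leaf
  13678) (.leaf
  13662))) (.node 2 (.node 1 (.leaf
  21738) (.leaf
  13646)) (.node 1 (.leaf
  21754) (.node 1 (.leaf
  13630) (.leaf
  13622)))))) (.node 9 (.node 4 (.node 2 (.node 1 (.leaf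
  13614) (.leaf
  13606)) (.node 1 (.leaf
  9772) (.leaf
  14110))) (.node 2 (.node 1 (.leaf
  14086) (.leaf
  14094)) (.node 1 (.leaf
  14198) (.node 1 (.leaf
  21786) (.leaf
  14182))))) (.node 4 (.node 2 (.node 1 (.leaf
  14190) (.leaf
  10156)) (.node 1 (.leaf
  10148) (.leaf
  10172))) (.node 2 (.node 1 (.leaf
  10164) (.leaf
  14142)) (.node 1 (.leaf
  19157) (.node 1 (.leaf
  14126) (.leaf
  14118))))))))) (.node 72 (.node 36 (.node 18 (.node 9 (.node 4 (.node 2 (.node 1 (.leaf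
  12574) (.leaf
  12566)) (.node 1 (.leaf
  12558) (.leaf
  19301))) (.node 2 (.node 1 (.leaf
  19253) (.leaf
  19261)) (.node 1 (.leaf
  12654) (.node 1 (.leaf
  21890) (.leaf
  12630))))) (.node 4 (.node 2 (.node 1 (.leaf
  12638) (.leaf
  19229)) (.node 1 (.leaf
  12622) (.leaf
  19269))) (.node 2 (.node 1 (.leaf
  19277) (.leaf
  12582)) (.node 1 (.leaf
  12590) (.node 1 (.leaf
  19573) (.leaf
  19581)))))) (.node 9 (.node 4 (.node 2 (.node 1 (.leaf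
  19557) (.leaf
  19565)) (.node 1 (.leaf
  19517) (.leaf
  22131))) (.node 2 (.node 1 (.leaf
  19501) (.leaf
  22115)) (.node 1 (.leaf
  22130) (.node 1 (.leaf
  19469) (.leaf
  22114))))) (.node 4 (.node 2 (.node 1 (.leaf
  19485) (.leaf
  19533)) (.node 1 (.leaf
  19525) (.leaf
  19549))) (.node 2 (.node 1 (.leaf
  19541) (.leaf
  13462)) (.node 1 (.leaf
  13470) (.node 1 (.leaf
  13446) (.leaf
  13454))))))) (.node 18 (.node 9 (.node 4 (.node 2 (.node 1 (.leaf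
  13558) (.leaf
  13566)) (.node 1 (.leaf
  9460) (.leaf
  9468))) (.node 2 (.node 1 (.leaf
  9724) (.leaf
  9716)) (.node 1 (.leaf
  9708) (.node 1 (.leaf
  9700) (.leaf
  13502))))) (.node 4 (.node 2 (.node 1 (.leaf
  13494) (.leaf
  13486)) (.node 1 (.leaf
  22210) (.leaf
  19709))) (.node 2 (.node 1 (.leaf
  19701) (.leaf
  9828)) (.node 1 (.leaf
  13958) (.node 1 (.leaf
  14078) (.leaf
  14070)))))) (.node 9 (.node 4 (.node 2 (.node 1 (.leaf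
  14062) (.leaf
  14054)) (.node 1 (.leaf
  14038) (.leaf
  14046))) (.node 2 (.node 1 (.leaf
  10220) (.leaf
  10212)) (.node 1 (.leaf
  14006) (.node 1 (.leaf
  14014) (.leaf
  13990))))) (.node 4 (.node 2 (.node 1 (.leaf
  19677) (.leaf
  12422)) (.node 1 (.leaf
  12430) (.leaf
  12438))) (.node 2 (.node 1 (.leaf
  12446) (.leaf
  19757)) (.node 1 (.leaf
  19749) (.node 1 (.leaf
  19773) (.leaf
  19765)))))))) (.node 36 (.node 18 (.node 9 (.node 4 (.node 2 (.node 1 (.leaf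
  12494) (.leaf
  19741)) (.node 1 (.leaf
  12510) (.leaf
  9204))) (.node 2 (.node 1 (.leaf
  19805) (.leaf
  22459)) (.node 1 (.leaf
  12478) (.node 1 (.leaf
  12470) (.leaf
  15260))))) (.node 4 (.node 2 (.node 1 (.leaf
  15252) (.leaf
  15244)) (.node 1 (.leaf
  15236) (.leaf
  27574))) (.node 2 (.node 1 (.leaf
  27582) (.leaf
  22546)) (.node 1 (.leaf
  22554) (.node 1 (.leaf
  27534) (.leaf
  27526)))))) (.node 9 (.node 4 (.node 2 (.node 1 (.leaf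
  27550) (.leaf
  27542)) (.node 1 (.leaf
  22594) (.leaf
  22602))) (.node 2 (.node 1 (.leaf
  22610) (.leaf
  22618)) (.node 1 (.leaf
  24629) (.node 1 (.leaf
  28102) (.leaf
  24613))))) (.node 4 (.node 2 (.node 1 (.leaf
  24621) (.leaf
  22779)) (.node 1 (.leaf
  22771) (.leaf
  22763))) (.node 2 (.node 1 (.leaf
  22674) (.leaf
  28046)) (.node 1 (.leaf
  24661) (.node 1 (.leaf
  28062) (.leaf
  24645))))))) (.node 18 (.node 9 (.node 4 (.node 2 (.node 1 (.leaf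
  24605) (.leaf
  24597)) (.node 1 (.leaf
  24589) (.leaf
  24581))) (.node 2 (.node 1 (.leaf
  15748) (.leaf
  15756)) (.node 1 (.leaf
  15764) (.node 1 (.leaf
  15772) (.leaf
  15636))))) (.node 4 (.node 2 (.node 1 (.leaf
  24941) (.leaf
  15620)) (.node 1 (.leaf
  24957) (.leaf
  28566))) (.node 2 (.node 1 (.leaf
  28574) (.leaf
  24925)) (.node 1 (.leaf
  28558) (.node 1 (.leaf
  22874) (.leaf
  22843)))))) (.node 9 (.node 4 (.node 2 (.node 1 (.leaf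
  22858) (.leaf
  22827)) (.node 1 (.leaf
  14732) (.leaf
  14724))) (.node 2 (.node 1 (.leaf
  14748) (.leaf
  14740)) (.node 1 (.leaf
  22930) (.node 1 (.leaf
  22938) (.leaf
  22914))))) (.node 4 (.node 2 (.node 1 (.leaf
  22922) (.leaf
  22923)) (.node 1 (.leaf
  22915) (.leaf
  22939))) (.node 2 (.node 1 (.leaf
  22931) (.leaf
  22955)) (.node 1 (.leaf
  22947) (.node 1 (.leaf
  22971) (.leaf
  22963))))))))))) (.node 288 (.node 144 (.node 72 (.node 36 (.node 18 (.node 9 (.node 4 (.node 2 (.node 1 (.leaf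
  15324) (.leaf
  15316)) (.node 1 (.leaf
  15308) (.leaf
  15300))) (.node 2 (.node 1 (.leaf
  23066) (.leaf
  23058)) (.node 1 (.leaf
  27190) (.node 1 (.leaf
  27198) (.leaf
  27166))))) (.node 4 (.node 2 (.node 1 (.leaf
  27158) (.leaf
  27150)) (.node 1 (.leaf
  27142) (.leaf
  23130))) (.node 2 (.node 1 (.leaf
  23122) (.leaf
  23114)) (.node 1 (.leaf
  23106) (.node 1 (.leaf
  16324) (.leaf
  16332)))))) (.node 9 (.node 4 (.node 2 (.node 1 (.leaf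
  27742) (.leaf
  27734)) (.node 1 (.leaf
  27702) (.leaf
  23291))) (.node 2 (.node 1 (.leaf
  27686) (.leaf
  27694)) (.node 1 (.leaf
  27662) (.node 1 (.leaf
  27654) (.leaf
  27678))))) (.node 4 (.node 2 (.node 1 (.leaf
  27670) (.leaf
  26117)) (.node 1 (.leaf
  26125) (.leaf
  26133))) (.node 2 (.node 1 (.leaf
  26141) (.leaf
  15836)) (.node 1 (.leaf
  15828) (.node 1 (.leaf
  15820) (.leaf
  15812))))))) (.node 18 (.node 9 (.node 4 (.node 2 (.node 1 (.leaf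
  23298) (.leaf
  23306)) (.node 1 (.leaf
  28214) (.leaf
  28222))) (.node 2 (.node 1 (.leaf
  28190) (.leaf
  28182)) (.node 1 (.leaf
  28174) (.node 1 (.leaf
  28166) (.leaf
  23362))))) (.node 4 (.node 2 (.node 1 (.leaf
  23370) (.leaf
  23378)) (.node 1 (.leaf
  23386) (.leaf
  14788))) (.node 2 (.node 1 (.leaf
  14796) (.leaf
  14804)) (.node 1 (.leaf
  14812) (.node 1 (.leaf
  23434) (.leaf
  23426)))))) (.node 9 (.node 4 (.node 2 (.node 1 (.leaf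
  26662) (.leaf
  26670)) (.node 1 (.leaf
  26638) (.leaf
  26630))) (.node 2 (.node 1 (.leaf
  26654) (.leaf
  26646)) (.node 1 (.leaf
  23498) (.node 1 (.leaf
  23490) (.leaf
  23514))))) (.node 4 (.node 2 (.node 1 (.leaf
  23506) (.leaf
  15292)) (.node 1 (.leaf
  15284) (.leaf
  15276))) (.node 2 (.node 1 (.leaf
  15268) (.leaf
  27318)) (.node 1 (.leaf
  27326) (.node 1 (.leaf
  23578) (.leaf
  23570)))))))) (.node 36 (.node 18 (.node 9 (.node 4 (.node 2 (.node 1 (.leaf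
  27278) (.leaf
  27270)) (.node 1 (.leaf
  27294) (.leaf
  27286))) (.node 2 (.node 1 (.leaf
  23626) (.leaf
  23618)) (.node 1 (.leaf
  25493) (.node 1 (.leaf
  25501) (.leaf
  27846))))) (.node 4 (.node 2 (.node 1 (.leaf
  25149) (.leaf
  16300)) (.node 1 (.leaf
  25133) (.leaf
  25205))) (.node 2 (.node 1 (.leaf
  25213) (.leaf
  27822)) (.node 1 (.leaf
  23795) (.node 1 (.leaf
  27782) (.leaf
  27790)))))) (.node 9 (.node 4 (.node 2 (.node 1 (.leaf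
  25165) (.leaf
  25157)) (.node 1 (.leaf
  16044) (.leaf
  25109))) (.node 2 (.node 1 (.leaf
  16060) (.leaf
  25093)) (.node 1 (.leaf
  15796) (.node 1 (.leaf
  15804) (.leaf
  28374))))) (.node 4 (.node 2 (.node 1 (.leaf
  28382) (.leaf
  25445)) (.node 1 (.leaf
  28342) (.leaf
  23810))) (.node 2 (.node 1 (.leaf
  23818) (.leaf
  25421)) (.node 1 (.leaf
  28302) (.node 1 (.leaf
  25437) (.leaf
  28318))))))) (.node 18 (.node 9 (.node 4 (.node 2 (.node 1 (.leaf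
  25357) (.leaf
  25349)) (.node 1 (.leaf
  23874) (.leaf
  23882))) (.node 2 (.node 1 (.leaf
  14772) (.leaf
  14780)) (.node 1 (.leaf
  14756) (.node 1 (.leaf
  14764) (.leaf
  23962))))) (.node 4 (.node 2 (.node 1 (.leaf
  23954) (.leaf
  23946)) (.node 1 (.leaf
  23938) (.leaf
  26766))) (.node 2 (.node 1 (.leaf
  26758) (.leaf
  23947)) (.node 1 (.leaf
  23939) (.node 1 (.leaf
  23995) (.leaf
  23987)))))) (.node 9 (.node 4 (.node 2 (.node 1 (.leaf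
  24010) (.leaf
  24002)) (.node 1 (.leaf
  15356) (.leaf
  15348))) (.node 2 (.node 1 (.leaf
  15340) (.leaf
  15332)) (.node 1 (.leaf
  24082) (.node 1 (.leaf
  24090) (.leaf
  27446))))) (.node 4 (.node 2 (.node 1 (.leaf
  24074) (.leaf
  24091)) (.node 1 (.leaf
  27414) (.leaf
  24075))) (.node 2 (.node 1 (.leaf
  27398) (.leaf
  26013)) (.node 1 (.leaf
  26005) (.node 1 (.leaf
  24107) (.leaf
  24138))))))))) (.node 72 (.node 36 (.node 18 (.node 9 (.node 4 (.node 2 (.node 1 (.leaf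
  25645) (.leaf
  16356)) (.node 1 (.leaf
  25661) (.leaf
  16372))) (.node 2 (.node 1 (.leaf
  24291) (.leaf
  24299)) (.node 1 (.leaf
  24307) (.node 1 (.leaf
  24315) (.leaf
  25669))))) (.node 4 (.node 2 (.node 1 (.leaf
  25677) (.leaf
  25685)) (.node 1 (.leaf
  27934) (.leaf
  25605))) (.node 2 (.node 1 (.leaf
  25613) (.leaf
  25621)) (.node 1 (.leaf
  25629) (.node 1 (.leaf
  15852) (.leaf
  15844)))))) (.node 9 (.node 4 (.node 2 (.node 1 (.leaf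
  15868) (.leaf
  15860)) (.node 1 (.leaf
  24330) (.leaf
  24322))) (.node 2 (.node 1 (.leaf
  15740) (.leaf
  25957)) (.node 1 (.leaf
  25941) (.node 1 (.leaf
  24323) (.leaf
  28446))))) (.node 4 (.node 2 (.node 1 (.leaf
  25933) (.leaf
  25877)) (.node 1 (.leaf
  25885) (.leaf
  24379))) (.node 2 (.node 1 (.leaf
  24402) (.leaf
  14844)) (.node 1 (.leaf
  14836) (.node 1 (.leaf
  14828) (.leaf
  14820))))))) (.node 18 (.node 9 (.node 4 (.node 2 (.node 1 (.leaf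
  24450) (.leaf
  24458)) (.node 1 (.leaf
  24466) (.leaf
  24474))) (.node 2 (.node 1 (.leaf
  24467) (.leaf
  24475)) (.node 1 (.leaf
  24451) (.node 1 (.leaf
  24459) (.leaf
  24499))))) (.node 4 (.node 2 (.node 1 (.leaf
  24507) (.leaf
  24483)) (.node 1 (.leaf
  24491) (.leaf
  16860))) (.node 2 (.node 1 (.leaf
  16852) (.leaf
  16844)) (.node 1 (.leaf
  16836) (.node 1 (.leaf
  24578) (.leaf
  24586)))))) (.node 9 (.node 4 (.node 2 (.node 1 (.leaf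
  24594) (.leaf
  24602)) (.node 1 (.leaf
  24579) (.leaf
  24587))) (.node 2 (.node 1 (.leaf
  24595) (.leaf
  24603)) (.node 1 (.leaf
  24611) (.node 1 (.leaf
  24619) (.leaf
  24627))))) (.node 4 (.node 2 (.node 1 (.leaf
  24635) (.leaf
  34869)) (.node 1 (.leaf
  24738) (.leaf
  34853))) (.node 2 (.node 1 (.leaf
  24754) (.leaf
  34933)) (.node 1 (.leaf
  34941) (.node 1 (.leaf
  34917) (.leaf
  34925)))))))) (.node 36 (.node 18 (.node 9 (.node 4 (.node 2 (.node 1 (.leaf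
  34909) (.leaf
  34901)) (.node 1 (.leaf
  34893) (.leaf
  34885))) (.node 2 (.node 1 (.leaf
  34845) (.leaf
  24755)) (.node 1 (.leaf
  34829) (.node 1 (.leaf
  24739) (.leaf
  18372))))) (.node 4 (.node 2 (.node 1 (.leaf
  35117) (.leaf
  35125)) (.node 1 (.leaf
  35133) (.leaf
  24858))) (.node 2 (.node 1 (.leaf
  24955) (.leaf
  24931)) (.node 1 (.leaf
  24939) (.node 1 (.leaf
  34374) (.leaf
  35141)))))) (.node 9 (.node 4 (.node 2 (.node 1 (.leaf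
  34390) (.leaf
  35157)) (.node 1 (.leaf
  35085) (.leaf
  35077))) (.node 2 (.node 1 (.leaf
  35101) (.leaf
  35093)) (.node 1 (.leaf
  17356) (.node 1 (.leaf
  17348) (.leaf
  17372))))) (.node 4 (.node 2 (.node 1 (.leaf
  17364) (.leaf
  24978)) (.node 1 (.leaf
  24986) (.leaf
  35053))) (.node 2 (.node 1 (.leaf
  35045) (.leaf
  32838)) (.node 1 (.leaf
  32846) (.node 1 (.leaf
  32854) (.leaf
  32862))))))) (.node 18 (.node 9 (.node 4 (.node 2 (.node 1 (.leaf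
  25042) (.leaf
  25050)) (.node 1 (.leaf
  25026) (.leaf
  25034))) (.node 2 (.node 1 (.leaf
  16788) (.leaf
  16796)) (.node 1 (.leaf
  16772) (.node 1 (.leaf
  16780) (.leaf
  33766))))) (.node 4 (.node 2 (.node 1 (.leaf
  33774) (.leaf
  25098)) (.node 1 (.leaf
  25090) (.leaf
  33742))) (.node 2 (.node 1 (.leaf
  33734) (.leaf
  33758)) (.node 1 (.leaf
  33750) (.node 1 (.leaf
  25178) (.leaf
  33702)))))) (.node 9 (.node 4 (.node 2 (.node 1 (.leaf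
  25162) (.leaf
  33718)) (.node 1 (.leaf
  17804) (.leaf
  17796))) (.node 2 (.node 1 (.leaf
  34182) (.leaf
  34190)) (.node 1 (.leaf
  17684) (.node 1 (.leaf
  36453) (.leaf
  17668))))) (.node 4 (.node 2 (.node 1 (.leaf
  36469) (.leaf
  34270)) (.node 1 (.leaf
  34262) (.leaf
  34254))) (.node 2 (.node 1 (.leaf
  34246) (.leaf
  36357)) (.node 1 (.leaf
  25275) (.node 1 (.leaf
  34222) (.leaf
  25290)))))))))) (.node 144 (.node 72 (.node 36 (.node 18 (.node 9 (.node 4 (.node 2 (.node 1 (.leaf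
  18324) (.leaf
  18332)) (.node 1 (.leaf
  34710) (.leaf
  34718))) (.node 2 (.node 1 (.leaf
  34790) (.leaf
  34798)) (.node 1 (.leaf
  34806) (.node 1 (.leaf
  34814) (.leaf
  34766))))) (.node 4 (.node 2 (.node 1 (.leaf
  34758) (.leaf
  34782)) (.node 1 (.leaf
  34774) (.leaf
  34734))) (.node 2 (.node 1 (.leaf
  25418) (.leaf
  34750)) (.node 1 (.leaf
  25434) (.node 1 (.leaf
  17292) (.leaf
  17284)))))) (.node 9 (.node 4 (.node 2 (.node 1 (.leaf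
  17308) (.leaf
  17300)) (.node 1 (.leaf
  33270) (.leaf
  33278))) (.node 2 (.node 1 (.leaf
  25498) (.leaf
  25490)) (.node 1 (.leaf
  33246) (.node 1 (.leaf
  33238) (.leaf
  33230))))) (.node 4 (.node 2 (.node 1 (.leaf
  33222) (.leaf
  25546)) (.node 1 (.leaf
  33206) (.leaf
  25562))) (.node 2 (.node 1 (.leaf
  25554) (.leaf
  16868)) (.node 1 (.leaf
  16876) (.node 1 (.leaf
  16884) (.leaf
  16892))))))) (.node 18 (.node 9 (.node 4 (.node 2 (.node 1 (.leaf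
  25610) (.leaf
  25602)) (.node 1 (.leaf
  25626) (.leaf
  25618))) (.node 2 (.node 1 (.leaf
  33630) (.leaf
  33622)) (.node 1 (.leaf
  25603) (.node 1 (.leaf
  25611) (.leaf
  33598))))) (.node 4 (.node 2 (.node 1 (.leaf
  25666) (.leaf
  25635)) (.node 1 (.leaf
  25643) (.leaf
  25762))) (.node 2 (.node 1 (.leaf
  35389) (.leaf
  25778)) (.node 1 (.leaf
  35373) (.node 1 (.leaf
  35445) (.leaf
  17764)))))) (.node 9 (.node 4 (.node 2 (.node 1 (.leaf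
  35429) (.leaf
  17780)) (.node 1 (.leaf
  35421) (.leaf
  35413))) (.node 2 (.node 1 (.leaf
  34118) (.leaf
  34126)) (.node 1 (.leaf
  35357) (.node 1 (.leaf
  25763) (.leaf
  35341))))) (.node 4 (.node 2 (.node 1 (.leaf
  25779) (.leaf
  34590)) (.node 1 (.leaf
  35629) (.leaf
  18428))) (.node 2 (.node 1 (.leaf
  18420) (.leaf
  25955)) (.node 1 (.leaf
  34678) (.node 1 (.leaf
  35701) (.leaf
  35709)))))))) (.node 36 (.node 18 (.node 9 (.node 4 (.node 2 (.node 1 (.leaf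
  34646) (.leaf
  34654)) (.node 1 (.leaf
  35677) (.leaf
  35669))) (.node 2 (.node 1 (.leaf
  35597) (.leaf
  35589)) (.node 1 (.leaf
  35613) (.node 1 (.leaf
  35605) (.leaf
  17388))))) (.node 4 (.node 2 (.node 1 (.leaf
  17380) (.leaf
  17404)) (.node 1 (.leaf
  17396) (.leaf
  26010))) (.node 2 (.node 1 (.leaf
  35573) (.leaf
  33126)) (.node 1 (.leaf
  33134) (.node 1 (.leaf
  33118) (.leaf
  33110)))))) (.node 9 (.node 4 (.node 2 (.node 1 (.leaf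
  33102) (.leaf
  33094)) (.node 1 (.leaf
  35477) (.leaf
  35485))) (.node 2 (.node 1 (.leaf
  26058) (.leaf
  26050)) (.node 1 (.leaf
  16812) (.node 1 (.leaf
  16804) (.leaf
  16828))))) (.node 4 (.node 2 (.node 1 (.leaf
  16820) (.leaf
  26130)) (.node 1 (.leaf
  26138) (.leaf
  26114))) (.node 2 (.node 1 (.leaf
  26122) (.leaf
  26139)) (.node 1 (.leaf
  26131) (.node 1 (.leaf
  33502) (.leaf
  33494))))))) (.node 18 (.node 9 (.node 4 (.node 2 (.node 1 (.leaf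
  33454) (.leaf
  26202)) (.node 1 (.leaf
  26155) (.leaf
  26147))) (.node 2 (.node 1 (.leaf
  26307) (.leaf
  35877)) (.node 1 (.leaf
  26282) (.node 1 (.leaf
  35893) (.leaf
  35949))))) (.node 4 (.node 2 (.node 1 (.leaf
  35941) (.leaf
  35965)) (.node 1 (.leaf
  35957) (.leaf
  35909))) (.node 2 (.node 1 (.leaf
  35917) (.leaf
  35925)) (.node 1 (.leaf
  35933) (.node 1 (.leaf
  35845) (.leaf
  26283)))))) (.node 9 (.node 4 (.node 2 (.node 1 (.leaf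
  35861) (.leaf
  26306)) (.node 1 (.leaf
  34454) (.leaf
  34462))) (.node 2 (.node 1 (.leaf
  18348) (.leaf
  18340)) (.node 1 (.leaf
  34550) (.node 1 (.leaf
  34558) (.leaf
  34534))))) (.node 4 (.node 2 (.node 1 (.leaf
  34542) (.leaf
  34526)) (.node 1 (.leaf
  34518) (.leaf
  34510))) (.node 2 (.node 1 (.leaf
  34502) (.leaf
  36117)) (.node 1 (.leaf
  36125) (.node 1 (.leaf
  36101) (.leaf
  36109))))))))) (.node 72 (.node 36 (.node 18 (.node 9 (.node 4 (.node 2 (.node 1 (.leaf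
  17324) (.leaf
  17316)) (.node 1 (.leaf
  17340) (.leaf
  17332))) (.node 2 (.node 1 (.leaf
  36069) (.leaf
  36077)) (.node 1 (.leaf
  36085) (.node 1 (.leaf
  33014) (.leaf
  36045))))) (.node 4 (.node 2 (.node 1 (.leaf
  36037) (.leaf
  32982)) (.node 1 (.leaf
  32990) (.leaf
  26562))) (.node 2 (.node 1 (.leaf
  35973) (.leaf
  26578)) (.node 1 (.leaf
  35989) (.node 1 (.leaf
  10252) (.leaf
  10244)))))) (.node 9 (.node 4 (.node 2 (.node 1 (.leaf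
  10268) (.leaf
  10260)) (.node 1 (.leaf
  26626) (.leaf
  26634))) (.node 2 (.node 1 (.leaf
  26642) (.leaf
  26650)) (.node 1 (.leaf
  26627) (.node 1 (.leaf
  26635) (.leaf
  26643))))) (.node 4 (.node 2 (.node 1 (.leaf
  26651) (.leaf
  26659)) (.node 1 (.leaf
  26667) (.leaf
  26675))) (.node 2 (.node 1 (.leaf
  26683) (.leaf
  11268)) (.node 1 (.leaf
  11276) (.node 1 (.leaf
  11284) (.leaf
  11292))))))) (.node 18 (.node 9 (.node 4 (.node 2 (.node 1 (.leaf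
  26762) (.leaf
  26754)) (.node 1 (.leaf
  26778) (.leaf
  26770))) (.node 2 (.node 1 (.leaf
  23950) (.leaf
  23942)) (.node 1 (.leaf
  26763) (.node 1 (.leaf
  26755) (.leaf
  26826))))) (.node 4 (.node 2 (.node 1 (.leaf
  26818) (.leaf
  26795)) (.node 1 (.leaf
  26787) (.leaf
  11796))) (.node 2 (.node 1 (.leaf
  11804) (.leaf
  11780)) (.node 1 (.leaf
  11788) (.node 1 (.leaf
  26906) (.leaf
  26898)))))) (.node 9 (.node 4 (.node 2 (.node 1 (.leaf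
  24510) (.leaf
  24502)) (.node 1 (.leaf
  24470) (.leaf
  24478))) (.node 2 (.node 1 (.leaf
  24454) (.leaf
  24462)) (.node 1 (.leaf
  26970) (.node 1 (.leaf
  26962) (.leaf
  26954))))) (.node 4 (.node 2 (.node 1 (.leaf
  26946) (.leaf
  10780)) (.node 1 (.leaf
  10772) (.leaf
  10764))) (.node 2 (.node 1 (.leaf
  10756) (.leaf
  27026)) (.node 1 (.leaf
  27034) (.node 1 (.leaf
  22974) (.leaf
  22966)))))))) (.node 36 (.node 18 (.node 9 (.node 4 (.node 2 (.node 1 (.leaf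
  22934) (.leaf
  22942)) (.node 1 (.leaf
  22918) (.leaf
  22926))) (.node 2 (.node 1 (.leaf
  27090) (.leaf
  27098)) (.node 1 (.leaf
  27074) (.node 1 (.leaf
  27082) (.leaf
  10316))))) (.node 4 (.node 2 (.node 1 (.leaf
  10308) (.leaf
  10332)) (.node 1 (.leaf
  10324) (.leaf
  27162))) (.node 2 (.node 1 (.leaf
  27154) (.leaf
  27146)) (.node 1 (.leaf
  27138) (.node 1 (.leaf
  27147) (.leaf
  27139)))))) (.node 9 (.node 4 (.node 2 (.node 1 (.leaf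
  27163) (.leaf
  27155)) (.node 1 (.leaf
  27179) (.leaf
  27171))) (.node 2 (.node 1 (.leaf
  27195) (.leaf
  27187)) (.node 1 (.leaf
  11348) (.node 1 (.leaf
  11356) (.leaf
  11332))))) (.node 4 (.node 2 (.node 1 (.leaf
  11340) (.leaf
  27282)) (.node 1 (.leaf
  27290) (.leaf
  27266))) (.node 2 (.node 1 (.leaf
  27274) (.leaf
  27283)) (.node 1 (.leaf
  27291) (.node 1 (.leaf
  27267) (.leaf
  27275))))))) (.node 18 (.node 9 (.node 4 (.node 2 (.node 1 (.leaf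
  27315) (.leaf
  27323)) (.node 1 (.leaf
  27299) (.leaf
  30821))) (.node 2 (.node 1 (.leaf
  11852) (.leaf
  11844)) (.node 1 (.leaf
  11868) (.node 1 (.leaf
  11860) (.leaf
  27394))))) (.node 4 (.node 2 (.node 1 (.leaf
  24110) (.leaf
  27410)) (.node 1 (.leaf
  27418) (.leaf
  24094))) (.node 2 (.node 1 (.leaf
  27411) (.leaf
  24078)) (.node 1 (.leaf
  27395) (.node 1 (.leaf
  31077) (.leaf
  27443)))))) (.node 9 (.node 4 (.node 2 (.node 1 (.leaf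
  31093) (.leaf
  27427)) (.node 1 (.leaf
  10836) (.leaf
  10844))) (.node 2 (.node 1 (.leaf
  10820) (.leaf
  10828)) (.node 1 (.leaf
  27530) (.node 1 (.leaf
  27522) (.leaf
  27546))))) (.node 4 (.node 2 (.node 1 (.leaf
  27538) (.leaf
  27523)) (.node 1 (.leaf
  27531) (.leaf
  27539))) (.node 2 (.node 1 (.leaf
  27547) (.leaf
  27555)) (.node 1 (.leaf
  27563) (.node 1 (.leaf
  27571) (.leaf
  27579)))))))))))) (.node 576 (.node 288 (.node 144 (.node 72 (.node 36 (.node 18 (.node 9 (.node 4 (.node 2 (.node 1 (.leaf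
  10276) (.leaf
  10284)) (.node 1 (.leaf
  10292) (.leaf
  10300))) (.node 2 (.node 1 (.leaf
  27658) (.leaf
  27650)) (.node 1 (.leaf
  27674) (.node 1 (.leaf
  27666) (.leaf
  27667))))) (.node 4 (.node 2 (.node 1 (.leaf
  27675) (.leaf
  27651)) (.node 1 (.leaf
  27659) (.leaf
  27699))) (.node 2 (.node 1 (.leaf
  23294) (.leaf
  27683)) (.node 1 (.leaf
  27691) (.node 1 (.leaf
  11300) (.leaf
  11308)))))) (.node 9 (.node 4 (.node 2 (.node 1 (.leaf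
  11316) (.leaf
  11324)) (.node 1 (.leaf
  27778) (.leaf
  27786))) (.node 2 (.node 1 (.leaf
  27794) (.leaf
  27802)) (.node 1 (.leaf
  27787) (.node 1 (.leaf
  27779) (.leaf
  27803))))) (.node 4 (.node 2 (.node 1 (.leaf
  27795) (.leaf
  27819)) (.node 1 (.leaf
  23798) (.leaf
  27835))) (.node 2 (.node 1 (.leaf
  23782) (.leaf
  11820)) (.node 1 (.leaf
  11812) (.node 1 (.leaf
  11836) (.leaf
  11828))))))) (.node 18 (.node 9 (.node 4 (.node 2 (.node 1 (.leaf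
  27922) (.leaf
  27930)) (.node 1 (.leaf
  24238) (.leaf
  27914))) (.node 2 (.node 1 (.leaf
  24198) (.leaf
  27915)) (.node 1 (.leaf
  27923) (.node 1 (.leaf
  27931) (.leaf
  24318))))) (.node 4 (.node 2 (.node 1 (.leaf
  24310) (.leaf
  24302)) (.node 1 (.leaf
  24294) (.leaf
  10796))) (.node 2 (.node 1 (.leaf
  10788) (.leaf
  10812)) (.node 1 (.leaf
  10804) (.node 1 (.leaf
  28058) (.leaf
  28050)))))) (.node 9 (.node 4 (.node 2 (.node 1 (.leaf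
  28042) (.leaf
  28034)) (.node 1 (.leaf
  28059) (.leaf
  28051))) (.node 2 (.node 1 (.leaf
  28043) (.leaf
  22678)) (.node 1 (.leaf
  22774) (.node 1 (.leaf
  22782) (.leaf
  22758))))) (.node 4 (.node 2 (.node 1 (.leaf
  22766) (.leaf
  10340)) (.node 1 (.leaf
  10348) (.leaf
  10356))) (.node 2 (.node 1 (.leaf
  10364) (.leaf
  28178)) (.node 1 (.leaf
  28186) (.node 1 (.leaf
  28162) (.leaf
  28170)))))))) (.node 36 (.node 18 (.node 9 (.node 4 (.node 2 (.node 1 (.leaf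
  28187) (.leaf
  28179)) (.node 1 (.leaf
  28171) (.leaf
  28163))) (.node 2 (.node 1 (.leaf
  28219) (.leaf
  28211)) (.node 1 (.leaf
  31717) (.node 1 (.leaf
  31725) (.leaf
  11380))))) (.node 4 (.node 2 (.node 1 (.leaf
  11388) (.leaf
  31317)) (.node 1 (.leaf
  11372) (.leaf
  28314))) (.node 2 (.node 1 (.leaf
  31253) (.leaf
  28298)) (.node 1 (.leaf
  31237) (.node 1 (.leaf
  31269) (.leaf
  31277)))))) (.node 9 (.node 4 (.node 2 (.node 1 (.leaf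
  31285) (.leaf
  31293)) (.node 1 (.leaf
  28378) (.leaf
  31349))) (.node 2 (.node 1 (.leaf
  28362) (.leaf
  31333)) (.node 1 (.leaf
  31581) (.node 1 (.leaf
  31573) (.leaf
  11876))))) (.node 4 (.node 2 (.node 1 (.leaf
  11884) (.leaf
  31493)) (.node 1 (.leaf
  28418) (.leaf
  28442))) (.node 2 (.node 1 (.leaf
  31517) (.leaf
  31549)) (.node 1 (.leaf
  31541) (.node 1 (.leaf
  31533) (.leaf
  31525))))))) (.node 18 (.node 9 (.node 4 (.node 2 (.node 1 (.leaf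
  31589) (.leaf
  28482)) (.node 1 (.leaf
  31605) (.leaf
  31613))) (.node 2 (.node 1 (.leaf
  10852) (.leaf
  10860)) (.node 1 (.leaf
  10868) (.node 1 (.leaf
  10876) (.leaf
  22830))))) (.node 4 (.node 2 (.node 1 (.leaf
  28554) (.leaf
  28562)) (.node 1 (.leaf
  28570) (.leaf
  28563))) (.node 2 (.node 1 (.leaf
  28571) (.leaf
  31397)) (.node 1 (.leaf
  28555) (.node 1 (.leaf
  31469) (.leaf
  28603)))))) (.node 9 (.node 4 (.node 2 (.node 1 (.leaf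
  31485) (.leaf
  31477)) (.node 1 (.leaf
  14437) (.leaf
  14445))) (.node 2 (.node 1 (.leaf
  14453) (.leaf
  14461)) (.node 1 (.leaf
  28771) (.node 1 (.leaf
  14373) (.leaf
  14397))))) (.node 4 (.node 2 (.node 1 (.leaf
  14389) (.leaf
  14357)) (.node 1 (.leaf
  14365) (.leaf
  14341))) (.node 2 (.node 1 (.leaf
  14349) (.leaf
  14429)) (.node 1 (.leaf
  14421) (.node 1 (.leaf
  14413) (.leaf
  14405))))))))) (.node 72 (.node 36 (.node 18 (.node 9 (.node 4 (.node 2 (.node 1 (.leaf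
  14845) (.leaf
  28834)) (.node 1 (.leaf
  14829) (.leaf
  14821))) (.node 2 (.node 1 (.leaf
  14773) (.leaf
  14781)) (.node 1 (.leaf
  14757) (.node 1 (.leaf
  28818) (.leaf
  14733))))) (.node 4 (.node 2 (.node 1 (.leaf
  14725) (.leaf
  14749)) (.node 1 (.leaf
  14741) (.leaf
  28874))) (.node 2 (.node 1 (.leaf
  14797) (.leaf
  28890)) (.node 1 (.leaf
  14813) (.node 1 (.leaf
  10198) (.leaf
  10206)))))) (.node 9 (.node 4 (.node 2 (.node 1 (.leaf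
  14589) (.leaf
  10190)) (.node 1 (.leaf
  10158) (.leaf
  10150))) (.node 2 (.node 1 (.leaf
  14517) (.leaf
  14525)) (.node 1 (.leaf
  14493) (.node 1 (.leaf
  14485) (.leaf
  14228))))) (.node 4 (.node 2 (.node 1 (.leaf
  14236) (.leaf
  10222)) (.node 1 (.leaf
  14557) (.leaf
  29002))) (.node 2 (.node 1 (.leaf
  14108) (.leaf
  12828)) (.node 1 (.leaf
  12820) (.node 1 (.leaf
  12812) (.leaf
  12804))))))) (.node 18 (.node 9 (.node 4 (.node 2 (.node 1 (.leaf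
  29074) (.leaf
  29082)) (.node 1 (.leaf
  12940) (.leaf
  12932))) (.node 2 (.node 1 (.leaf
  14597) (.leaf
  14605)) (.node 1 (.leaf
  14613) (.node 1 (.leaf
  29075) (.leaf
  14669))))) (.node 4 (.node 2 (.node 1 (.leaf
  14661) (.leaf
  14685)) (.node 1 (.leaf
  13076) (.leaf
  12364))) (.node 2 (.node 1 (.leaf
  15989) (.leaf
  12380)) (.node 1 (.leaf
  15973) (.node 1 (.leaf
  12500) (.leaf
  15933)))))) (.node 9 (.node 4 (.node 2 (.node 1 (.leaf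
  15909) (.leaf
  12492)) (.node 1 (.leaf
  15885) (.leaf
  12764))) (.node 2 (.node 1 (.leaf
  15901) (.leaf
  12748)) (.node 1 (.leaf
  12620) (.node 1 (.leaf
  12612) (.leaf
  15957))))) (.node 4 (.node 2 (.node 1 (.leaf
  15965) (.leaf
  16357)) (.node 1 (.leaf
  16365) (.leaf
  13380))) (.node 2 (.node 1 (.leaf
  13388) (.leaf
  16301)) (.node 1 (.leaf
  29435) (.node 1 (.leaf
  16317) (.leaf
  29419)))))))) (.node 36 (.node 18 (.node 9 (.node 4 (.node 2 (.node 1 (.leaf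
  16277) (.leaf
  29434)) (.node 1 (.leaf
  16261) (.leaf
  16269))) (.node 2 (.node 1 (.leaf
  13652) (.leaf
  16341)) (.node 1 (.leaf
  16333) (.node 1 (.leaf
  16325) (.leaf
  16117))))) (.node 4 (.node 2 (.node 1 (.leaf
  16125) (.leaf
  16101)) (.node 1 (.leaf
  16109) (.leaf
  16061))) (.node 2 (.node 1 (.leaf
  16053) (.leaf
  16045)) (.node 1 (.leaf
  16037) (.node 1 (.leaf
  16005) (.leaf
  16013)))))) (.node 9 (.node 4 (.node 2 (.node 1 (.leaf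
  16021) (.leaf
  16029)) (.node 1 (.leaf
  16077) (.leaf
  16069))) (.node 2 (.node 1 (.leaf
  16093) (.leaf
  16085)) (.node 1 (.leaf
  12884) (.node 1 (.leaf
  12892) (.leaf
  12868))))) (.node 4 (.node 2 (.node 1 (.leaf
  12876) (.leaf
  13004)) (.node 1 (.leaf
  12996) (.leaf
  13020))) (.node 2 (.node 1 (.leaf
  13012) (.leaf
  29571)) (.node 1 (.leaf
  29579) (.node 1 (.leaf
  13276) (.leaf
  13268))))))) (.node 18 (.node 9 (.node 4 (.node 2 (.node 1 (.leaf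
  13140) (.leaf
  13148)) (.node 1 (.leaf
  8294) (.leaf
  8302))) (.node 2 (.node 1 (.leaf
  8910) (.leaf
  8902)) (.node 1 (.leaf
  8926) (.node 1 (.leaf
  8918) (.leaf
  8886))))) (.node 4 (.node 2 (.node 1 (.leaf
  8894) (.leaf
  8870)) (.node 1 (.leaf
  8878) (.leaf
  14869))) (.node 2 (.node 1 (.leaf
  8838) (.leaf
  8862)) (.node 1 (.leaf
  8854) (.node 1 (.leaf
  14941) (.leaf
  14933)))))) (.node 9 (.node 4 (.node 2 (.node 1 (.leaf
  8934) (.leaf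
  8942)) (.node 1 (.leaf
  29899) (.leaf
  15349))) (.node 2 (.node 1 (.leaf
  15341) (.leaf
  15333)) (.node 1 (.leaf
  29931) (.node 1 (.leaf
  29923) (.leaf
  15269))))) (.node 4 (.node 2 (.node 1 (.leaf
  15277) (.leaf
  15245)) (.node 1 (.leaf
  15237) (.leaf
  15261))) (.node 2 (.node 1 (.leaf
  15253) (.leaf
  15301)) (.node 1 (.leaf
  15309) (.node 1 (.leaf
  15317) (.leaf
  15325)))))))))) (.node 144 (.node 72 (.node 36 (.node 18 (.node 9 (.node 4 (.node 2 (.node 1 (.leaf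
  30002) (.leaf
  15077)) (.node 1 (.leaf
  15101) (.leaf
  15093))) (.node 2 (.node 1 (.leaf
  15013) (.leaf
  15021)) (.node 1 (.leaf
  15029) (.node 1 (.leaf
  15037) (.leaf
  15005))))) (.node 4 (.node 2 (.node 1 (.leaf
  14997) (.leaf
  14989)) (.node 1 (.leaf
  14981) (.leaf
  15061))) (.node 2 (.node 1 (.leaf
  15069) (.leaf
  30003)) (.node 1 (.leaf
  15053) (.node 1 (.leaf
  12844) (.leaf
  12836)))))) (.node 9 (.node 4 (.node 2 (.node 1 (.leaf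
  12860) (.leaf
  12852)) (.node 1 (.leaf
  30106) (.leaf
  30098))) (.node 2 (.node 1 (.leaf
  12980) (.leaf
  12988)) (.node 1 (.leaf
  13228) (.node 1 (.leaf
  13220) (.leaf
  13244))))) (.node 4 (.node 2 (.node 1 (.leaf
  13236) (.leaf
  13092)) (.node 1 (.leaf
  13100) (.leaf
  13108))) (.node 2 (.node 1 (.leaf
  13116) (.leaf
  12388)) (.node 1 (.leaf
  9046) (.node 1 (.leaf
  12404) (.leaf
  9030))))))) (.node 18 (.node 9 (.node 4 (.node 2 (.node 1 (.leaf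
  30226) (.leaf
  15421)) (.node 1 (.leaf
  12516) (.leaf
  9022))) (.node 2 (.node 1 (.leaf
  8990) (.leaf
  8982)) (.node 1 (.leaf
  15389) (.node 1 (.leaf
  15381) (.leaf
  15429))))) (.node 4 (.node 2 (.node 1 (.leaf
  9070) (.leaf
  15445)) (.node 1 (.leaf
  15453) (.leaf
  15845))) (.node 2 (.node 1 (.leaf
  15853) (.leaf
  15861)) (.node 1 (.leaf
  15869) (.node 1 (.leaf
  30435) (.leaf
  30443)))))) (.node 9 (.node 4 (.node 2 (.node 1 (.leaf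
  15805) (.leaf
  15797)) (.node 1 (.leaf
  15765) (.leaf
  15773))) (.node 2 (.node 1 (.leaf
  30442) (.leaf
  15757)) (.node 1 (.leaf
  15837) (.node 1 (.leaf
  15829) (.leaf
  13692))))) (.node 4 (.node 2 (.node 1 (.leaf
  15813) (.leaf
  13940)) (.node 1 (.leaf
  10054) (.leaf
  10078))) (.node 2 (.node 1 (.leaf
  10070) (.leaf
  15549)) (.node 1 (.leaf
  15541) (.node 1 (.leaf
  15533) (.leaf
  15525)))))))) (.node 36 (.node 18 (.node 9 (.node 4 (.node 2 (.node 1 (.leaf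
  9998) (.leaf
  9990)) (.node 1 (.leaf
  14316) (.leaf
  14308))) (.node 2 (.node 1 (.leaf
  10102) (.leaf
  10110)) (.node 1 (.leaf
  10086) (.node 1 (.leaf
  14196) (.leaf
  8534))))) (.node 4 (.node 2 (.node 1 (.leaf
  8542) (.leaf
  8518)) (.node 1 (.leaf
  8526) (.leaf
  8494))) (.node 2 (.node 1 (.leaf
  8486) (.leaf
  8510)) (.node 1 (.leaf
  8502) (.node 1 (.leaf
  8470) (.leaf
  8478)))))) (.node 9 (.node 4 (.node 2 (.node 1 (.leaf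
  8454) (.leaf
  8462)) (.node 1 (.leaf
  8558) (.leaf
  8550))) (.node 2 (.node 1 (.leaf
  8574) (.leaf
  8566)) (.node 1 (.leaf
  30787) (.node 1 (.leaf
  34485) (.leaf
  35230))))) (.node 4 (.node 2 (.node 1 (.leaf
  35222) (.leaf
  35302)) (.node 1 (.leaf
  35310) (.leaf
  34533))) (.node 2 (.node 1 (.leaf
  34541) (.leaf
  34517)) (.node 1 (.leaf
  34525) (.node 1 (.leaf
  34501) (.leaf
  34509))))))) (.node 18 (.node 9 (.node 4 (.node 2 (.node 1 (.leaf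
  35246) (.leaf
  35238)) (.node 1 (.leaf
  21124) (.leaf
  21132))) (.node 2 (.node 1 (.leaf
  34613) (.leaf
  30931)) (.node 1 (.leaf
  34597) (.node 1 (.leaf
  30915) (.leaf
  34685))))) (.node 4 (.node 2 (.node 1 (.leaf
  34677) (.leaf
  34669)) (.node 1 (.leaf
  34661) (.leaf
  34653))) (.node 2 (.node 1 (.leaf
  34645) (.leaf
  34637)) (.node 1 (.leaf
  34629) (.node 1 (.leaf
  34581) (.leaf
  30914)))))) (.node 9 (.node 4 (.node 2 (.node 1 (.leaf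
  22156) (.leaf
  22148)) (.node 1 (.leaf
  21892) (.leaf
  21900))) (.node 2 (.node 1 (.leaf
  36230) (.leaf
  36238)) (.node 1 (.leaf
  36350) (.node 1 (.leaf
  36342) (.leaf
  36334))))) (.node 4 (.node 2 (.node 1 (.leaf
  36326) (.leaf
  36318)) (.node 1 (.leaf
  36310) (.leaf
  34389))) (.node 2 (.node 1 (.leaf
  34397) (.leaf
  21644)) (.node 1 (.leaf
  21636) (.node 1 (.leaf
  21660) (.leaf
  21652))))))))) (.node 72 (.node 36 (.node 18 (.node 9 (.node 4 (.node 2 (.node 1 (.leaf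
  31179) (.leaf
  34733)) (.node 1 (.leaf
  31195) (.leaf
  34749))) (.node 2 (.node 1 (.leaf
  34797) (.leaf
  34789)) (.node 1 (.leaf
  34813) (.node 1 (.leaf
  34805) (.leaf
  34765))))) (.node 4 (.node 2 (.node 1 (.leaf
  34757) (.leaf
  34781)) (.node 1 (.leaf
  34773) (.leaf
  20612))) (.node 2 (.node 1 (.leaf
  20620) (.leaf
  34709)) (.node 1 (.leaf
  31178) (.node 1 (.leaf
  31290) (.leaf
  34846)))))) (.node 9 (.node 4 (.node 2 (.node 1 (.leaf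
  31274) (.leaf
  34830)) (.node 1 (.leaf
  34942) (.leaf
  34934))) (.node 2 (.node 1 (.leaf
  34926) (.leaf
  34918)) (.node 1 (.leaf
  34910) (.node 1 (.leaf
  34902) (.leaf
  34894))))) (.node 4 (.node 2 (.node 1 (.leaf
  34886) (.leaf
  34870)) (.node 1 (.leaf
  34878) (.leaf
  34854))) (.node 2 (.node 1 (.leaf
  34862) (.leaf
  36358)) (.node 1 (.leaf
  31418) (.node 1 (.leaf
  36374) (.leaf
  31402))))))) (.node 18 (.node 9 (.node 4 (.node 2 (.node 1 (.leaf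
  36462) (.leaf
  36454)) (.node 1 (.leaf
  36478) (.leaf
  36470))) (.node 2 (.node 1 (.leaf
  36430) (.leaf
  36422)) (.node 1 (.leaf
  36446) (.node 1 (.leaf
  33117) (.leaf
  36390))))) (.node 4 (.node 2 (.node 1 (.leaf
  36398) (.leaf
  22220)) (.node 1 (.leaf
  22212) (.leaf
  35862))) (.node 2 (.node 1 (.leaf
  35870) (.leaf
  35846)) (.node 1 (.leaf
  31546) (.node 1 (.leaf
  35966) (.leaf
  35958)))))) (.node 9 (.node 4 (.node 2 (.node 1 (.leaf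
  35950) (.leaf
  35942)) (.node 1 (.leaf
  32861) (.leaf
  35926))) (.node 2 (.node 1 (.leaf
  35918) (.leaf
  35910)) (.node 1 (.leaf
  35894) (.node 1 (.leaf
  35902) (.leaf
  35878))))) (.node 4 (.node 2 (.node 1 (.leaf
  31578) (.leaf
  31658)) (.node 1 (.leaf
  35342) (.leaf
  31699))) (.node 2 (.node 1 (.leaf
  31707) (.leaf
  35438)) (.node 1 (.leaf
  35430) (.node 1 (.leaf
  35454) (.leaf
  35446)))))))) (.node 36 (.node 18 (.node 9 (.node 4 (.node 2 (.node 1 (.leaf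
  33237) (.leaf
  20572)) (.node 1 (.leaf
  33221) (.leaf
  20556))) (.node 2 (.node 1 (.leaf
  20700) (.leaf
  20692)) (.node 1 (.leaf
  33165) (.node 1 (.leaf
  20676) (.leaf
  31827))))) (.node 4 (.node 2 (.node 1 (.leaf
  33973) (.leaf
  31811)) (.node 1 (.leaf
  33957) (.leaf
  34037))) (.node 2 (.node 1 (.leaf
  34045) (.leaf
  34021)) (.node 1 (.leaf
  34029) (.node 1 (.leaf
  34005) (.leaf
  21052)))))) (.node 9 (.node 4 (.node 2 (.node 1 (.leaf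
  33989) (.leaf
  21036)) (.node 1 (.leaf
  21164) (.leaf
  21156))) (.node 2 (.node 1 (.leaf
  33933) (.leaf
  31826)) (.node 1 (.leaf
  34101) (.node 1 (.leaf
  31939) (.leaf
  34085))))) (.node 4 (.node 2 (.node 1 (.leaf
  31955) (.leaf
  36598)) (.node 1 (.leaf
  34165) (.leaf
  34157))) (.node 2 (.node 1 (.leaf
  34149) (.leaf
  34141)) (.node 1 (.leaf
  22076) (.node 1 (.leaf
  34125) (.leaf
  22060))))))) (.node 18 (.node 9 (.node 4 (.node 2 (.node 1 (.leaf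
  22188) (.leaf
  22180)) (.node 1 (.leaf
  31954) (.leaf
  34061))) (.node 2 (.node 1 (.leaf
  32050) (.leaf
  35990)) (.node 1 (.leaf
  33853) (.node 1 (.leaf
  35974) (.leaf
  33893))))) (.node 4 (.node 2 (.node 1 (.leaf
  33901) (.leaf
  36070)) (.node 1 (.leaf
  36078) (.leaf
  21564))) (.node 2 (.node 1 (.leaf
  21556) (.leaf
  36038)) (.node 1 (.leaf
  36046) (.node 1 (.leaf
  21668) (.leaf
  32090)))))) (.node 9 (.node 4 (.node 2 (.node 1 (.leaf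
  21684) (.leaf
  21692)) (.node 1 (.leaf
  32219) (.leaf
  34221))) (.node 2 (.node 1 (.leaf
  32203) (.leaf
  34237)) (.node 1 (.leaf
  34285) (.node 1 (.leaf
  34277) (.leaf
  34301))))) (.node 4 (.node 2 (.node 1 (.leaf
  34293) (.leaf
  20540)) (.node 1 (.leaf
  34245) (.leaf
  20524))) (.node 2 (.node 1 (.leaf
  34261) (.leaf
  32218)) (.node 1 (.leaf
  34189) (.node 1 (.leaf
  32202) (.leaf
  34205))))))))))) (.node 288 (.node 144 (.node 72 (.node 36 (.node 18 (.node 9 (.node 4 (.node 2 (.node 1 (.leaf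
  35086) (.leaf
  35078)) (.node 1 (.leaf
  35102) (.leaf
  35094))) (.node 2 (.node 1 (.leaf
  33517) (.leaf
  33509)) (.node 1 (.leaf
  33533) (.node 1 (.leaf
  32266) (.leaf
  21116))))) (.node 4 (.node 2 (.node 1 (.leaf
  33477) (.leaf
  21100)) (.node 1 (.leaf
  33493) (.leaf
  33413))) (.node 2 (.node 1 (.leaf
  32346) (.leaf
  33429)) (.node 1 (.leaf
  33437) (.node 1 (.leaf
  36630) (.leaf
  36638)))))) (.node 9 (.node 4 (.node 2 (.node 1 (.leaf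
  33597) (.leaf
  32475)) (.node 1 (.leaf
  33637) (.leaf
  33645))) (.node 2 (.node 1 (.leaf
  33653) (.leaf
  33661)) (.node 1 (.leaf
  33605) (.node 1 (.leaf
  33613) (.leaf
  33621))))) (.node 4 (.node 2 (.node 1 (.leaf
  33629) (.leaf
  32474)) (.node 1 (.leaf
  22244) (.leaf
  33565))) (.node 2 (.node 1 (.leaf
  33557) (.leaf
  32587)) (.node 1 (.leaf
  32579) (.node 1 (.leaf
  36110) (.leaf
  36102))))))) (.node 18 (.node 9 (.node 4 (.node 2 (.node 1 (.leaf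
  33405) (.leaf
  33397)) (.node 1 (.leaf
  32635) (.leaf
  32627))) (.node 2 (.node 1 (.leaf
  33373) (.leaf
  21604)) (.node 1 (.leaf
  33357) (.node 1 (.leaf
  21620) (.leaf
  33301))))) (.node 4 (.node 2 (.node 1 (.leaf
  33309) (.leaf
  21756)) (.node 1 (.leaf
  21748) (.leaf
  32723))) (.node 2 (.node 1 (.leaf
  33717) (.leaf
  32707)) (.node 1 (.leaf
  33701) (.node 1 (.leaf
  33781) (.leaf
  33789)))))) (.node 9 (.node 4 (.node 2 (.node 1 (.leaf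
  33765) (.leaf
  33773)) (.node 1 (.leaf
  33749) (.leaf
  33757))) (.node 2 (.node 1 (.leaf
  33733) (.leaf
  33741)) (.node 1 (.leaf
  32706) (.node 1 (.leaf
  33685) (.leaf
  32722))))) (.node 4 (.node 2 (.node 1 (.leaf
  33669) (.leaf
  32835)) (.node 1 (.leaf
  32843) (.leaf
  32851))) (.node 2 (.node 1 (.leaf
  32859) (.leaf
  28469)) (.node 1 (.leaf
  32875) (.node 1 (.leaf
  32883) (.leaf
  32891)))))))) (.node 36 (.node 18 (.node 9 (.node 4 (.node 2 (.node 1 (.leaf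
  18956) (.leaf
  18948)) (.node 1 (.leaf
  18972) (.leaf
  18964))) (.node 2 (.node 1 (.leaf
  32834) (.leaf
  32842)) (.node 1 (.leaf
  32850) (.node 1 (.leaf
  32858) (.leaf
  32987))))) (.node 4 (.node 2 (.node 1 (.leaf
  32979) (.leaf
  32971)) (.node 1 (.leaf
  32963) (.leaf
  33019))) (.node 2 (.node 1 (.leaf
  28341) (.leaf
  20252)) (.node 1 (.leaf
  20244) (.node 1 (.leaf
  19972) (.leaf
  19980)))))) (.node 9 (.node 4 (.node 2 (.node 1 (.leaf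
  19988) (.leaf
  19996)) (.node 1 (.leaf
  28365) (.leaf
  32962))) (.node 2 (.node 1 (.leaf
  28381) (.leaf
  32978)) (.node 1 (.leaf
  33107) (.node 1 (.leaf
  33115) (.leaf
  33091))))) (.node 4 (.node 2 (.node 1 (.leaf
  33099) (.leaf
  33139)) (.node 1 (.leaf
  28589) (.leaf
  33123))) (.node 2 (.node 1 (.leaf
  28605) (.leaf
  19476)) (.node 1 (.leaf
  19484) (.node 1 (.leaf
  19460) (.leaf
  19468))))))) (.node 18 (.node 9 (.node 4 (.node 2 (.node 1 (.leaf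
  33114) (.leaf
  33106)) (.node 1 (.leaf
  33098) (.leaf
  33090))) (.node 2 (.node 1 (.leaf
  33227) (.leaf
  33219)) (.node 1 (.leaf
  33243) (.node 1 (.leaf
  33235) (.leaf
  28205))))) (.node 4 (.node 2 (.node 1 (.leaf
  33251) (.leaf
  28221)) (.node 1 (.leaf
  33267) (.leaf
  18460))) (.node 2 (.node 1 (.leaf
  18452) (.leaf
  18444)) (.node 1 (.leaf
  18436) (.node 1 (.leaf
  33234) (.leaf
  28245)))))) (.node 9 (.node 4 (.node 2 (.node 1 (.leaf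
  33218) (.leaf
  33226)) (.node 1 (.leaf
  24598) (.leaf
  24606))) (.node 2 (.node 1 (.leaf
  24582) (.leaf
  24590)) (.node 1 (.leaf
  33306) (.node 1 (.leaf
  33298) (.leaf
  26941))))) (.node 4 (.node 2 (.node 1 (.leaf
  33282) (.leaf
  19012)) (.node 1 (.leaf
  19020) (.leaf
  19028))) (.node 2 (.node 1 (.leaf
  19036) (.leaf
  33370)) (.node 1 (.leaf
  33362) (.node 1 (.leaf
  24614) (.leaf
  26949))))))))) (.node 72 (.node 36 (.node 18 (.node 9 (.node 4 (.node 2 (.node 1 (.leaf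
  33491) (.leaf
  33499)) (.node 1 (.leaf
  26134) (.leaf
  26142))) (.node 2 (.node 1 (.leaf
  26789) (.leaf
  26797)) (.node 1 (.leaf
  33507) (.node 1 (.leaf
  26813) (.leaf
  26773))))) (.node 4 (.node 2 (.node 1 (.leaf
  20052) (.leaf
  26757)) (.node 1 (.leaf
  26765) (.leaf
  33490))) (.node 2 (.node 1 (.leaf
  26845) (.leaf
  26821)) (.node 1 (.leaf
  26829) (.node 1 (.leaf
  33627) (.leaf
  33619)))))) (.node 9 (.node 4 (.node 2 (.node 1 (.leaf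
  25606) (.leaf
  25614)) (.node 1 (.leaf
  27069) (.leaf
  27061))) (.node 2 (.node 1 (.leaf
  27053) (.leaf
  27045)) (.node 1 (.leaf
  19524) (.node 1 (.leaf
  27013) (.leaf
  19540))))) (.node 4 (.node 2 (.node 1 (.leaf
  27029) (.leaf
  27085)) (.node 1 (.leaf
  27077) (.leaf
  27101))) (.node 2 (.node 1 (.leaf
  27093) (.leaf
  33731)) (.node 1 (.leaf
  33739) (.node 1 (.leaf
  33747) (.leaf
  33714))))))) (.node 18 (.node 9 (.node 4 (.node 2 (.node 1 (.leaf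
  26677) (.leaf
  33771)) (.node 1 (.leaf
  26661) (.leaf
  26669))) (.node 2 (.node 1 (.leaf
  26629) (.leaf
  26637)) (.node 1 (.leaf
  26645) (.node 1 (.leaf
  26653) (.leaf
  26693))))) (.node 4 (.node 2 (.node 1 (.leaf
  33730) (.leaf
  26709)) (.node 1 (.leaf
  33746) (.leaf
  24726))) (.node 2 (.node 1 (.leaf
  24734) (.leaf
  24710)) (.node 1 (.leaf
  24718) (.node 1 (.leaf
  24830) (.leaf
  24822)))))) (.node 9 (.node 4 (.node 2 (.node 1 (.leaf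
  24814) (.leaf
  24806)) (.node 1 (.leaf
  24798) (.leaf
  24790))) (.node 2 (.node 1 (.leaf
  18988) (.leaf
  27933)) (.node 1 (.leaf
  24758) (.node 1 (.leaf
  24766) (.leaf
  24742))))) (.node 4 (.node 2 (.node 1 (.leaf
  24750) (.leaf
  33995)) (.node 1 (.leaf
  33987) (.leaf
  33970))) (.node 2 (.node 1 (.leaf
  34003) (.leaf
  27837)) (.node 1 (.leaf
  34019) (.node 1 (.leaf
  27821) (.leaf
  27813)))))))) (.node 36 (.node 18 (.node 9 (.node 4 (.node 2 (.node 1 (.leaf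
  27789) (.leaf
  27781)) (.node 1 (.leaf
  27805) (.leaf
  20004))) (.node 2 (.node 1 (.leaf
  33986) (.leaf
  27845)) (.node 1 (.leaf
  26286) (.node 1 (.leaf
  26278) (.leaf
  34115))))) (.node 4 (.node 2 (.node 1 (.leaf
  34123) (.leaf
  34082)) (.node 1 (.leaf
  34139) (.leaf
  28069))) (.node 2 (.node 1 (.leaf
  28077) (.leaf
  28085)) (.node 1 (.leaf
  34171) (.node 1 (.leaf
  28053) (.leaf
  28061)))))) (.node 9 (.node 4 (.node 2 (.node 1 (.leaf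
  19492) (.leaf
  28045)) (.node 1 (.leaf
  25790) (.leaf
  25782))) (.node 2 (.node 1 (.leaf
  28101) (.leaf
  34122)) (.node 1 (.leaf
  34267) (.node 1 (.leaf
  34259) (.leaf
  34218))))) (.node 4 (.node 2 (.node 1 (.leaf
  34243) (.leaf
  27693)) (.node 1 (.leaf
  27685) (.leaf
  34283))) (.node 2 (.node 1 (.leaf
  27701) (.leaf
  27677)) (.node 1 (.leaf
  18492) (.node 1 (.leaf
  27661) (.leaf
  27653))))))) (.node 18 (.node 9 (.node 4 (.node 2 (.node 1 (.leaf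
  27741) (.leaf
  34258)) (.node 1 (.leaf
  27725) (.leaf
  34242))) (.node 2 (.node 1 (.leaf
  34395) (.leaf
  34387)) (.node 1 (.leaf
  34379) (.node 1 (.leaf
  34371) (.leaf
  24934))))) (.node 4 (.node 2 (.node 1 (.leaf
  24942) (.leaf
  19300)) (.node 1 (.leaf
  24958) (.leaf
  19060))) (.node 2 (.node 1 (.leaf
  27413) (.leaf
  19044)) (.node 1 (.leaf
  19052) (.node 1 (.leaf
  34386) (.leaf
  34394)))))) (.node 9 (.node 4 (.node 2 (.node 1 (.leaf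
  34370) (.leaf
  34378)) (.node 1 (.leaf
  34499) (.leaf
  34507))) (.node 2 (.node 1 (.leaf
  34515) (.leaf
  34523)) (.node 1 (.leaf
  27301) (.node 1 (.leaf
  34539) (.leaf
  27317))))) (.node 4 (.node 2 (.node 1 (.leaf
  27325) (.leaf
  27285)) (.node 1 (.leaf
  20076) (.leaf
  27269))) (.node 2 (.node 1 (.leaf
  20092) (.leaf
  27349)) (.node 1 (.leaf
  34514) (.node 1 (.leaf
  27333) (.leaf
  34498)))))))))) (.node 144 (.node 72 (.node 36 (.node 18 (.node 9 (.node 4 (.node 2 (.node 1 (.leaf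
  34635) (.leaf
  34627)) (.node 1 (.leaf
  34651) (.leaf
  34643))) (.node 2 (.node 1 (.leaf
  27581) (.leaf
  27573)) (.node 1 (.leaf
  27565) (.node 1 (.leaf
  34675) (.leaf
  19556))))) (.node 4 (.node 2 (.node 1 (.leaf
  27525) (.leaf
  19572)) (.node 1 (.leaf
  27541) (.leaf
  34634))) (.node 2 (.node 1 (.leaf
  27589) (.leaf
  34650)) (.node 1 (.leaf
  27605) (.node 1 (.leaf
  34771) (.leaf
  34779)))))) (.node 9 (.node 4 (.node 2 (.node 1 (.leaf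
  34755) (.leaf
  34763)) (.node 1 (.leaf
  27189) (.leaf
  27197))) (.node 2 (.node 1 (.leaf
  34787) (.leaf
  27181)) (.node 1 (.leaf
  27141) (.node 1 (.leaf
  18556) (.leaf
  27157))))) (.node 4 (.node 2 (.node 1 (.leaf
  18540) (.leaf
  34754)) (.node 1 (.leaf
  27213) (.leaf
  34770))) (.node 2 (.node 1 (.leaf
  27229) (.leaf
  34883)) (.node 1 (.leaf
  22957) (.node 1 (.leaf
  22965) (.leaf
  22973))))))) (.node 18 (.node 9 (.node 4 (.node 2 (.node 1 (.leaf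
  34915) (.leaf
  34923)) (.node 1 (.leaf
  34931) (.leaf
  34842))) (.node 2 (.node 1 (.leaf
  34914) (.leaf
  22981)) (.node 1 (.leaf
  34930) (.node 1 (.leaf
  22997) (.leaf
  22925))))) (.node 4 (.node 2 (.node 1 (.leaf
  22917) (.leaf
  22941)) (.node 1 (.leaf
  22933) (.leaf
  22589))) (.node 2 (.node 1 (.leaf
  22581) (.leaf
  22573)) (.node 1 (.leaf
  30156) (.node 1 (.leaf
  22653) (.leaf
  22645)))))) (.node 9 (.node 4 (.node 2 (.node 1 (.leaf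
  35051) (.leaf
  35043)) (.node 1 (.leaf
  22613) (.leaf
  22621))) (.node 2 (.node 1 (.leaf
  22597) (.leaf
  22605)) (.node 1 (.leaf
  22549) (.node 1 (.leaf
  22557) (.leaf
  22533))))) (.node 4 (.node 2 (.node 1 (.leaf
  22541) (.leaf
  30660)) (.node 1 (.leaf
  30668) (.leaf
  30676))) (.node 2 (.node 1 (.leaf
  30684) (.leaf
  35098)) (.node 1 (.leaf
  35090) (.node 1 (.leaf
  35082) (.leaf
  35074)))))))) (.node 36 (.node 18 (.node 9 (.node 4 (.node 2 (.node 1 (.leaf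
  35091) (.leaf
  35099)) (.node 1 (.leaf
  35075) (.leaf
  35083))) (.node 2 (.node 1 (.leaf
  35123) (.leaf
  35131)) (.node 1 (.leaf
  32310) (.node 1 (.leaf
  35115) (.leaf
  22709))))) (.node 4 (.node 2 (.node 1 (.leaf
  35258) (.leaf
  22693)) (.node 1 (.leaf
  35242) (.leaf
  22773))) (.node 2 (.node 1 (.leaf
  22781) (.leaf
  22757)) (.node 1 (.leaf
  22765) (.node 1 (.leaf
  22749) (.leaf
  22741)))))) (.node 9 (.node 4 (.node 2 (.node 1 (.leaf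
  22733) (.leaf
  22725)) (.node 1 (.leaf
  35243) (.leaf
  22677))) (.node 2 (.node 1 (.leaf
  35259) (.leaf
  22661)) (.node 1 (.leaf
  24509) (.node 1 (.leaf
  24501) (.leaf
  35419))))) (.node 4 (.node 2 (.node 1 (.leaf
  24485) (.leaf
  35435)) (.node 1 (.leaf
  35427) (.leaf
  35338))) (.node 2 (.node 1 (.leaf
  35443) (.leaf
  24533)) (.node 1 (.leaf
  35442) (.node 1 (.leaf
  24517) (.leaf
  35426))))))) (.node 18 (.node 9 (.node 4 (.node 2 (.node 1 (.leaf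
  24469) (.leaf
  24477)) (.node 1 (.leaf
  24453) (.leaf
  28812))) (.node 2 (.node 1 (.leaf
  30092) (.leaf
  30084)) (.node 1 (.leaf
  30108) (.node 1 (.leaf
  30100) (.leaf
  35571))))) (.node 4 (.node 2 (.node 1 (.leaf
  35482) (.leaf
  32230)) (.node 1 (.leaf
  32238) (.leaf
  32222))) (.node 2 (.node 1 (.leaf
  32214) (.leaf
  32206)) (.node 1 (.leaf
  32198) (.node 1 (.leaf
  24077) (.leaf
  29828)))))) (.node 9 (.node 4 (.node 2 (.node 1 (.leaf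
  24093) (.leaf
  24085)) (.node 1 (.leaf
  30612) (.leaf
  30620))) (.node 2 (.node 1 (.leaf
  30596) (.leaf
  30604)) (.node 1 (.leaf
  35586) (.node 1 (.leaf
  35594) (.leaf
  32758))))) (.node 4 (.node 2 (.node 1 (.leaf
  32766) (.leaf
  32718)) (.node 1 (.leaf
  32710) (.leaf
  32734))) (.node 2 (.node 1 (.leaf
  32726) (.leaf
  32686)) (.node 1 (.leaf
  32678) (.node 1 (.leaf
  32702) (.leaf
  32694))))))))) (.node 72 (.node 36 (.node 18 (.node 9 (.node 4 (.node 2 (.node 1 (.leaf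
  35754) (.leaf
  24229)) (.node 1 (.leaf
  31110) (.leaf
  31118))) (.node 2 (.node 1 (.leaf
  24301) (.leaf
  24293)) (.node 1 (.leaf
  24317) (.node 1 (.leaf
  24309) (.leaf
  31198))))) (.node 4 (.node 2 (.node 1 (.leaf
  31190) (.leaf
  31182)) (.node 1 (.leaf
  31174) (.leaf
  24197))) (.node 2 (.node 1 (.leaf
  35755) (.leaf
  31150)) (.node 1 (.leaf
  31142) (.node 1 (.leaf
  23461) (.leaf
  23469)))))) (.node 9 (.node 4 (.node 2 (.node 1 (.leaf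
  23477) (.leaf
  23485)) (.node 1 (.leaf
  23525) (.leaf
  23533))) (.node 2 (.node 1 (.leaf
  35939) (.leaf
  35947)) (.node 1 (.leaf
  23501) (.node 1 (.leaf
  23493) (.leaf
  23517))))) (.node 4 (.node 2 (.node 1 (.leaf
  23509) (.leaf
  23437)) (.node 1 (.leaf
  28900) (.leaf
  23453))) (.node 2 (.node 1 (.leaf
  28916) (.leaf
  23101)) (.node 1 (.leaf
  23093) (.node 1 (.leaf
  23085) (.leaf
  23077))))))) (.node 18 (.node 9 (.node 4 (.node 2 (.node 1 (.leaf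
  36075) (.leaf
  36067)) (.node 1 (.leaf
  23149) (.leaf
  23141))) (.node 2 (.node 1 (.leaf
  23125) (.leaf
  23133)) (.node 1 (.leaf
  23109) (.node 1 (.leaf
  23117) (.leaf
  23061))))) (.node 4 (.node 2 (.node 1 (.leaf
  23069) (.leaf
  23045)) (.node 1 (.leaf
  23053) (.leaf
  30700))) (.node 2 (.node 1 (.leaf
  30692) (.leaf
  30716)) (.node 1 (.leaf
  30708) (.node 1 (.leaf
  32638) (.leaf
  32630)))))) (.node 9 (.node 4 (.node 2 (.node 1 (.leaf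
  36098) (.leaf
  36106)) (.node 1 (.leaf
  36099) (.leaf
  36107))) (.node 2 (.node 1 (.leaf
  23381) (.leaf
  32590)) (.node 1 (.leaf
  23301) (.node 1 (.leaf
  23309) (.leaf
  32550))))) (.node 4 (.node 2 (.node 1 (.leaf
  23325) (.leaf
  23221)) (.node 1 (.leaf
  23229) (.leaf
  23205))) (.node 2 (.node 1 (.leaf
  36258) (.leaf
  23285)) (.node 1 (.leaf
  23293) (.node 1 (.leaf
  23269) (.leaf
  23277)))))))) (.node 36 (.node 18 (.node 9 (.node 4 (.node 2 (.node 1 (.leaf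
  23261) (.leaf
  23253)) (.node 1 (.leaf
  23245) (.leaf
  23237))) (.node 2 (.node 1 (.leaf
  36314) (.leaf
  23189)) (.node 1 (.leaf
  23181) (.node 1 (.leaf
  23173) (.leaf
  23997))))) (.node 4 (.node 2 (.node 1 (.leaf
  23989) (.leaf
  23981)) (.node 1 (.leaf
  36419) (.leaf
  36475))) (.node 2 (.node 1 (.leaf
  36467) (.leaf
  36459)) (.node 1 (.leaf
  36451) (.node 1 (.leaf
  36466) (.leaf
  24029)))))) (.node 9 (.node 4 (.node 2 (.node 1 (.leaf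
  24005) (.leaf
  24013)) (.node 1 (.leaf
  23957) (.leaf
  28860))) (.node 2 (.node 1 (.leaf
  23941) (.leaf
  23949)) (.node 1 (.leaf
  23589) (.node 1 (.leaf
  30132) (.leaf
  23605))))) (.node 4 (.node 2 (.node 1 (.leaf
  23613) (.leaf
  23653)) (.node 1 (.leaf
  23661) (.leaf
  36595))) (.node 2 (.node 1 (.leaf
  23677) (.leaf
  23629)) (.node 1 (.leaf
  23621) (.node 1 (.leaf
  23645) (.leaf
  36578))))))) (.node 18 (.node 9 (.node 4 (.node 2 (.node 1 (.leaf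
  29860) (.leaf
  29868)) (.node 1 (.leaf
  23581) (.leaf
  23573))) (.node 2 (.node 1 (.leaf
  30652) (.leaf
  30644)) (.node 1 (.leaf
  30636) (.node 1 (.leaf
  30628) (.leaf
  36618))))) (.node 4 (.node 2 (.node 1 (.leaf
  36610) (.leaf
  36634)) (.node 1 (.leaf
  36626) (.leaf
  32478))) (.node 2 (.node 1 (.leaf
  32470) (.leaf
  36635)) (.node 1 (.leaf
  36627) (.node 1 (.leaf
  32446) (.leaf
  32438)))))) (.node 9 (.node 4 (.node 2 (.node 1 (.leaf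
  23821) (.leaf
  32422)) (.node 1 (.leaf
  23725) (.leaf
  23717))) (.node 2 (.node 1 (.leaf
  36786) (.leaf
  23733)) (.node 1 (.leaf
  23789) (.node 1 (.leaf
  23781) (.leaf
  23805))))) (.node 4 (.node 2 (.node 1 (.leaf
  23797) (.leaf
  23749)) (.node 1 (.leaf
  23757) (.leaf
  23765))) (.node 2 (.node 1 (.leaf
  23773) (.leaf
  23685)) (.node 1 (.leaf
  36810) (.node 1 (.leaf
  23701) (.leaf
  23709))))))))))))))

/-- The number of steps. -/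
def dDep : Tree :=
  (.node 2304 (.node 1152 (.node 576 (.node 288 (.node 144 (.node 72 (.node 36 (.node 18 (.node 9 (.node 4 (.node 2 (.node 1 (.leaf
  0) (.leaf
  1)) (.node 1 (.leaf
  1) (.leaf
  2))) (.node 2 (.node 1 (.leaf
  1) (.leaf
  2)) (.node 1 (.leaf
  2) (.node 1 (.leaf
  3) (.leaf
  1))))) (.node 4 (.node 2 (.node 1 (.leaf
  2) (.leaf
  2)) (.node 1 (.leaf
  3) (.leaf
  2))) (.node 2 (.node 1 (.leaf
  3) (.leaf
  3)) (.node 1 (.leaf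
  4) (.node 1 (.leaf
  4) (.leaf
  5)))))) (.node 9 (.node 4 (.node 2 (.node 1 (.leaf
  5) (.leaf
  6)) (.node 1 (.leaf
  5) (.leaf
  5))) (.node 2 (.node 1 (.leaf
  6) (.leaf
  6)) (.node 1 (.leaf
  5) (.node 1 (.leaf
  5) (.leaf
  6))))) (.node 4 (.node 2 (.node 1 (.leaf
  5) (.leaf
  6)) (.node 1 (.leaf
  6) (.leaf
  6))) (.node 2 (.node 1 (.leaf
  6) (.leaf
  6)) (.node 1 (.leaf
  7) (.node 1 (.leaf
  5) (.leaf
  6))))))) (.node 18 (.node 9 (.node 4 (.node 2 (.node 1 (.leaf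
  7) (.leaf
  6)) (.node 1 (.leaf
  6) (.leaf
  6))) (.node 2 (.node 1 (.leaf
  5) (.leaf
  6)) (.node 1 (.leaf
  6) (.node 1 (.leaf
  7) (.leaf
  6))))) (.node 4 (.node 2 (.node 1 (.leaf
  7) (.leaf
  7)) (.node 1 (.leaf
  6) (.leaf
  5))) (.node 2 (.node 1 (.leaf
  6) (.leaf
  4)) (.node 1 (.leaf
  5) (.node 1 (.leaf
  5) (.leaf
  6)))))) (.node 9 (.node 4 (.node 2 (.node 1 (.leaf
  5) (.leaf
  6)) (.node 1 (.leaf
  6) (.leaf
  5))) (.node 2 (.node 1 (.leaf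
  5) (.leaf
  4)) (.node 1 (.leaf
  6) (.node 1 (.leaf
  5) (.leaf
  6))))) (.node 4 (.node 2 (.node 1 (.leaf
  5) (.leaf
  4)) (.node 1 (.leaf
  5) (.leaf
  5))) (.node 2 (.node 1 (.leaf
  6) (.leaf
  5)) (.node 1 (.leaf
  6) (.node 1 (.leaf
  5) (.leaf
  5)))))))) (.node 36 (.node 18 (.node 9 (.node 4 (.node 2 (.node 1 (.leaf
  4) (.leaf
  5)) (.node 1 (.leaf
  5) (.leaf
  6))) (.node 2 (.node 1 (.leaf
  5) (.leaf
  6)) (.node 1 (.leaf
  6) (.node 1 (.leaf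
  5) (.leaf
  5))))) (.node 4 (.node 2 (.node 1 (.leaf
  6) (.leaf
  6)) (.node 1 (.leaf
  7) (.leaf
  6))) (.node 2 (.node 1 (.leaf
  7) (.leaf
  6)) (.node 1 (.leaf
  7) (.node 1 (.leaf
  6) (.leaf
  7)))))) (.node 9 (.node 4 (.node 2 (.node 1 (.leaf
  6) (.leaf
  7)) (.node 1 (.leaf
  7) (.leaf
  8))) (.node 2 (.node 1 (.leaf
  7) (.leaf
  8)) (.node 1 (.leaf
  7) (.node 1 (.leaf
  7) (.leaf
  6))))) (.node 4 (.node 2 (.node 1 (.leaf
  7) (.leaf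
  6)) (.node 1 (.leaf
  7) (.leaf
  7))) (.node 2 (.node 1 (.leaf
  8) (.leaf
  7)) (.node 1 (.leaf
  7) (.node 1 (.leaf
  7) (.leaf
  8))))))) (.node 18 (.node 9 (.node 4 (.node 2 (.node 1 (.leaf
  7) (.leaf
  7)) (.node 1 (.leaf
  8) (.leaf
  7))) (.node 2 (.node 1 (.leaf
  6) (.leaf
  7)) (.node 1 (.leaf
  5) (.node 1 (.leaf
  6) (.leaf
  7))))) (.node 4 (.node 2 (.node 1 (.leaf
  7) (.leaf
  6)) (.node 1 (.leaf
  6) (.leaf
  7))) (.node 2 (.node 1 (.leaf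
  7) (.leaf
  6)) (.node 1 (.leaf
  7) (.node 1 (.leaf
  8) (.leaf
  8)))))) (.node 9 (.node 4 (.node 2 (.node 1 (.leaf
  7) (.leaf
  7)) (.node 1 (.leaf
  5) (.leaf
  4))) (.node 2 (.node 1 (.leaf
  6) (.leaf
  5)) (.node 1 (.leaf
  5) (.node 1 (.leaf
  5) (.leaf
  6))))) (.node 4 (.node 2 (.node 1 (.leaf
  6) (.leaf
  6)) (.node 1 (.leaf
  5) (.leaf
  6))) (.node 2 (.node 1 (.leaf
  5) (.leaf
  6)) (.node 1 (.leaf
  6) (.node 1 (.leaf
  6) (.leaf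
  6))))))))) (.node 72 (.node 36 (.node 18 (.node 9 (.node 4 (.node 2 (.node 1 (.leaf
  5) (.leaf
  5)) (.node 1 (.leaf
  4) (.leaf
  5))) (.node 2 (.node 1 (.leaf
  6) (.leaf
  6)) (.node 1 (.leaf
  5) (.node 1 (.leaf
  5) (.leaf
  6))))) (.node 4 (.node 2 (.node 1 (.leaf
  6) (.leaf
  5)) (.node 1 (.leaf
  5) (.leaf
  5))) (.node 2 (.node 1 (.leaf
  5) (.leaf
  6)) (.node 1 (.leaf
  6) (.node 1 (.leaf
  8) (.leaf
  7)))))) (.node 9 (.node 4 (.node 2 (.node 1 (.leaf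
  7) (.leaf
  6)) (.node 1 (.leaf
  8) (.leaf
  7))) (.node 2 (.node 1 (.leaf
  7) (.leaf
  7)) (.node 1 (.leaf
  8) (.node 1 (.leaf
  8) (.leaf
  8))))) (.node 4 (.node 2 (.node 1 (.leaf
  7) (.leaf
  8)) (.node 1 (.leaf
  8) (.leaf
  7))) (.node 2 (.node 1 (.leaf
  7) (.leaf
  7)) (.node 1 (.leaf
  6) (.node 1 (.leaf
  6) (.leaf
  5))))))) (.node 18 (.node 9 (.node 4 (.node 2 (.node 1 (.leaf
  6) (.leaf
  7)) (.node 1 (.leaf
  7) (.leaf
  6))) (.node 2 (.node 1 (.leaf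
  6) (.leaf
  7)) (.node 1 (.leaf
  7) (.node 1 (.leaf
  6) (.leaf
  7))))) (.node 4 (.node 2 (.node 1 (.leaf
  6) (.leaf
  8)) (.node 1 (.leaf
  7) (.leaf
  6))) (.node 2 (.node 1 (.leaf
  5) (.leaf
  6)) (.node 1 (.leaf
  6) (.node 1 (.leaf
  7) (.leaf
  6)))))) (.node 9 (.node 4 (.node 2 (.node 1 (.leaf
  7) (.leaf
  6)) (.node 1 (.leaf
  6) (.leaf
  5))) (.node 2 (.node 1 (.leaf
  6) (.leaf
  6)) (.node 1 (.leaf
  7) (.node 1 (.leaf
  6) (.leaf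
  7))))) (.node 4 (.node 2 (.node 1 (.leaf
  6) (.leaf
  7)) (.node 1 (.leaf
  6) (.leaf
  7))) (.node 2 (.node 1 (.leaf
  7) (.leaf
  7)) (.node 1 (.leaf
  7) (.node 1 (.leaf
  7) (.leaf
  7)))))))) (.node 36 (.node 18 (.node 9 (.node 4 (.node 2 (.node 1 (.leaf
  8) (.leaf
  7)) (.node 1 (.leaf
  7) (.leaf
  6))) (.node 2 (.node 1 (.leaf
  7) (.leaf
  7)) (.node 1 (.leaf
  7) (.node 1 (.leaf
  7) (.leaf
  4))))) (.node 4 (.node 2 (.node 1 (.leaf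
  5) (.leaf
  5)) (.node 1 (.leaf
  6) (.leaf
  5))) (.node 2 (.node 1 (.leaf
  5) (.leaf
  6)) (.node 1 (.leaf
  6) (.node 1 (.leaf
  5) (.leaf
  5)))))) (.node 9 (.node 4 (.node 2 (.node 1 (.leaf
  6) (.leaf
  6)) (.node 1 (.leaf
  6) (.leaf
  6))) (.node 2 (.node 1 (.leaf
  5) (.leaf
  5)) (.node 1 (.leaf
  8) (.node 1 (.leaf
  7) (.leaf
  7))))) (.node 4 (.node 2 (.node 1 (.leaf
  6) (.leaf
  8)) (.node 1 (.leaf
  8) (.leaf
  8))) (.node 2 (.node 1 (.leaf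
  7) (.leaf
  8)) (.node 1 (.leaf
  7) (.node 1 (.leaf
  8) (.leaf
  7))))))) (.node 18 (.node 9 (.node 4 (.node 2 (.node 1 (.leaf
  8) (.leaf
  8)) (.node 1 (.leaf
  8) (.leaf
  8))) (.node 2 (.node 1 (.leaf
  6) (.leaf
  5)) (.node 1 (.leaf
  5) (.node 1 (.leaf
  4) (.leaf
  7))))) (.node 4 (.node 2 (.node 1 (.leaf
  6) (.leaf
  6)) (.node 1 (.leaf
  5) (.leaf
  7))) (.node 2 (.node 1 (.leaf
  6) (.leaf
  6)) (.node 1 (.leaf
  5) (.node 1 (.leaf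
  7) (.leaf
  7)))))) (.node 9 (.node 4 (.node 2 (.node 1 (.leaf
  6) (.leaf
  6)) (.node 1 (.leaf
  6) (.leaf
  5))) (.node 2 (.node 1 (.leaf
  6) (.leaf
  5)) (.node 1 (.leaf
  6) (.node 1 (.leaf
  7) (.leaf
  6))))) (.node 4 (.node 2 (.node 1 (.leaf
  7) (.leaf
  6)) (.node 1 (.leaf
  6) (.leaf
  6))) (.node 2 (.node 1 (.leaf
  7) (.leaf
  7)) (.node 1 (.leaf
  6) (.node 1 (.leaf
  6) (.leaf
  7)))))))))) (.node 144 (.node 72 (.node 36 (.node 18 (.node 9 (.node 4 (.node 2 (.node 1 (.leaf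
  5) (.leaf
  6)) (.node 1 (.leaf
  6) (.leaf
  7))) (.node 2 (.node 1 (.leaf
  8) (.leaf
  7)) (.node 1 (.leaf
  7) (.node 1 (.leaf
  6) (.leaf
  7))))) (.node 4 (.node 2 (.node 1 (.leaf
  7) (.leaf
  6)) (.node 1 (.leaf
  7) (.leaf
  7))) (.node 2 (.node 1 (.leaf
  7) (.leaf
  7)) (.node 1 (.leaf
  7) (.node 1 (.leaf
  4) (.leaf
  5)))))) (.node 9 (.node 4 (.node 2 (.node 1 (.leaf
  5) (.leaf
  6)) (.node 1 (.leaf
  6) (.leaf
  7))) (.node 2 (.node 1 (.leaf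
  5) (.leaf
  6)) (.node 1 (.leaf
  5) (.node 1 (.leaf
  5) (.leaf
  6))))) (.node 4 (.node 2 (.node 1 (.leaf
  6) (.leaf
  7)) (.node 1 (.leaf
  6) (.leaf
  6))) (.node 2 (.node 1 (.leaf
  5) (.leaf
  5)) (.node 1 (.leaf
  4) (.node 1 (.leaf
  4) (.leaf
  3))))))) (.node 18 (.node 9 (.node 4 (.node 2 (.node 1 (.leaf
  4) (.leaf
  5)) (.node 1 (.leaf
  4) (.leaf
  5))) (.node 2 (.node 1 (.leaf
  4) (.leaf
  5)) (.node 1 (.leaf
  3) (.node 1 (.leaf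
  4) (.leaf
  5))))) (.node 4 (.node 2 (.node 1 (.leaf
  4) (.leaf
  6)) (.node 1 (.leaf
  5) (.leaf
  5))) (.node 2 (.node 1 (.leaf
  4) (.leaf
  5)) (.node 1 (.leaf
  4) (.node 1 (.leaf
  6) (.leaf
  5)))))) (.node 9 (.node 4 (.node 2 (.node 1 (.leaf
  5) (.leaf
  4)) (.node 1 (.leaf
  4) (.leaf
  3))) (.node 2 (.node 1 (.leaf
  5) (.leaf
  4)) (.node 1 (.leaf
  6) (.node 1 (.leaf
  5) (.leaf
  5))))) (.node 4 (.node 2 (.node 1 (.leaf
  4) (.leaf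
  4)) (.node 1 (.leaf
  5) (.leaf
  5))) (.node 2 (.node 1 (.leaf
  6) (.leaf
  5)) (.node 1 (.leaf
  6) (.node 1 (.leaf
  5) (.leaf
  6)))))))) (.node 36 (.node 18 (.node 9 (.node 4 (.node 2 (.node 1 (.leaf
  6) (.leaf
  5)) (.node 1 (.leaf
  5) (.leaf
  4))) (.node 2 (.node 1 (.leaf
  7) (.leaf
  6)) (.node 1 (.leaf
  6) (.node 1 (.leaf
  5) (.leaf
  3))))) (.node 4 (.node 2 (.node 1 (.leaf
  4) (.leaf
  4)) (.node 1 (.leaf
  5) (.leaf
  5))) (.node 2 (.node 1 (.leaf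
  4) (.leaf
  4)) (.node 1 (.leaf
  3) (.node 1 (.leaf
  2) (.leaf
  3)))))) (.node 9 (.node 4 (.node 2 (.node 1 (.leaf
  3) (.leaf
  4)) (.node 1 (.leaf
  4) (.leaf
  3))) (.node 2 (.node 1 (.leaf
  5) (.leaf
  4)) (.node 1 (.leaf
  6) (.node 1 (.leaf
  7) (.leaf
  5))))) (.node 4 (.node 2 (.node 1 (.leaf
  6) (.leaf
  6)) (.node 1 (.leaf
  7) (.leaf
  6))) (.node 2 (.node 1 (.leaf
  6) (.leaf
  6)) (.node 1 (.leaf
  6) (.node 1 (.leaf
  5) (.leaf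
  6))))))) (.node 18 (.node 9 (.node 4 (.node 2 (.node 1 (.leaf
  6) (.leaf
  7)) (.node 1 (.leaf
  5) (.leaf
  6))) (.node 2 (.node 1 (.leaf
  6) (.leaf
  6)) (.node 1 (.leaf
  5) (.node 1 (.leaf
  5) (.leaf
  5))))) (.node 4 (.node 2 (.node 1 (.leaf
  5) (.leaf
  6)) (.node 1 (.leaf
  6) (.leaf
  6))) (.node 2 (.node 1 (.leaf
  5) (.leaf
  5)) (.node 1 (.leaf
  4) (.node 1 (.leaf
  6) (.leaf
  6)))))) (.node 9 (.node 4 (.node 2 (.node 1 (.leaf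
  5) (.leaf
  5)) (.node 1 (.leaf
  6) (.leaf
  6))) (.node 2 (.node 1 (.leaf
  7) (.leaf
  7)) (.node 1 (.leaf
  6) (.node 1 (.leaf
  6) (.leaf
  7))))) (.node 4 (.node 2 (.node 1 (.leaf
  7) (.leaf
  5)) (.node 1 (.leaf
  5) (.leaf
  6))) (.node 2 (.node 1 (.leaf
  6) (.leaf
  6)) (.node 1 (.leaf
  6) (.node 1 (.leaf
  6) (.leaf
  6))))))))) (.node 72 (.node 36 (.node 18 (.node 9 (.node 4 (.node 2 (.node 1 (.leaf
  6) (.leaf
  5)) (.node 1 (.leaf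
  7) (.leaf
  6))) (.node 2 (.node 1 (.leaf
  6) (.leaf
  6)) (.node 1 (.leaf
  6) (.node 1 (.leaf
  7) (.leaf
  6))))) (.node 4 (.node 2 (.node 1 (.leaf
  6) (.leaf
  5)) (.node 1 (.leaf
  6) (.leaf
  6))) (.node 2 (.node 1 (.leaf
  6) (.leaf
  6)) (.node 1 (.leaf
  6) (.node 1 (.leaf
  5) (.leaf
  6)))))) (.node 9 (.node 4 (.node 2 (.node 1 (.leaf
  4) (.leaf
  5)) (.node 1 (.leaf
  5) (.leaf
  6))) (.node 2 (.node 1 (.leaf
  6) (.leaf
  7)) (.node 1 (.leaf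
  6) (.node 1 (.leaf
  5) (.leaf
  7))))) (.node 4 (.node 2 (.node 1 (.leaf
  6) (.leaf
  7)) (.node 1 (.leaf
  7) (.leaf
  6))) (.node 2 (.node 1 (.leaf
  6) (.leaf
  5)) (.node 1 (.leaf
  6) (.node 1 (.leaf
  6) (.leaf
  7))))))) (.node 18 (.node 9 (.node 4 (.node 2 (.node 1 (.leaf
  8) (.leaf
  7)) (.node 1 (.leaf
  7) (.leaf
  6))) (.node 2 (.node 1 (.leaf
  6) (.leaf
  7)) (.node 1 (.leaf
  7) (.node 1 (.leaf
  7) (.leaf
  7))))) (.node 4 (.node 2 (.node 1 (.leaf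
  7) (.leaf
  7)) (.node 1 (.leaf
  7) (.leaf
  6))) (.node 2 (.node 1 (.leaf
  5) (.leaf
  7)) (.node 1 (.leaf
  6) (.node 1 (.leaf
  6) (.leaf
  7)))))) (.node 9 (.node 4 (.node 2 (.node 1 (.leaf
  7) (.leaf
  7)) (.node 1 (.leaf
  6) (.leaf
  6))) (.node 2 (.node 1 (.leaf
  7) (.leaf
  7)) (.node 1 (.leaf
  7) (.node 1 (.leaf
  7) (.leaf
  8))))) (.node 4 (.node 2 (.node 1 (.leaf
  8) (.leaf
  6)) (.node 1 (.leaf
  5) (.leaf
  6))) (.node 2 (.node 1 (.leaf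
  5) (.leaf
  7)) (.node 1 (.leaf
  6) (.node 1 (.leaf
  7) (.leaf
  6)))))))) (.node 36 (.node 18 (.node 9 (.node 4 (.node 2 (.node 1 (.leaf
  7) (.leaf
  6)) (.node 1 (.leaf
  7) (.leaf
  6))) (.node 2 (.node 1 (.leaf
  6) (.leaf
  6)) (.node 1 (.leaf
  7) (.node 1 (.leaf
  7) (.leaf
  6))))) (.node 4 (.node 2 (.node 1 (.leaf
  5) (.leaf
  7)) (.node 1 (.leaf
  6) (.leaf
  7))) (.node 2 (.node 1 (.leaf
  6) (.leaf
  7)) (.node 1 (.leaf
  6) (.node 1 (.leaf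
  6) (.leaf
  6)))))) (.node 9 (.node 4 (.node 2 (.node 1 (.leaf
  7) (.leaf
  7)) (.node 1 (.leaf
  6) (.leaf
  6))) (.node 2 (.node 1 (.leaf
  7) (.leaf
  7)) (.node 1 (.leaf
  6) (.node 1 (.leaf
  6) (.leaf
  6))))) (.node 4 (.node 2 (.node 1 (.leaf
  7) (.leaf
  7)) (.node 1 (.leaf
  7) (.leaf
  7))) (.node 2 (.node 1 (.leaf
  6) (.leaf
  7)) (.node 1 (.leaf
  7) (.node 1 (.leaf
  7) (.leaf
  7))))))) (.node 18 (.node 9 (.node 4 (.node 2 (.node 1 (.leaf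
  7) (.leaf
  7)) (.node 1 (.leaf
  8) (.leaf
  8))) (.node 2 (.node 1 (.leaf
  6) (.leaf
  6)) (.node 1 (.leaf
  6) (.node 1 (.leaf
  6) (.leaf
  7))))) (.node 4 (.node 2 (.node 1 (.leaf
  7) (.leaf
  7)) (.node 1 (.leaf
  7) (.leaf
  7))) (.node 2 (.node 1 (.leaf
  7) (.leaf
  7)) (.node 1 (.leaf
  7) (.node 1 (.leaf
  7) (.leaf
  8)))))) (.node 9 (.node 4 (.node 2 (.node 1 (.leaf
  7) (.leaf
  7)) (.node 1 (.leaf
  6) (.leaf
  7))) (.node 2 (.node 1 (.leaf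
  5) (.leaf
  6)) (.node 1 (.leaf
  6) (.node 1 (.leaf
  7) (.leaf
  6))))) (.node 4 (.node 2 (.node 1 (.leaf
  6) (.leaf
  8)) (.node 1 (.leaf
  7) (.leaf
  7))) (.node 2 (.node 1 (.leaf
  6) (.leaf
  7)) (.node 1 (.leaf
  7) (.node 1 (.leaf
  7) (.leaf
  7))))))))))) (.node 288 (.node 144 (.node 72 (.node 36 (.node 18 (.node 9 (.node 4 (.node 2 (.node 1 (.leaf
  5) (.leaf
  4)) (.node 1 (.leaf
  5) (.leaf
  5))) (.node 2 (.node 1 (.leaf
  4) (.leaf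
  4)) (.node 1 (.leaf
  5) (.node 1 (.leaf
  5) (.leaf
  3))))) (.node 4 (.node 2 (.node 1 (.leaf
  4) (.leaf
  4)) (.node 1 (.leaf
  5) (.leaf
  5))) (.node 2 (.node 1 (.leaf
  5) (.leaf
  4)) (.node 1 (.leaf
  4) (.node 1 (.leaf
  5) (.leaf
  5)))))) (.node 9 (.node 4 (.node 2 (.node 1 (.leaf
  5) (.leaf
  6)) (.node 1 (.leaf
  6) (.leaf
  6))) (.node 2 (.node 1 (.leaf
  5) (.leaf
  5)) (.node 1 (.leaf
  4) (.node 1 (.leaf
  5) (.leaf
  5))))) (.node 4 (.node 2 (.node 1 (.leaf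
  5) (.leaf
  6)) (.node 1 (.leaf
  6) (.leaf
  5))) (.node 2 (.node 1 (.leaf
  5) (.leaf
  5)) (.node 1 (.leaf
  5) (.node 1 (.leaf
  5) (.leaf
  5))))))) (.node 18 (.node 9 (.node 4 (.node 2 (.node 1 (.leaf
  5) (.leaf
  5)) (.node 1 (.leaf
  6) (.leaf
  6))) (.node 2 (.node 1 (.leaf
  4) (.leaf
  4)) (.node 1 (.leaf
  5) (.node 1 (.leaf
  5) (.leaf
  5))))) (.node 4 (.node 2 (.node 1 (.leaf
  5) (.leaf
  6)) (.node 1 (.leaf
  6) (.leaf
  5))) (.node 2 (.node 1 (.leaf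
  6) (.leaf
  4)) (.node 1 (.leaf
  5) (.node 1 (.leaf
  6) (.leaf
  5)))))) (.node 9 (.node 4 (.node 2 (.node 1 (.leaf
  6) (.leaf
  5)) (.node 1 (.leaf
  5) (.leaf
  5))) (.node 2 (.node 1 (.leaf
  4) (.leaf
  5)) (.node 1 (.leaf
  6) (.node 1 (.leaf
  6) (.leaf
  6))))) (.node 4 (.node 2 (.node 1 (.leaf
  5) (.leaf
  6)) (.node 1 (.leaf
  6) (.leaf
  7))) (.node 2 (.node 1 (.leaf
  7) (.leaf
  7)) (.node 1 (.leaf
  7) (.node 1 (.leaf
  7) (.leaf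
  7)))))))) (.node 36 (.node 18 (.node 9 (.node 4 (.node 2 (.node 1 (.leaf
  7) (.leaf
  7)) (.node 1 (.leaf
  6) (.leaf
  6))) (.node 2 (.node 1 (.leaf
  7) (.leaf
  7)) (.node 1 (.leaf
  7) (.node 1 (.leaf
  7) (.leaf
  7))))) (.node 4 (.node 2 (.node 1 (.leaf
  7) (.leaf
  7)) (.node 1 (.leaf
  7) (.leaf
  7))) (.node 2 (.node 1 (.leaf
  7) (.leaf
  7)) (.node 1 (.leaf
  7) (.node 1 (.leaf
  6) (.leaf
  6)))))) (.node 9 (.node 4 (.node 2 (.node 1 (.leaf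
  7) (.leaf
  7)) (.node 1 (.leaf
  7) (.leaf
  7))) (.node 2 (.node 1 (.leaf
  7) (.leaf
  7)) (.node 1 (.leaf
  7) (.node 1 (.leaf
  7) (.leaf
  6))))) (.node 4 (.node 2 (.node 1 (.leaf
  6) (.leaf
  7)) (.node 1 (.leaf
  7) (.leaf
  6))) (.node 2 (.node 1 (.leaf
  6) (.leaf
  7)) (.node 1 (.leaf
  6) (.node 1 (.leaf
  6) (.leaf
  5))))))) (.node 18 (.node 9 (.node 4 (.node 2 (.node 1 (.leaf
  6) (.leaf
  6)) (.node 1 (.leaf
  7) (.leaf
  7))) (.node 2 (.node 1 (.leaf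
  7) (.leaf
  7)) (.node 1 (.leaf
  7) (.node 1 (.leaf
  6) (.leaf
  6))))) (.node 4 (.node 2 (.node 1 (.leaf
  6) (.leaf
  7)) (.node 1 (.leaf
  7) (.leaf
  7))) (.node 2 (.node 1 (.leaf
  7) (.leaf
  6)) (.node 1 (.leaf
  6) (.node 1 (.leaf
  6) (.leaf
  7)))))) (.node 9 (.node 4 (.node 2 (.node 1 (.leaf
  7) (.leaf
  7)) (.node 1 (.leaf
  6) (.leaf
  7))) (.node 2 (.node 1 (.leaf
  6) (.leaf
  6)) (.node 1 (.leaf
  6) (.node 1 (.leaf
  6) (.leaf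
  6))))) (.node 4 (.node 2 (.node 1 (.leaf
  6) (.leaf
  6)) (.node 1 (.leaf
  5) (.leaf
  7))) (.node 2 (.node 1 (.leaf
  6) (.leaf
  7)) (.node 1 (.leaf
  7) (.node 1 (.leaf
  6) (.leaf
  6))))))))) (.node 72 (.node 36 (.node 18 (.node 9 (.node 4 (.node 2 (.node 1 (.leaf
  5) (.leaf
  5)) (.node 1 (.leaf
  6) (.leaf
  6))) (.node 2 (.node 1 (.leaf
  5) (.leaf
  5)) (.node 1 (.leaf
  6) (.node 1 (.leaf
  6) (.leaf
  5))))) (.node 4 (.node 2 (.node 1 (.leaf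
  4) (.leaf
  6)) (.node 1 (.leaf
  5) (.leaf
  6))) (.node 2 (.node 1 (.leaf
  6) (.leaf
  5)) (.node 1 (.leaf
  5) (.node 1 (.leaf
  6) (.leaf
  6)))))) (.node 9 (.node 4 (.node 2 (.node 1 (.leaf
  7) (.leaf
  6)) (.node 1 (.leaf
  7) (.leaf
  7))) (.node 2 (.node 1 (.leaf
  6) (.leaf
  6)) (.node 1 (.leaf
  7) (.node 1 (.leaf
  6) (.leaf
  7))))) (.node 4 (.node 2 (.node 1 (.leaf
  7) (.leaf
  7)) (.node 1 (.leaf
  7) (.leaf
  7))) (.node 2 (.node 1 (.leaf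
  7) (.leaf
  6)) (.node 1 (.leaf
  6) (.node 1 (.leaf
  6) (.leaf
  5))))))) (.node 18 (.node 9 (.node 4 (.node 2 (.node 1 (.leaf
  6) (.leaf
  5)) (.node 1 (.leaf
  7) (.leaf
  6))) (.node 2 (.node 1 (.leaf
  6) (.leaf
  5)) (.node 1 (.leaf
  7) (.node 1 (.leaf
  6) (.leaf
  6))))) (.node 4 (.node 2 (.node 1 (.leaf
  6) (.leaf
  6)) (.node 1 (.leaf
  6) (.leaf
  6))) (.node 2 (.node 1 (.leaf
  6) (.leaf
  5)) (.node 1 (.leaf
  6) (.node 1 (.leaf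
  6) (.leaf
  6)))))) (.node 9 (.node 4 (.node 2 (.node 1 (.leaf
  6) (.leaf
  7)) (.node 1 (.leaf
  6) (.leaf
  7))) (.node 2 (.node 1 (.leaf
  5) (.leaf
  6)) (.node 1 (.leaf
  6) (.node 1 (.leaf
  6) (.leaf
  6))))) (.node 4 (.node 2 (.node 1 (.leaf
  7) (.leaf
  6)) (.node 1 (.leaf
  5) (.leaf
  6))) (.node 2 (.node 1 (.leaf
  6) (.leaf
  6)) (.node 1 (.leaf
  6) (.node 1 (.leaf
  6) (.leaf
  6)))))))) (.node 36 (.node 18 (.node 9 (.node 4 (.node 2 (.node 1 (.leaf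
  6) (.leaf
  6)) (.node 1 (.leaf
  6) (.leaf
  7))) (.node 2 (.node 1 (.leaf
  6) (.leaf
  6)) (.node 1 (.leaf
  7) (.node 1 (.leaf
  7) (.leaf
  5))))) (.node 4 (.node 2 (.node 1 (.leaf
  5) (.leaf
  6)) (.node 1 (.leaf
  6) (.leaf
  7))) (.node 2 (.node 1 (.leaf
  6) (.leaf
  6)) (.node 1 (.leaf
  5) (.node 1 (.leaf
  6) (.leaf
  6)))))) (.node 9 (.node 4 (.node 2 (.node 1 (.leaf
  6) (.leaf
  6)) (.node 1 (.leaf
  6) (.leaf
  6))) (.node 2 (.node 1 (.leaf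
  7) (.leaf
  6)) (.node 1 (.leaf
  1) (.node 1 (.leaf
  2) (.leaf
  2))))) (.node 4 (.node 2 (.node 1 (.leaf
  3) (.leaf
  3)) (.node 1 (.leaf
  3) (.leaf
  2))) (.node 2 (.node 1 (.leaf
  2) (.leaf
  3)) (.node 1 (.leaf
  2) (.node 1 (.leaf
  3) (.leaf
  3))))))) (.node 18 (.node 9 (.node 4 (.node 2 (.node 1 (.leaf
  2) (.leaf
  3)) (.node 1 (.leaf
  3) (.leaf
  3))) (.node 2 (.node 1 (.leaf
  6) (.leaf
  5)) (.node 1 (.leaf
  6) (.node 1 (.leaf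
  6) (.leaf
  7))))) (.node 4 (.node 2 (.node 1 (.leaf
  7) (.leaf
  6)) (.node 1 (.leaf
  6) (.leaf
  6))) (.node 2 (.node 1 (.leaf
  6) (.leaf
  7)) (.node 1 (.leaf
  7) (.node 1 (.leaf
  6) (.leaf
  6)))))) (.node 9 (.node 4 (.node 2 (.node 1 (.leaf
  7) (.leaf
  7)) (.node 1 (.leaf
  7) (.leaf
  6))) (.node 2 (.node 1 (.leaf
  7) (.leaf
  7)) (.node 1 (.leaf
  8) (.node 1 (.leaf
  8) (.leaf
  7))))) (.node 4 (.node 2 (.node 1 (.leaf
  7) (.leaf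
  8)) (.node 1 (.leaf
  8) (.leaf
  7))) (.node 2 (.node 1 (.leaf
  7) (.leaf
  8)) (.node 1 (.leaf
  7) (.node 1 (.leaf
  8) (.leaf
  8)))))))))) (.node 144 (.node 72 (.node 36 (.node 18 (.node 9 (.node 4 (.node 2 (.node 1 (.leaf
  6) (.leaf
  6)) (.node 1 (.leaf
  7) (.leaf
  7))) (.node 2 (.node 1 (.leaf
  7) (.leaf
  7)) (.node 1 (.leaf
  7) (.node 1 (.leaf
  7) (.leaf
  8))))) (.node 4 (.node 2 (.node 1 (.leaf
  7) (.leaf
  7)) (.node 1 (.leaf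
  7) (.leaf
  7))) (.node 2 (.node 1 (.leaf
  7) (.leaf
  8)) (.node 1 (.leaf
  8) (.node 1 (.leaf
  5) (.leaf
  6)))))) (.node 9 (.node 4 (.node 2 (.node 1 (.leaf
  6) (.leaf
  6)) (.node 1 (.leaf
  6) (.leaf
  6))) (.node 2 (.node 1 (.leaf
  6) (.leaf
  6)) (.node 1 (.leaf
  6) (.node 1 (.leaf
  5) (.leaf
  7))))) (.node 4 (.node 2 (.node 1 (.leaf
  6) (.leaf
  6)) (.node 1 (.leaf
  7) (.leaf
  6))) (.node 2 (.node 1 (.leaf
  6) (.leaf
  7)) (.node 1 (.leaf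
  7) (.node 1 (.leaf
  7) (.leaf
  6))))))) (.node 18 (.node 9 (.node 4 (.node 2 (.node 1 (.leaf
  7) (.leaf
  7)) (.node 1 (.leaf
  7) (.leaf
  8))) (.node 2 (.node 1 (.leaf
  8) (.leaf
  7)) (.node 1 (.leaf
  7) (.node 1 (.leaf
  8) (.leaf
  8))))) (.node 4 (.node 2 (.node 1 (.leaf
  8) (.leaf
  7)) (.node 1 (.leaf
  7) (.leaf
  6))) (.node 2 (.node 1 (.leaf
  6) (.leaf
  7)) (.node 1 (.leaf
  7) (.node 1 (.leaf
  7) (.leaf
  7)))))) (.node 9 (.node 4 (.node 2 (.node 1 (.leaf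
  7) (.leaf
  7)) (.node 1 (.leaf
  7) (.leaf
  6))) (.node 2 (.node 1 (.leaf
  8) (.leaf
  7)) (.node 1 (.leaf
  7) (.node 1 (.leaf
  7) (.leaf
  7))))) (.node 4 (.node 2 (.node 1 (.leaf
  7) (.leaf
  6)) (.node 1 (.leaf
  6) (.leaf
  5))) (.node 2 (.node 1 (.leaf
  6) (.leaf
  6)) (.node 1 (.leaf
  6) (.node 1 (.leaf
  7) (.leaf
  7)))))))) (.node 36 (.node 18 (.node 9 (.node 4 (.node 2 (.node 1 (.leaf
  7) (.leaf
  7)) (.node 1 (.leaf
  6) (.leaf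
  6))) (.node 2 (.node 1 (.leaf
  7) (.leaf
  7)) (.node 1 (.leaf
  6) (.node 1 (.leaf
  6) (.leaf
  5))))) (.node 4 (.node 2 (.node 1 (.leaf
  5) (.leaf
  6)) (.node 1 (.leaf
  6) (.leaf
  7))) (.node 2 (.node 1 (.leaf
  6) (.leaf
  6)) (.node 1 (.leaf
  5) (.node 1 (.leaf
  6) (.leaf
  7)))))) (.node 9 (.node 4 (.node 2 (.node 1 (.leaf
  6) (.leaf
  6)) (.node 1 (.leaf
  6) (.leaf
  6))) (.node 2 (.node 1 (.leaf
  6) (.leaf
  6)) (.node 1 (.leaf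
  7) (.node 1 (.leaf
  7) (.leaf
  7))))) (.node 4 (.node 2 (.node 1 (.leaf
  7) (.leaf
  7)) (.node 1 (.leaf
  8) (.leaf
  6))) (.node 2 (.node 1 (.leaf
  7) (.leaf
  7)) (.node 1 (.leaf
  7) (.node 1 (.leaf
  7) (.leaf
  8))))))) (.node 18 (.node 9 (.node 4 (.node 2 (.node 1 (.leaf
  7) (.leaf
  7)) (.node 1 (.leaf
  8) (.leaf
  8))) (.node 2 (.node 1 (.leaf
  5) (.leaf
  4)) (.node 1 (.leaf
  6) (.node 1 (.leaf
  5) (.leaf
  6))))) (.node 4 (.node 2 (.node 1 (.leaf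
  6) (.leaf
  5)) (.node 1 (.leaf
  5) (.leaf
  5))) (.node 2 (.node 1 (.leaf
  5) (.leaf
  6)) (.node 1 (.leaf
  6) (.node 1 (.leaf
  5) (.leaf
  5)))))) (.node 9 (.node 4 (.node 2 (.node 1 (.leaf
  6) (.leaf
  6)) (.node 1 (.leaf
  7) (.leaf
  7))) (.node 2 (.node 1 (.leaf
  7) (.leaf
  6)) (.node 1 (.leaf
  7) (.node 1 (.leaf
  7) (.leaf
  7))))) (.node 4 (.node 2 (.node 1 (.leaf
  7) (.leaf
  8)) (.node 1 (.leaf
  8) (.leaf
  7))) (.node 2 (.node 1 (.leaf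
  8) (.leaf
  7)) (.node 1 (.leaf
  8) (.node 1 (.leaf
  8) (.leaf
  7))))))))) (.node 72 (.node 36 (.node 18 (.node 9 (.node 4 (.node 2 (.node 1 (.leaf
  6) (.leaf
  6)) (.node 1 (.leaf
  5) (.leaf
  6))) (.node 2 (.node 1 (.leaf
  7) (.leaf
  6)) (.node 1 (.leaf
  6) (.node 1 (.leaf
  6) (.leaf
  6))))) (.node 4 (.node 2 (.node 1 (.leaf
  7) (.leaf
  7)) (.node 1 (.leaf
  7) (.leaf
  7))) (.node 2 (.node 1 (.leaf
  7) (.leaf
  6)) (.node 1 (.leaf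
  6) (.node 1 (.leaf
  7) (.leaf
  7)))))) (.node 9 (.node 4 (.node 2 (.node 1 (.leaf
  6) (.leaf
  6)) (.node 1 (.leaf
  7) (.leaf
  7))) (.node 2 (.node 1 (.leaf
  7) (.leaf
  7)) (.node 1 (.leaf
  7) (.node 1 (.leaf
  7) (.leaf
  7))))) (.node 4 (.node 2 (.node 1 (.leaf
  7) (.leaf
  6)) (.node 1 (.leaf
  7) (.leaf
  7))) (.node 2 (.node 1 (.leaf
  8) (.leaf
  6)) (.node 1 (.leaf
  6) (.node 1 (.leaf
  7) (.leaf
  7))))))) (.node 18 (.node 9 (.node 4 (.node 2 (.node 1 (.leaf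
  7) (.leaf
  7)) (.node 1 (.leaf
  7) (.leaf
  7))) (.node 2 (.node 1 (.leaf
  8) (.leaf
  7)) (.node 1 (.leaf
  7) (.node 1 (.leaf
  6) (.leaf
  7))))) (.node 4 (.node 2 (.node 1 (.leaf
  7) (.leaf
  7)) (.node 1 (.leaf
  7) (.leaf
  3))) (.node 2 (.node 1 (.leaf
  4) (.leaf
  2)) (.node 1 (.leaf
  3) (.node 1 (.leaf
  3) (.leaf
  3)))))) (.node 9 (.node 4 (.node 2 (.node 1 (.leaf
  4) (.leaf
  4)) (.node 1 (.leaf
  3) (.leaf
  3))) (.node 2 (.node 1 (.leaf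
  4) (.leaf
  4)) (.node 1 (.leaf
  3) (.node 1 (.leaf
  3) (.leaf
  4))))) (.node 4 (.node 2 (.node 1 (.leaf
  4) (.leaf
  7)) (.node 1 (.leaf
  7) (.leaf
  6))) (.node 2 (.node 1 (.leaf
  6) (.leaf
  6)) (.node 1 (.leaf
  7) (.node 1 (.leaf
  6) (.leaf
  7)))))))) (.node 36 (.node 18 (.node 9 (.node 4 (.node 2 (.node 1 (.leaf
  6) (.leaf
  6)) (.node 1 (.leaf
  7) (.leaf
  7))) (.node 2 (.node 1 (.leaf
  7) (.leaf
  7)) (.node 1 (.leaf
  7) (.node 1 (.leaf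
  7) (.leaf
  8))))) (.node 4 (.node 2 (.node 1 (.leaf
  8) (.leaf
  7)) (.node 1 (.leaf
  7) (.leaf
  8))) (.node 2 (.node 1 (.leaf
  8) (.leaf
  9)) (.node 1 (.leaf
  8) (.node 1 (.leaf
  8) (.leaf
  8)))))) (.node 9 (.node 4 (.node 2 (.node 1 (.leaf
  8) (.leaf
  8)) (.node 1 (.leaf
  8) (.leaf
  8))) (.node 2 (.node 1 (.leaf
  8) (.leaf
  8)) (.node 1 (.leaf
  6) (.node 1 (.leaf
  7) (.leaf
  5))))) (.node 4 (.node 2 (.node 1 (.leaf
  6) (.leaf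
  6)) (.node 1 (.leaf
  6) (.leaf
  7))) (.node 2 (.node 1 (.leaf
  7) (.leaf
  6)) (.node 1 (.leaf
  6) (.node 1 (.leaf
  7) (.leaf
  7))))))) (.node 18 (.node 9 (.node 4 (.node 2 (.node 1 (.leaf
  6) (.leaf
  6)) (.node 1 (.leaf
  7) (.leaf
  7))) (.node 2 (.node 1 (.leaf
  7) (.leaf
  7)) (.node 1 (.leaf
  6) (.node 1 (.leaf
  6) (.leaf
  7))))) (.node 4 (.node 2 (.node 1 (.leaf
  7) (.leaf
  7)) (.node 1 (.leaf
  7) (.leaf
  6))) (.node 2 (.node 1 (.leaf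
  7) (.leaf
  7)) (.node 1 (.leaf
  8) (.node 1 (.leaf
  7) (.leaf
  7)))))) (.node 9 (.node 4 (.node 2 (.node 1 (.leaf
  7) (.leaf
  7)) (.node 1 (.leaf
  7) (.leaf
  7))) (.node 2 (.node 1 (.leaf
  7) (.leaf
  7)) (.node 1 (.leaf
  7) (.node 1 (.leaf
  7) (.leaf
  7))))) (.node 4 (.node 2 (.node 1 (.leaf
  8) (.leaf
  7)) (.node 1 (.leaf
  7) (.leaf
  6))) (.node 2 (.node 1 (.leaf
  6) (.leaf
  7)) (.node 1 (.leaf
  7) (.node 1 (.leaf
  7) (.leaf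
  7)))))))))))) (.node 576 (.node 288 (.node 144 (.node 72 (.node 36 (.node 18 (.node 9 (.node 4 (.node 2 (.node 1 (.leaf
  7) (.leaf
  7)) (.node 1 (.leaf
  7) (.leaf
  7))) (.node 2 (.node 1 (.leaf
  7) (.leaf
  7)) (.node 1 (.leaf
  7) (.node 1 (.leaf
  7) (.leaf
  7))))) (.node 4 (.node 2 (.node 1 (.leaf
  7) (.leaf
  7)) (.node 1 (.leaf
  7) (.leaf
  7))) (.node 2 (.node 1 (.leaf
  6) (.leaf
  7)) (.node 1 (.leaf
  7) (.node 1 (.leaf
  6) (.leaf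
  6)))))) (.node 9 (.node 4 (.node 2 (.node 1 (.leaf
  7) (.leaf
  7)) (.node 1 (.leaf
  7) (.leaf
  6))) (.node 2 (.node 1 (.leaf
  7) (.leaf
  6)) (.node 1 (.leaf
  7) (.node 1 (.leaf
  7) (.leaf
  6))))) (.node 4 (.node 2 (.node 1 (.leaf
  6) (.leaf
  6)) (.node 1 (.leaf
  7) (.leaf
  5))) (.node 2 (.node 1 (.leaf
  6) (.leaf
  7)) (.node 1 (.leaf
  7) (.node 1 (.leaf
  6) (.leaf
  6))))))) (.node 18 (.node 9 (.node 4 (.node 2 (.node 1 (.leaf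
  6) (.leaf
  7)) (.node 1 (.leaf
  6) (.leaf
  7))) (.node 2 (.node 1 (.leaf
  7) (.leaf
  7)) (.node 1 (.leaf
  7) (.node 1 (.leaf
  7) (.leaf
  7))))) (.node 4 (.node 2 (.node 1 (.leaf
  7) (.leaf
  6)) (.node 1 (.leaf
  7) (.leaf
  3))) (.node 2 (.node 1 (.leaf
  4) (.leaf
  4)) (.node 1 (.leaf
  5) (.node 1 (.leaf
  5) (.leaf
  5)))))) (.node 9 (.node 4 (.node 2 (.node 1 (.leaf
  4) (.leaf
  4)) (.node 1 (.leaf
  5) (.leaf
  5))) (.node 2 (.node 1 (.leaf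
  5) (.leaf
  4)) (.node 1 (.leaf
  5) (.node 1 (.leaf
  5) (.leaf
  4))))) (.node 4 (.node 2 (.node 1 (.leaf
  4) (.leaf
  7)) (.node 1 (.leaf
  6) (.leaf
  6))) (.node 2 (.node 1 (.leaf
  5) (.leaf
  6)) (.node 1 (.leaf
  6) (.node 1 (.leaf
  7) (.leaf
  7)))))))) (.node 36 (.node 18 (.node 9 (.node 4 (.node 2 (.node 1 (.leaf
  6) (.leaf
  6)) (.node 1 (.leaf
  7) (.leaf
  7))) (.node 2 (.node 1 (.leaf
  6) (.leaf
  6)) (.node 1 (.leaf
  7) (.node 1 (.leaf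
  7) (.leaf
  8))))) (.node 4 (.node 2 (.node 1 (.leaf
  8) (.leaf
  7)) (.node 1 (.leaf
  7) (.leaf
  8))) (.node 2 (.node 1 (.leaf
  7) (.leaf
  8)) (.node 1 (.leaf
  7) (.node 1 (.leaf
  8) (.leaf
  8)))))) (.node 9 (.node 4 (.node 2 (.node 1 (.leaf
  8) (.leaf
  8)) (.node 1 (.leaf
  8) (.leaf
  8))) (.node 2 (.node 1 (.leaf
  8) (.leaf
  8)) (.node 1 (.leaf
  6) (.node 1 (.leaf
  6) (.leaf
  7))))) (.node 4 (.node 2 (.node 1 (.leaf
  7) (.leaf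
  7)) (.node 1 (.leaf
  7) (.leaf
  7))) (.node 2 (.node 1 (.leaf
  7) (.leaf
  7)) (.node 1 (.leaf
  7) (.node 1 (.leaf
  7) (.leaf
  7))))))) (.node 18 (.node 9 (.node 4 (.node 2 (.node 1 (.leaf
  7) (.leaf
  8)) (.node 1 (.leaf
  6) (.leaf
  7))) (.node 2 (.node 1 (.leaf
  6) (.leaf
  6)) (.node 1 (.leaf
  7) (.node 1 (.leaf
  7) (.leaf
  6))))) (.node 4 (.node 2 (.node 1 (.leaf
  6) (.leaf
  7)) (.node 1 (.leaf
  7) (.leaf
  7))) (.node 2 (.node 1 (.leaf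
  6) (.leaf
  6)) (.node 1 (.leaf
  5) (.node 1 (.leaf
  7) (.leaf
  6)))))) (.node 9 (.node 4 (.node 2 (.node 1 (.leaf
  7) (.leaf
  6)) (.node 1 (.leaf
  2) (.leaf
  1))) (.node 2 (.node 1 (.leaf
  3) (.leaf
  2)) (.node 1 (.leaf
  3) (.node 1 (.leaf
  2) (.leaf
  4))))) (.node 4 (.node 2 (.node 1 (.leaf
  3) (.leaf
  3)) (.node 1 (.leaf
  2) (.leaf
  4))) (.node 2 (.node 1 (.leaf
  3) (.leaf
  4)) (.node 1 (.leaf
  3) (.node 1 (.leaf
  5) (.leaf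
  4))))))))) (.node 72 (.node 36 (.node 18 (.node 9 (.node 4 (.node 2 (.node 1 (.leaf
  6) (.leaf
  5)) (.node 1 (.leaf
  7) (.leaf
  6))) (.node 2 (.node 1 (.leaf
  6) (.leaf
  6)) (.node 1 (.leaf
  5) (.node 1 (.leaf
  6) (.leaf
  6))))) (.node 4 (.node 2 (.node 1 (.leaf
  6) (.leaf
  6)) (.node 1 (.leaf
  7) (.leaf
  7))) (.node 2 (.node 1 (.leaf
  6) (.leaf
  7)) (.node 1 (.leaf
  7) (.node 1 (.leaf
  7) (.leaf
  7)))))) (.node 9 (.node 4 (.node 2 (.node 1 (.leaf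
  6) (.leaf
  6)) (.node 1 (.leaf
  7) (.leaf
  7))) (.node 2 (.node 1 (.leaf
  6) (.leaf
  7)) (.node 1 (.leaf
  7) (.node 1 (.leaf
  6) (.leaf
  6))))) (.node 4 (.node 2 (.node 1 (.leaf
  6) (.leaf
  5)) (.node 1 (.leaf
  6) (.leaf
  6))) (.node 2 (.node 1 (.leaf
  7) (.leaf
  7)) (.node 1 (.leaf
  6) (.node 1 (.leaf
  6) (.leaf
  5))))))) (.node 18 (.node 9 (.node 4 (.node 2 (.node 1 (.leaf
  7) (.leaf
  6)) (.node 1 (.leaf
  7) (.leaf
  6))) (.node 2 (.node 1 (.leaf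
  6) (.leaf
  7)) (.node 1 (.leaf
  5) (.node 1 (.leaf
  6) (.leaf
  6))))) (.node 4 (.node 2 (.node 1 (.leaf
  7) (.leaf
  6)) (.node 1 (.leaf
  7) (.leaf
  3))) (.node 2 (.node 1 (.leaf
  2) (.leaf
  4)) (.node 1 (.leaf
  3) (.node 1 (.leaf
  4) (.leaf
  5)))))) (.node 9 (.node 4 (.node 2 (.node 1 (.leaf
  3) (.leaf
  4)) (.node 1 (.leaf
  3) (.leaf
  4))) (.node 2 (.node 1 (.leaf
  4) (.leaf
  5)) (.node 1 (.leaf
  6) (.node 1 (.leaf
  5) (.leaf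
  5))))) (.node 4 (.node 2 (.node 1 (.leaf
  4) (.leaf
  7)) (.node 1 (.leaf
  6) (.leaf
  7))) (.node 2 (.node 1 (.leaf
  6) (.leaf
  7)) (.node 1 (.leaf
  7) (.node 1 (.leaf
  6) (.leaf
  6)))))))) (.node 36 (.node 18 (.node 9 (.node 4 (.node 2 (.node 1 (.leaf
  8) (.leaf
  7)) (.node 1 (.leaf
  7) (.leaf
  6))) (.node 2 (.node 1 (.leaf
  6) (.leaf
  7)) (.node 1 (.leaf
  7) (.node 1 (.leaf
  8) (.leaf
  6))))) (.node 4 (.node 2 (.node 1 (.leaf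
  7) (.leaf
  6)) (.node 1 (.leaf
  7) (.leaf
  6))) (.node 2 (.node 1 (.leaf
  7) (.leaf
  7)) (.node 1 (.leaf
  7) (.node 1 (.leaf
  6) (.leaf
  5)))))) (.node 9 (.node 4 (.node 2 (.node 1 (.leaf
  7) (.leaf
  6)) (.node 1 (.leaf
  6) (.leaf
  6))) (.node 2 (.node 1 (.leaf
  7) (.leaf
  7)) (.node 1 (.leaf
  6) (.node 1 (.leaf
  7) (.leaf
  5))))) (.node 4 (.node 2 (.node 1 (.leaf
  6) (.leaf
  7)) (.node 1 (.leaf
  6) (.leaf
  7))) (.node 2 (.node 1 (.leaf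
  6) (.leaf
  6)) (.node 1 (.leaf
  7) (.node 1 (.leaf
  5) (.leaf
  6))))))) (.node 18 (.node 9 (.node 4 (.node 2 (.node 1 (.leaf
  7) (.leaf
  7)) (.node 1 (.leaf
  7) (.leaf
  6))) (.node 2 (.node 1 (.leaf
  2) (.leaf
  3)) (.node 1 (.leaf
  3) (.node 1 (.leaf
  4) (.leaf
  4))))) (.node 4 (.node 2 (.node 1 (.leaf
  3) (.leaf
  5)) (.node 1 (.leaf
  4) (.leaf
  4))) (.node 2 (.node 1 (.leaf
  5) (.leaf
  3)) (.node 1 (.leaf
  4) (.node 1 (.leaf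
  6) (.leaf
  5)))))) (.node 9 (.node 4 (.node 2 (.node 1 (.leaf
  5) (.leaf
  4)) (.node 1 (.leaf
  6) (.leaf
  6))) (.node 2 (.node 1 (.leaf
  6) (.leaf
  5)) (.node 1 (.leaf
  7) (.node 1 (.leaf
  7) (.leaf
  6))))) (.node 4 (.node 2 (.node 1 (.leaf
  6) (.leaf
  7)) (.node 1 (.leaf
  7) (.leaf
  6))) (.node 2 (.node 1 (.leaf
  6) (.leaf
  6)) (.node 1 (.leaf
  6) (.node 1 (.leaf
  7) (.leaf
  7)))))))))) (.node 144 (.node 72 (.node 36 (.node 18 (.node 9 (.node 4 (.node 2 (.node 1 (.leaf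
  7) (.leaf
  7)) (.node 1 (.leaf
  6) (.leaf
  7))) (.node 2 (.node 1 (.leaf
  7) (.leaf
  7)) (.node 1 (.leaf
  7) (.node 1 (.leaf
  7) (.leaf
  6))))) (.node 4 (.node 2 (.node 1 (.leaf
  7) (.leaf
  7)) (.node 1 (.leaf
  6) (.leaf
  6))) (.node 2 (.node 1 (.leaf
  6) (.leaf
  7)) (.node 1 (.leaf
  7) (.node 1 (.leaf
  7) (.leaf
  6)))))) (.node 9 (.node 4 (.node 2 (.node 1 (.leaf
  6) (.leaf
  6)) (.node 1 (.leaf
  7) (.leaf
  7))) (.node 2 (.node 1 (.leaf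
  7) (.leaf
  8)) (.node 1 (.leaf
  6) (.node 1 (.leaf
  7) (.leaf
  6))))) (.node 4 (.node 2 (.node 1 (.leaf
  7) (.leaf
  7)) (.node 1 (.leaf
  7) (.leaf
  8))) (.node 2 (.node 1 (.leaf
  7) (.leaf
  3)) (.node 1 (.leaf
  4) (.node 1 (.leaf
  4) (.leaf
  5))))))) (.node 18 (.node 9 (.node 4 (.node 2 (.node 1 (.leaf
  5) (.leaf
  6)) (.node 1 (.leaf
  4) (.leaf
  5))) (.node 2 (.node 1 (.leaf
  6) (.leaf
  5)) (.node 1 (.leaf
  5) (.node 1 (.leaf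
  4) (.leaf
  6))))) (.node 4 (.node 2 (.node 1 (.leaf
  5) (.leaf
  7)) (.node 1 (.leaf
  6) (.leaf
  6))) (.node 2 (.node 1 (.leaf
  6) (.leaf
  7)) (.node 1 (.leaf
  7) (.node 1 (.leaf
  6) (.leaf
  6)))))) (.node 9 (.node 4 (.node 2 (.node 1 (.leaf
  7) (.leaf
  7)) (.node 1 (.leaf
  7) (.leaf
  7))) (.node 2 (.node 1 (.leaf
  7) (.leaf
  8)) (.node 1 (.leaf
  7) (.node 1 (.leaf
  7) (.leaf
  7))))) (.node 4 (.node 2 (.node 1 (.leaf
  7) (.leaf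
  6)) (.node 1 (.leaf
  5) (.leaf
  7))) (.node 2 (.node 1 (.leaf
  6) (.leaf
  6)) (.node 1 (.leaf
  6) (.node 1 (.leaf
  7) (.leaf
  7)))))))) (.node 36 (.node 18 (.node 9 (.node 4 (.node 2 (.node 1 (.leaf
  6) (.leaf
  6)) (.node 1 (.leaf
  7) (.leaf
  7))) (.node 2 (.node 1 (.leaf
  7) (.leaf
  7)) (.node 1 (.leaf
  6) (.node 1 (.leaf
  6) (.leaf
  6))))) (.node 4 (.node 2 (.node 1 (.leaf
  7) (.leaf
  7)) (.node 1 (.leaf
  6) (.leaf
  7))) (.node 2 (.node 1 (.leaf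
  8) (.leaf
  7)) (.node 1 (.leaf
  7) (.node 1 (.leaf
  7) (.leaf
  7)))))) (.node 9 (.node 4 (.node 2 (.node 1 (.leaf
  6) (.leaf
  7)) (.node 1 (.leaf
  8) (.leaf
  8))) (.node 2 (.node 1 (.leaf
  7) (.leaf
  8)) (.node 1 (.leaf
  7) (.node 1 (.leaf
  7) (.leaf
  6))))) (.node 4 (.node 2 (.node 1 (.leaf
  6) (.leaf
  8)) (.node 1 (.leaf
  8) (.leaf
  7))) (.node 2 (.node 1 (.leaf
  7) (.leaf
  7)) (.node 1 (.leaf
  7) (.node 1 (.leaf
  7) (.leaf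
  7))))))) (.node 18 (.node 9 (.node 4 (.node 2 (.node 1 (.leaf
  7) (.leaf
  7)) (.node 1 (.leaf
  6) (.leaf
  7))) (.node 2 (.node 1 (.leaf
  6) (.leaf
  6)) (.node 1 (.leaf
  6) (.node 1 (.leaf
  7) (.leaf
  7))))) (.node 4 (.node 2 (.node 1 (.leaf
  7) (.leaf
  7)) (.node 1 (.leaf
  7) (.leaf
  7))) (.node 2 (.node 1 (.leaf
  7) (.leaf
  7)) (.node 1 (.leaf
  7) (.node 1 (.leaf
  7) (.leaf
  7)))))) (.node 9 (.node 4 (.node 2 (.node 1 (.leaf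
  7) (.leaf
  7)) (.node 1 (.leaf
  7) (.leaf
  6))) (.node 2 (.node 1 (.leaf
  6) (.leaf
  5)) (.node 1 (.leaf
  6) (.node 1 (.leaf
  6) (.leaf
  7))))) (.node 4 (.node 2 (.node 1 (.leaf
  7) (.leaf
  7)) (.node 1 (.leaf
  6) (.leaf
  7))) (.node 2 (.node 1 (.leaf
  6) (.leaf
  7)) (.node 1 (.leaf
  6) (.node 1 (.leaf
  7) (.leaf
  7))))))))) (.node 72 (.node 36 (.node 18 (.node 9 (.node 4 (.node 2 (.node 1 (.leaf
  6) (.leaf
  6)) (.node 1 (.leaf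
  5) (.leaf
  5))) (.node 2 (.node 1 (.leaf
  6) (.leaf
  6)) (.node 1 (.leaf
  7) (.node 1 (.leaf
  7) (.leaf
  7))))) (.node 4 (.node 2 (.node 1 (.leaf
  7) (.leaf
  6)) (.node 1 (.leaf
  6) (.leaf
  7))) (.node 2 (.node 1 (.leaf
  6) (.leaf
  7)) (.node 1 (.leaf
  6) (.node 1 (.leaf
  5) (.leaf
  5)))))) (.node 9 (.node 4 (.node 2 (.node 1 (.leaf
  6) (.leaf
  6)) (.node 1 (.leaf
  6) (.leaf
  5))) (.node 2 (.node 1 (.leaf
  5) (.leaf
  4)) (.node 1 (.leaf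
  6) (.node 1 (.leaf
  6) (.leaf
  5))))) (.node 4 (.node 2 (.node 1 (.leaf
  5) (.leaf
  6)) (.node 1 (.leaf
  6) (.leaf
  5))) (.node 2 (.node 1 (.leaf
  5) (.leaf
  6)) (.node 1 (.leaf
  6) (.node 1 (.leaf
  6) (.leaf
  7))))))) (.node 18 (.node 9 (.node 4 (.node 2 (.node 1 (.leaf
  6) (.leaf
  6)) (.node 1 (.leaf
  5) (.leaf
  5))) (.node 2 (.node 1 (.leaf
  6) (.leaf
  6)) (.node 1 (.leaf
  7) (.node 1 (.leaf
  7) (.leaf
  6))))) (.node 4 (.node 2 (.node 1 (.leaf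
  6) (.leaf
  6)) (.node 1 (.leaf
  6) (.leaf
  7))) (.node 2 (.node 1 (.leaf
  6) (.leaf
  6)) (.node 1 (.leaf
  6) (.node 1 (.leaf
  6) (.leaf
  6)))))) (.node 9 (.node 4 (.node 2 (.node 1 (.leaf
  5) (.leaf
  5)) (.node 1 (.leaf
  7) (.leaf
  7))) (.node 2 (.node 1 (.leaf
  6) (.leaf
  6)) (.node 1 (.leaf
  6) (.node 1 (.leaf
  6) (.leaf
  6))))) (.node 4 (.node 2 (.node 1 (.leaf
  6) (.leaf
  6)) (.node 1 (.leaf
  5) (.leaf
  6))) (.node 2 (.node 1 (.leaf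
  6) (.leaf
  5)) (.node 1 (.leaf
  5) (.node 1 (.leaf
  6) (.leaf
  6)))))))) (.node 36 (.node 18 (.node 9 (.node 4 (.node 2 (.node 1 (.leaf
  6) (.leaf
  6)) (.node 1 (.leaf
  6) (.leaf
  6))) (.node 2 (.node 1 (.leaf
  6) (.leaf
  5)) (.node 1 (.leaf
  7) (.node 1 (.leaf
  6) (.leaf
  6))))) (.node 4 (.node 2 (.node 1 (.leaf
  6) (.leaf
  5)) (.node 1 (.leaf
  6) (.leaf
  6))) (.node 2 (.node 1 (.leaf
  6) (.leaf
  5)) (.node 1 (.leaf
  6) (.node 1 (.leaf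
  5) (.leaf
  6)))))) (.node 9 (.node 4 (.node 2 (.node 1 (.leaf
  6) (.leaf
  7)) (.node 1 (.leaf
  6) (.leaf
  6))) (.node 2 (.node 1 (.leaf
  6) (.leaf
  7)) (.node 1 (.leaf
  5) (.node 1 (.leaf
  6) (.leaf
  5))))) (.node 4 (.node 2 (.node 1 (.leaf
  5) (.leaf
  6)) (.node 1 (.leaf
  5) (.leaf
  5))) (.node 2 (.node 1 (.leaf
  4) (.leaf
  6)) (.node 1 (.leaf
  5) (.node 1 (.leaf
  6) (.leaf
  6))))))) (.node 18 (.node 9 (.node 4 (.node 2 (.node 1 (.leaf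
  6) (.leaf
  6)) (.node 1 (.leaf
  5) (.leaf
  6))) (.node 2 (.node 1 (.leaf
  5) (.leaf
  5)) (.node 1 (.leaf
  4) (.node 1 (.leaf
  4) (.leaf
  3))))) (.node 4 (.node 2 (.node 1 (.leaf
  4) (.leaf
  4)) (.node 1 (.leaf
  5) (.leaf
  5))) (.node 2 (.node 1 (.leaf
  4) (.leaf
  5)) (.node 1 (.leaf
  5) (.node 1 (.leaf
  4) (.leaf
  5)))))) (.node 9 (.node 4 (.node 2 (.node 1 (.leaf
  5) (.leaf
  5)) (.node 1 (.leaf
  6) (.leaf
  5))) (.node 2 (.node 1 (.leaf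
  5) (.leaf
  4)) (.node 1 (.leaf
  5) (.node 1 (.leaf
  4) (.leaf
  6))))) (.node 4 (.node 2 (.node 1 (.leaf
  5) (.leaf
  5)) (.node 1 (.leaf
  6) (.leaf
  5))) (.node 2 (.node 1 (.leaf
  6) (.leaf
  5)) (.node 1 (.leaf
  6) (.node 1 (.leaf
  5) (.leaf
  6))))))))))) (.node 288 (.node 144 (.node 72 (.node 36 (.node 18 (.node 9 (.node 4 (.node 2 (.node 1 (.leaf
  7) (.leaf
  7)) (.node 1 (.leaf
  6) (.leaf
  7))) (.node 2 (.node 1 (.leaf
  7) (.leaf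
  7)) (.node 1 (.leaf
  6) (.node 1 (.leaf
  6) (.leaf
  7))))) (.node 4 (.node 2 (.node 1 (.leaf
  7) (.leaf
  7)) (.node 1 (.leaf
  7) (.leaf
  7))) (.node 2 (.node 1 (.leaf
  7) (.leaf
  7)) (.node 1 (.leaf
  7) (.node 1 (.leaf
  6) (.leaf
  6)))))) (.node 9 (.node 4 (.node 2 (.node 1 (.leaf
  7) (.leaf
  7)) (.node 1 (.leaf
  6) (.leaf
  7))) (.node 2 (.node 1 (.leaf
  5) (.leaf
  6)) (.node 1 (.leaf
  7) (.node 1 (.leaf
  7) (.leaf
  6))))) (.node 4 (.node 2 (.node 1 (.leaf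
  6) (.leaf
  7)) (.node 1 (.leaf
  7) (.leaf
  6))) (.node 2 (.node 1 (.leaf
  6) (.leaf
  7)) (.node 1 (.leaf
  6) (.node 1 (.leaf
  6) (.leaf
  6))))))) (.node 18 (.node 9 (.node 4 (.node 2 (.node 1 (.leaf
  7) (.leaf
  6)) (.node 1 (.leaf
  7) (.leaf
  7))) (.node 2 (.node 1 (.leaf
  7) (.leaf
  7)) (.node 1 (.leaf
  7) (.node 1 (.leaf
  7) (.leaf
  7))))) (.node 4 (.node 2 (.node 1 (.leaf
  7) (.leaf
  7)) (.node 1 (.leaf
  7) (.leaf
  6))) (.node 2 (.node 1 (.leaf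
  6) (.leaf
  6)) (.node 1 (.leaf
  5) (.node 1 (.leaf
  7) (.leaf
  7)))))) (.node 9 (.node 4 (.node 2 (.node 1 (.leaf
  6) (.leaf
  6)) (.node 1 (.leaf
  7) (.leaf
  6))) (.node 2 (.node 1 (.leaf
  6) (.leaf
  7)) (.node 1 (.leaf
  6) (.node 1 (.leaf
  7) (.leaf
  7))))) (.node 4 (.node 2 (.node 1 (.leaf
  7) (.leaf
  6)) (.node 1 (.leaf
  6) (.leaf
  5))) (.node 2 (.node 1 (.leaf
  5) (.leaf
  6)) (.node 1 (.leaf
  7) (.node 1 (.leaf
  6) (.leaf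
  6)))))))) (.node 36 (.node 18 (.node 9 (.node 4 (.node 2 (.node 1 (.leaf
  6) (.leaf
  6)) (.node 1 (.leaf
  5) (.leaf
  5))) (.node 2 (.node 1 (.leaf
  6) (.leaf
  6)) (.node 1 (.leaf
  6) (.node 1 (.leaf
  6) (.leaf
  6))))) (.node 4 (.node 2 (.node 1 (.leaf
  7) (.leaf
  5)) (.node 1 (.leaf
  6) (.leaf
  7))) (.node 2 (.node 1 (.leaf
  7) (.leaf
  6)) (.node 1 (.leaf
  6) (.node 1 (.leaf
  7) (.leaf
  6)))))) (.node 9 (.node 4 (.node 2 (.node 1 (.leaf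
  7) (.leaf
  6)) (.node 1 (.leaf
  7) (.leaf
  7))) (.node 2 (.node 1 (.leaf
  6) (.leaf
  6)) (.node 1 (.leaf
  5) (.node 1 (.leaf
  6) (.leaf
  6))))) (.node 4 (.node 2 (.node 1 (.leaf
  7) (.leaf
  7)) (.node 1 (.leaf
  7) (.leaf
  6))) (.node 2 (.node 1 (.leaf
  6) (.leaf
  6)) (.node 1 (.leaf
  6) (.node 1 (.leaf
  6) (.leaf
  6))))))) (.node 18 (.node 9 (.node 4 (.node 2 (.node 1 (.leaf
  7) (.leaf
  6)) (.node 1 (.leaf
  7) (.leaf
  7))) (.node 2 (.node 1 (.leaf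
  1) (.leaf
  2)) (.node 1 (.leaf
  2) (.node 1 (.leaf
  3) (.leaf
  3))))) (.node 4 (.node 2 (.node 1 (.leaf
  4) (.leaf
  2)) (.node 1 (.leaf
  3) (.leaf
  3))) (.node 2 (.node 1 (.leaf
  2) (.leaf
  4)) (.node 1 (.leaf
  3) (.node 1 (.leaf
  3) (.leaf
  2)))))) (.node 9 (.node 4 (.node 2 (.node 1 (.leaf
  4) (.leaf
  3)) (.node 1 (.leaf
  7) (.leaf
  7))) (.node 2 (.node 1 (.leaf
  6) (.leaf
  6)) (.node 1 (.leaf
  7) (.node 1 (.leaf
  7) (.leaf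
  7))))) (.node 4 (.node 2 (.node 1 (.leaf
  7) (.leaf
  7)) (.node 1 (.leaf
  7) (.leaf
  6))) (.node 2 (.node 1 (.leaf
  6) (.leaf
  7)) (.node 1 (.leaf
  7) (.node 1 (.leaf
  7) (.leaf
  7))))))))) (.node 72 (.node 36 (.node 18 (.node 9 (.node 4 (.node 2 (.node 1 (.leaf
  6) (.leaf
  6)) (.node 1 (.leaf
  7) (.leaf
  7))) (.node 2 (.node 1 (.leaf
  6) (.leaf
  7)) (.node 1 (.leaf
  5) (.node 1 (.leaf
  6) (.leaf
  7))))) (.node 4 (.node 2 (.node 1 (.leaf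
  6) (.leaf
  7)) (.node 1 (.leaf
  6) (.leaf
  6))) (.node 2 (.node 1 (.leaf
  7) (.leaf
  6)) (.node 1 (.leaf
  6) (.node 1 (.leaf
  6) (.leaf
  7)))))) (.node 9 (.node 4 (.node 2 (.node 1 (.leaf
  7) (.leaf
  8)) (.node 1 (.leaf
  7) (.leaf
  8))) (.node 2 (.node 1 (.leaf
  7) (.leaf
  8)) (.node 1 (.leaf
  8) (.node 1 (.leaf
  7) (.leaf
  8))))) (.node 4 (.node 2 (.node 1 (.leaf
  7) (.leaf
  7)) (.node 1 (.leaf
  7) (.leaf
  8))) (.node 2 (.node 1 (.leaf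
  8) (.leaf
  4)) (.node 1 (.leaf
  4) (.node 1 (.leaf
  5) (.leaf
  5))))))) (.node 18 (.node 9 (.node 4 (.node 2 (.node 1 (.leaf
  4) (.leaf
  5)) (.node 1 (.leaf
  5) (.leaf
  6))) (.node 2 (.node 1 (.leaf
  4) (.leaf
  3)) (.node 1 (.leaf
  5) (.node 1 (.leaf
  4) (.leaf
  4))))) (.node 4 (.node 2 (.node 1 (.leaf
  5) (.leaf
  5)) (.node 1 (.leaf
  6) (.leaf
  7))) (.node 2 (.node 1 (.leaf
  7) (.leaf
  7)) (.node 1 (.leaf
  6) (.node 1 (.leaf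
  8) (.leaf
  7)))))) (.node 9 (.node 4 (.node 2 (.node 1 (.leaf
  7) (.leaf
  7)) (.node 1 (.leaf
  7) (.leaf
  7))) (.node 2 (.node 1 (.leaf
  6) (.leaf
  7)) (.node 1 (.leaf
  8) (.node 1 (.leaf
  8) (.leaf
  7))))) (.node 4 (.node 2 (.node 1 (.leaf
  7) (.leaf
  7)) (.node 1 (.leaf
  7) (.leaf
  7))) (.node 2 (.node 1 (.leaf
  7) (.leaf
  6)) (.node 1 (.leaf
  6) (.node 1 (.leaf
  7) (.leaf
  7)))))))) (.node 36 (.node 18 (.node 9 (.node 4 (.node 2 (.node 1 (.leaf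
  7) (.leaf
  7)) (.node 1 (.leaf
  7) (.leaf
  7))) (.node 2 (.node 1 (.leaf
  7) (.leaf
  7)) (.node 1 (.leaf
  8) (.node 1 (.leaf
  8) (.leaf
  6))))) (.node 4 (.node 2 (.node 1 (.leaf
  6) (.leaf
  5)) (.node 1 (.leaf
  5) (.leaf
  6))) (.node 2 (.node 1 (.leaf
  6) (.leaf
  7)) (.node 1 (.leaf
  7) (.node 1 (.leaf
  7) (.leaf
  7)))))) (.node 9 (.node 4 (.node 2 (.node 1 (.leaf
  6) (.leaf
  6)) (.node 1 (.leaf
  7) (.leaf
  7))) (.node 2 (.node 1 (.leaf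
  6) (.leaf
  6)) (.node 1 (.leaf
  6) (.node 1 (.leaf
  5) (.leaf
  6))))) (.node 4 (.node 2 (.node 1 (.leaf
  5) (.leaf
  6)) (.node 1 (.leaf
  6) (.leaf
  6))) (.node 2 (.node 1 (.leaf
  5) (.leaf
  5)) (.node 1 (.leaf
  6) (.node 1 (.leaf
  4) (.leaf
  5))))))) (.node 18 (.node 9 (.node 4 (.node 2 (.node 1 (.leaf
  6) (.leaf
  5)) (.node 1 (.leaf
  6) (.leaf
  6))) (.node 2 (.node 1 (.leaf
  7) (.leaf
  6)) (.node 1 (.leaf
  7) (.node 1 (.leaf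
  7) (.leaf
  7))))) (.node 4 (.node 2 (.node 1 (.leaf
  7) (.leaf
  8)) (.node 1 (.leaf
  7) (.leaf
  7))) (.node 2 (.node 1 (.leaf
  8) (.leaf
  6)) (.node 1 (.leaf
  7) (.node 1 (.leaf
  7) (.leaf
  8)))))) (.node 9 (.node 4 (.node 2 (.node 1 (.leaf
  7) (.leaf
  8)) (.node 1 (.leaf
  3) (.leaf
  4))) (.node 2 (.node 1 (.leaf
  4) (.leaf
  5)) (.node 1 (.leaf
  5) (.node 1 (.leaf
  5) (.leaf
  4))))) (.node 4 (.node 2 (.node 1 (.leaf
  4) (.leaf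
  4)) (.node 1 (.leaf
  4) (.leaf
  5))) (.node 2 (.node 1 (.leaf
  5) (.leaf
  4)) (.node 1 (.leaf
  4) (.node 1 (.leaf
  5) (.leaf
  5)))))))))) (.node 144 (.node 72 (.node 36 (.node 18 (.node 9 (.node 4 (.node 2 (.node 1 (.leaf
  7) (.leaf
  7)) (.node 1 (.leaf
  7) (.leaf
  7))) (.node 2 (.node 1 (.leaf
  8) (.leaf
  8)) (.node 1 (.leaf
  8) (.node 1 (.leaf
  8) (.leaf
  8))))) (.node 4 (.node 2 (.node 1 (.leaf
  7) (.leaf
  7)) (.node 1 (.leaf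
  7) (.leaf
  8))) (.node 2 (.node 1 (.leaf
  8) (.leaf
  8)) (.node 1 (.leaf
  8) (.node 1 (.leaf
  5) (.leaf
  5)))))) (.node 9 (.node 4 (.node 2 (.node 1 (.leaf
  5) (.leaf
  6)) (.node 1 (.leaf
  6) (.leaf
  5))) (.node 2 (.node 1 (.leaf
  6) (.leaf
  6)) (.node 1 (.leaf
  4) (.node 1 (.leaf
  5) (.leaf
  5))))) (.node 4 (.node 2 (.node 1 (.leaf
  6) (.leaf
  5)) (.node 1 (.leaf
  6) (.leaf
  6))) (.node 2 (.node 1 (.leaf
  6) (.leaf
  6)) (.node 1 (.leaf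
  6) (.node 1 (.leaf
  7) (.leaf
  7))))))) (.node 18 (.node 9 (.node 4 (.node 2 (.node 1 (.leaf
  7) (.leaf
  7)) (.node 1 (.leaf
  7) (.leaf
  7))) (.node 2 (.node 1 (.leaf
  6) (.leaf
  6)) (.node 1 (.leaf
  7) (.node 1 (.leaf
  7) (.leaf
  7))))) (.node 4 (.node 2 (.node 1 (.leaf
  7) (.leaf
  7)) (.node 1 (.leaf
  7) (.leaf
  7))) (.node 2 (.node 1 (.leaf
  7) (.leaf
  7)) (.node 1 (.leaf
  7) (.node 1 (.leaf
  6) (.leaf
  7)))))) (.node 9 (.node 4 (.node 2 (.node 1 (.leaf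
  7) (.leaf
  8)) (.node 1 (.leaf
  6) (.leaf
  6))) (.node 2 (.node 1 (.leaf
  7) (.leaf
  7)) (.node 1 (.leaf
  7) (.node 1 (.leaf
  7) (.leaf
  7))))) (.node 4 (.node 2 (.node 1 (.leaf
  7) (.leaf
  7)) (.node 1 (.leaf
  7) (.leaf
  7))) (.node 2 (.node 1 (.leaf
  7) (.leaf
  7)) (.node 1 (.leaf
  7) (.node 1 (.leaf
  6) (.leaf
  6)))))))) (.node 36 (.node 18 (.node 9 (.node 4 (.node 2 (.node 1 (.leaf
  7) (.leaf
  6)) (.node 1 (.leaf
  7) (.leaf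
  6))) (.node 2 (.node 1 (.leaf
  7) (.leaf
  7)) (.node 1 (.leaf
  7) (.node 1 (.leaf
  7) (.leaf
  4))))) (.node 4 (.node 2 (.node 1 (.leaf
  4) (.leaf
  3)) (.node 1 (.leaf
  4) (.leaf
  4))) (.node 2 (.node 1 (.leaf
  4) (.leaf
  3)) (.node 1 (.leaf
  3) (.node 1 (.leaf
  4) (.leaf
  3)))))) (.node 9 (.node 4 (.node 2 (.node 1 (.leaf
  3) (.leaf
  2)) (.node 1 (.leaf
  3) (.leaf
  3))) (.node 2 (.node 1 (.leaf
  4) (.leaf
  4)) (.node 1 (.leaf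
  7) (.node 1 (.leaf
  7) (.leaf
  7))))) (.node 4 (.node 2 (.node 1 (.leaf
  7) (.leaf
  8)) (.node 1 (.leaf
  8) (.leaf
  7))) (.node 2 (.node 1 (.leaf
  7) (.leaf
  7)) (.node 1 (.leaf
  7) (.node 1 (.leaf
  7) (.leaf
  6))))))) (.node 18 (.node 9 (.node 4 (.node 2 (.node 1 (.leaf
  7) (.leaf
  7)) (.node 1 (.leaf
  8) (.leaf
  8))) (.node 2 (.node 1 (.leaf
  7) (.leaf
  7)) (.node 1 (.leaf
  7) (.node 1 (.leaf
  8) (.leaf
  7))))) (.node 4 (.node 2 (.node 1 (.leaf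
  7) (.leaf
  8)) (.node 1 (.leaf
  7) (.leaf
  8))) (.node 2 (.node 1 (.leaf
  8) (.leaf
  7)) (.node 1 (.leaf
  7) (.node 1 (.leaf
  7) (.leaf
  6)))))) (.node 9 (.node 4 (.node 2 (.node 1 (.leaf
  8) (.leaf
  7)) (.node 1 (.leaf
  6) (.leaf
  7))) (.node 2 (.node 1 (.leaf
  6) (.leaf
  6)) (.node 1 (.leaf
  7) (.node 1 (.leaf
  6) (.leaf
  6))))) (.node 4 (.node 2 (.node 1 (.leaf
  5) (.leaf
  7)) (.node 1 (.leaf
  7) (.leaf
  6))) (.node 2 (.node 1 (.leaf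
  6) (.leaf
  6)) (.node 1 (.leaf
  6) (.node 1 (.leaf
  7) (.leaf
  7))))))))) (.node 72 (.node 36 (.node 18 (.node 9 (.node 4 (.node 2 (.node 1 (.leaf
  5) (.leaf
  6)) (.node 1 (.leaf
  4) (.leaf
  5))) (.node 2 (.node 1 (.leaf
  6) (.leaf
  5)) (.node 1 (.leaf
  6) (.node 1 (.leaf
  5) (.leaf
  6))))) (.node 4 (.node 2 (.node 1 (.leaf
  6) (.leaf
  5)) (.node 1 (.leaf
  5) (.leaf
  6))) (.node 2 (.node 1 (.leaf
  6) (.leaf
  5)) (.node 1 (.leaf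
  5) (.node 1 (.leaf
  8) (.leaf
  7)))))) (.node 9 (.node 4 (.node 2 (.node 1 (.leaf
  8) (.leaf
  7)) (.node 1 (.leaf
  8) (.leaf
  8))) (.node 2 (.node 1 (.leaf
  7) (.leaf
  7)) (.node 1 (.leaf
  7) (.node 1 (.leaf
  7) (.leaf
  7))))) (.node 4 (.node 2 (.node 1 (.leaf
  7) (.leaf
  8)) (.node 1 (.leaf
  8) (.leaf
  8))) (.node 2 (.node 1 (.leaf
  8) (.leaf
  7)) (.node 1 (.leaf
  8) (.node 1 (.leaf
  8) (.leaf
  8))))))) (.node 18 (.node 9 (.node 4 (.node 2 (.node 1 (.leaf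
  8) (.leaf
  8)) (.node 1 (.leaf
  8) (.leaf
  8))) (.node 2 (.node 1 (.leaf
  7) (.leaf
  7)) (.node 1 (.leaf
  8) (.node 1 (.leaf
  8) (.leaf
  8))))) (.node 4 (.node 2 (.node 1 (.leaf
  8) (.leaf
  7)) (.node 1 (.leaf
  7) (.leaf
  4))) (.node 2 (.node 1 (.leaf
  4) (.leaf
  5)) (.node 1 (.leaf
  5) (.node 1 (.leaf
  4) (.leaf
  4)))))) (.node 9 (.node 4 (.node 2 (.node 1 (.leaf
  5) (.leaf
  5)) (.node 1 (.leaf
  3) (.leaf
  4))) (.node 2 (.node 1 (.leaf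
  4) (.leaf
  5)) (.node 1 (.leaf
  5) (.node 1 (.leaf
  5) (.leaf
  4))))) (.node 4 (.node 2 (.node 1 (.leaf
  4) (.leaf
  5)) (.node 1 (.leaf
  5) (.leaf
  6))) (.node 2 (.node 1 (.leaf
  6) (.leaf
  7)) (.node 1 (.leaf
  7) (.node 1 (.leaf
  6) (.leaf
  6)))))))) (.node 36 (.node 18 (.node 9 (.node 4 (.node 2 (.node 1 (.leaf
  6) (.leaf
  6)) (.node 1 (.leaf
  6) (.leaf
  6))) (.node 2 (.node 1 (.leaf
  6) (.leaf
  6)) (.node 1 (.leaf
  7) (.node 1 (.leaf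
  7) (.leaf
  7))))) (.node 4 (.node 2 (.node 1 (.leaf
  7) (.leaf
  8)) (.node 1 (.leaf
  8) (.leaf
  8))) (.node 2 (.node 1 (.leaf
  8) (.leaf
  8)) (.node 1 (.leaf
  8) (.node 1 (.leaf
  8) (.leaf
  8)))))) (.node 9 (.node 4 (.node 2 (.node 1 (.leaf
  7) (.leaf
  7)) (.node 1 (.leaf
  8) (.leaf
  8))) (.node 2 (.node 1 (.leaf
  8) (.leaf
  8)) (.node 1 (.leaf
  6) (.node 1 (.leaf
  6) (.leaf
  5))))) (.node 4 (.node 2 (.node 1 (.leaf
  5) (.leaf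
  6)) (.node 1 (.leaf
  6) (.leaf
  5))) (.node 2 (.node 1 (.leaf
  5) (.leaf
  6)) (.node 1 (.leaf
  5) (.node 1 (.leaf
  5) (.leaf
  4))))))) (.node 18 (.node 9 (.node 4 (.node 2 (.node 1 (.leaf
  5) (.leaf
  5)) (.node 1 (.leaf
  6) (.leaf
  6))) (.node 2 (.node 1 (.leaf
  7) (.leaf
  7)) (.node 1 (.leaf
  7) (.node 1 (.leaf
  7) (.leaf
  7))))) (.node 4 (.node 2 (.node 1 (.leaf
  7) (.leaf
  6)) (.node 1 (.leaf
  6) (.leaf
  7))) (.node 2 (.node 1 (.leaf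
  7) (.leaf
  7)) (.node 1 (.leaf
  7) (.node 1 (.leaf
  8) (.leaf
  8)))))) (.node 9 (.node 4 (.node 2 (.node 1 (.leaf
  7) (.leaf
  7)) (.node 1 (.leaf
  6) (.leaf
  6))) (.node 2 (.node 1 (.leaf
  5) (.leaf
  5)) (.node 1 (.leaf
  6) (.node 1 (.leaf
  6) (.leaf
  6))))) (.node 4 (.node 2 (.node 1 (.leaf
  6) (.leaf
  6)) (.node 1 (.leaf
  6) (.leaf
  6))) (.node 2 (.node 1 (.leaf
  6) (.leaf
  7)) (.node 1 (.leaf
  7) (.node 1 (.leaf
  6) (.leaf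
  6))))))))))))) (.node 1152 (.node 576 (.node 288 (.node 144 (.node 72 (.node 36 (.node 18 (.node 9 (.node 4 (.node 2 (.node 1 (.leaf
  4) (.leaf
  4)) (.node 1 (.leaf
  4) (.leaf
  3))) (.node 2 (.node 1 (.leaf
  3) (.leaf
  4)) (.node 1 (.leaf
  4) (.node 1 (.leaf
  4) (.leaf
  4))))) (.node 4 (.node 2 (.node 1 (.leaf
  3) (.leaf
  3)) (.node 1 (.leaf
  2) (.leaf
  4))) (.node 2 (.node 1 (.leaf
  4) (.leaf
  3)) (.node 1 (.leaf
  3) (.node 1 (.leaf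
  7) (.leaf
  7)))))) (.node 9 (.node 4 (.node 2 (.node 1 (.leaf
  7) (.leaf
  7)) (.node 1 (.leaf
  7) (.leaf
  7))) (.node 2 (.node 1 (.leaf
  8) (.leaf
  7)) (.node 1 (.leaf
  7) (.node 1 (.leaf
  7) (.leaf
  6))))) (.node 4 (.node 2 (.node 1 (.leaf
  6) (.leaf
  6)) (.node 1 (.leaf
  7) (.leaf
  6))) (.node 2 (.node 1 (.leaf
  7) (.leaf
  6)) (.node 1 (.leaf
  7) (.node 1 (.leaf
  7) (.leaf
  7))))))) (.node 18 (.node 9 (.node 4 (.node 2 (.node 1 (.leaf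
  7) (.leaf
  6)) (.node 1 (.leaf
  6) (.leaf
  5))) (.node 2 (.node 1 (.leaf
  7) (.leaf
  6)) (.node 1 (.leaf
  6) (.node 1 (.leaf
  7) (.leaf
  7))))) (.node 4 (.node 2 (.node 1 (.leaf
  6) (.leaf
  7)) (.node 1 (.leaf
  7) (.leaf
  6))) (.node 2 (.node 1 (.leaf
  7) (.leaf
  6)) (.node 1 (.leaf
  7) (.node 1 (.leaf
  7) (.leaf
  7)))))) (.node 9 (.node 4 (.node 2 (.node 1 (.leaf
  7) (.leaf
  8)) (.node 1 (.leaf
  7) (.leaf
  6))) (.node 2 (.node 1 (.leaf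
  7) (.leaf
  7)) (.node 1 (.leaf
  7) (.node 1 (.leaf
  7) (.leaf
  7))))) (.node 4 (.node 2 (.node 1 (.leaf
  7) (.leaf
  5)) (.node 1 (.leaf
  5) (.leaf
  4))) (.node 2 (.node 1 (.leaf
  5) (.leaf
  5)) (.node 1 (.leaf
  5) (.node 1 (.leaf
  6) (.leaf
  6)))))))) (.node 36 (.node 18 (.node 9 (.node 4 (.node 2 (.node 1 (.leaf
  4) (.leaf
  4)) (.node 1 (.leaf
  4) (.leaf
  3))) (.node 2 (.node 1 (.leaf
  4) (.leaf
  5)) (.node 1 (.leaf
  5) (.node 1 (.leaf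
  5) (.leaf
  8))))) (.node 4 (.node 2 (.node 1 (.leaf
  7) (.leaf
  8)) (.node 1 (.leaf
  8) (.leaf
  7))) (.node 2 (.node 1 (.leaf
  8) (.leaf
  7)) (.node 1 (.leaf
  8) (.node 1 (.leaf
  7) (.leaf
  7)))))) (.node 9 (.node 4 (.node 2 (.node 1 (.leaf
  7) (.leaf
  7)) (.node 1 (.leaf
  7) (.leaf
  7))) (.node 2 (.node 1 (.leaf
  7) (.leaf
  7)) (.node 1 (.leaf
  7) (.node 1 (.leaf
  7) (.leaf
  7))))) (.node 4 (.node 2 (.node 1 (.leaf
  6) (.leaf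
  7)) (.node 1 (.leaf
  7) (.leaf
  6))) (.node 2 (.node 1 (.leaf
  6) (.leaf
  6)) (.node 1 (.leaf
  7) (.node 1 (.leaf
  7) (.leaf
  8))))))) (.node 18 (.node 9 (.node 4 (.node 2 (.node 1 (.leaf
  6) (.leaf
  7)) (.node 1 (.leaf
  7) (.leaf
  8))) (.node 2 (.node 1 (.leaf
  6) (.leaf
  7)) (.node 1 (.leaf
  7) (.node 1 (.leaf
  7) (.leaf
  7))))) (.node 4 (.node 2 (.node 1 (.leaf
  7) (.leaf
  8)) (.node 1 (.leaf
  8) (.leaf
  6))) (.node 2 (.node 1 (.leaf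
  7) (.leaf
  6)) (.node 1 (.leaf
  7) (.node 1 (.leaf
  7) (.leaf
  7)))))) (.node 9 (.node 4 (.node 2 (.node 1 (.leaf
  7) (.leaf
  7)) (.node 1 (.leaf
  4) (.leaf
  4))) (.node 2 (.node 1 (.leaf
  5) (.leaf
  5)) (.node 1 (.leaf
  5) (.node 1 (.leaf
  5) (.leaf
  5))))) (.node 4 (.node 2 (.node 1 (.leaf
  4) (.leaf
  4)) (.node 1 (.leaf
  4) (.leaf
  3))) (.node 2 (.node 1 (.leaf
  3) (.leaf
  5)) (.node 1 (.leaf
  5) (.node 1 (.leaf
  4) (.leaf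
  4))))))))) (.node 72 (.node 36 (.node 18 (.node 9 (.node 4 (.node 2 (.node 1 (.leaf
  7) (.leaf
  7)) (.node 1 (.leaf
  7) (.leaf
  8))) (.node 2 (.node 1 (.leaf
  8) (.leaf
  7)) (.node 1 (.leaf
  7) (.node 1 (.leaf
  7) (.leaf
  7))))) (.node 4 (.node 2 (.node 1 (.leaf
  6) (.leaf
  7)) (.node 1 (.leaf
  6) (.leaf
  7))) (.node 2 (.node 1 (.leaf
  7) (.leaf
  6)) (.node 1 (.leaf
  7) (.node 1 (.leaf
  7) (.leaf
  7)))))) (.node 9 (.node 4 (.node 2 (.node 1 (.leaf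
  7) (.leaf
  7)) (.node 1 (.leaf
  7) (.leaf
  7))) (.node 2 (.node 1 (.leaf
  6) (.leaf
  6)) (.node 1 (.leaf
  7) (.node 1 (.leaf
  8) (.leaf
  7))))) (.node 4 (.node 2 (.node 1 (.leaf
  7) (.leaf
  7)) (.node 1 (.leaf
  7) (.leaf
  7))) (.node 2 (.node 1 (.leaf
  7) (.leaf
  7)) (.node 1 (.leaf
  7) (.node 1 (.leaf
  7) (.leaf
  7))))))) (.node 18 (.node 9 (.node 4 (.node 2 (.node 1 (.leaf
  8) (.leaf
  8)) (.node 1 (.leaf
  8) (.leaf
  7))) (.node 2 (.node 1 (.leaf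
  7) (.leaf
  7)) (.node 1 (.leaf
  7) (.node 1 (.leaf
  7) (.leaf
  6))))) (.node 4 (.node 2 (.node 1 (.leaf
  7) (.leaf
  7)) (.node 1 (.leaf
  8) (.leaf
  5))) (.node 2 (.node 1 (.leaf
  5) (.leaf
  4)) (.node 1 (.leaf
  5) (.node 1 (.leaf
  5) (.leaf
  5)))))) (.node 9 (.node 4 (.node 2 (.node 1 (.leaf
  5) (.leaf
  4)) (.node 1 (.leaf
  4) (.leaf
  3))) (.node 2 (.node 1 (.leaf
  4) (.leaf
  4)) (.node 1 (.leaf
  5) (.node 1 (.leaf
  5) (.leaf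
  4))))) (.node 4 (.node 2 (.node 1 (.leaf
  4) (.leaf
  8)) (.node 1 (.leaf
  8) (.leaf
  8))) (.node 2 (.node 1 (.leaf
  8) (.leaf
  8)) (.node 1 (.leaf
  8) (.node 1 (.leaf
  8) (.leaf
  8)))))))) (.node 36 (.node 18 (.node 9 (.node 4 (.node 2 (.node 1 (.leaf
  7) (.leaf
  7)) (.node 1 (.leaf
  7) (.leaf
  7))) (.node 2 (.node 1 (.leaf
  8) (.leaf
  7)) (.node 1 (.leaf
  7) (.node 1 (.leaf
  7) (.leaf
  7))))) (.node 4 (.node 2 (.node 1 (.leaf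
  7) (.leaf
  6)) (.node 1 (.leaf
  6) (.leaf
  6))) (.node 2 (.node 1 (.leaf
  6) (.leaf
  7)) (.node 1 (.leaf
  7) (.node 1 (.leaf
  6) (.leaf
  7)))))) (.node 9 (.node 4 (.node 2 (.node 1 (.leaf
  5) (.leaf
  6)) (.node 1 (.leaf
  7) (.leaf
  7))) (.node 2 (.node 1 (.leaf
  6) (.leaf
  6)) (.node 1 (.leaf
  7) (.node 1 (.leaf
  7) (.leaf
  8))))) (.node 4 (.node 2 (.node 1 (.leaf
  7) (.leaf
  8)) (.node 1 (.leaf
  8) (.leaf
  8))) (.node 2 (.node 1 (.leaf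
  8) (.leaf
  8)) (.node 1 (.leaf
  7) (.node 1 (.leaf
  7) (.leaf
  7))))))) (.node 18 (.node 9 (.node 4 (.node 2 (.node 1 (.leaf
  8) (.leaf
  7)) (.node 1 (.leaf
  7) (.leaf
  7))) (.node 2 (.node 1 (.leaf
  5) (.leaf
  5)) (.node 1 (.leaf
  4) (.node 1 (.leaf
  4) (.leaf
  4))))) (.node 4 (.node 2 (.node 1 (.leaf
  4) (.leaf
  5)) (.node 1 (.leaf
  5) (.leaf
  4))) (.node 2 (.node 1 (.leaf
  4) (.leaf
  5)) (.node 1 (.leaf
  5) (.node 1 (.leaf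
  4) (.leaf
  3)))))) (.node 9 (.node 4 (.node 2 (.node 1 (.leaf
  5) (.leaf
  4)) (.node 1 (.leaf
  6) (.leaf
  5))) (.node 2 (.node 1 (.leaf
  7) (.leaf
  6)) (.node 1 (.leaf
  6) (.node 1 (.leaf
  7) (.leaf
  7))))) (.node 4 (.node 2 (.node 1 (.leaf
  7) (.leaf
  5)) (.node 1 (.leaf
  6) (.leaf
  4))) (.node 2 (.node 1 (.leaf
  5) (.leaf
  6)) (.node 1 (.leaf
  6) (.node 1 (.leaf
  6) (.leaf
  5)))))))))) (.node 144 (.node 72 (.node 36 (.node 18 (.node 9 (.node 4 (.node 2 (.node 1 (.leaf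
  7) (.leaf
  6)) (.node 1 (.leaf
  7) (.leaf
  7))) (.node 2 (.node 1 (.leaf
  8) (.leaf
  8)) (.node 1 (.leaf
  7) (.node 1 (.leaf
  8) (.leaf
  7))))) (.node 4 (.node 2 (.node 1 (.leaf
  7) (.leaf
  8)) (.node 1 (.leaf
  7) (.leaf
  7))) (.node 2 (.node 1 (.leaf
  7) (.leaf
  7)) (.node 1 (.leaf
  7) (.node 1 (.leaf
  8) (.leaf
  8)))))) (.node 9 (.node 4 (.node 2 (.node 1 (.leaf
  7) (.leaf
  7)) (.node 1 (.leaf
  7) (.leaf
  6))) (.node 2 (.node 1 (.leaf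
  7) (.leaf
  7)) (.node 1 (.leaf
  8) (.node 1 (.leaf
  7) (.leaf
  8))))) (.node 4 (.node 2 (.node 1 (.leaf
  8) (.leaf
  7)) (.node 1 (.leaf
  7) (.leaf
  7))) (.node 2 (.node 1 (.leaf
  7) (.leaf
  5)) (.node 1 (.leaf
  5) (.node 1 (.leaf
  6) (.leaf
  6))))))) (.node 18 (.node 9 (.node 4 (.node 2 (.node 1 (.leaf
  5) (.leaf
  5)) (.node 1 (.leaf
  6) (.leaf
  6))) (.node 2 (.node 1 (.leaf
  6) (.leaf
  6)) (.node 1 (.leaf
  5) (.node 1 (.leaf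
  5) (.leaf
  4))))) (.node 4 (.node 2 (.node 1 (.leaf
  4) (.leaf
  5)) (.node 1 (.leaf
  5) (.leaf
  5))) (.node 2 (.node 1 (.leaf
  6) (.leaf
  6)) (.node 1 (.leaf
  7) (.node 1 (.leaf
  7) (.leaf
  6)))))) (.node 9 (.node 4 (.node 2 (.node 1 (.leaf
  6) (.leaf
  6)) (.node 1 (.leaf
  6) (.leaf
  6))) (.node 2 (.node 1 (.leaf
  5) (.leaf
  6)) (.node 1 (.leaf
  6) (.node 1 (.leaf
  6) (.leaf
  6))))) (.node 4 (.node 2 (.node 1 (.leaf
  5) (.leaf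
  7)) (.node 1 (.leaf
  7) (.leaf
  6))) (.node 2 (.node 1 (.leaf
  7) (.leaf
  8)) (.node 1 (.leaf
  7) (.node 1 (.leaf
  7) (.leaf
  8)))))))) (.node 36 (.node 18 (.node 9 (.node 4 (.node 2 (.node 1 (.leaf
  7) (.leaf
  6)) (.node 1 (.leaf
  7) (.leaf
  7))) (.node 2 (.node 1 (.leaf
  8) (.leaf
  7)) (.node 1 (.leaf
  7) (.node 1 (.leaf
  7) (.leaf
  6))))) (.node 4 (.node 2 (.node 1 (.leaf
  6) (.leaf
  7)) (.node 1 (.leaf
  7) (.leaf
  7))) (.node 2 (.node 1 (.leaf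
  7) (.leaf
  7)) (.node 1 (.leaf
  8) (.node 1 (.leaf
  7) (.leaf
  7)))))) (.node 9 (.node 4 (.node 2 (.node 1 (.leaf
  7) (.leaf
  7)) (.node 1 (.leaf
  7) (.leaf
  6))) (.node 2 (.node 1 (.leaf
  7) (.leaf
  7)) (.node 1 (.leaf
  6) (.node 1 (.leaf
  5) (.leaf
  6))))) (.node 4 (.node 2 (.node 1 (.leaf
  6) (.leaf
  6)) (.node 1 (.leaf
  6) (.leaf
  5))) (.node 2 (.node 1 (.leaf
  5) (.leaf
  5)) (.node 1 (.leaf
  5) (.node 1 (.leaf
  6) (.leaf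
  6))))))) (.node 18 (.node 9 (.node 4 (.node 2 (.node 1 (.leaf
  4) (.leaf
  4)) (.node 1 (.leaf
  5) (.leaf
  5))) (.node 2 (.node 1 (.leaf
  5) (.leaf
  5)) (.node 1 (.leaf
  6) (.node 1 (.leaf
  6) (.leaf
  6))))) (.node 4 (.node 2 (.node 1 (.leaf
  6) (.leaf
  5)) (.node 1 (.leaf
  6) (.leaf
  6))) (.node 2 (.node 1 (.leaf
  6) (.leaf
  5)) (.node 1 (.leaf
  5) (.node 1 (.leaf
  6) (.leaf
  5)))))) (.node 9 (.node 4 (.node 2 (.node 1 (.leaf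
  5) (.leaf
  4)) (.node 1 (.leaf
  7) (.leaf
  7))) (.node 2 (.node 1 (.leaf
  8) (.leaf
  7)) (.node 1 (.leaf
  8) (.node 1 (.leaf
  8) (.leaf
  8))))) (.node 4 (.node 2 (.node 1 (.leaf
  8) (.leaf
  7)) (.node 1 (.leaf
  7) (.leaf
  8))) (.node 2 (.node 1 (.leaf
  8) (.leaf
  8)) (.node 1 (.leaf
  8) (.node 1 (.leaf
  7) (.leaf
  8))))))))) (.node 72 (.node 36 (.node 18 (.node 9 (.node 4 (.node 2 (.node 1 (.leaf
  6) (.leaf
  7)) (.node 1 (.leaf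
  7) (.leaf
  7))) (.node 2 (.node 1 (.leaf
  7) (.leaf
  7)) (.node 1 (.leaf
  7) (.node 1 (.leaf
  7) (.leaf
  8))))) (.node 4 (.node 2 (.node 1 (.leaf
  7) (.leaf
  7)) (.node 1 (.leaf
  7) (.leaf
  7))) (.node 2 (.node 1 (.leaf
  8) (.leaf
  7)) (.node 1 (.leaf
  7) (.node 1 (.leaf
  5) (.leaf
  5)))))) (.node 9 (.node 4 (.node 2 (.node 1 (.leaf
  6) (.leaf
  6)) (.node 1 (.leaf
  5) (.leaf
  5))) (.node 2 (.node 1 (.leaf
  6) (.leaf
  6)) (.node 1 (.leaf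
  5) (.node 1 (.leaf
  5) (.leaf
  6))))) (.node 4 (.node 2 (.node 1 (.leaf
  6) (.leaf
  5)) (.node 1 (.leaf
  5) (.leaf
  4))) (.node 2 (.node 1 (.leaf
  4) (.leaf
  6)) (.node 1 (.leaf
  6) (.node 1 (.leaf
  6) (.leaf
  7))))))) (.node 18 (.node 9 (.node 4 (.node 2 (.node 1 (.leaf
  6) (.leaf
  7)) (.node 1 (.leaf
  6) (.leaf
  7))) (.node 2 (.node 1 (.leaf
  5) (.leaf
  5)) (.node 1 (.leaf
  6) (.node 1 (.leaf
  6) (.leaf
  5))))) (.node 4 (.node 2 (.node 1 (.leaf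
  6) (.leaf
  6)) (.node 1 (.leaf
  6) (.leaf
  8))) (.node 2 (.node 1 (.leaf
  7) (.leaf
  7)) (.node 1 (.leaf
  7) (.node 1 (.leaf
  7) (.leaf
  7)))))) (.node 9 (.node 4 (.node 2 (.node 1 (.leaf
  8) (.leaf
  8)) (.node 1 (.leaf
  7) (.leaf
  7))) (.node 2 (.node 1 (.leaf
  7) (.leaf
  8)) (.node 1 (.leaf
  6) (.node 1 (.leaf
  7) (.leaf
  7))))) (.node 4 (.node 2 (.node 1 (.leaf
  7) (.leaf
  7)) (.node 1 (.leaf
  7) (.leaf
  7))) (.node 2 (.node 1 (.leaf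
  8) (.leaf
  8)) (.node 1 (.leaf
  8) (.node 1 (.leaf
  7) (.leaf
  7)))))))) (.node 36 (.node 18 (.node 9 (.node 4 (.node 2 (.node 1 (.leaf
  8) (.leaf
  8)) (.node 1 (.leaf
  8) (.leaf
  8))) (.node 2 (.node 1 (.leaf
  8) (.leaf
  8)) (.node 1 (.leaf
  8) (.node 1 (.leaf
  8) (.leaf
  6))))) (.node 4 (.node 2 (.node 1 (.leaf
  6) (.leaf
  5)) (.node 1 (.leaf
  5) (.leaf
  7))) (.node 2 (.node 1 (.leaf
  6) (.leaf
  6)) (.node 1 (.leaf
  6) (.node 1 (.leaf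
  7) (.leaf
  6)))))) (.node 9 (.node 4 (.node 2 (.node 1 (.leaf
  6) (.leaf
  5)) (.node 1 (.leaf
  8) (.leaf
  7))) (.node 2 (.node 1 (.leaf
  7) (.leaf
  6)) (.node 1 (.leaf
  6) (.node 1 (.leaf
  6) (.leaf
  5))))) (.node 4 (.node 2 (.node 1 (.leaf
  6) (.leaf
  5)) (.node 1 (.leaf
  6) (.leaf
  6))) (.node 2 (.node 1 (.leaf
  6) (.leaf
  6)) (.node 1 (.leaf
  6) (.node 1 (.leaf
  5) (.leaf
  5))))))) (.node 18 (.node 9 (.node 4 (.node 2 (.node 1 (.leaf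
  6) (.leaf
  5)) (.node 1 (.leaf
  5) (.leaf
  4))) (.node 2 (.node 1 (.leaf
  7) (.leaf
  6)) (.node 1 (.leaf
  7) (.node 1 (.leaf
  6) (.leaf
  6))))) (.node 4 (.node 2 (.node 1 (.leaf
  6) (.leaf
  7)) (.node 1 (.leaf
  7) (.leaf
  7))) (.node 2 (.node 1 (.leaf
  6) (.leaf
  7)) (.node 1 (.leaf
  7) (.node 1 (.leaf
  8) (.leaf
  8)))))) (.node 9 (.node 4 (.node 2 (.node 1 (.leaf
  7) (.leaf
  7)) (.node 1 (.leaf
  3) (.leaf
  2))) (.node 2 (.node 1 (.leaf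
  4) (.leaf
  3)) (.node 1 (.leaf
  5) (.node 1 (.leaf
  4) (.leaf
  4))))) (.node 4 (.node 2 (.node 1 (.leaf
  3) (.leaf
  3)) (.node 1 (.leaf
  4) (.leaf
  4))) (.node 2 (.node 1 (.leaf
  5) (.leaf
  5)) (.node 1 (.leaf
  6) (.node 1 (.leaf
  4) (.leaf
  5))))))))))) (.node 288 (.node 144 (.node 72 (.node 36 (.node 18 (.node 9 (.node 4 (.node 2 (.node 1 (.leaf
  5) (.leaf
  6)) (.node 1 (.leaf
  4) (.leaf
  5))) (.node 2 (.node 1 (.leaf
  6) (.leaf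
  5)) (.node 1 (.leaf
  6) (.node 1 (.leaf
  5) (.leaf
  6))))) (.node 4 (.node 2 (.node 1 (.leaf
  5) (.leaf
  5)) (.node 1 (.leaf
  4) (.leaf
  5))) (.node 2 (.node 1 (.leaf
  6) (.leaf
  6)) (.node 1 (.leaf
  7) (.node 1 (.leaf
  5) (.leaf
  6)))))) (.node 9 (.node 4 (.node 2 (.node 1 (.leaf
  5) (.leaf
  6)) (.node 1 (.leaf
  6) (.leaf
  6))) (.node 2 (.node 1 (.leaf
  5) (.leaf
  6)) (.node 1 (.leaf
  4) (.node 1 (.leaf
  5) (.leaf
  5))))) (.node 4 (.node 2 (.node 1 (.leaf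
  6) (.leaf
  6)) (.node 1 (.leaf
  6) (.leaf
  5))) (.node 2 (.node 1 (.leaf
  5) (.leaf
  6)) (.node 1 (.leaf
  5) (.node 1 (.leaf
  7) (.leaf
  6))))))) (.node 18 (.node 9 (.node 4 (.node 2 (.node 1 (.leaf
  7) (.leaf
  6)) (.node 1 (.leaf
  7) (.leaf
  6))) (.node 2 (.node 1 (.leaf
  6) (.leaf
  7)) (.node 1 (.leaf
  5) (.node 1 (.leaf
  6) (.leaf
  7))))) (.node 4 (.node 2 (.node 1 (.leaf
  8) (.leaf
  6)) (.node 1 (.leaf
  7) (.leaf
  4))) (.node 2 (.node 1 (.leaf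
  3) (.leaf
  5)) (.node 1 (.leaf
  4) (.node 1 (.leaf
  4) (.leaf
  5)))))) (.node 9 (.node 4 (.node 2 (.node 1 (.leaf
  4) (.leaf
  5)) (.node 1 (.leaf
  4) (.leaf
  3))) (.node 2 (.node 1 (.leaf
  5) (.leaf
  4)) (.node 1 (.leaf
  4) (.node 1 (.leaf
  5) (.leaf
  5))))) (.node 4 (.node 2 (.node 1 (.leaf
  6) (.leaf
  7)) (.node 1 (.leaf
  6) (.leaf
  6))) (.node 2 (.node 1 (.leaf
  5) (.leaf
  6)) (.node 1 (.leaf
  7) (.node 1 (.leaf
  6) (.leaf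
  7)))))))) (.node 36 (.node 18 (.node 9 (.node 4 (.node 2 (.node 1 (.leaf
  6) (.leaf
  5)) (.node 1 (.leaf
  7) (.leaf
  6))) (.node 2 (.node 1 (.leaf
  6) (.leaf
  7)) (.node 1 (.leaf
  7) (.node 1 (.leaf
  6) (.leaf
  6))))) (.node 4 (.node 2 (.node 1 (.leaf
  6) (.leaf
  6)) (.node 1 (.leaf
  6) (.leaf
  6))) (.node 2 (.node 1 (.leaf
  6) (.leaf
  6)) (.node 1 (.leaf
  6) (.node 1 (.leaf
  6) (.leaf
  5)))))) (.node 9 (.node 4 (.node 2 (.node 1 (.leaf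
  5) (.leaf
  6)) (.node 1 (.leaf
  6) (.leaf
  6))) (.node 2 (.node 1 (.leaf
  5) (.leaf
  5)) (.node 1 (.leaf
  7) (.node 1 (.leaf
  6) (.leaf
  7))))) (.node 4 (.node 2 (.node 1 (.leaf
  6) (.leaf
  7)) (.node 1 (.leaf
  7) (.leaf
  8))) (.node 2 (.node 1 (.leaf
  7) (.leaf
  6)) (.node 1 (.leaf
  6) (.node 1 (.leaf
  7) (.leaf
  7))))))) (.node 18 (.node 9 (.node 4 (.node 2 (.node 1 (.leaf
  7) (.leaf
  7)) (.node 1 (.leaf
  7) (.leaf
  7))) (.node 2 (.node 1 (.leaf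
  3) (.leaf
  4)) (.node 1 (.leaf
  4) (.node 1 (.leaf
  5) (.leaf
  6))))) (.node 4 (.node 2 (.node 1 (.leaf
  5) (.leaf
  5)) (.node 1 (.leaf
  4) (.leaf
  5))) (.node 2 (.node 1 (.leaf
  4) (.leaf
  5)) (.node 1 (.leaf
  4) (.node 1 (.leaf
  5) (.leaf
  6)))))) (.node 9 (.node 4 (.node 2 (.node 1 (.leaf
  5) (.leaf
  6)) (.node 1 (.leaf
  7) (.leaf
  6))) (.node 2 (.node 1 (.leaf
  6) (.leaf
  5)) (.node 1 (.leaf
  7) (.node 1 (.leaf
  6) (.leaf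
  7))))) (.node 4 (.node 2 (.node 1 (.leaf
  7) (.leaf
  6)) (.node 1 (.leaf
  6) (.leaf
  7))) (.node 2 (.node 1 (.leaf
  7) (.leaf
  7)) (.node 1 (.leaf
  7) (.node 1 (.leaf
  7) (.leaf
  7))))))))) (.node 72 (.node 36 (.node 18 (.node 9 (.node 4 (.node 2 (.node 1 (.leaf
  6) (.leaf
  6)) (.node 1 (.leaf
  7) (.leaf
  7))) (.node 2 (.node 1 (.leaf
  6) (.leaf
  6)) (.node 1 (.leaf
  7) (.node 1 (.leaf
  7) (.leaf
  6))))) (.node 4 (.node 2 (.node 1 (.leaf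
  6) (.leaf
  6)) (.node 1 (.leaf
  6) (.leaf
  5))) (.node 2 (.node 1 (.leaf
  5) (.leaf
  6)) (.node 1 (.leaf
  6) (.node 1 (.leaf
  6) (.leaf
  7)))))) (.node 9 (.node 4 (.node 2 (.node 1 (.leaf
  7) (.leaf
  7)) (.node 1 (.leaf
  8) (.leaf
  7))) (.node 2 (.node 1 (.leaf
  7) (.leaf
  7)) (.node 1 (.leaf
  7) (.node 1 (.leaf
  7) (.leaf
  7))))) (.node 4 (.node 2 (.node 1 (.leaf
  7) (.leaf
  8)) (.node 1 (.leaf
  8) (.leaf
  8))) (.node 2 (.node 1 (.leaf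
  8) (.leaf
  4)) (.node 1 (.leaf
  5) (.node 1 (.leaf
  3) (.leaf
  4))))))) (.node 18 (.node 9 (.node 4 (.node 2 (.node 1 (.leaf
  5) (.leaf
  6)) (.node 1 (.leaf
  4) (.leaf
  5))) (.node 2 (.node 1 (.leaf
  4) (.leaf
  5)) (.node 1 (.leaf
  5) (.node 1 (.leaf
  6) (.leaf
  5))))) (.node 4 (.node 2 (.node 1 (.leaf
  6) (.leaf
  6)) (.node 1 (.leaf
  7) (.leaf
  3))) (.node 2 (.node 1 (.leaf
  4) (.leaf
  4)) (.node 1 (.leaf
  5) (.node 1 (.leaf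
  4) (.leaf
  5)))))) (.node 9 (.node 4 (.node 2 (.node 1 (.leaf
  5) (.leaf
  6)) (.node 1 (.leaf
  4) (.leaf
  5))) (.node 2 (.node 1 (.leaf
  5) (.leaf
  6)) (.node 1 (.leaf
  5) (.node 1 (.leaf
  6) (.leaf
  6))))) (.node 4 (.node 2 (.node 1 (.leaf
  7) (.leaf
  6)) (.node 1 (.leaf
  6) (.leaf
  5))) (.node 2 (.node 1 (.leaf
  5) (.leaf
  5)) (.node 1 (.leaf
  6) (.node 1 (.leaf
  4) (.leaf
  5)))))))) (.node 36 (.node 18 (.node 9 (.node 4 (.node 2 (.node 1 (.leaf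
  6) (.leaf
  6)) (.node 1 (.leaf
  5) (.leaf
  5))) (.node 2 (.node 1 (.leaf
  5) (.leaf
  5)) (.node 1 (.leaf
  6) (.node 1 (.leaf
  6) (.leaf
  7))))) (.node 4 (.node 2 (.node 1 (.leaf
  7) (.leaf
  7)) (.node 1 (.leaf
  6) (.leaf
  7))) (.node 2 (.node 1 (.leaf
  7) (.leaf
  7)) (.node 1 (.leaf
  6) (.node 1 (.leaf
  7) (.leaf
  7)))))) (.node 9 (.node 4 (.node 2 (.node 1 (.leaf
  6) (.leaf
  6)) (.node 1 (.leaf
  6) (.leaf
  5))) (.node 2 (.node 1 (.leaf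
  7) (.leaf
  6)) (.node 1 (.leaf
  7) (.node 1 (.leaf
  7) (.leaf
  6))))) (.node 4 (.node 2 (.node 1 (.leaf
  6) (.leaf
  7)) (.node 1 (.leaf
  7) (.leaf
  7))) (.node 2 (.node 1 (.leaf
  7) (.leaf
  7)) (.node 1 (.leaf
  7) (.node 1 (.leaf
  7) (.leaf
  6))))))) (.node 18 (.node 9 (.node 4 (.node 2 (.node 1 (.leaf
  8) (.leaf
  7)) (.node 1 (.leaf
  8) (.leaf
  8))) (.node 2 (.node 1 (.leaf
  4) (.leaf
  5)) (.node 1 (.leaf
  5) (.node 1 (.leaf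
  5) (.leaf
  5))))) (.node 4 (.node 2 (.node 1 (.leaf
  5) (.leaf
  6)) (.node 1 (.leaf
  5) (.leaf
  5))) (.node 2 (.node 1 (.leaf
  4) (.leaf
  6)) (.node 1 (.leaf
  5) (.node 1 (.leaf
  6) (.leaf
  6)))))) (.node 9 (.node 4 (.node 2 (.node 1 (.leaf
  5) (.leaf
  5)) (.node 1 (.leaf
  6) (.leaf
  6))) (.node 2 (.node 1 (.leaf
  7) (.leaf
  6)) (.node 1 (.leaf
  6) (.node 1 (.leaf
  6) (.leaf
  5))))) (.node 4 (.node 2 (.node 1 (.leaf
  5) (.leaf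
  6)) (.node 1 (.leaf
  5) (.leaf
  6))) (.node 2 (.node 1 (.leaf
  6) (.leaf
  6)) (.node 1 (.leaf
  6) (.node 1 (.leaf
  6) (.leaf
  6)))))))))) (.node 144 (.node 72 (.node 36 (.node 18 (.node 9 (.node 4 (.node 2 (.node 1 (.leaf
  6) (.leaf
  6)) (.node 1 (.leaf
  6) (.leaf
  6))) (.node 2 (.node 1 (.leaf
  6) (.leaf
  6)) (.node 1 (.leaf
  7) (.node 1 (.leaf
  7) (.leaf
  5))))) (.node 4 (.node 2 (.node 1 (.leaf
  5) (.leaf
  6)) (.node 1 (.leaf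
  6) (.leaf
  6))) (.node 2 (.node 1 (.leaf
  6) (.leaf
  7)) (.node 1 (.leaf
  7) (.node 1 (.leaf
  7) (.leaf
  6)))))) (.node 9 (.node 4 (.node 2 (.node 1 (.leaf
  6) (.leaf
  5)) (.node 1 (.leaf
  6) (.leaf
  7))) (.node 2 (.node 1 (.leaf
  6) (.leaf
  7)) (.node 1 (.leaf
  6) (.node 1 (.leaf
  6) (.leaf
  6))))) (.node 4 (.node 2 (.node 1 (.leaf
  5) (.leaf
  7)) (.node 1 (.leaf
  7) (.leaf
  6))) (.node 2 (.node 1 (.leaf
  7) (.leaf
  4)) (.node 1 (.leaf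
  4) (.node 1 (.leaf
  5) (.leaf
  5))))))) (.node 18 (.node 9 (.node 4 (.node 2 (.node 1 (.leaf
  5) (.leaf
  5)) (.node 1 (.leaf
  6) (.leaf
  6))) (.node 2 (.node 1 (.leaf
  5) (.leaf
  5)) (.node 1 (.leaf
  5) (.node 1 (.leaf
  5) (.leaf
  6))))) (.node 4 (.node 2 (.node 1 (.leaf
  6) (.leaf
  6)) (.node 1 (.leaf
  6) (.leaf
  7))) (.node 2 (.node 1 (.leaf
  7) (.leaf
  6)) (.node 1 (.leaf
  6) (.node 1 (.leaf
  6) (.leaf
  6)))))) (.node 9 (.node 4 (.node 2 (.node 1 (.leaf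
  5) (.leaf
  5)) (.node 1 (.leaf
  6) (.leaf
  6))) (.node 2 (.node 1 (.leaf
  7) (.leaf
  6)) (.node 1 (.leaf
  7) (.node 1 (.leaf
  7) (.leaf
  6))))) (.node 4 (.node 2 (.node 1 (.leaf
  6) (.leaf
  7)) (.node 1 (.leaf
  7) (.leaf
  7))) (.node 2 (.node 1 (.leaf
  7) (.leaf
  7)) (.node 1 (.leaf
  7) (.node 1 (.leaf
  7) (.leaf
  7)))))))) (.node 36 (.node 18 (.node 9 (.node 4 (.node 2 (.node 1 (.leaf
  6) (.leaf
  6)) (.node 1 (.leaf
  6) (.leaf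
  7))) (.node 2 (.node 1 (.leaf
  6) (.leaf
  6)) (.node 1 (.leaf
  7) (.node 1 (.leaf
  7) (.leaf
  7))))) (.node 4 (.node 2 (.node 1 (.leaf
  7) (.leaf
  6)) (.node 1 (.leaf
  6) (.leaf
  7))) (.node 2 (.node 1 (.leaf
  7) (.leaf
  7)) (.node 1 (.leaf
  7) (.node 1 (.leaf
  6) (.leaf
  6)))))) (.node 9 (.node 4 (.node 2 (.node 1 (.leaf
  7) (.leaf
  7)) (.node 1 (.leaf
  8) (.leaf
  7))) (.node 2 (.node 1 (.leaf
  7) (.leaf
  7)) (.node 1 (.leaf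
  5) (.node 1 (.leaf
  5) (.leaf
  4))))) (.node 4 (.node 2 (.node 1 (.leaf
  4) (.leaf
  5)) (.node 1 (.leaf
  5) (.leaf
  6))) (.node 2 (.node 1 (.leaf
  6) (.leaf
  5)) (.node 1 (.leaf
  5) (.node 1 (.leaf
  6) (.leaf
  5))))))) (.node 18 (.node 9 (.node 4 (.node 2 (.node 1 (.leaf
  6) (.leaf
  6)) (.node 1 (.leaf
  6) (.leaf
  6))) (.node 2 (.node 1 (.leaf
  6) (.leaf
  6)) (.node 1 (.leaf
  6) (.node 1 (.leaf
  6) (.leaf
  5))))) (.node 4 (.node 2 (.node 1 (.leaf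
  5) (.leaf
  6)) (.node 1 (.leaf
  6) (.leaf
  5))) (.node 2 (.node 1 (.leaf
  6) (.leaf
  6)) (.node 1 (.leaf
  7) (.node 1 (.leaf
  6) (.leaf
  6)))))) (.node 9 (.node 4 (.node 2 (.node 1 (.leaf
  6) (.leaf
  6)) (.node 1 (.leaf
  7) (.leaf
  7))) (.node 2 (.node 1 (.leaf
  7) (.leaf
  7)) (.node 1 (.leaf
  8) (.node 1 (.leaf
  8) (.leaf
  7))))) (.node 4 (.node 2 (.node 1 (.leaf
  7) (.leaf
  6)) (.node 1 (.leaf
  6) (.leaf
  7))) (.node 2 (.node 1 (.leaf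
  7) (.leaf
  7)) (.node 1 (.leaf
  7) (.node 1 (.leaf
  6) (.leaf
  6))))))))) (.node 72 (.node 36 (.node 18 (.node 9 (.node 4 (.node 2 (.node 1 (.leaf
  6) (.leaf
  7)) (.node 1 (.leaf
  6) (.leaf
  7))) (.node 2 (.node 1 (.leaf
  6) (.leaf
  7)) (.node 1 (.leaf
  7) (.node 1 (.leaf
  7) (.leaf
  6))))) (.node 4 (.node 2 (.node 1 (.leaf
  7) (.leaf
  6)) (.node 1 (.leaf
  7) (.leaf
  7))) (.node 2 (.node 1 (.leaf
  7) (.leaf
  7)) (.node 1 (.leaf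
  7) (.node 1 (.leaf
  2) (.leaf
  3)))))) (.node 9 (.node 4 (.node 2 (.node 1 (.leaf
  3) (.leaf
  4)) (.node 1 (.leaf
  3) (.leaf
  4))) (.node 2 (.node 1 (.leaf
  4) (.leaf
  5)) (.node 1 (.leaf
  3) (.node 1 (.leaf
  4) (.leaf
  4))))) (.node 4 (.node 2 (.node 1 (.leaf
  5) (.leaf
  4)) (.node 1 (.leaf
  5) (.leaf
  5))) (.node 2 (.node 1 (.leaf
  6) (.leaf
  3)) (.node 1 (.leaf
  4) (.node 1 (.leaf
  4) (.leaf
  5))))))) (.node 18 (.node 9 (.node 4 (.node 2 (.node 1 (.leaf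
  5) (.leaf
  4)) (.node 1 (.leaf
  6) (.leaf
  5))) (.node 2 (.node 1 (.leaf
  5) (.leaf
  4)) (.node 1 (.leaf
  5) (.node 1 (.leaf
  4) (.leaf
  5))))) (.node 4 (.node 2 (.node 1 (.leaf
  6) (.leaf
  5)) (.node 1 (.leaf
  6) (.leaf
  5))) (.node 2 (.node 1 (.leaf
  6) (.leaf
  4)) (.node 1 (.leaf
  5) (.node 1 (.leaf
  6) (.leaf
  5)))))) (.node 9 (.node 4 (.node 2 (.node 1 (.leaf
  6) (.leaf
  5)) (.node 1 (.leaf
  4) (.leaf
  5))) (.node 2 (.node 1 (.leaf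
  5) (.leaf
  6)) (.node 1 (.leaf
  7) (.node 1 (.leaf
  6) (.leaf
  6))))) (.node 4 (.node 2 (.node 1 (.leaf
  5) (.leaf
  4)) (.node 1 (.leaf
  5) (.leaf
  3))) (.node 2 (.node 1 (.leaf
  4) (.leaf
  4)) (.node 1 (.leaf
  5) (.node 1 (.leaf
  4) (.leaf
  5)))))))) (.node 36 (.node 18 (.node 9 (.node 4 (.node 2 (.node 1 (.leaf
  5) (.leaf
  4)) (.node 1 (.leaf
  4) (.leaf
  3))) (.node 2 (.node 1 (.leaf
  5) (.leaf
  4)) (.node 1 (.leaf
  6) (.node 1 (.leaf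
  5) (.leaf
  3))))) (.node 4 (.node 2 (.node 1 (.leaf
  4) (.leaf
  4)) (.node 1 (.leaf
  5) (.leaf
  6))) (.node 2 (.node 1 (.leaf
  5) (.leaf
  5)) (.node 1 (.leaf
  4) (.node 1 (.leaf
  5) (.leaf
  4)))))) (.node 9 (.node 4 (.node 2 (.node 1 (.leaf
  6) (.leaf
  5)) (.node 1 (.leaf
  6) (.leaf
  7))) (.node 2 (.node 1 (.leaf
  5) (.leaf
  6)) (.node 1 (.leaf
  4) (.node 1 (.leaf
  5) (.leaf
  5))))) (.node 4 (.node 2 (.node 1 (.leaf
  6) (.leaf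
  6)) (.node 1 (.leaf
  7) (.leaf
  5))) (.node 2 (.node 1 (.leaf
  6) (.leaf
  6)) (.node 1 (.leaf
  7) (.node 1 (.leaf
  5) (.leaf
  6))))))) (.node 18 (.node 9 (.node 4 (.node 2 (.node 1 (.leaf
  6) (.leaf
  7)) (.node 1 (.leaf
  7) (.leaf
  7))) (.node 2 (.node 1 (.leaf
  6) (.leaf
  7)) (.node 1 (.leaf
  5) (.node 1 (.leaf
  6) (.leaf
  7))))) (.node 4 (.node 2 (.node 1 (.leaf
  7) (.leaf
  6)) (.node 1 (.leaf
  7) (.leaf
  6))) (.node 2 (.node 1 (.leaf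
  6) (.leaf
  7)) (.node 1 (.leaf
  7) (.node 1 (.leaf
  7) (.leaf
  7)))))) (.node 9 (.node 4 (.node 2 (.node 1 (.leaf
  8) (.leaf
  8)) (.node 1 (.leaf
  5) (.leaf
  6))) (.node 2 (.node 1 (.leaf
  4) (.leaf
  5)) (.node 1 (.leaf
  7) (.node 1 (.leaf
  6) (.leaf
  6))))) (.node 4 (.node 2 (.node 1 (.leaf
  5) (.leaf
  6)) (.node 1 (.leaf
  7) (.leaf
  5))) (.node 2 (.node 1 (.leaf
  6) (.leaf
  8)) (.node 1 (.leaf
  7) (.node 1 (.leaf
  7) (.leaf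
  6)))))))))))) (.node 576 (.node 288 (.node 144 (.node 72 (.node 36 (.node 18 (.node 9 (.node 4 (.node 2 (.node 1 (.leaf
  4) (.leaf
  3)) (.node 1 (.leaf
  5) (.leaf
  4))) (.node 2 (.node 1 (.leaf
  4) (.leaf
  5)) (.node 1 (.leaf
  5) (.node 1 (.leaf
  6) (.leaf
  6))))) (.node 4 (.node 2 (.node 1 (.leaf
  5) (.leaf
  5)) (.node 1 (.leaf
  4) (.leaf
  6))) (.node 2 (.node 1 (.leaf
  6) (.leaf
  5)) (.node 1 (.leaf
  6) (.node 1 (.leaf
  5) (.leaf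
  4)))))) (.node 9 (.node 4 (.node 2 (.node 1 (.leaf
  6) (.leaf
  5)) (.node 1 (.leaf
  6) (.leaf
  5))) (.node 2 (.node 1 (.leaf
  7) (.leaf
  6)) (.node 1 (.leaf
  5) (.node 1 (.leaf
  6) (.leaf
  6))))) (.node 4 (.node 2 (.node 1 (.leaf
  7) (.leaf
  6)) (.node 1 (.leaf
  6) (.leaf
  7))) (.node 2 (.node 1 (.leaf
  7) (.leaf
  7)) (.node 1 (.leaf
  6) (.node 1 (.leaf
  6) (.leaf
  5))))))) (.node 18 (.node 9 (.node 4 (.node 2 (.node 1 (.leaf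
  7) (.leaf
  6)) (.node 1 (.leaf
  7) (.leaf
  7))) (.node 2 (.node 1 (.leaf
  7) (.leaf
  7)) (.node 1 (.leaf
  7) (.node 1 (.leaf
  6) (.leaf
  7))))) (.node 4 (.node 2 (.node 1 (.leaf
  7) (.leaf
  6)) (.node 1 (.leaf
  6) (.leaf
  6))) (.node 2 (.node 1 (.leaf
  5) (.leaf
  5)) (.node 1 (.leaf
  4) (.node 1 (.leaf
  5) (.leaf
  6)))))) (.node 9 (.node 4 (.node 2 (.node 1 (.leaf
  6) (.leaf
  7)) (.node 1 (.leaf
  5) (.leaf
  6))) (.node 2 (.node 1 (.leaf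
  6) (.leaf
  6)) (.node 1 (.leaf
  6) (.node 1 (.leaf
  5) (.leaf
  7))))) (.node 4 (.node 2 (.node 1 (.leaf
  6) (.leaf
  5)) (.node 1 (.leaf
  4) (.leaf
  6))) (.node 2 (.node 1 (.leaf
  5) (.leaf
  7)) (.node 1 (.leaf
  6) (.node 1 (.leaf
  6) (.leaf
  5)))))))) (.node 36 (.node 18 (.node 9 (.node 4 (.node 2 (.node 1 (.leaf
  6) (.leaf
  7)) (.node 1 (.leaf
  5) (.leaf
  6))) (.node 2 (.node 1 (.leaf
  6) (.leaf
  7)) (.node 1 (.leaf
  7) (.node 1 (.leaf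
  6) (.leaf
  6))))) (.node 4 (.node 2 (.node 1 (.leaf
  5) (.leaf
  6)) (.node 1 (.leaf
  6) (.leaf
  7))) (.node 2 (.node 1 (.leaf
  7) (.leaf
  6)) (.node 1 (.leaf
  6) (.node 1 (.leaf
  7) (.leaf
  6)))))) (.node 9 (.node 4 (.node 2 (.node 1 (.leaf
  6) (.leaf
  5)) (.node 1 (.leaf
  6) (.leaf
  6))) (.node 2 (.node 1 (.leaf
  7) (.leaf
  7)) (.node 1 (.leaf
  6) (.node 1 (.leaf
  7) (.leaf
  7))))) (.node 4 (.node 2 (.node 1 (.leaf
  6) (.leaf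
  7)) (.node 1 (.leaf
  7) (.leaf
  7))) (.node 2 (.node 1 (.leaf
  7) (.leaf
  6)) (.node 1 (.leaf
  6) (.node 1 (.leaf
  7) (.leaf
  7))))))) (.node 18 (.node 9 (.node 4 (.node 2 (.node 1 (.leaf
  7) (.leaf
  7)) (.node 1 (.leaf
  7) (.leaf
  7))) (.node 2 (.node 1 (.leaf
  7) (.leaf
  6)) (.node 1 (.leaf
  6) (.node 1 (.leaf
  5) (.leaf
  7))))) (.node 4 (.node 2 (.node 1 (.leaf
  7) (.leaf
  7)) (.node 1 (.leaf
  6) (.leaf
  7))) (.node 2 (.node 1 (.leaf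
  6) (.leaf
  7)) (.node 1 (.leaf
  7) (.node 1 (.leaf
  7) (.leaf
  7)))))) (.node 9 (.node 4 (.node 2 (.node 1 (.leaf
  7) (.leaf
  7)) (.node 1 (.leaf
  7) (.leaf
  7))) (.node 2 (.node 1 (.leaf
  7) (.leaf
  7)) (.node 1 (.leaf
  7) (.node 1 (.leaf
  7) (.leaf
  7))))) (.node 4 (.node 2 (.node 1 (.leaf
  7) (.leaf
  6)) (.node 1 (.leaf
  6) (.leaf
  7))) (.node 2 (.node 1 (.leaf
  7) (.leaf
  6)) (.node 1 (.leaf
  6) (.node 1 (.leaf
  7) (.leaf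
  7))))))))) (.node 72 (.node 36 (.node 18 (.node 9 (.node 4 (.node 2 (.node 1 (.leaf
  4) (.leaf
  4)) (.node 1 (.leaf
  3) (.leaf
  4))) (.node 2 (.node 1 (.leaf
  3) (.leaf
  4)) (.node 1 (.leaf
  4) (.node 1 (.leaf
  4) (.leaf
  3))))) (.node 4 (.node 2 (.node 1 (.leaf
  2) (.leaf
  4)) (.node 1 (.leaf
  3) (.leaf
  3))) (.node 2 (.node 1 (.leaf
  3) (.leaf
  4)) (.node 1 (.leaf
  4) (.node 1 (.leaf
  7) (.leaf
  6)))))) (.node 9 (.node 4 (.node 2 (.node 1 (.leaf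
  7) (.leaf
  7)) (.node 1 (.leaf
  7) (.leaf
  7))) (.node 2 (.node 1 (.leaf
  7) (.leaf
  7)) (.node 1 (.leaf
  7) (.node 1 (.leaf
  6) (.leaf
  7))))) (.node 4 (.node 2 (.node 1 (.leaf
  6) (.leaf
  7)) (.node 1 (.leaf
  7) (.leaf
  7))) (.node 2 (.node 1 (.leaf
  7) (.leaf
  7)) (.node 1 (.leaf
  7) (.node 1 (.leaf
  6) (.leaf
  6))))))) (.node 18 (.node 9 (.node 4 (.node 2 (.node 1 (.leaf
  7) (.leaf
  7)) (.node 1 (.leaf
  7) (.leaf
  7))) (.node 2 (.node 1 (.leaf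
  6) (.leaf
  7)) (.node 1 (.leaf
  7) (.node 1 (.leaf
  7) (.leaf
  7))))) (.node 4 (.node 2 (.node 1 (.leaf
  7) (.leaf
  7)) (.node 1 (.leaf
  7) (.leaf
  8))) (.node 2 (.node 1 (.leaf
  8) (.leaf
  8)) (.node 1 (.leaf
  8) (.node 1 (.leaf
  8) (.leaf
  8)))))) (.node 9 (.node 4 (.node 2 (.node 1 (.leaf
  8) (.leaf
  8)) (.node 1 (.leaf
  7) (.leaf
  7))) (.node 2 (.node 1 (.leaf
  8) (.leaf
  8)) (.node 1 (.leaf
  7) (.node 1 (.leaf
  8) (.leaf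
  7))))) (.node 4 (.node 2 (.node 1 (.leaf
  8) (.leaf
  6)) (.node 1 (.leaf
  7) (.leaf
  6))) (.node 2 (.node 1 (.leaf
  7) (.leaf
  6)) (.node 1 (.leaf
  6) (.node 1 (.leaf
  7) (.leaf
  7)))))))) (.node 36 (.node 18 (.node 9 (.node 4 (.node 2 (.node 1 (.leaf
  6) (.leaf
  6)) (.node 1 (.leaf
  6) (.leaf
  6))) (.node 2 (.node 1 (.leaf
  6) (.leaf
  6)) (.node 1 (.leaf
  6) (.node 1 (.leaf
  5) (.leaf
  6))))) (.node 4 (.node 2 (.node 1 (.leaf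
  6) (.leaf
  5)) (.node 1 (.leaf
  5) (.leaf
  5))) (.node 2 (.node 1 (.leaf
  5) (.leaf
  6)) (.node 1 (.leaf
  6) (.node 1 (.leaf
  4) (.leaf
  5)))))) (.node 9 (.node 4 (.node 2 (.node 1 (.leaf
  5) (.leaf
  6)) (.node 1 (.leaf
  5) (.leaf
  5))) (.node 2 (.node 1 (.leaf
  6) (.leaf
  6)) (.node 1 (.leaf
  6) (.node 1 (.leaf
  6) (.leaf
  7))))) (.node 4 (.node 2 (.node 1 (.leaf
  7) (.leaf
  7)) (.node 1 (.leaf
  7) (.leaf
  8))) (.node 2 (.node 1 (.leaf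
  8) (.leaf
  7)) (.node 1 (.leaf
  7) (.node 1 (.leaf
  7) (.leaf
  7))))))) (.node 18 (.node 9 (.node 4 (.node 2 (.node 1 (.leaf
  7) (.leaf
  7)) (.node 1 (.leaf
  7) (.leaf
  8))) (.node 2 (.node 1 (.leaf
  7) (.leaf
  7)) (.node 1 (.leaf
  8) (.node 1 (.leaf
  8) (.leaf
  8))))) (.node 4 (.node 2 (.node 1 (.leaf
  8) (.leaf
  7)) (.node 1 (.leaf
  7) (.leaf
  7))) (.node 2 (.node 1 (.leaf
  7) (.leaf
  7)) (.node 1 (.leaf
  6) (.node 1 (.leaf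
  7) (.leaf
  7)))))) (.node 9 (.node 4 (.node 2 (.node 1 (.leaf
  7) (.leaf
  7)) (.node 1 (.leaf
  6) (.leaf
  6))) (.node 2 (.node 1 (.leaf
  6) (.leaf
  5)) (.node 1 (.leaf
  5) (.node 1 (.leaf
  6) (.leaf
  5))))) (.node 4 (.node 2 (.node 1 (.leaf
  6) (.leaf
  5)) (.node 1 (.leaf
  5) (.leaf
  6))) (.node 2 (.node 1 (.leaf
  6) (.leaf
  5)) (.node 1 (.leaf
  4) (.node 1 (.leaf
  6) (.leaf
  5)))))))))) (.node 144 (.node 72 (.node 36 (.node 18 (.node 9 (.node 4 (.node 2 (.node 1 (.leaf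
  7) (.leaf
  7)) (.node 1 (.leaf
  7) (.leaf
  7))) (.node 2 (.node 1 (.leaf
  7) (.leaf
  8)) (.node 1 (.leaf
  6) (.node 1 (.leaf
  7) (.leaf
  8))))) (.node 4 (.node 2 (.node 1 (.leaf
  8) (.leaf
  7)) (.node 1 (.leaf
  7) (.leaf
  8))) (.node 2 (.node 1 (.leaf
  7) (.leaf
  7)) (.node 1 (.leaf
  7) (.node 1 (.leaf
  6) (.leaf
  7)))))) (.node 9 (.node 4 (.node 2 (.node 1 (.leaf
  5) (.leaf
  6)) (.node 1 (.leaf
  7) (.leaf
  6))) (.node 2 (.node 1 (.leaf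
  6) (.leaf
  6)) (.node 1 (.leaf
  6) (.node 1 (.leaf
  6) (.leaf
  7))))) (.node 4 (.node 2 (.node 1 (.leaf
  7) (.leaf
  7)) (.node 1 (.leaf
  7) (.leaf
  6))) (.node 2 (.node 1 (.leaf
  6) (.leaf
  8)) (.node 1 (.leaf
  8) (.node 1 (.leaf
  7) (.leaf
  7))))))) (.node 18 (.node 9 (.node 4 (.node 2 (.node 1 (.leaf
  8) (.leaf
  8)) (.node 1 (.leaf
  8) (.leaf
  8))) (.node 2 (.node 1 (.leaf
  7) (.leaf
  7)) (.node 1 (.leaf
  7) (.node 1 (.leaf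
  8) (.leaf
  8))))) (.node 4 (.node 2 (.node 1 (.leaf
  8) (.leaf
  7)) (.node 1 (.leaf
  8) (.leaf
  7))) (.node 2 (.node 1 (.leaf
  6) (.leaf
  7)) (.node 1 (.leaf
  7) (.node 1 (.leaf
  7) (.leaf
  6)))))) (.node 9 (.node 4 (.node 2 (.node 1 (.leaf
  6) (.leaf
  7)) (.node 1 (.leaf
  7) (.leaf
  6))) (.node 2 (.node 1 (.leaf
  6) (.leaf
  6)) (.node 1 (.leaf
  6) (.node 1 (.leaf
  5) (.leaf
  6))))) (.node 4 (.node 2 (.node 1 (.leaf
  6) (.leaf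
  8)) (.node 1 (.leaf
  8) (.leaf
  8))) (.node 2 (.node 1 (.leaf
  8) (.leaf
  8)) (.node 1 (.leaf
  8) (.node 1 (.leaf
  7) (.leaf
  7)))))))) (.node 36 (.node 18 (.node 9 (.node 4 (.node 2 (.node 1 (.leaf
  7) (.leaf
  7)) (.node 1 (.leaf
  8) (.leaf
  7))) (.node 2 (.node 1 (.leaf
  7) (.leaf
  8)) (.node 1 (.leaf
  8) (.node 1 (.leaf
  8) (.leaf
  5))))) (.node 4 (.node 2 (.node 1 (.leaf
  5) (.leaf
  4)) (.node 1 (.leaf
  4) (.leaf
  4))) (.node 2 (.node 1 (.leaf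
  4) (.leaf
  5)) (.node 1 (.leaf
  5) (.node 1 (.leaf
  3) (.leaf
  4)))))) (.node 9 (.node 4 (.node 2 (.node 1 (.leaf
  4) (.leaf
  5)) (.node 1 (.leaf
  4) (.leaf
  4))) (.node 2 (.node 1 (.leaf
  5) (.leaf
  5)) (.node 1 (.leaf
  7) (.node 1 (.leaf
  7) (.leaf
  7))))) (.node 4 (.node 2 (.node 1 (.leaf
  7) (.leaf
  7)) (.node 1 (.leaf
  7) (.leaf
  7))) (.node 2 (.node 1 (.leaf
  7) (.leaf
  6)) (.node 1 (.leaf
  6) (.node 1 (.leaf
  7) (.leaf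
  7))))))) (.node 18 (.node 9 (.node 4 (.node 2 (.node 1 (.leaf
  6) (.leaf
  7)) (.node 1 (.leaf
  6) (.leaf
  7))) (.node 2 (.node 1 (.leaf
  8) (.leaf
  8)) (.node 1 (.leaf
  7) (.node 1 (.leaf
  7) (.leaf
  7))))) (.node 4 (.node 2 (.node 1 (.leaf
  7) (.leaf
  8)) (.node 1 (.leaf
  8) (.leaf
  6))) (.node 2 (.node 1 (.leaf
  6) (.leaf
  7)) (.node 1 (.leaf
  7) (.node 1 (.leaf
  7) (.leaf
  7)))))) (.node 9 (.node 4 (.node 2 (.node 1 (.leaf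
  7) (.leaf
  7)) (.node 1 (.leaf
  7) (.leaf
  8))) (.node 2 (.node 1 (.leaf
  7) (.leaf
  8)) (.node 1 (.leaf
  7) (.node 1 (.leaf
  8) (.leaf
  7))))) (.node 4 (.node 2 (.node 1 (.leaf
  7) (.leaf
  6)) (.node 1 (.leaf
  7) (.leaf
  6))) (.node 2 (.node 1 (.leaf
  7) (.leaf
  6)) (.node 1 (.leaf
  6) (.node 1 (.leaf
  7) (.leaf
  7))))))))) (.node 72 (.node 36 (.node 18 (.node 9 (.node 4 (.node 2 (.node 1 (.leaf
  6) (.leaf
  6)) (.node 1 (.leaf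
  7) (.leaf
  7))) (.node 2 (.node 1 (.leaf
  6) (.leaf
  6)) (.node 1 (.leaf
  7) (.node 1 (.leaf
  7) (.leaf
  5))))) (.node 4 (.node 2 (.node 1 (.leaf
  5) (.leaf
  6)) (.node 1 (.leaf
  6) (.leaf
  7))) (.node 2 (.node 1 (.leaf
  6) (.leaf
  6)) (.node 1 (.leaf
  6) (.node 1 (.leaf
  5) (.leaf
  5)))))) (.node 9 (.node 4 (.node 2 (.node 1 (.leaf
  6) (.leaf
  6)) (.node 1 (.leaf
  6) (.leaf
  5))) (.node 2 (.node 1 (.leaf
  5) (.leaf
  4)) (.node 1 (.leaf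
  6) (.node 1 (.leaf
  6) (.leaf
  5))))) (.node 4 (.node 2 (.node 1 (.leaf
  5) (.leaf
  6)) (.node 1 (.leaf
  6) (.leaf
  5))) (.node 2 (.node 1 (.leaf
  6) (.leaf
  6)) (.node 1 (.leaf
  6) (.node 1 (.leaf
  7) (.leaf
  7))))))) (.node 18 (.node 9 (.node 4 (.node 2 (.node 1 (.leaf
  6) (.leaf
  6)) (.node 1 (.leaf
  6) (.leaf
  5))) (.node 2 (.node 1 (.leaf
  6) (.leaf
  6)) (.node 1 (.leaf
  6) (.node 1 (.leaf
  6) (.leaf
  7))))) (.node 4 (.node 2 (.node 1 (.leaf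
  6) (.leaf
  6)) (.node 1 (.leaf
  6) (.leaf
  6))) (.node 2 (.node 1 (.leaf
  7) (.leaf
  6)) (.node 1 (.leaf
  6) (.node 1 (.leaf
  6) (.leaf
  6)))))) (.node 9 (.node 4 (.node 2 (.node 1 (.leaf
  5) (.leaf
  5)) (.node 1 (.leaf
  6) (.leaf
  6))) (.node 2 (.node 1 (.leaf
  6) (.leaf
  5)) (.node 1 (.leaf
  6) (.node 1 (.leaf
  6) (.leaf
  6))))) (.node 4 (.node 2 (.node 1 (.leaf
  6) (.leaf
  6)) (.node 1 (.leaf
  6) (.leaf
  6))) (.node 2 (.node 1 (.leaf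
  6) (.leaf
  6)) (.node 1 (.leaf
  5) (.node 1 (.leaf
  6) (.leaf
  6)))))))) (.node 36 (.node 18 (.node 9 (.node 4 (.node 2 (.node 1 (.leaf
  6) (.leaf
  6)) (.node 1 (.leaf
  5) (.leaf
  5))) (.node 2 (.node 1 (.leaf
  6) (.leaf
  5)) (.node 1 (.leaf
  6) (.node 1 (.leaf
  6) (.leaf
  7))))) (.node 4 (.node 2 (.node 1 (.leaf
  7) (.leaf
  8)) (.node 1 (.leaf
  8) (.leaf
  7))) (.node 2 (.node 1 (.leaf
  7) (.leaf
  7)) (.node 1 (.leaf
  7) (.node 1 (.leaf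
  7) (.leaf
  7)))))) (.node 9 (.node 4 (.node 2 (.node 1 (.leaf
  6) (.leaf
  6)) (.node 1 (.leaf
  7) (.leaf
  8))) (.node 2 (.node 1 (.leaf
  7) (.leaf
  7)) (.node 1 (.leaf
  8) (.node 1 (.leaf
  8) (.leaf
  7))))) (.node 4 (.node 2 (.node 1 (.leaf
  7) (.leaf
  7)) (.node 1 (.leaf
  7) (.leaf
  7))) (.node 2 (.node 1 (.leaf
  7) (.leaf
  7)) (.node 1 (.leaf
  7) (.node 1 (.leaf
  6) (.leaf
  6))))))) (.node 18 (.node 9 (.node 4 (.node 2 (.node 1 (.leaf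
  8) (.leaf
  7)) (.node 1 (.leaf
  7) (.leaf
  7))) (.node 2 (.node 1 (.leaf
  7) (.leaf
  7)) (.node 1 (.leaf
  7) (.node 1 (.leaf
  7) (.leaf
  6))))) (.node 4 (.node 2 (.node 1 (.leaf
  7) (.leaf
  6)) (.node 1 (.leaf
  7) (.leaf
  6))) (.node 2 (.node 1 (.leaf
  6) (.leaf
  7)) (.node 1 (.leaf
  6) (.node 1 (.leaf
  7) (.leaf
  7)))))) (.node 9 (.node 4 (.node 2 (.node 1 (.leaf
  6) (.leaf
  7)) (.node 1 (.leaf
  6) (.leaf
  6))) (.node 2 (.node 1 (.leaf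
  7) (.leaf
  7)) (.node 1 (.leaf
  6) (.node 1 (.leaf
  6) (.leaf
  7))))) (.node 4 (.node 2 (.node 1 (.leaf
  7) (.leaf
  6)) (.node 1 (.leaf
  6) (.leaf
  5))) (.node 2 (.node 1 (.leaf
  5) (.leaf
  6)) (.node 1 (.leaf
  6) (.node 1 (.leaf
  7) (.leaf
  7))))))))))) (.node 288 (.node 144 (.node 72 (.node 36 (.node 18 (.node 9 (.node 4 (.node 2 (.node 1 (.leaf
  6) (.leaf
  5)) (.node 1 (.leaf
  7) (.leaf
  6))) (.node 2 (.node 1 (.leaf
  6) (.leaf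
  6)) (.node 1 (.leaf
  6) (.node 1 (.leaf
  6) (.leaf
  6))))) (.node 4 (.node 2 (.node 1 (.leaf
  6) (.leaf
  5)) (.node 1 (.leaf
  5) (.leaf
  6))) (.node 2 (.node 1 (.leaf
  6) (.leaf
  6)) (.node 1 (.leaf
  6) (.node 1 (.leaf
  6) (.leaf
  6)))))) (.node 9 (.node 4 (.node 2 (.node 1 (.leaf
  6) (.leaf
  6)) (.node 1 (.leaf
  6) (.leaf
  7))) (.node 2 (.node 1 (.leaf
  5) (.leaf
  6)) (.node 1 (.leaf
  6) (.node 1 (.leaf
  6) (.leaf
  5))))) (.node 4 (.node 2 (.node 1 (.leaf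
  5) (.leaf
  6)) (.node 1 (.leaf
  6) (.leaf
  6))) (.node 2 (.node 1 (.leaf
  6) (.leaf
  6)) (.node 1 (.leaf
  6) (.node 1 (.leaf
  6) (.leaf
  6))))))) (.node 18 (.node 9 (.node 4 (.node 2 (.node 1 (.leaf
  6) (.leaf
  6)) (.node 1 (.leaf
  7) (.leaf
  6))) (.node 2 (.node 1 (.leaf
  5) (.leaf
  5)) (.node 1 (.leaf
  6) (.node 1 (.leaf
  6) (.leaf
  5))))) (.node 4 (.node 2 (.node 1 (.leaf
  6) (.leaf
  5)) (.node 1 (.leaf
  6) (.leaf
  5))) (.node 2 (.node 1 (.leaf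
  5) (.leaf
  6)) (.node 1 (.leaf
  6) (.node 1 (.leaf
  6) (.leaf
  6)))))) (.node 9 (.node 4 (.node 2 (.node 1 (.leaf
  5) (.leaf
  5)) (.node 1 (.leaf
  5) (.leaf
  6))) (.node 2 (.node 1 (.leaf
  4) (.leaf
  5)) (.node 1 (.leaf
  6) (.node 1 (.leaf
  6) (.leaf
  5))))) (.node 4 (.node 2 (.node 1 (.leaf
  5) (.leaf
  7)) (.node 1 (.leaf
  7) (.leaf
  7))) (.node 2 (.node 1 (.leaf
  6) (.leaf
  8)) (.node 1 (.leaf
  8) (.node 1 (.leaf
  8) (.leaf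
  7)))))))) (.node 36 (.node 18 (.node 9 (.node 4 (.node 2 (.node 1 (.leaf
  6) (.leaf
  6)) (.node 1 (.leaf
  6) (.leaf
  5))) (.node 2 (.node 1 (.leaf
  7) (.leaf
  7)) (.node 1 (.leaf
  7) (.node 1 (.leaf
  6) (.leaf
  7))))) (.node 4 (.node 2 (.node 1 (.leaf
  6) (.leaf
  7)) (.node 1 (.leaf
  7) (.leaf
  7))) (.node 2 (.node 1 (.leaf
  7) (.leaf
  7)) (.node 1 (.leaf
  7) (.node 1 (.leaf
  6) (.leaf
  6)))))) (.node 9 (.node 4 (.node 2 (.node 1 (.leaf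
  5) (.leaf
  6)) (.node 1 (.leaf
  7) (.leaf
  7))) (.node 2 (.node 1 (.leaf
  6) (.leaf
  6)) (.node 1 (.leaf
  6) (.node 1 (.leaf
  6) (.leaf
  7))))) (.node 4 (.node 2 (.node 1 (.leaf
  7) (.leaf
  8)) (.node 1 (.leaf
  8) (.leaf
  7))) (.node 2 (.node 1 (.leaf
  7) (.leaf
  6)) (.node 1 (.leaf
  6) (.node 1 (.leaf
  5) (.leaf
  5))))))) (.node 18 (.node 9 (.node 4 (.node 2 (.node 1 (.leaf
  6) (.leaf
  6)) (.node 1 (.leaf
  7) (.leaf
  7))) (.node 2 (.node 1 (.leaf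
  6) (.leaf
  5)) (.node 1 (.leaf
  6) (.node 1 (.leaf
  6) (.leaf
  7))))) (.node 4 (.node 2 (.node 1 (.leaf
  7) (.leaf
  6)) (.node 1 (.leaf
  6) (.leaf
  4))) (.node 2 (.node 1 (.leaf
  5) (.leaf
  5)) (.node 1 (.leaf
  5) (.node 1 (.leaf
  6) (.leaf
  6)))))) (.node 9 (.node 4 (.node 2 (.node 1 (.leaf
  5) (.leaf
  6)) (.node 1 (.leaf
  5) (.leaf
  6))) (.node 2 (.node 1 (.leaf
  4) (.leaf
  5)) (.node 1 (.leaf
  6) (.node 1 (.leaf
  5) (.leaf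
  6))))) (.node 4 (.node 2 (.node 1 (.leaf
  6) (.leaf
  5)) (.node 1 (.leaf
  5) (.leaf
  5))) (.node 2 (.node 1 (.leaf
  4) (.leaf
  5)) (.node 1 (.leaf
  6) (.node 1 (.leaf
  5) (.leaf
  5))))))))) (.node 72 (.node 36 (.node 18 (.node 9 (.node 4 (.node 2 (.node 1 (.leaf
  5) (.leaf
  6)) (.node 1 (.leaf
  5) (.leaf
  5))) (.node 2 (.node 1 (.leaf
  6) (.leaf
  5)) (.node 1 (.leaf
  6) (.node 1 (.leaf
  6) (.leaf
  5))))) (.node 4 (.node 2 (.node 1 (.leaf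
  5) (.leaf
  4)) (.node 1 (.leaf
  5) (.leaf
  5))) (.node 2 (.node 1 (.leaf
  5) (.leaf
  6)) (.node 1 (.leaf
  5) (.node 1 (.leaf
  5) (.leaf
  5)))))) (.node 9 (.node 4 (.node 2 (.node 1 (.leaf
  5) (.leaf
  5)) (.node 1 (.leaf
  6) (.leaf
  5))) (.node 2 (.node 1 (.leaf
  6) (.leaf
  5)) (.node 1 (.leaf
  5) (.node 1 (.leaf
  5) (.leaf
  4))))) (.node 4 (.node 2 (.node 1 (.leaf
  4) (.leaf
  5)) (.node 1 (.leaf
  6) (.leaf
  4))) (.node 2 (.node 1 (.leaf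
  5) (.leaf
  4)) (.node 1 (.leaf
  5) (.node 1 (.leaf
  5) (.leaf
  5))))))) (.node 18 (.node 9 (.node 4 (.node 2 (.node 1 (.leaf
  5) (.leaf
  5)) (.node 1 (.leaf
  4) (.leaf
  5))) (.node 2 (.node 1 (.leaf
  3) (.leaf
  4)) (.node 1 (.leaf
  4) (.node 1 (.leaf
  5) (.leaf
  4))))) (.node 4 (.node 2 (.node 1 (.leaf
  4) (.leaf
  5)) (.node 1 (.leaf
  5) (.leaf
  6))) (.node 2 (.node 1 (.leaf
  6) (.leaf
  7)) (.node 1 (.leaf
  7) (.node 1 (.leaf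
  7) (.leaf
  7)))))) (.node 9 (.node 4 (.node 2 (.node 1 (.leaf
  6) (.leaf
  6)) (.node 1 (.leaf
  6) (.leaf
  6))) (.node 2 (.node 1 (.leaf
  6) (.leaf
  6)) (.node 1 (.leaf
  5) (.node 1 (.leaf
  6) (.leaf
  6))))) (.node 4 (.node 2 (.node 1 (.leaf
  7) (.leaf
  7)) (.node 1 (.leaf
  6) (.leaf
  7))) (.node 2 (.node 1 (.leaf
  7) (.leaf
  7)) (.node 1 (.leaf
  7) (.node 1 (.leaf
  6) (.leaf
  7)))))))) (.node 36 (.node 18 (.node 9 (.node 4 (.node 2 (.node 1 (.leaf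
  5) (.leaf
  6)) (.node 1 (.leaf
  6) (.leaf
  6))) (.node 2 (.node 1 (.leaf
  6) (.leaf
  6)) (.node 1 (.leaf
  6) (.node 1 (.leaf
  6) (.leaf
  7))))) (.node 4 (.node 2 (.node 1 (.leaf
  6) (.leaf
  7)) (.node 1 (.leaf
  7) (.leaf
  6))) (.node 2 (.node 1 (.leaf
  7) (.leaf
  7)) (.node 1 (.leaf
  7) (.node 1 (.leaf
  6) (.leaf
  5)))))) (.node 9 (.node 4 (.node 2 (.node 1 (.leaf
  6) (.leaf
  6)) (.node 1 (.leaf
  6) (.leaf
  6))) (.node 2 (.node 1 (.leaf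
  6) (.leaf
  6)) (.node 1 (.leaf
  6) (.node 1 (.leaf
  5) (.leaf
  6))))) (.node 4 (.node 2 (.node 1 (.leaf
  6) (.leaf
  6)) (.node 1 (.leaf
  5) (.leaf
  6))) (.node 2 (.node 1 (.leaf
  6) (.leaf
  5)) (.node 1 (.leaf
  5) (.node 1 (.leaf
  4) (.leaf
  5))))))) (.node 18 (.node 9 (.node 4 (.node 2 (.node 1 (.leaf
  5) (.leaf
  5)) (.node 1 (.leaf
  6) (.leaf
  6))) (.node 2 (.node 1 (.leaf
  7) (.leaf
  6)) (.node 1 (.leaf
  7) (.node 1 (.leaf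
  7) (.leaf
  7))))) (.node 4 (.node 2 (.node 1 (.leaf
  6) (.leaf
  7)) (.node 1 (.leaf
  7) (.leaf
  6))) (.node 2 (.node 1 (.leaf
  6) (.leaf
  5)) (.node 1 (.leaf
  6) (.node 1 (.leaf
  6) (.leaf
  7)))))) (.node 9 (.node 4 (.node 2 (.node 1 (.leaf
  7) (.leaf
  7)) (.node 1 (.leaf
  7) (.leaf
  7))) (.node 2 (.node 1 (.leaf
  6) (.leaf
  6)) (.node 1 (.leaf
  7) (.node 1 (.leaf
  7) (.leaf
  6))))) (.node 4 (.node 2 (.node 1 (.leaf
  7) (.leaf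
  6)) (.node 1 (.leaf
  6) (.leaf
  5))) (.node 2 (.node 1 (.leaf
  5) (.leaf
  6)) (.node 1 (.leaf
  6) (.node 1 (.leaf
  7) (.leaf
  7)))))))))) (.node 144 (.node 72 (.node 36 (.node 18 (.node 9 (.node 4 (.node 2 (.node 1 (.leaf
  7) (.leaf
  7)) (.node 1 (.leaf
  6) (.leaf
  6))) (.node 2 (.node 1 (.leaf
  6) (.leaf
  7)) (.node 1 (.leaf
  7) (.node 1 (.leaf
  7) (.leaf
  6))))) (.node 4 (.node 2 (.node 1 (.leaf
  6) (.leaf
  5)) (.node 1 (.leaf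
  5) (.leaf
  7))) (.node 2 (.node 1 (.leaf
  7) (.leaf
  6)) (.node 1 (.leaf
  6) (.node 1 (.leaf
  6) (.leaf
  6)))))) (.node 9 (.node 4 (.node 2 (.node 1 (.leaf
  5) (.leaf
  5)) (.node 1 (.leaf
  6) (.leaf
  5))) (.node 2 (.node 1 (.leaf
  6) (.leaf
  6)) (.node 1 (.leaf
  4) (.node 1 (.leaf
  4) (.leaf
  5))))) (.node 4 (.node 2 (.node 1 (.leaf
  5) (.leaf
  5)) (.node 1 (.leaf
  5) (.leaf
  6))) (.node 2 (.node 1 (.leaf
  6) (.leaf
  5)) (.node 1 (.leaf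
  5) (.node 1 (.leaf
  5) (.leaf
  4))))))) (.node 18 (.node 9 (.node 4 (.node 2 (.node 1 (.leaf
  4) (.leaf
  5)) (.node 1 (.leaf
  5) (.leaf
  5))) (.node 2 (.node 1 (.leaf
  4) (.leaf
  4)) (.node 1 (.leaf
  5) (.node 1 (.leaf
  5) (.leaf
  3))))) (.node 4 (.node 2 (.node 1 (.leaf
  4) (.leaf
  4)) (.node 1 (.leaf
  5) (.leaf
  7))) (.node 2 (.node 1 (.leaf
  7) (.leaf
  7)) (.node 1 (.leaf
  7) (.node 1 (.leaf
  7) (.leaf
  8)))))) (.node 9 (.node 4 (.node 2 (.node 1 (.leaf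
  7) (.leaf
  7)) (.node 1 (.leaf
  7) (.leaf
  6))) (.node 2 (.node 1 (.leaf
  8) (.leaf
  7)) (.node 1 (.leaf
  6) (.node 1 (.leaf
  6) (.leaf
  7))))) (.node 4 (.node 2 (.node 1 (.leaf
  7) (.leaf
  4)) (.node 1 (.leaf
  5) (.leaf
  5))) (.node 2 (.node 1 (.leaf
  6) (.leaf
  7)) (.node 1 (.leaf
  6) (.node 1 (.leaf
  6) (.leaf
  5)))))))) (.node 36 (.node 18 (.node 9 (.node 4 (.node 2 (.node 1 (.leaf
  6) (.leaf
  7)) (.node 1 (.leaf
  5) (.leaf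
  6))) (.node 2 (.node 1 (.leaf
  7) (.leaf
  6)) (.node 1 (.leaf
  7) (.node 1 (.leaf
  7) (.leaf
  7))))) (.node 4 (.node 2 (.node 1 (.leaf
  7) (.leaf
  6)) (.node 1 (.leaf
  6) (.leaf
  6))) (.node 2 (.node 1 (.leaf
  5) (.leaf
  7)) (.node 1 (.leaf
  6) (.node 1 (.leaf
  6) (.leaf
  6)))))) (.node 9 (.node 4 (.node 2 (.node 1 (.leaf
  7) (.leaf
  7)) (.node 1 (.leaf
  6) (.leaf
  6))) (.node 2 (.node 1 (.leaf
  7) (.leaf
  7)) (.node 1 (.leaf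
  6) (.node 1 (.leaf
  5) (.leaf
  6))))) (.node 4 (.node 2 (.node 1 (.leaf
  6) (.leaf
  6)) (.node 1 (.leaf
  5) (.leaf
  6))) (.node 2 (.node 1 (.leaf
  6) (.leaf
  6)) (.node 1 (.leaf
  6) (.node 1 (.leaf
  5) (.leaf
  5))))))) (.node 18 (.node 9 (.node 4 (.node 2 (.node 1 (.leaf
  4) (.leaf
  5)) (.node 1 (.leaf
  5) (.leaf
  5))) (.node 2 (.node 1 (.leaf
  8) (.leaf
  7)) (.node 1 (.leaf
  7) (.node 1 (.leaf
  6) (.leaf
  7))))) (.node 4 (.node 2 (.node 1 (.leaf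
  7) (.leaf
  7)) (.node 1 (.leaf
  7) (.leaf
  6))) (.node 2 (.node 1 (.leaf
  6) (.leaf
  7)) (.node 1 (.leaf
  7) (.node 1 (.leaf
  7) (.leaf
  7)))))) (.node 9 (.node 4 (.node 2 (.node 1 (.leaf
  6) (.leaf
  7)) (.node 1 (.leaf
  5) (.leaf
  5))) (.node 2 (.node 1 (.leaf
  6) (.leaf
  6)) (.node 1 (.leaf
  6) (.node 1 (.leaf
  6) (.leaf
  6))))) (.node 4 (.node 2 (.node 1 (.leaf
  6) (.leaf
  7)) (.node 1 (.leaf
  6) (.leaf
  6))) (.node 2 (.node 1 (.leaf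
  5) (.leaf
  7)) (.node 1 (.leaf
  7) (.node 1 (.leaf
  6) (.leaf
  6))))))))) (.node 72 (.node 36 (.node 18 (.node 9 (.node 4 (.node 2 (.node 1 (.leaf
  7) (.leaf
  7)) (.node 1 (.leaf
  7) (.leaf
  7))) (.node 2 (.node 1 (.leaf
  6) (.leaf
  6)) (.node 1 (.leaf
  7) (.node 1 (.leaf
  7) (.leaf
  7))))) (.node 4 (.node 2 (.node 1 (.leaf
  7) (.leaf
  6)) (.node 1 (.leaf
  6) (.leaf
  7))) (.node 2 (.node 1 (.leaf
  7) (.leaf
  7)) (.node 1 (.leaf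
  7) (.node 1 (.leaf
  5) (.leaf
  6)))))) (.node 9 (.node 4 (.node 2 (.node 1 (.leaf
  5) (.leaf
  6)) (.node 1 (.leaf
  5) (.leaf
  6))) (.node 2 (.node 1 (.leaf
  5) (.leaf
  5)) (.node 1 (.leaf
  4) (.node 1 (.leaf
  5) (.leaf
  5))))) (.node 4 (.node 2 (.node 1 (.leaf
  6) (.leaf
  4)) (.node 1 (.leaf
  4) (.leaf
  5))) (.node 2 (.node 1 (.leaf
  5) (.leaf
  6)) (.node 1 (.leaf
  7) (.node 1 (.leaf
  6) (.leaf
  7))))))) (.node 18 (.node 9 (.node 4 (.node 2 (.node 1 (.leaf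
  7) (.leaf
  6)) (.node 1 (.leaf
  7) (.leaf
  6))) (.node 2 (.node 1 (.leaf
  6) (.leaf
  5)) (.node 1 (.leaf
  7) (.node 1 (.leaf
  6) (.leaf
  5))))) (.node 4 (.node 2 (.node 1 (.leaf
  6) (.leaf
  6)) (.node 1 (.leaf
  7) (.leaf
  5))) (.node 2 (.node 1 (.leaf
  5) (.leaf
  6)) (.node 1 (.leaf
  6) (.node 1 (.leaf
  7) (.leaf
  6)))))) (.node 9 (.node 4 (.node 2 (.node 1 (.leaf
  6) (.leaf
  6)) (.node 1 (.leaf
  6) (.leaf
  6))) (.node 2 (.node 1 (.leaf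
  6) (.leaf
  6)) (.node 1 (.leaf
  7) (.node 1 (.leaf
  6) (.leaf
  7))))) (.node 4 (.node 2 (.node 1 (.leaf
  7) (.leaf
  6)) (.node 1 (.leaf
  7) (.leaf
  7))) (.node 2 (.node 1 (.leaf
  7) (.leaf
  6)) (.node 1 (.leaf
  6) (.node 1 (.leaf
  7) (.leaf
  7)))))))) (.node 36 (.node 18 (.node 9 (.node 4 (.node 2 (.node 1 (.leaf
  7) (.leaf
  6)) (.node 1 (.leaf
  6) (.leaf
  5))) (.node 2 (.node 1 (.leaf
  6) (.leaf
  6)) (.node 1 (.leaf
  7) (.node 1 (.leaf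
  6) (.leaf
  5))))) (.node 4 (.node 2 (.node 1 (.leaf
  6) (.leaf
  6)) (.node 1 (.leaf
  6) (.leaf
  6))) (.node 2 (.node 1 (.leaf
  5) (.leaf
  6)) (.node 1 (.leaf
  6) (.node 1 (.leaf
  5) (.leaf
  5)))))) (.node 9 (.node 4 (.node 2 (.node 1 (.leaf
  6) (.leaf
  5)) (.node 1 (.leaf
  5) (.leaf
  5))) (.node 2 (.node 1 (.leaf
  4) (.leaf
  5)) (.node 1 (.leaf
  7) (.node 1 (.leaf
  7) (.leaf
  7))))) (.node 4 (.node 2 (.node 1 (.leaf
  8) (.leaf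
  7)) (.node 1 (.leaf
  8) (.leaf
  7))) (.node 2 (.node 1 (.leaf
  7) (.leaf
  6)) (.node 1 (.leaf
  7) (.node 1 (.leaf
  7) (.leaf
  7))))))) (.node 18 (.node 9 (.node 4 (.node 2 (.node 1 (.leaf
  6) (.leaf
  7)) (.node 1 (.leaf
  6) (.leaf
  7))) (.node 2 (.node 1 (.leaf
  6) (.leaf
  6)) (.node 1 (.leaf
  5) (.node 1 (.leaf
  5) (.leaf
  7))))) (.node 4 (.node 2 (.node 1 (.leaf
  7) (.leaf
  6)) (.node 1 (.leaf
  6) (.leaf
  6))) (.node 2 (.node 1 (.leaf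
  6) (.leaf
  6)) (.node 1 (.leaf
  6) (.node 1 (.leaf
  7) (.leaf
  6)))))) (.node 9 (.node 4 (.node 2 (.node 1 (.leaf
  7) (.leaf
  7)) (.node 1 (.leaf
  7) (.leaf
  7))) (.node 2 (.node 1 (.leaf
  7) (.leaf
  7)) (.node 1 (.leaf
  7) (.node 1 (.leaf
  7) (.leaf
  6))))) (.node 4 (.node 2 (.node 1 (.leaf
  6) (.leaf
  7)) (.node 1 (.leaf
  6) (.leaf
  6))) (.node 2 (.node 1 (.leaf
  7) (.leaf
  7)) (.node 1 (.leaf
  7) (.node 1 (.leaf
  7) (.leaf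
  7))))))))))))))

end Cfsg.Agent.Co3Type.Data
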