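import Cfsg.Agent.Lib.Co3Type.Local
import Cfsg.Agent.Lib.Co3Type.GenDData

/-!
# The atoms generate the centraliser of the four group

Hence an action prescribed on the atoms is prescribed on the whole centraliser.
-/

set_option autoImplicit false
set_option maxRecDepth 100000
set_option Elab.async false

namespace Cfsg.Agent.Co3Type

open Model

noncomputable section

/-- Every member arises from an earlier one by an atom. -/
def genDB : Bool :=
  allB 4608 fun d => Nat.beq d 0 ||
    (Nat.blt (Data.dPar.get d / 8) 4608 && Nat.blt (Data.dDep.get (Data.dPar.get d / 8)) (Data.dDep.get d) &&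
      cEq [vC (Data.dPar.get d / 8), Data.srcA.getD (Data.dPar.get d % 8) 0] [vC d])

theorem genD_ok : genDB = true := by decide +kernel

end

variable {G : Type*} [Group G] {φ : W →* G} {c : G}

/-- The image of a member of the centraliser of the four group, from the action on the atoms. -/
theorem Act.image {v : ℕ} (hv : v < 4) (h : Act φ c v) {d : ℕ} (hd : d < 4608) :
    ∃ d' < 4608, Sends φ c (vC d) (vC d') := by
  have key : ∀ m d, d < 4608 → Data.dDep.get d = m → ∃ w : W, Commute w yW ∧ c * φ (el (vC d)) * c⁻¹ = φ w := by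
    intro m
    induction m using Nat.strong_induction_on with
    | _ m ih =>
    intro d hd hm
    have hok := allB_spec genD_ok d hd
    simp only [Bool.or_eq_true, Bool.and_eq_true, Nat.beq_eq, Nat.blt_eq] at hok
    rcases hok with rfl | ⟨⟨hp, hdep⟩, q⟩
    · exact ⟨1, Commute.one_left _, by rw [show vC 0 = 0 from rfl, el_zero, map_one]; group⟩
    · obtain ⟨w, hw, e⟩ := ih _ (hm ▸ hdep) _ hp rfl
      obtain ⟨hlt, hmod⟩ := atoms_spec.2.1 v hv (Data.dPar.get d % 8)
      refine ⟨w * el ((dstL v).getD (Data.dPar.get d % 8) 0), hw.mul_left ((el_comm_yW_iff hlt).2 hmod), ?_⟩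
      have hq := phl_eq φ q
      simp only [phl_cons, phl_nil, mul_one] at hq
      have ha : c * φ (el (Data.srcA.getD (Data.dPar.get d % 8) 0)) * c⁻¹ =
          φ (el ((dstL v).getD (Data.dPar.get d % 8) 0)) := h _
      rw [← hq, map_mul, ← e, ← ha]
      group
  obtain ⟨w, hw, e⟩ := key _ d hd rfl
  obtain ⟨d', hd', e'⟩ := (comm_yW_iff w).1 hw
  exact ⟨d', hd', by rw [Sends, e, base_eqs.2.2.2.2, e']⟩

end Cfsg.Agent.Co3Type
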