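import Cfsg.Agent.Lib.Co3Type.Closure
import Cfsg.Agent.Lib.Co3Type.Co3Model
import Cfsg.Agent.Lib.LeechAut.Conway23

/-!
# The generated group is the third Conway group

The group generated by the pairs of a configuration and of the model configuration is no larger than the third
Conway group and maps onto it.
-/

set_option autoImplicit false
set_option maxRecDepth 100000
set_option linter.style.haveILetI false

open Subgroup

namespace Cfsg.Agent.Co3Type

open Model

variable {G : Type*} [Group G]

theorem phl_prod {φ : W →* G} {H : Type*} [Group H] (ψ : W →* H) (l : List ℕ) :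
    phl (φ.prod ψ) l = (phl φ l, phl ψ l) := rfl

theorem Conf.prod {H : Type*} [Group H] {φ : W →* G} {c : G} {ψ : W →* H} {d : H} (h : Conf φ c) (k : Conf ψ d) :
    Conf (φ.prod ψ) (c, d) where
  act i := Prod.ext (h.act i) (k.act i)
  cube := Prod.ext h.cube k.cube
  flip := Prod.ext h.flip k.flip
  eqn := Prod.ext h.eqn k.eqn

theorem co3_simple : IsSimpleGroup Spor.Co3 := by
  obtain ⟨c, hc⟩ := LeechAut.Shells.transitive48 Spor.leechV (LeechAut.Pairs.v0 + LeechAut.McL.w1)
    (show sqNorm Spor.vecV = 48 by decide +kernel) LeechAut.Conway23.norm3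
  obtain ⟨e'⟩ := LeechAut.Conway23.stab_equiv hc
  let e : ↥Spor.Co3 ≃* MulAction.stabilizer Co0 (LeechAut.Pairs.v0 + LeechAut.McL.w1) :=
    (Lib.PcMult.Leech.stabEquiv Spor.leechV).trans e'
  haveI := LeechAut.Conway23.isSimple3
  exact MulEquiv.isSimpleGroup e

/-- A configuration gives a copy of the third Conway group. -/
theorem exists_hom [Finite G] {φ : W →* G} {c : G} (hinj : Function.Injective φ) (h : Conf φ c) :
    ∃ f : Spor.Co3 →* G, Function.Injective f ∧ (∀ w, f (psi w) = φ w) ∧ f coC = c ∧
      f.range = closure (Set.range φ ∪ {c}) := by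
  haveI := finite_co3
  haveI := co3_simple
  set U := closure (Set.range (φ.prod psi) ∪ {(c, coC)}) with hU
  let p : U →* Spor.Co3 := (MonoidHom.snd G Spor.Co3).comp U.subtype
  let q : U →* G := (MonoidHom.fst G Spor.Co3).comp U.subtype
  have hps : Function.Surjective p := by
    rw [← MonoidHom.range_eq_top, eq_top_iff, ← co3_gen, closure_le]
    rintro x (⟨w, rfl⟩ | hx)
    · exact ⟨⟨(φ w, psi w), subset_closure (Or.inl ⟨w, rfl⟩)⟩, rfl⟩
    · rw [Set.mem_singleton_iff] at hx
      exact ⟨⟨(c, coC), subset_closure (Or.inr rfl)⟩, hx.symm⟩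
  have hle : Nat.card U ≤ 495766656000 :=
    card_closure_le (fun a b e => hinj (congrArg Prod.fst e)) (h.prod conf_co3)
  have hpb : Function.Bijective p := (Nat.bijective_iff_surjective_and_card p).2
    ⟨hps, le_antisymm (hle.trans_eq Lib.PcMult.Co3.card_eq.symm) (Nat.card_le_card_of_surjective p hps)⟩
  let e := MulEquiv.ofBijective p hpb
  let f : Spor.Co3 →* G := q.comp e.symm.toMonoidHom
  have hf : ∀ x : U, f (p x) = q x := fun x => by
    show q (e.symm (e x)) = q x
    rw [MulEquiv.symm_apply_apply]
  have hval : ∀ w, f (psi w) = φ w := fun w => hf ⟨(φ w, psi w), subset_closure (Or.inl ⟨w, rfl⟩)⟩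
  have hc : f coC = c := hf ⟨(c, coC), subset_closure (Or.inr rfl)⟩
  refine ⟨f, ?_, hval, hc, ?_⟩
  · rw [← MonoidHom.ker_eq_bot_iff]
    refine (f.normal_ker.eq_bot_or_eq_top).resolve_right fun htop => ?_
    have : φ zW = 1 := by rw [← hval]; exact MonoidHom.mem_ker.1 (htop ▸ mem_top _)
    exact rels.2.2.2.2.1 (hinj (this.trans (map_one φ).symm))
  · rw [MonoidHom.range_eq_map, ← co3_gen, MonoidHom.map_closure, Set.image_union, Set.image_singleton, hc,
      ← Set.range_comp]
    exact congrArg Subgroup.closure (congrArg (· ∪ _) (congrArg Set.range (funext hval)))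

end Cfsg.Agent.Co3Type
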