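import Cfsg.Agent.Lib.CosetCert.Check

/-!
Generated data for the local analysis: the action of the cycling element on the centraliser of the four group.
Produced by a search outside Lean; every entry is checked where it is used.
-/

set_option autoImplicit false
set_option maxRecDepth 100000

namespace Cfsg.Agent.Co3Type.Data

open Cfsg.Agent.CosetCert (Tree)

/-- The atoms: generators of the centraliser of the four group. -/
def srcA : List ℕ :=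
  [630, 1260, 2520, 5040, 807030, 514080, 1159200]

/-- The images of the atoms in the four cases. -/
def dstA : List (List ℕ) :=
  [
    [1890, 630, 6930, 8190, 1638000, 640080, 2321550],
    [1890, 630, 6930, 8190, 1638000, 640080, 2320920],
    [1890, 630, 6930, 8190, 1638000, 640080, 2322810],
    [1890, 630, 6930, 8190, 1638000, 640080, 2322180]]

/-- Relations between the atoms. -/
def rel1 : List (List ℕ × List ℕ) :=
  [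
    ([4, 4, 4], []),
    ([2, 3], [3, 2]),
    ([2, 4, 2, 4, 4], [0, 4, 2, 4, 4, 2]),
    ([2, 4, 3, 4, 4], [1, 4, 3, 4, 4, 2]),
    ([2, 4, 4, 2, 4], [0, 4, 4, 2, 4, 2]),
    ([2, 4, 4, 3, 4], [0, 1, 4, 4, 3, 4, 2]),
    ([3, 4, 2, 4, 4], [0, 1, 4, 2, 4, 4, 3]),
    ([3, 4, 3, 4, 4], [0, 4, 3, 4, 4, 3]),
    ([3, 4, 4, 2, 4], [1, 4, 4, 2, 4, 3]),
    ([3, 4, 4, 3, 4], [0, 4, 4, 3, 4, 3]),
    ([4, 2, 4, 4, 4, 3, 4, 4], [4, 3, 4, 4, 4, 2, 4, 4]),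
    ([4, 2, 4, 4, 4, 4, 2, 4], [0, 4, 4, 2, 4, 4, 2, 4, 4]),
    ([4, 2, 4, 4, 4, 4, 3, 4], [1, 4, 4, 3, 4, 4, 2, 4, 4]),
    ([4, 3, 4, 4, 4, 4, 2, 4], [0, 1, 4, 4, 2, 4, 4, 3, 4, 4]),
    ([4, 3, 4, 4, 4, 4, 3, 4], [0, 4, 4, 3, 4, 4, 3, 4, 4]),
    ([4, 4, 2, 4, 4, 4, 3, 4], [4, 4, 3, 4, 4, 4, 2, 4])]

/-- Relations between the atoms. -/
def rel2 : List (List ℕ × List ℕ) :=
  [
    ([4, 5], [5, 4]),
    ([5, 5, 5], []),
    ([5, 2], [0, 3, 5]),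
    ([5, 3], [1, 2, 3, 5]),
    ([5, 4, 2, 4, 4], [0, 4, 3, 4, 4, 5]),
    ([5, 4, 3, 4, 4], [1, 4, 2, 4, 4, 4, 3, 4, 4, 5]),
    ([5, 4, 4, 2, 4], [0, 4, 4, 3, 4, 5]),
    ([5, 4, 4, 3, 4], [1, 4, 4, 2, 4, 4, 4, 3, 4, 5])]

/-- Relations between the atoms. -/
def rel3 : List (List ℕ × List ℕ) :=
  [
    ([6, 6], []),
    ([6, 2], [1, 2, 3, 6]),
    ([6, 3], [3, 6]),
    ([6, 4], [3, 4, 4, 3, 6]),
    ([6, 5], [1, 4, 5, 3, 4, 5, 2, 4, 6])]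

/-- The members whose cube is trivial. -/
def ord3 : List ℕ :=
  [
  0, 769, 774, 777, 782, 787, 790, 794, 799, 802, 804, 809,
  815, 816, 820, 826, 830, 832, 837, 843, 846, 849, 854, 859,
  860, 866, 870, 874, 878, 883, 885, 890, 892, 899, 903, 906,
  910, 915, 917, 923, 925, 931, 934, 937, 940, 947, 948, 952,
  959, 962, 964, 968, 974, 977, 981, 986, 990, 995, 996, 1002,
  1005, 1008, 1013, 1016, 1021, 1025, 1030, 1033, 1038, 1043, 1047, 1049,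
  1053, 1058, 1063, 1067, 1070, 1072, 1078, 1083, 1085, 1088, 1094, 1098,
  1100, 1107, 1110, 1115, 1118, 1121, 1125, 1130, 1134, 1138, 1141, 1147,
  1148, 1155, 1158, 1160, 1165, 1170, 1172, 1179, 1181, 1185, 1190, 1195,
  1196, 1200, 1204, 1208, 1212, 1218, 1222, 1227, 1231, 1234, 1237, 1241,
  1246, 1250, 1252, 1258, 1260, 1266, 1271, 1272, 1277, 1281, 1301, 1327,
  1339, 1352, 1374, 1381, 1395, 1413, 1424, 1449, 1468, 1485, 1498, 1506,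
  1525, 2315, 2324, 2339, 2364, 2375, 2394, 2412, 2417, 2433, 2463, 2475,
  2485, 2511, 2515, 2534, 2554, 2573, 2580, 2600, 2609, 2635, 2640, 2669,
  2678, 2688, 2712, 2727, 2751, 2757, 2783, 2785, 2811, 3328, 3349, 3375,
  3387, 3400, 3421, 3431, 3443, 3461, 3472, 3498, 3518, 3533, 3544, 3554,
  3574, 3851, 3861, 3872, 3900, 3911, 3929, 3948, 3952, 3969, 3999, 4010,
  4022, 4045, 4051, 4070, 4090, 4099, 4120, 4132, 4156, 4167, 4188, 4192,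
  4216, 4236, 4247, 4267, 4275, 4296, 4307, 4335, 4343]

/-- Conjugators normalising the images of the two atoms of order 3. -/
def fixE : List (ℕ × ℕ × ℕ) :=
  [(2600, 1016, 0), (2669, 1008, 2520), (2727, 1021, 7560), (2785, 1013, 5040)]

/-- The members all whose translates by the four group lie in the class of `y`. -/
def good : List ℕ :=
  [
  4, 5, 6, 7, 8, 9, 10, 11, 12, 13, 14, 15,
  16, 17, 18, 19, 32, 33, 34, 35, 48, 49, 50, 51,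
  64, 65, 66, 67, 128, 129, 130, 131, 192, 193, 194, 195]

/-- Witnesses for the other members. -/
def badWit : Tree :=
  (.node 2304 (.node 1152 (.node 576 (.node 288 (.node 144 (.node 72 (.node 36 (.node 18 (.node 9 (.node 4 (.node 2 (.node 1 (.leaf
  0) (.leaf
  1)) (.node 1 (.leaf
  2) (.leaf
  3))) (.node 2 (.node 1 (.leaf
  0) (.leaf
  0)) (.node 1 (.leaf
  0) (.node 1 (.leaf
  0) (.leaf
  0))))) (.node 4 (.node 2 (.node 1 (.leaf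
  0) (.leaf
  0)) (.node 1 (.leaf
  0) (.leaf
  0))) (.node 2 (.node 1 (.leaf
  0) (.leaf
  0)) (.node 1 (.leaf
  0) (.node 1 (.leaf
  0) (.leaf
  0)))))) (.node 9 (.node 4 (.node 2 (.node 1 (.leaf
  0) (.leaf
  0)) (.node 1 (.leaf
  0) (.leaf
  0))) (.node 2 (.node 1 (.leaf
  0) (.leaf
  0)) (.node 1 (.leaf
  0) (.node 1 (.leaf
  0) (.leaf
  0))))) (.node 4 (.node 2 (.node 1 (.leaf
  0) (.leaf
  0)) (.node 1 (.leaf
  0) (.leaf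
  0))) (.node 2 (.node 1 (.leaf
  0) (.leaf
  0)) (.node 1 (.leaf
  0) (.node 1 (.leaf
  0) (.leaf
  0))))))) (.node 18 (.node 9 (.node 4 (.node 2 (.node 1 (.leaf
  0) (.leaf
  0)) (.node 1 (.leaf
  0) (.leaf
  0))) (.node 2 (.node 1 (.leaf
  0) (.leaf
  0)) (.node 1 (.leaf
  0) (.node 1 (.leaf
  0) (.leaf
  0))))) (.node 4 (.node 2 (.node 1 (.leaf
  0) (.leaf
  0)) (.node 1 (.leaf
  0) (.leaf
  0))) (.node 2 (.node 1 (.leaf
  0) (.leaf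
  0)) (.node 1 (.leaf
  0) (.node 1 (.leaf
  0) (.leaf
  0)))))) (.node 9 (.node 4 (.node 2 (.node 1 (.leaf
  0) (.leaf
  0)) (.node 1 (.leaf
  0) (.leaf
  0))) (.node 2 (.node 1 (.leaf
  0) (.leaf
  0)) (.node 1 (.leaf
  0) (.node 1 (.leaf
  0) (.leaf
  0))))) (.node 4 (.node 2 (.node 1 (.leaf
  0) (.leaf
  0)) (.node 1 (.leaf
  0) (.leaf
  0))) (.node 2 (.node 1 (.leaf
  0) (.leaf
  0)) (.node 1 (.leaf
  0) (.node 1 (.leaf
  0) (.leaf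
  0)))))))) (.node 36 (.node 18 (.node 9 (.node 4 (.node 2 (.node 1 (.leaf
  0) (.leaf
  0)) (.node 1 (.leaf
  0) (.leaf
  0))) (.node 2 (.node 1 (.leaf
  0) (.leaf
  0)) (.node 1 (.leaf
  0) (.node 1 (.leaf
  0) (.leaf
  0))))) (.node 4 (.node 2 (.node 1 (.leaf
  0) (.leaf
  0)) (.node 1 (.leaf
  0) (.leaf
  5638204))) (.node 2 (.node 1 (.leaf
  6429024) (.leaf
  1407060)) (.node 1 (.leaf
  56528) (.node 1 (.leaf
  2583404) (.leaf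
  1290536)))))) (.node 9 (.node 4 (.node 2 (.node 1 (.leaf
  1349720) (.leaf
  4017056)) (.node 1 (.leaf
  0) (.leaf
  0))) (.node 2 (.node 1 (.leaf
  0) (.leaf
  0)) (.node 1 (.leaf
  0) (.node 1 (.leaf
  0) (.leaf
  0))))) (.node 4 (.node 2 (.node 1 (.leaf
  0) (.leaf
  0)) (.node 1 (.leaf
  0) (.leaf
  0))) (.node 2 (.node 1 (.leaf
  0) (.leaf
  9825904)) (.node 1 (.leaf
  4020912) (.node 1 (.leaf
  3873964) (.leaf
  544))))))) (.node 18 (.node 9 (.node 4 (.node 2 (.node 1 (.leaf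
  601340) (.leaf
  4516648)) (.node 1 (.leaf
  5310604) (.leaf
  3988076))) (.node 2 (.node 1 (.leaf
  0) (.leaf
  0)) (.node 1 (.leaf
  0) (.node 1 (.leaf
  0) (.leaf
  4019832))))) (.node 4 (.node 2 (.node 1 (.leaf
  1346832) (.leaf
  2581236)) (.node 1 (.leaf
  4017320) (.leaf
  0))) (.node 2 (.node 1 (.leaf
  0) (.leaf
  0)) (.node 1 (.leaf
  0) (.node 1 (.leaf
  1346136) (.leaf
  4020532)))))) (.node 9 (.node 4 (.node 2 (.node 1 (.leaf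
  3873820) (.leaf
  3871832)) (.node 1 (.leaf
  0) (.leaf
  0))) (.node 2 (.node 1 (.leaf
  0) (.leaf
  0)) (.node 1 (.leaf
  0) (.node 1 (.leaf
  0) (.leaf
  0))))) (.node 4 (.node 2 (.node 1 (.leaf
  0) (.leaf
  0)) (.node 1 (.leaf
  0) (.leaf
  0))) (.node 2 (.node 1 (.leaf
  0) (.leaf
  0)) (.node 1 (.leaf
  0) (.node 1 (.leaf
  0) (.leaf
  0))))))))) (.node 72 (.node 36 (.node 18 (.node 9 (.node 4 (.node 2 (.node 1 (.leaf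
  0) (.leaf
  0)) (.node 1 (.leaf
  0) (.leaf
  0))) (.node 2 (.node 1 (.leaf
  0) (.leaf
  0)) (.node 1 (.leaf
  0) (.node 1 (.leaf
  0) (.leaf
  2052088))))) (.node 4 (.node 2 (.node 1 (.leaf
  2051584) (.leaf
  56252)) (.node 1 (.leaf
  1406796) (.leaf
  119388))) (.node 2 (.node 1 (.leaf
  2729948) (.leaf
  3871956)) (.node 1 (.leaf
  1991724) (.node 1 (.leaf
  0) (.leaf
  0)))))) (.node 9 (.node 4 (.node 2 (.node 1 (.leaf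
  0) (.leaf
  0)) (.node 1 (.leaf
  2729856) (.leaf
  2729612))) (.node 2 (.node 1 (.leaf
  3873560) (.leaf
  3874084)) (.node 1 (.leaf
  0) (.node 1 (.leaf
  0) (.leaf
  0))))) (.node 4 (.node 2 (.node 1 (.leaf
  0) (.leaf
  1407604)) (.node 1 (.leaf
  10104116) (.leaf
  8676408))) (.node 2 (.node 1 (.leaf
  539432) (.leaf
  0)) (.node 1 (.leaf
  0) (.node 1 (.leaf
  0) (.leaf
  0))))))) (.node 18 (.node 9 (.node 4 (.node 2 (.node 1 (.leaf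
  11151780) (.leaf
  1409700)) (.node 1 (.leaf
  2051872) (.leaf
  2729776))) (.node 2 (.node 1 (.leaf
  1923824) (.leaf
  8958980)) (.node 1 (.leaf
  3181056) (.node 1 (.leaf
  9859584) (.leaf
  0))))) (.node 4 (.node 2 (.node 1 (.leaf
  0) (.leaf
  0)) (.node 1 (.leaf
  0) (.leaf
  0))) (.node 2 (.node 1 (.leaf
  0) (.leaf
  0)) (.node 1 (.leaf
  0) (.node 1 (.leaf
  0) (.leaf
  0)))))) (.node 9 (.node 4 (.node 2 (.node 1 (.leaf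
  0) (.leaf
  0)) (.node 1 (.leaf
  0) (.leaf
  0))) (.node 2 (.node 1 (.leaf
  0) (.leaf
  0)) (.node 1 (.leaf
  0) (.node 1 (.leaf
  0) (.leaf
  0))))) (.node 4 (.node 2 (.node 1 (.leaf
  0) (.leaf
  0)) (.node 1 (.leaf
  0) (.leaf
  0))) (.node 2 (.node 1 (.leaf
  0) (.leaf
  8168388)) (.node 1 (.leaf
  8165516) (.node 1 (.leaf
  10866848) (.leaf
  4474236)))))))) (.node 36 (.node 18 (.node 9 (.node 4 (.node 2 (.node 1 (.leaf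
  0) (.leaf
  0)) (.node 1 (.leaf
  0) (.leaf
  0))) (.node 2 (.node 1 (.leaf
  1290428) (.leaf
  1292916)) (.node 1 (.leaf
  146204) (.node 1 (.leaf
  388) (.leaf
  0))))) (.node 4 (.node 2 (.node 1 (.leaf
  0) (.leaf
  0)) (.node 1 (.leaf
  0) (.leaf
  1292808))) (.node 2 (.node 1 (.leaf
  1439304) (.leaf
  148832)) (.node 1 (.leaf
  148876) (.node 1 (.leaf
  964) (.leaf
  1580)))))) (.node 9 (.node 4 (.node 2 (.node 1 (.leaf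
  1938688) (.leaf
  3987052)) (.node 1 (.leaf
  0) (.leaf
  0))) (.node 2 (.node 1 (.leaf
  0) (.leaf
  0)) (.node 1 (.leaf
  0) (.node 1 (.leaf
  0) (.leaf
  0))))) (.node 4 (.node 2 (.node 1 (.leaf
  0) (.leaf
  0)) (.node 1 (.leaf
  0) (.leaf
  0))) (.node 2 (.node 1 (.leaf
  0) (.leaf
  1346380)) (.node 1 (.leaf
  9826216) (.node 1 (.leaf
  4662924) (.leaf
  9826664))))))) (.node 18 (.node 9 (.node 4 (.node 2 (.node 1 (.leaf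
  3874168) (.leaf
  147496)) (.node 1 (.leaf
  3986840) (.leaf
  2581096))) (.node 2 (.node 1 (.leaf
  0) (.leaf
  0)) (.node 1 (.leaf
  0) (.node 1 (.leaf
  0) (.leaf
  0))))) (.node 4 (.node 2 (.node 1 (.leaf
  0) (.leaf
  0)) (.node 1 (.leaf
  0) (.leaf
  128))) (.node 2 (.node 1 (.leaf
  220) (.leaf
  3515224)) (.node 1 (.leaf
  11395276) (.node 1 (.leaf
  0) (.leaf
  0)))))) (.node 9 (.node 4 (.node 2 (.node 1 (.leaf
  0) (.leaf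
  0)) (.node 1 (.leaf
  0) (.leaf
  0))) (.node 2 (.node 1 (.leaf
  0) (.leaf
  0)) (.node 1 (.leaf
  3871836) (.node 1 (.leaf
  8677060) (.leaf
  3872268))))) (.node 4 (.node 2 (.node 1 (.leaf
  3874060) (.leaf
  0)) (.node 1 (.leaf
  0) (.leaf
  0))) (.node 2 (.node 1 (.leaf
  0) (.leaf
  0)) (.node 1 (.leaf
  0) (.node 1 (.leaf
  0) (.leaf
  0)))))))))) (.node 144 (.node 72 (.node 36 (.node 18 (.node 9 (.node 4 (.node 2 (.node 1 (.leaf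
  0) (.leaf
  0)) (.node 1 (.leaf
  0) (.leaf
  0))) (.node 2 (.node 1 (.leaf
  0) (.leaf
  0)) (.node 1 (.leaf
  0) (.node 1 (.leaf
  0) (.leaf
  0))))) (.node 4 (.node 2 (.node 1 (.leaf
  0) (.leaf
  0)) (.node 1 (.leaf
  0) (.leaf
  8677444))) (.node 2 (.node 1 (.leaf
  3873976) (.leaf
  3871928)) (.node 1 (.leaf
  3874424) (.node 1 (.leaf
  5588984) (.leaf
  8676052)))))) (.node 9 (.node 4 (.node 2 (.node 1 (.leaf
  3513092) (.leaf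
  3512944)) (.node 1 (.leaf
  0) (.leaf
  0))) (.node 2 (.node 1 (.leaf
  0) (.leaf
  0)) (.node 1 (.leaf
  0) (.node 1 (.leaf
  0) (.leaf
  0))))) (.node 4 (.node 2 (.node 1 (.leaf
  0) (.leaf
  0)) (.node 1 (.leaf
  0) (.leaf
  0))) (.node 2 (.node 1 (.leaf
  0) (.leaf
  0)) (.node 1 (.leaf
  0) (.node 1 (.leaf
  0) (.leaf
  0))))))) (.node 18 (.node 9 (.node 4 (.node 2 (.node 1 (.leaf
  0) (.leaf
  0)) (.node 1 (.leaf
  0) (.leaf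
  0))) (.node 2 (.node 1 (.leaf
  7246492) (.leaf
  7246144)) (.node 1 (.leaf
  150276) (.node 1 (.leaf
  3226456) (.leaf
  0))))) (.node 4 (.node 2 (.node 1 (.leaf
  0) (.leaf
  0)) (.node 1 (.leaf
  0) (.leaf
  0))) (.node 2 (.node 1 (.leaf
  0) (.leaf
  0)) (.node 1 (.leaf
  0) (.node 1 (.leaf
  1293140) (.leaf
  1291304)))))) (.node 9 (.node 4 (.node 2 (.node 1 (.leaf
  2727100) (.leaf
  8167488)) (.node 1 (.leaf
  0) (.leaf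
  0))) (.node 2 (.node 1 (.leaf
  0) (.leaf
  0)) (.node 1 (.leaf
  0) (.node 1 (.leaf
  0) (.leaf
  0))))) (.node 4 (.node 2 (.node 1 (.leaf
  0) (.leaf
  0)) (.node 1 (.leaf
  0) (.leaf
  0))) (.node 2 (.node 1 (.leaf
  0) (.leaf
  0)) (.node 1 (.leaf
  0) (.node 1 (.leaf
  0) (.leaf
  0)))))))) (.node 36 (.node 18 (.node 9 (.node 4 (.node 2 (.node 1 (.leaf
  0) (.leaf
  0)) (.node 1 (.leaf
  0) (.leaf
  0))) (.node 2 (.node 1 (.leaf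
  1291300) (.leaf
  1290924)) (.node 1 (.leaf
  58272) (.node 1 (.leaf
  8164840) (.leaf
  3927216))))) (.node 4 (.node 2 (.node 1 (.leaf
  5955024) (.leaf
  3372748)) (.node 1 (.leaf
  3229432) (.leaf
  0))) (.node 2 (.node 1 (.leaf
  0) (.leaf
  0)) (.node 1 (.leaf
  0) (.node 1 (.leaf
  0) (.leaf
  0)))))) (.node 9 (.node 4 (.node 2 (.node 1 (.leaf
  0) (.leaf
  0)) (.node 1 (.leaf
  0) (.leaf
  0))) (.node 2 (.node 1 (.leaf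
  0) (.leaf
  0)) (.node 1 (.leaf
  0) (.node 1 (.leaf
  0) (.leaf
  0))))) (.node 4 (.node 2 (.node 1 (.leaf
  0) (.leaf
  0)) (.node 1 (.leaf
  0) (.leaf
  0))) (.node 2 (.node 1 (.leaf
  0) (.leaf
  0)) (.node 1 (.leaf
  0) (.node 1 (.leaf
  0) (.leaf
  0))))))) (.node 18 (.node 9 (.node 4 (.node 2 (.node 1 (.leaf
  0) (.leaf
  0)) (.node 1 (.leaf
  0) (.leaf
  0))) (.node 2 (.node 1 (.leaf
  0) (.leaf
  0)) (.node 1 (.leaf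
  0) (.node 1 (.leaf
  0) (.leaf
  0))))) (.node 4 (.node 2 (.node 1 (.leaf
  0) (.leaf
  0)) (.node 1 (.leaf
  0) (.leaf
  0))) (.node 2 (.node 1 (.leaf
  0) (.leaf
  0)) (.node 1 (.leaf
  0) (.node 1 (.leaf
  0) (.leaf
  0)))))) (.node 9 (.node 4 (.node 2 (.node 1 (.leaf
  0) (.leaf
  0)) (.node 1 (.leaf
  0) (.leaf
  0))) (.node 2 (.node 1 (.leaf
  0) (.leaf
  0)) (.node 1 (.leaf
  0) (.node 1 (.leaf
  0) (.leaf
  0))))) (.node 4 (.node 2 (.node 1 (.leaf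
  0) (.leaf
  0)) (.node 1 (.leaf
  0) (.leaf
  0))) (.node 2 (.node 1 (.leaf
  0) (.leaf
  0)) (.node 1 (.leaf
  0) (.node 1 (.leaf
  0) (.leaf
  0))))))))) (.node 72 (.node 36 (.node 18 (.node 9 (.node 4 (.node 2 (.node 1 (.leaf
  0) (.leaf
  0)) (.node 1 (.leaf
  0) (.leaf
  0))) (.node 2 (.node 1 (.leaf
  0) (.leaf
  0)) (.node 1 (.leaf
  0) (.node 1 (.leaf
  0) (.leaf
  0))))) (.node 4 (.node 2 (.node 1 (.leaf
  0) (.leaf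
  0)) (.node 1 (.leaf
  0) (.leaf
  0))) (.node 2 (.node 1 (.leaf
  0) (.leaf
  0)) (.node 1 (.leaf
  0) (.node 1 (.leaf
  0) (.leaf
  0)))))) (.node 9 (.node 4 (.node 2 (.node 1 (.leaf
  0) (.leaf
  0)) (.node 1 (.leaf
  0) (.leaf
  0))) (.node 2 (.node 1 (.leaf
  0) (.leaf
  0)) (.node 1 (.leaf
  0) (.node 1 (.leaf
  0) (.leaf
  0))))) (.node 4 (.node 2 (.node 1 (.leaf
  0) (.leaf
  0)) (.node 1 (.leaf
  0) (.leaf
  0))) (.node 2 (.node 1 (.leaf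
  0) (.leaf
  0)) (.node 1 (.leaf
  0) (.node 1 (.leaf
  0) (.leaf
  0))))))) (.node 18 (.node 9 (.node 4 (.node 2 (.node 1 (.leaf
  0) (.leaf
  0)) (.node 1 (.leaf
  0) (.leaf
  0))) (.node 2 (.node 1 (.leaf
  0) (.leaf
  0)) (.node 1 (.leaf
  0) (.node 1 (.leaf
  0) (.leaf
  0))))) (.node 4 (.node 2 (.node 1 (.leaf
  0) (.leaf
  0)) (.node 1 (.leaf
  0) (.leaf
  0))) (.node 2 (.node 1 (.leaf
  0) (.leaf
  0)) (.node 1 (.leaf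
  0) (.node 1 (.leaf
  0) (.leaf
  0)))))) (.node 9 (.node 4 (.node 2 (.node 1 (.leaf
  0) (.leaf
  0)) (.node 1 (.leaf
  0) (.leaf
  0))) (.node 2 (.node 1 (.leaf
  0) (.leaf
  0)) (.node 1 (.leaf
  0) (.node 1 (.leaf
  0) (.leaf
  0))))) (.node 4 (.node 2 (.node 1 (.leaf
  0) (.leaf
  0)) (.node 1 (.leaf
  0) (.leaf
  0))) (.node 2 (.node 1 (.leaf
  0) (.leaf
  0)) (.node 1 (.leaf
  0) (.node 1 (.leaf
  0) (.leaf
  0)))))))) (.node 36 (.node 18 (.node 9 (.node 4 (.node 2 (.node 1 (.leaf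
  0) (.leaf
  0)) (.node 1 (.leaf
  0) (.leaf
  0))) (.node 2 (.node 1 (.leaf
  0) (.leaf
  0)) (.node 1 (.leaf
  0) (.node 1 (.leaf
  0) (.leaf
  0))))) (.node 4 (.node 2 (.node 1 (.leaf
  0) (.leaf
  0)) (.node 1 (.leaf
  0) (.leaf
  8674560))) (.node 2 (.node 1 (.leaf
  4474496) (.leaf
  147588)) (.node 1 (.leaf
  3513096) (.node 1 (.leaf
  0) (.leaf
  0)))))) (.node 9 (.node 4 (.node 2 (.node 1 (.leaf
  0) (.leaf
  0)) (.node 1 (.leaf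
  0) (.leaf
  0))) (.node 2 (.node 1 (.leaf
  0) (.leaf
  0)) (.node 1 (.leaf
  8673980) (.node 1 (.leaf
  4473732) (.leaf
  3513764))))) (.node 4 (.node 2 (.node 1 (.leaf
  3927952) (.leaf
  0)) (.node 1 (.leaf
  0) (.leaf
  0))) (.node 2 (.node 1 (.leaf
  0) (.leaf
  0)) (.node 1 (.leaf
  0) (.node 1 (.leaf
  0) (.leaf
  0))))))) (.node 18 (.node 9 (.node 4 (.node 2 (.node 1 (.leaf
  0) (.leaf
  0)) (.node 1 (.leaf
  0) (.leaf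
  0))) (.node 2 (.node 1 (.leaf
  0) (.leaf
  0)) (.node 1 (.leaf
  0) (.node 1 (.leaf
  0) (.leaf
  0))))) (.node 4 (.node 2 (.node 1 (.leaf
  0) (.leaf
  0)) (.node 1 (.leaf
  0) (.leaf
  0))) (.node 2 (.node 1 (.leaf
  0) (.leaf
  0)) (.node 1 (.leaf
  0) (.node 1 (.leaf
  3372288) (.leaf
  3226480)))))) (.node 9 (.node 4 (.node 2 (.node 1 (.leaf
  4474564) (.leaf
  9823928)) (.node 1 (.leaf
  0) (.leaf
  0))) (.node 2 (.node 1 (.leaf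
  0) (.leaf
  0)) (.node 1 (.leaf
  0) (.node 1 (.leaf
  0) (.leaf
  0))))) (.node 4 (.node 2 (.node 1 (.leaf
  0) (.leaf
  3228648)) (.node 1 (.leaf
  3375160) (.leaf
  9823892))) (.node 2 (.node 1 (.leaf
  9824312) (.leaf
  0)) (.node 1 (.leaf
  0) (.node 1 (.leaf
  0) (.leaf
  0))))))))))) (.node 288 (.node 144 (.node 72 (.node 36 (.node 18 (.node 9 (.node 4 (.node 2 (.node 1 (.leaf
  0) (.leaf
  0)) (.node 1 (.leaf
  0) (.leaf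
  0))) (.node 2 (.node 1 (.leaf
  0) (.leaf
  0)) (.node 1 (.leaf
  0) (.node 1 (.leaf
  0) (.leaf
  0))))) (.node 4 (.node 2 (.node 1 (.leaf
  0) (.leaf
  0)) (.node 1 (.leaf
  0) (.leaf
  0))) (.node 2 (.node 1 (.leaf
  0) (.leaf
  0)) (.node 1 (.leaf
  0) (.node 1 (.leaf
  0) (.leaf
  0)))))) (.node 9 (.node 4 (.node 2 (.node 1 (.leaf
  0) (.leaf
  0)) (.node 1 (.leaf
  0) (.leaf
  0))) (.node 2 (.node 1 (.leaf
  0) (.leaf
  0)) (.node 1 (.leaf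
  0) (.node 1 (.leaf
  0) (.leaf
  0))))) (.node 4 (.node 2 (.node 1 (.leaf
  0) (.leaf
  0)) (.node 1 (.leaf
  0) (.leaf
  0))) (.node 2 (.node 1 (.leaf
  0) (.leaf
  0)) (.node 1 (.leaf
  0) (.node 1 (.leaf
  0) (.leaf
  0))))))) (.node 18 (.node 9 (.node 4 (.node 2 (.node 1 (.leaf
  0) (.leaf
  0)) (.node 1 (.leaf
  0) (.leaf
  0))) (.node 2 (.node 1 (.leaf
  0) (.leaf
  0)) (.node 1 (.leaf
  0) (.node 1 (.leaf
  0) (.leaf
  0))))) (.node 4 (.node 2 (.node 1 (.leaf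
  0) (.leaf
  0)) (.node 1 (.leaf
  0) (.leaf
  0))) (.node 2 (.node 1 (.leaf
  0) (.leaf
  0)) (.node 1 (.leaf
  0) (.node 1 (.leaf
  0) (.leaf
  0)))))) (.node 9 (.node 4 (.node 2 (.node 1 (.leaf
  0) (.leaf
  0)) (.node 1 (.leaf
  0) (.leaf
  0))) (.node 2 (.node 1 (.leaf
  0) (.leaf
  0)) (.node 1 (.leaf
  0) (.node 1 (.leaf
  0) (.leaf
  0))))) (.node 4 (.node 2 (.node 1 (.leaf
  0) (.leaf
  0)) (.node 1 (.leaf
  0) (.leaf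
  0))) (.node 2 (.node 1 (.leaf
  0) (.leaf
  6453816)) (.node 1 (.leaf
  6451492) (.node 1 (.leaf
  7243008) (.leaf
  7245120)))))))) (.node 36 (.node 18 (.node 9 (.node 4 (.node 2 (.node 1 (.leaf
  0) (.leaf
  0)) (.node 1 (.leaf
  0) (.leaf
  0))) (.node 2 (.node 1 (.leaf
  0) (.leaf
  0)) (.node 1 (.leaf
  0) (.node 1 (.leaf
  0) (.leaf
  6451300))))) (.node 4 (.node 2 (.node 1 (.leaf
  6454020) (.leaf
  7242592)) (.node 1 (.leaf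
  7096824) (.leaf
  0))) (.node 2 (.node 1 (.leaf
  0) (.leaf
  0)) (.node 1 (.leaf
  0) (.node 1 (.leaf
  0) (.leaf
  0)))))) (.node 9 (.node 4 (.node 2 (.node 1 (.leaf
  0) (.leaf
  0)) (.node 1 (.leaf
  0) (.leaf
  0))) (.node 2 (.node 1 (.leaf
  0) (.leaf
  0)) (.node 1 (.leaf
  0) (.node 1 (.leaf
  0) (.leaf
  0))))) (.node 4 (.node 2 (.node 1 (.leaf
  0) (.leaf
  0)) (.node 1 (.leaf
  0) (.leaf
  0))) (.node 2 (.node 1 (.leaf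
  0) (.leaf
  0)) (.node 1 (.leaf
  0) (.node 1 (.leaf
  0) (.leaf
  0))))))) (.node 18 (.node 9 (.node 4 (.node 2 (.node 1 (.leaf
  633732) (.leaf
  6738752)) (.node 1 (.leaf
  1830616) (.leaf
  7891000))) (.node 2 (.node 1 (.leaf
  0) (.leaf
  0)) (.node 1 (.leaf
  0) (.node 1 (.leaf
  0) (.leaf
  0))))) (.node 4 (.node 2 (.node 1 (.leaf
  0) (.leaf
  0)) (.node 1 (.leaf
  0) (.leaf
  8165052))) (.node 2 (.node 1 (.leaf
  6738648) (.leaf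
  1437496)) (.node 1 (.leaf
  7888128) (.node 1 (.leaf
  0) (.leaf
  0)))))) (.node 9 (.node 4 (.node 2 (.node 1 (.leaf
  0) (.leaf
  0)) (.node 1 (.leaf
  0) (.leaf
  0))) (.node 2 (.node 1 (.leaf
  0) (.leaf
  0)) (.node 1 (.leaf
  0) (.node 1 (.leaf
  0) (.leaf
  0))))) (.node 4 (.node 2 (.node 1 (.leaf
  0) (.leaf
  0)) (.node 1 (.leaf
  0) (.leaf
  0))) (.node 2 (.node 1 (.leaf
  0) (.leaf
  0)) (.node 1 (.leaf
  0) (.node 1 (.leaf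
  0) (.leaf
  0))))))))) (.node 72 (.node 36 (.node 18 (.node 9 (.node 4 (.node 2 (.node 1 (.leaf
  0) (.leaf
  0)) (.node 1 (.leaf
  0) (.leaf
  0))) (.node 2 (.node 1 (.leaf
  0) (.leaf
  0)) (.node 1 (.leaf
  0) (.node 1 (.leaf
  0) (.leaf
  0))))) (.node 4 (.node 2 (.node 1 (.leaf
  0) (.leaf
  0)) (.node 1 (.leaf
  0) (.leaf
  0))) (.node 2 (.node 1 (.leaf
  0) (.leaf
  0)) (.node 1 (.leaf
  0) (.node 1 (.leaf
  0) (.leaf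
  0)))))) (.node 9 (.node 4 (.node 2 (.node 1 (.leaf
  0) (.leaf
  0)) (.node 1 (.leaf
  0) (.leaf
  0))) (.node 2 (.node 1 (.leaf
  0) (.leaf
  0)) (.node 1 (.leaf
  0) (.node 1 (.leaf
  0) (.leaf
  0))))) (.node 4 (.node 2 (.node 1 (.leaf
  0) (.leaf
  0)) (.node 1 (.leaf
  0) (.leaf
  0))) (.node 2 (.node 1 (.leaf
  0) (.leaf
  0)) (.node 1 (.leaf
  0) (.node 1 (.leaf
  0) (.leaf
  0))))))) (.node 18 (.node 9 (.node 4 (.node 2 (.node 1 (.leaf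
  0) (.leaf
  0)) (.node 1 (.leaf
  0) (.leaf
  0))) (.node 2 (.node 1 (.leaf
  0) (.leaf
  0)) (.node 1 (.leaf
  0) (.node 1 (.leaf
  0) (.leaf
  0))))) (.node 4 (.node 2 (.node 1 (.leaf
  0) (.leaf
  0)) (.node 1 (.leaf
  0) (.leaf
  0))) (.node 2 (.node 1 (.leaf
  0) (.leaf
  0)) (.node 1 (.leaf
  0) (.node 1 (.leaf
  0) (.leaf
  0)))))) (.node 9 (.node 4 (.node 2 (.node 1 (.leaf
  0) (.leaf
  0)) (.node 1 (.leaf
  0) (.leaf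
  0))) (.node 2 (.node 1 (.leaf
  0) (.leaf
  0)) (.node 1 (.leaf
  0) (.node 1 (.leaf
  0) (.leaf
  0))))) (.node 4 (.node 2 (.node 1 (.leaf
  0) (.leaf
  0)) (.node 1 (.leaf
  0) (.leaf
  0))) (.node 2 (.node 1 (.leaf
  0) (.leaf
  0)) (.node 1 (.leaf
  0) (.node 1 (.leaf
  0) (.leaf
  0)))))))) (.node 36 (.node 18 (.node 9 (.node 4 (.node 2 (.node 1 (.leaf
  0) (.leaf
  0)) (.node 1 (.leaf
  0) (.leaf
  0))) (.node 2 (.node 1 (.leaf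
  0) (.leaf
  0)) (.node 1 (.leaf
  0) (.node 1 (.leaf
  0) (.leaf
  0))))) (.node 4 (.node 2 (.node 1 (.leaf
  0) (.leaf
  0)) (.node 1 (.leaf
  0) (.leaf
  0))) (.node 2 (.node 1 (.leaf
  0) (.leaf
  0)) (.node 1 (.leaf
  0) (.node 1 (.leaf
  0) (.leaf
  0)))))) (.node 9 (.node 4 (.node 2 (.node 1 (.leaf
  0) (.leaf
  0)) (.node 1 (.leaf
  0) (.leaf
  0))) (.node 2 (.node 1 (.leaf
  0) (.leaf
  0)) (.node 1 (.leaf
  0) (.node 1 (.leaf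
  0) (.leaf
  0))))) (.node 4 (.node 2 (.node 1 (.leaf
  0) (.leaf
  0)) (.node 1 (.leaf
  0) (.leaf
  0))) (.node 2 (.node 1 (.leaf
  0) (.leaf
  0)) (.node 1 (.leaf
  0) (.node 1 (.leaf
  0) (.leaf
  0))))))) (.node 18 (.node 9 (.node 4 (.node 2 (.node 1 (.leaf
  0) (.leaf
  0)) (.node 1 (.leaf
  0) (.leaf
  0))) (.node 2 (.node 1 (.leaf
  0) (.leaf
  0)) (.node 1 (.leaf
  0) (.node 1 (.leaf
  0) (.leaf
  0))))) (.node 4 (.node 2 (.node 1 (.leaf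
  0) (.leaf
  0)) (.node 1 (.leaf
  0) (.leaf
  0))) (.node 2 (.node 1 (.leaf
  0) (.leaf
  0)) (.node 1 (.leaf
  0) (.node 1 (.leaf
  0) (.leaf
  0)))))) (.node 9 (.node 4 (.node 2 (.node 1 (.leaf
  0) (.leaf
  0)) (.node 1 (.leaf
  0) (.leaf
  0))) (.node 2 (.node 1 (.leaf
  0) (.leaf
  0)) (.node 1 (.leaf
  0) (.node 1 (.leaf
  0) (.leaf
  0))))) (.node 4 (.node 2 (.node 1 (.leaf
  0) (.leaf
  0)) (.node 1 (.leaf
  0) (.leaf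
  0))) (.node 2 (.node 1 (.leaf
  0) (.leaf
  0)) (.node 1 (.leaf
  0) (.node 1 (.leaf
  0) (.leaf
  0)))))))))) (.node 144 (.node 72 (.node 36 (.node 18 (.node 9 (.node 4 (.node 2 (.node 1 (.leaf
  0) (.leaf
  0)) (.node 1 (.leaf
  0) (.leaf
  0))) (.node 2 (.node 1 (.leaf
  0) (.leaf
  0)) (.node 1 (.leaf
  0) (.node 1 (.leaf
  0) (.leaf
  0))))) (.node 4 (.node 2 (.node 1 (.leaf
  0) (.leaf
  0)) (.node 1 (.leaf
  0) (.leaf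
  0))) (.node 2 (.node 1 (.leaf
  0) (.leaf
  0)) (.node 1 (.leaf
  0) (.node 1 (.leaf
  0) (.leaf
  0)))))) (.node 9 (.node 4 (.node 2 (.node 1 (.leaf
  0) (.leaf
  0)) (.node 1 (.leaf
  0) (.leaf
  0))) (.node 2 (.node 1 (.leaf
  0) (.leaf
  0)) (.node 1 (.leaf
  0) (.node 1 (.leaf
  0) (.leaf
  0))))) (.node 4 (.node 2 (.node 1 (.leaf
  0) (.leaf
  0)) (.node 1 (.leaf
  0) (.leaf
  0))) (.node 2 (.node 1 (.leaf
  0) (.leaf
  0)) (.node 1 (.leaf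
  0) (.node 1 (.leaf
  0) (.leaf
  0))))))) (.node 18 (.node 9 (.node 4 (.node 2 (.node 1 (.leaf
  0) (.leaf
  0)) (.node 1 (.leaf
  0) (.leaf
  0))) (.node 2 (.node 1 (.leaf
  0) (.leaf
  0)) (.node 1 (.leaf
  0) (.node 1 (.leaf
  0) (.leaf
  0))))) (.node 4 (.node 2 (.node 1 (.leaf
  0) (.leaf
  0)) (.node 1 (.leaf
  0) (.leaf
  0))) (.node 2 (.node 1 (.leaf
  0) (.leaf
  0)) (.node 1 (.leaf
  0) (.node 1 (.leaf
  0) (.leaf
  0)))))) (.node 9 (.node 4 (.node 2 (.node 1 (.leaf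
  0) (.leaf
  0)) (.node 1 (.leaf
  0) (.leaf
  0))) (.node 2 (.node 1 (.leaf
  0) (.leaf
  0)) (.node 1 (.leaf
  0) (.node 1 (.leaf
  0) (.leaf
  0))))) (.node 4 (.node 2 (.node 1 (.leaf
  0) (.leaf
  0)) (.node 1 (.leaf
  0) (.leaf
  0))) (.node 2 (.node 1 (.leaf
  0) (.leaf
  0)) (.node 1 (.leaf
  0) (.node 1 (.leaf
  0) (.leaf
  0)))))))) (.node 36 (.node 18 (.node 9 (.node 4 (.node 2 (.node 1 (.leaf
  0) (.leaf
  0)) (.node 1 (.leaf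
  0) (.leaf
  0))) (.node 2 (.node 1 (.leaf
  0) (.leaf
  0)) (.node 1 (.leaf
  0) (.node 1 (.leaf
  0) (.leaf
  0))))) (.node 4 (.node 2 (.node 1 (.leaf
  0) (.leaf
  0)) (.node 1 (.leaf
  0) (.leaf
  0))) (.node 2 (.node 1 (.leaf
  0) (.leaf
  0)) (.node 1 (.leaf
  0) (.node 1 (.leaf
  0) (.leaf
  0)))))) (.node 9 (.node 4 (.node 2 (.node 1 (.leaf
  0) (.leaf
  0)) (.node 1 (.leaf
  0) (.leaf
  0))) (.node 2 (.node 1 (.leaf
  0) (.leaf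
  0)) (.node 1 (.leaf
  0) (.node 1 (.leaf
  0) (.leaf
  0))))) (.node 4 (.node 2 (.node 1 (.leaf
  0) (.leaf
  0)) (.node 1 (.leaf
  0) (.leaf
  0))) (.node 2 (.node 1 (.leaf
  0) (.leaf
  0)) (.node 1 (.leaf
  0) (.node 1 (.leaf
  0) (.leaf
  0))))))) (.node 18 (.node 9 (.node 4 (.node 2 (.node 1 (.leaf
  0) (.leaf
  0)) (.node 1 (.leaf
  0) (.leaf
  0))) (.node 2 (.node 1 (.leaf
  0) (.leaf
  0)) (.node 1 (.leaf
  0) (.node 1 (.leaf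
  0) (.leaf
  0))))) (.node 4 (.node 2 (.node 1 (.leaf
  0) (.leaf
  0)) (.node 1 (.leaf
  0) (.leaf
  0))) (.node 2 (.node 1 (.leaf
  0) (.leaf
  0)) (.node 1 (.leaf
  0) (.node 1 (.leaf
  0) (.leaf
  0)))))) (.node 9 (.node 4 (.node 2 (.node 1 (.leaf
  0) (.leaf
  0)) (.node 1 (.leaf
  0) (.leaf
  0))) (.node 2 (.node 1 (.leaf
  0) (.leaf
  0)) (.node 1 (.leaf
  0) (.node 1 (.leaf
  0) (.leaf
  0))))) (.node 4 (.node 2 (.node 1 (.leaf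
  0) (.leaf
  0)) (.node 1 (.leaf
  0) (.leaf
  0))) (.node 2 (.node 1 (.leaf
  0) (.leaf
  0)) (.node 1 (.leaf
  0) (.node 1 (.leaf
  0) (.leaf
  0))))))))) (.node 72 (.node 36 (.node 18 (.node 9 (.node 4 (.node 2 (.node 1 (.leaf
  0) (.leaf
  0)) (.node 1 (.leaf
  0) (.leaf
  0))) (.node 2 (.node 1 (.leaf
  0) (.leaf
  0)) (.node 1 (.leaf
  0) (.node 1 (.leaf
  0) (.leaf
  0))))) (.node 4 (.node 2 (.node 1 (.leaf
  0) (.leaf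
  0)) (.node 1 (.leaf
  0) (.leaf
  0))) (.node 2 (.node 1 (.leaf
  0) (.leaf
  0)) (.node 1 (.leaf
  0) (.node 1 (.leaf
  0) (.leaf
  0)))))) (.node 9 (.node 4 (.node 2 (.node 1 (.leaf
  0) (.leaf
  0)) (.node 1 (.leaf
  0) (.leaf
  0))) (.node 2 (.node 1 (.leaf
  0) (.leaf
  0)) (.node 1 (.leaf
  0) (.node 1 (.leaf
  0) (.leaf
  0))))) (.node 4 (.node 2 (.node 1 (.leaf
  0) (.leaf
  0)) (.node 1 (.leaf
  0) (.leaf
  0))) (.node 2 (.node 1 (.leaf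
  0) (.leaf
  0)) (.node 1 (.leaf
  0) (.node 1 (.leaf
  0) (.leaf
  0))))))) (.node 18 (.node 9 (.node 4 (.node 2 (.node 1 (.leaf
  0) (.leaf
  0)) (.node 1 (.leaf
  0) (.leaf
  0))) (.node 2 (.node 1 (.leaf
  0) (.leaf
  0)) (.node 1 (.leaf
  0) (.node 1 (.leaf
  0) (.leaf
  0))))) (.node 4 (.node 2 (.node 1 (.leaf
  0) (.leaf
  0)) (.node 1 (.leaf
  0) (.leaf
  0))) (.node 2 (.node 1 (.leaf
  0) (.leaf
  0)) (.node 1 (.leaf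
  0) (.node 1 (.leaf
  0) (.leaf
  0)))))) (.node 9 (.node 4 (.node 2 (.node 1 (.leaf
  0) (.leaf
  0)) (.node 1 (.leaf
  0) (.leaf
  0))) (.node 2 (.node 1 (.leaf
  0) (.leaf
  0)) (.node 1 (.leaf
  0) (.node 1 (.leaf
  0) (.leaf
  0))))) (.node 4 (.node 2 (.node 1 (.leaf
  0) (.leaf
  0)) (.node 1 (.leaf
  0) (.leaf
  0))) (.node 2 (.node 1 (.leaf
  0) (.leaf
  0)) (.node 1 (.leaf
  0) (.node 1 (.leaf
  0) (.leaf
  0)))))))) (.node 36 (.node 18 (.node 9 (.node 4 (.node 2 (.node 1 (.leaf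
  0) (.leaf
  0)) (.node 1 (.leaf
  0) (.leaf
  0))) (.node 2 (.node 1 (.leaf
  0) (.leaf
  0)) (.node 1 (.leaf
  0) (.node 1 (.leaf
  0) (.leaf
  0))))) (.node 4 (.node 2 (.node 1 (.leaf
  0) (.leaf
  0)) (.node 1 (.leaf
  0) (.leaf
  0))) (.node 2 (.node 1 (.leaf
  0) (.leaf
  0)) (.node 1 (.leaf
  0) (.node 1 (.leaf
  0) (.leaf
  0)))))) (.node 9 (.node 4 (.node 2 (.node 1 (.leaf
  0) (.leaf
  0)) (.node 1 (.leaf
  0) (.leaf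
  0))) (.node 2 (.node 1 (.leaf
  0) (.leaf
  0)) (.node 1 (.leaf
  0) (.node 1 (.leaf
  0) (.leaf
  0))))) (.node 4 (.node 2 (.node 1 (.leaf
  0) (.leaf
  0)) (.node 1 (.leaf
  0) (.leaf
  0))) (.node 2 (.node 1 (.leaf
  0) (.leaf
  0)) (.node 1 (.leaf
  0) (.node 1 (.leaf
  0) (.leaf
  0))))))) (.node 18 (.node 9 (.node 4 (.node 2 (.node 1 (.leaf
  0) (.leaf
  0)) (.node 1 (.leaf
  0) (.leaf
  0))) (.node 2 (.node 1 (.leaf
  0) (.leaf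
  0)) (.node 1 (.leaf
  0) (.node 1 (.leaf
  0) (.leaf
  0))))) (.node 4 (.node 2 (.node 1 (.leaf
  0) (.leaf
  0)) (.node 1 (.leaf
  0) (.leaf
  0))) (.node 2 (.node 1 (.leaf
  0) (.leaf
  0)) (.node 1 (.leaf
  0) (.node 1 (.leaf
  0) (.leaf
  0)))))) (.node 9 (.node 4 (.node 2 (.node 1 (.leaf
  0) (.leaf
  0)) (.node 1 (.leaf
  0) (.leaf
  0))) (.node 2 (.node 1 (.leaf
  0) (.leaf
  0)) (.node 1 (.leaf
  0) (.node 1 (.leaf
  0) (.leaf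
  0))))) (.node 4 (.node 2 (.node 1 (.leaf
  0) (.leaf
  0)) (.node 1 (.leaf
  0) (.leaf
  0))) (.node 2 (.node 1 (.leaf
  0) (.leaf
  0)) (.node 1 (.leaf
  0) (.node 1 (.leaf
  0) (.leaf
  0)))))))))))) (.node 576 (.node 288 (.node 144 (.node 72 (.node 36 (.node 18 (.node 9 (.node 4 (.node 2 (.node 1 (.leaf
  0) (.leaf
  0)) (.node 1 (.leaf
  0) (.leaf
  0))) (.node 2 (.node 1 (.leaf
  0) (.leaf
  0)) (.node 1 (.leaf
  0) (.node 1 (.leaf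
  0) (.leaf
  0))))) (.node 4 (.node 2 (.node 1 (.leaf
  0) (.leaf
  0)) (.node 1 (.leaf
  0) (.leaf
  0))) (.node 2 (.node 1 (.leaf
  0) (.leaf
  0)) (.node 1 (.leaf
  0) (.node 1 (.leaf
  0) (.leaf
  0)))))) (.node 9 (.node 4 (.node 2 (.node 1 (.leaf
  0) (.leaf
  0)) (.node 1 (.leaf
  0) (.leaf
  0))) (.node 2 (.node 1 (.leaf
  0) (.leaf
  0)) (.node 1 (.leaf
  0) (.node 1 (.leaf
  0) (.leaf
  0))))) (.node 4 (.node 2 (.node 1 (.leaf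
  0) (.leaf
  0)) (.node 1 (.leaf
  0) (.leaf
  0))) (.node 2 (.node 1 (.leaf
  0) (.leaf
  0)) (.node 1 (.leaf
  0) (.node 1 (.leaf
  0) (.leaf
  0))))))) (.node 18 (.node 9 (.node 4 (.node 2 (.node 1 (.leaf
  0) (.leaf
  0)) (.node 1 (.leaf
  0) (.leaf
  0))) (.node 2 (.node 1 (.leaf
  0) (.leaf
  0)) (.node 1 (.leaf
  0) (.node 1 (.leaf
  0) (.leaf
  0))))) (.node 4 (.node 2 (.node 1 (.leaf
  0) (.leaf
  0)) (.node 1 (.leaf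
  0) (.leaf
  0))) (.node 2 (.node 1 (.leaf
  0) (.leaf
  0)) (.node 1 (.leaf
  0) (.node 1 (.leaf
  0) (.leaf
  0)))))) (.node 9 (.node 4 (.node 2 (.node 1 (.leaf
  0) (.leaf
  0)) (.node 1 (.leaf
  0) (.leaf
  0))) (.node 2 (.node 1 (.leaf
  0) (.leaf
  0)) (.node 1 (.leaf
  0) (.node 1 (.leaf
  0) (.leaf
  0))))) (.node 4 (.node 2 (.node 1 (.leaf
  0) (.leaf
  0)) (.node 1 (.leaf
  0) (.leaf
  0))) (.node 2 (.node 1 (.leaf
  0) (.leaf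
  0)) (.node 1 (.leaf
  0) (.node 1 (.leaf
  0) (.leaf
  0)))))))) (.node 36 (.node 18 (.node 9 (.node 4 (.node 2 (.node 1 (.leaf
  0) (.leaf
  0)) (.node 1 (.leaf
  0) (.leaf
  0))) (.node 2 (.node 1 (.leaf
  0) (.leaf
  0)) (.node 1 (.leaf
  0) (.node 1 (.leaf
  0) (.leaf
  0))))) (.node 4 (.node 2 (.node 1 (.leaf
  0) (.leaf
  0)) (.node 1 (.leaf
  0) (.leaf
  0))) (.node 2 (.node 1 (.leaf
  0) (.leaf
  0)) (.node 1 (.leaf
  0) (.node 1 (.leaf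
  0) (.leaf
  0)))))) (.node 9 (.node 4 (.node 2 (.node 1 (.leaf
  0) (.leaf
  0)) (.node 1 (.leaf
  0) (.leaf
  0))) (.node 2 (.node 1 (.leaf
  0) (.leaf
  0)) (.node 1 (.leaf
  0) (.node 1 (.leaf
  0) (.leaf
  0))))) (.node 4 (.node 2 (.node 1 (.leaf
  0) (.leaf
  0)) (.node 1 (.leaf
  0) (.leaf
  0))) (.node 2 (.node 1 (.leaf
  0) (.leaf
  0)) (.node 1 (.leaf
  0) (.node 1 (.leaf
  0) (.leaf
  0))))))) (.node 18 (.node 9 (.node 4 (.node 2 (.node 1 (.leaf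
  0) (.leaf
  0)) (.node 1 (.leaf
  0) (.leaf
  0))) (.node 2 (.node 1 (.leaf
  0) (.leaf
  0)) (.node 1 (.leaf
  0) (.node 1 (.leaf
  0) (.leaf
  0))))) (.node 4 (.node 2 (.node 1 (.leaf
  0) (.leaf
  0)) (.node 1 (.leaf
  0) (.leaf
  0))) (.node 2 (.node 1 (.leaf
  0) (.leaf
  0)) (.node 1 (.leaf
  0) (.node 1 (.leaf
  0) (.leaf
  0)))))) (.node 9 (.node 4 (.node 2 (.node 1 (.leaf
  0) (.leaf
  0)) (.node 1 (.leaf
  0) (.leaf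
  0))) (.node 2 (.node 1 (.leaf
  0) (.leaf
  0)) (.node 1 (.leaf
  0) (.node 1 (.leaf
  0) (.leaf
  0))))) (.node 4 (.node 2 (.node 1 (.leaf
  0) (.leaf
  0)) (.node 1 (.leaf
  0) (.leaf
  0))) (.node 2 (.node 1 (.leaf
  0) (.leaf
  0)) (.node 1 (.leaf
  0) (.node 1 (.leaf
  0) (.leaf
  0))))))))) (.node 72 (.node 36 (.node 18 (.node 9 (.node 4 (.node 2 (.node 1 (.leaf
  0) (.leaf
  0)) (.node 1 (.leaf
  0) (.leaf
  0))) (.node 2 (.node 1 (.leaf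
  0) (.leaf
  0)) (.node 1 (.leaf
  0) (.node 1 (.leaf
  0) (.leaf
  0))))) (.node 4 (.node 2 (.node 1 (.leaf
  0) (.leaf
  0)) (.node 1 (.leaf
  0) (.leaf
  0))) (.node 2 (.node 1 (.leaf
  0) (.leaf
  0)) (.node 1 (.leaf
  0) (.node 1 (.leaf
  0) (.leaf
  0)))))) (.node 9 (.node 4 (.node 2 (.node 1 (.leaf
  0) (.leaf
  0)) (.node 1 (.leaf
  0) (.leaf
  0))) (.node 2 (.node 1 (.leaf
  0) (.leaf
  0)) (.node 1 (.leaf
  0) (.node 1 (.leaf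
  0) (.leaf
  0))))) (.node 4 (.node 2 (.node 1 (.leaf
  0) (.leaf
  0)) (.node 1 (.leaf
  0) (.leaf
  0))) (.node 2 (.node 1 (.leaf
  0) (.leaf
  0)) (.node 1 (.leaf
  0) (.node 1 (.leaf
  0) (.leaf
  0))))))) (.node 18 (.node 9 (.node 4 (.node 2 (.node 1 (.leaf
  0) (.leaf
  0)) (.node 1 (.leaf
  0) (.leaf
  0))) (.node 2 (.node 1 (.leaf
  0) (.leaf
  0)) (.node 1 (.leaf
  0) (.node 1 (.leaf
  0) (.leaf
  0))))) (.node 4 (.node 2 (.node 1 (.leaf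
  0) (.leaf
  0)) (.node 1 (.leaf
  0) (.leaf
  0))) (.node 2 (.node 1 (.leaf
  0) (.leaf
  0)) (.node 1 (.leaf
  0) (.node 1 (.leaf
  0) (.leaf
  0)))))) (.node 9 (.node 4 (.node 2 (.node 1 (.leaf
  0) (.leaf
  0)) (.node 1 (.leaf
  0) (.leaf
  0))) (.node 2 (.node 1 (.leaf
  0) (.leaf
  0)) (.node 1 (.leaf
  0) (.node 1 (.leaf
  0) (.leaf
  0))))) (.node 4 (.node 2 (.node 1 (.leaf
  0) (.leaf
  0)) (.node 1 (.leaf
  0) (.leaf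
  0))) (.node 2 (.node 1 (.leaf
  0) (.leaf
  0)) (.node 1 (.leaf
  0) (.node 1 (.leaf
  0) (.leaf
  0)))))))) (.node 36 (.node 18 (.node 9 (.node 4 (.node 2 (.node 1 (.leaf
  0) (.leaf
  0)) (.node 1 (.leaf
  0) (.leaf
  0))) (.node 2 (.node 1 (.leaf
  0) (.leaf
  0)) (.node 1 (.leaf
  0) (.node 1 (.leaf
  0) (.leaf
  0))))) (.node 4 (.node 2 (.node 1 (.leaf
  0) (.leaf
  0)) (.node 1 (.leaf
  0) (.leaf
  0))) (.node 2 (.node 1 (.leaf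
  0) (.leaf
  0)) (.node 1 (.leaf
  0) (.node 1 (.leaf
  0) (.leaf
  0)))))) (.node 9 (.node 4 (.node 2 (.node 1 (.leaf
  0) (.leaf
  0)) (.node 1 (.leaf
  0) (.leaf
  0))) (.node 2 (.node 1 (.leaf
  0) (.leaf
  0)) (.node 1 (.leaf
  0) (.node 1 (.leaf
  0) (.leaf
  0))))) (.node 4 (.node 2 (.node 1 (.leaf
  0) (.leaf
  0)) (.node 1 (.leaf
  0) (.leaf
  0))) (.node 2 (.node 1 (.leaf
  0) (.leaf
  0)) (.node 1 (.leaf
  0) (.node 1 (.leaf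
  0) (.leaf
  0))))))) (.node 18 (.node 9 (.node 4 (.node 2 (.node 1 (.leaf
  0) (.leaf
  0)) (.node 1 (.leaf
  0) (.leaf
  0))) (.node 2 (.node 1 (.leaf
  0) (.leaf
  0)) (.node 1 (.leaf
  0) (.node 1 (.leaf
  0) (.leaf
  0))))) (.node 4 (.node 2 (.node 1 (.leaf
  0) (.leaf
  0)) (.node 1 (.leaf
  0) (.leaf
  0))) (.node 2 (.node 1 (.leaf
  0) (.leaf
  0)) (.node 1 (.leaf
  0) (.node 1 (.leaf
  0) (.leaf
  0)))))) (.node 9 (.node 4 (.node 2 (.node 1 (.leaf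
  0) (.leaf
  0)) (.node 1 (.leaf
  0) (.leaf
  0))) (.node 2 (.node 1 (.leaf
  0) (.leaf
  0)) (.node 1 (.leaf
  0) (.node 1 (.leaf
  0) (.leaf
  0))))) (.node 4 (.node 2 (.node 1 (.leaf
  0) (.leaf
  0)) (.node 1 (.leaf
  0) (.leaf
  0))) (.node 2 (.node 1 (.leaf
  0) (.leaf
  0)) (.node 1 (.leaf
  0) (.node 1 (.leaf
  0) (.leaf
  0)))))))))) (.node 144 (.node 72 (.node 36 (.node 18 (.node 9 (.node 4 (.node 2 (.node 1 (.leaf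
  0) (.leaf
  0)) (.node 1 (.leaf
  0) (.leaf
  0))) (.node 2 (.node 1 (.leaf
  0) (.leaf
  0)) (.node 1 (.leaf
  0) (.node 1 (.leaf
  0) (.leaf
  0))))) (.node 4 (.node 2 (.node 1 (.leaf
  0) (.leaf
  0)) (.node 1 (.leaf
  0) (.leaf
  0))) (.node 2 (.node 1 (.leaf
  0) (.leaf
  0)) (.node 1 (.leaf
  0) (.node 1 (.leaf
  0) (.leaf
  0)))))) (.node 9 (.node 4 (.node 2 (.node 1 (.leaf
  0) (.leaf
  0)) (.node 1 (.leaf
  0) (.leaf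
  0))) (.node 2 (.node 1 (.leaf
  0) (.leaf
  0)) (.node 1 (.leaf
  0) (.node 1 (.leaf
  0) (.leaf
  0))))) (.node 4 (.node 2 (.node 1 (.leaf
  0) (.leaf
  0)) (.node 1 (.leaf
  0) (.leaf
  0))) (.node 2 (.node 1 (.leaf
  0) (.leaf
  0)) (.node 1 (.leaf
  0) (.node 1 (.leaf
  0) (.leaf
  0))))))) (.node 18 (.node 9 (.node 4 (.node 2 (.node 1 (.leaf
  0) (.leaf
  0)) (.node 1 (.leaf
  0) (.leaf
  0))) (.node 2 (.node 1 (.leaf
  0) (.leaf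
  0)) (.node 1 (.leaf
  0) (.node 1 (.leaf
  0) (.leaf
  0))))) (.node 4 (.node 2 (.node 1 (.leaf
  0) (.leaf
  0)) (.node 1 (.leaf
  0) (.leaf
  0))) (.node 2 (.node 1 (.leaf
  0) (.leaf
  0)) (.node 1 (.leaf
  0) (.node 1 (.leaf
  0) (.leaf
  0)))))) (.node 9 (.node 4 (.node 2 (.node 1 (.leaf
  0) (.leaf
  0)) (.node 1 (.leaf
  0) (.leaf
  0))) (.node 2 (.node 1 (.leaf
  0) (.leaf
  0)) (.node 1 (.leaf
  0) (.node 1 (.leaf
  0) (.leaf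
  0))))) (.node 4 (.node 2 (.node 1 (.leaf
  0) (.leaf
  0)) (.node 1 (.leaf
  0) (.leaf
  0))) (.node 2 (.node 1 (.leaf
  0) (.leaf
  0)) (.node 1 (.leaf
  0) (.node 1 (.leaf
  0) (.leaf
  0)))))))) (.node 36 (.node 18 (.node 9 (.node 4 (.node 2 (.node 1 (.leaf
  0) (.leaf
  0)) (.node 1 (.leaf
  0) (.leaf
  0))) (.node 2 (.node 1 (.leaf
  0) (.leaf
  0)) (.node 1 (.leaf
  0) (.node 1 (.leaf
  0) (.leaf
  0))))) (.node 4 (.node 2 (.node 1 (.leaf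
  0) (.leaf
  0)) (.node 1 (.leaf
  0) (.leaf
  0))) (.node 2 (.node 1 (.leaf
  0) (.leaf
  0)) (.node 1 (.leaf
  0) (.node 1 (.leaf
  0) (.leaf
  0)))))) (.node 9 (.node 4 (.node 2 (.node 1 (.leaf
  0) (.leaf
  0)) (.node 1 (.leaf
  0) (.leaf
  0))) (.node 2 (.node 1 (.leaf
  0) (.leaf
  0)) (.node 1 (.leaf
  2150568) (.node 1 (.leaf
  10889476) (.leaf
  3513760))))) (.node 4 (.node 2 (.node 1 (.leaf
  3513408) (.leaf
  0)) (.node 1 (.leaf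
  0) (.leaf
  0))) (.node 2 (.node 1 (.leaf
  0) (.leaf
  0)) (.node 1 (.leaf
  0) (.node 1 (.leaf
  0) (.leaf
  0))))))) (.node 18 (.node 9 (.node 4 (.node 2 (.node 1 (.leaf
  0) (.leaf
  0)) (.node 1 (.leaf
  0) (.leaf
  0))) (.node 2 (.node 1 (.leaf
  0) (.leaf
  0)) (.node 1 (.leaf
  0) (.node 1 (.leaf
  0) (.leaf
  0))))) (.node 4 (.node 2 (.node 1 (.leaf
  0) (.leaf
  0)) (.node 1 (.leaf
  0) (.leaf
  1836))) (.node 2 (.node 1 (.leaf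
  150612) (.leaf
  3872564)) (.node 1 (.leaf
  1349496) (.node 1 (.leaf
  0) (.leaf
  0)))))) (.node 9 (.node 4 (.node 2 (.node 1 (.leaf
  0) (.leaf
  0)) (.node 1 (.leaf
  0) (.leaf
  0))) (.node 2 (.node 1 (.leaf
  0) (.leaf
  0)) (.node 1 (.leaf
  0) (.node 1 (.leaf
  0) (.leaf
  0))))) (.node 4 (.node 2 (.node 1 (.leaf
  0) (.leaf
  0)) (.node 1 (.leaf
  0) (.leaf
  0))) (.node 2 (.node 1 (.leaf
  0) (.leaf
  3407920)) (.node 1 (.leaf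
  3410088) (.node 1 (.leaf
  4474572) (.leaf
  10869740))))))))) (.node 72 (.node 36 (.node 18 (.node 9 (.node 4 (.node 2 (.node 1 (.leaf
  0) (.leaf
  0)) (.node 1 (.leaf
  0) (.leaf
  0))) (.node 2 (.node 1 (.leaf
  3872868) (.leaf
  1349860)) (.node 1 (.leaf
  150288) (.node 1 (.leaf
  1484) (.leaf
  0))))) (.node 4 (.node 2 (.node 1 (.leaf
  0) (.leaf
  0)) (.node 1 (.leaf
  0) (.leaf
  0))) (.node 2 (.node 1 (.leaf
  0) (.leaf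
  0)) (.node 1 (.leaf
  0) (.node 1 (.leaf
  0) (.leaf
  0)))))) (.node 9 (.node 4 (.node 2 (.node 1 (.leaf
  0) (.leaf
  0)) (.node 1 (.leaf
  0) (.leaf
  0))) (.node 2 (.node 1 (.leaf
  0) (.leaf
  0)) (.node 1 (.leaf
  0) (.node 1 (.leaf
  0) (.leaf
  0))))) (.node 4 (.node 2 (.node 1 (.leaf
  0) (.leaf
  0)) (.node 1 (.leaf
  0) (.leaf
  0))) (.node 2 (.node 1 (.leaf
  0) (.leaf
  0)) (.node 1 (.leaf
  0) (.node 1 (.leaf
  0) (.leaf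
  0))))))) (.node 18 (.node 9 (.node 4 (.node 2 (.node 1 (.leaf
  0) (.leaf
  0)) (.node 1 (.leaf
  0) (.leaf
  0))) (.node 2 (.node 1 (.leaf
  0) (.leaf
  0)) (.node 1 (.leaf
  0) (.node 1 (.leaf
  0) (.leaf
  0))))) (.node 4 (.node 2 (.node 1 (.leaf
  0) (.leaf
  0)) (.node 1 (.leaf
  0) (.leaf
  0))) (.node 2 (.node 1 (.leaf
  0) (.leaf
  0)) (.node 1 (.leaf
  0) (.node 1 (.leaf
  0) (.leaf
  0)))))) (.node 9 (.node 4 (.node 2 (.node 1 (.leaf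
  0) (.leaf
  0)) (.node 1 (.leaf
  0) (.leaf
  0))) (.node 2 (.node 1 (.leaf
  0) (.leaf
  0)) (.node 1 (.leaf
  0) (.node 1 (.leaf
  0) (.leaf
  0))))) (.node 4 (.node 2 (.node 1 (.leaf
  0) (.leaf
  0)) (.node 1 (.leaf
  0) (.leaf
  0))) (.node 2 (.node 1 (.leaf
  0) (.leaf
  0)) (.node 1 (.leaf
  0) (.node 1 (.leaf
  0) (.leaf
  0)))))))) (.node 36 (.node 18 (.node 9 (.node 4 (.node 2 (.node 1 (.leaf
  0) (.leaf
  0)) (.node 1 (.leaf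
  0) (.leaf
  0))) (.node 2 (.node 1 (.leaf
  0) (.leaf
  0)) (.node 1 (.leaf
  0) (.node 1 (.leaf
  0) (.leaf
  0))))) (.node 4 (.node 2 (.node 1 (.leaf
  0) (.leaf
  0)) (.node 1 (.leaf
  0) (.leaf
  0))) (.node 2 (.node 1 (.leaf
  0) (.leaf
  0)) (.node 1 (.leaf
  0) (.node 1 (.leaf
  0) (.leaf
  0)))))) (.node 9 (.node 4 (.node 2 (.node 1 (.leaf
  0) (.leaf
  0)) (.node 1 (.leaf
  0) (.leaf
  0))) (.node 2 (.node 1 (.leaf
  0) (.leaf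
  0)) (.node 1 (.leaf
  0) (.node 1 (.leaf
  0) (.leaf
  0))))) (.node 4 (.node 2 (.node 1 (.leaf
  0) (.leaf
  0)) (.node 1 (.leaf
  0) (.leaf
  0))) (.node 2 (.node 1 (.leaf
  0) (.leaf
  0)) (.node 1 (.leaf
  0) (.node 1 (.leaf
  0) (.leaf
  0))))))) (.node 18 (.node 9 (.node 4 (.node 2 (.node 1 (.leaf
  0) (.leaf
  0)) (.node 1 (.leaf
  0) (.leaf
  0))) (.node 2 (.node 1 (.leaf
  0) (.leaf
  0)) (.node 1 (.leaf
  0) (.node 1 (.leaf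
  0) (.leaf
  0))))) (.node 4 (.node 2 (.node 1 (.leaf
  0) (.leaf
  0)) (.node 1 (.leaf
  0) (.leaf
  0))) (.node 2 (.node 1 (.leaf
  0) (.leaf
  0)) (.node 1 (.leaf
  0) (.node 1 (.leaf
  0) (.leaf
  0)))))) (.node 9 (.node 4 (.node 2 (.node 1 (.leaf
  0) (.leaf
  0)) (.node 1 (.leaf
  0) (.leaf
  0))) (.node 2 (.node 1 (.leaf
  0) (.leaf
  0)) (.node 1 (.leaf
  0) (.node 1 (.leaf
  0) (.leaf
  0))))) (.node 4 (.node 2 (.node 1 (.leaf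
  0) (.leaf
  0)) (.node 1 (.leaf
  0) (.leaf
  0))) (.node 2 (.node 1 (.leaf
  0) (.leaf
  0)) (.node 1 (.leaf
  0) (.node 1 (.leaf
  0) (.leaf
  0))))))))))) (.node 288 (.node 144 (.node 72 (.node 36 (.node 18 (.node 9 (.node 4 (.node 2 (.node 1 (.leaf
  1437460) (.leaf
  7925928)) (.node 1 (.leaf
  8166432) (.leaf
  8165828))) (.node 2 (.node 1 (.leaf
  0) (.leaf
  0)) (.node 1 (.leaf
  0) (.node 1 (.leaf
  0) (.leaf
  0))))) (.node 4 (.node 2 (.node 1 (.leaf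
  0) (.leaf
  0)) (.node 1 (.leaf
  0) (.leaf
  0))) (.node 2 (.node 1 (.leaf
  0) (.leaf
  0)) (.node 1 (.leaf
  0) (.node 1 (.leaf
  0) (.leaf
  0)))))) (.node 9 (.node 4 (.node 2 (.node 1 (.leaf
  0) (.leaf
  0)) (.node 1 (.leaf
  0) (.leaf
  0))) (.node 2 (.node 1 (.leaf
  0) (.leaf
  0)) (.node 1 (.leaf
  7888396) (.node 1 (.leaf
  5343568) (.leaf
  2582644))))) (.node 4 (.node 2 (.node 1 (.leaf
  11116324) (.leaf
  0)) (.node 1 (.leaf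
  0) (.leaf
  0))) (.node 2 (.node 1 (.leaf
  0) (.leaf
  0)) (.node 1 (.leaf
  0) (.node 1 (.leaf
  0) (.leaf
  0))))))) (.node 18 (.node 9 (.node 4 (.node 2 (.node 1 (.leaf
  0) (.leaf
  0)) (.node 1 (.leaf
  0) (.leaf
  0))) (.node 2 (.node 1 (.leaf
  0) (.leaf
  0)) (.node 1 (.leaf
  0) (.node 1 (.leaf
  0) (.leaf
  3702116))))) (.node 4 (.node 2 (.node 1 (.leaf
  1346924) (.leaf
  8029676)) (.node 1 (.leaf
  8029600) (.leaf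
  0))) (.node 2 (.node 1 (.leaf
  0) (.leaf
  0)) (.node 1 (.leaf
  0) (.node 1 (.leaf
  11114192) (.leaf
  2582844)))))) (.node 9 (.node 4 (.node 2 (.node 1 (.leaf
  7890556) (.leaf
  5343176)) (.node 1 (.leaf
  0) (.leaf
  0))) (.node 2 (.node 1 (.leaf
  0) (.leaf
  0)) (.node 1 (.leaf
  0) (.node 1 (.leaf
  0) (.leaf
  0))))) (.node 4 (.node 2 (.node 1 (.leaf
  0) (.leaf
  0)) (.node 1 (.leaf
  0) (.leaf
  0))) (.node 2 (.node 1 (.leaf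
  0) (.leaf
  0)) (.node 1 (.leaf
  0) (.node 1 (.leaf
  0) (.leaf
  0)))))))) (.node 36 (.node 18 (.node 9 (.node 4 (.node 2 (.node 1 (.leaf
  0) (.leaf
  0)) (.node 1 (.leaf
  0) (.leaf
  0))) (.node 2 (.node 1 (.leaf
  0) (.leaf
  0)) (.node 1 (.leaf
  0) (.node 1 (.leaf
  0) (.leaf
  0))))) (.node 4 (.node 2 (.node 1 (.leaf
  0) (.leaf
  0)) (.node 1 (.leaf
  0) (.leaf
  0))) (.node 2 (.node 1 (.leaf
  0) (.leaf
  0)) (.node 1 (.leaf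
  0) (.node 1 (.leaf
  0) (.leaf
  0)))))) (.node 9 (.node 4 (.node 2 (.node 1 (.leaf
  0) (.leaf
  0)) (.node 1 (.leaf
  0) (.leaf
  0))) (.node 2 (.node 1 (.leaf
  0) (.leaf
  0)) (.node 1 (.leaf
  0) (.node 1 (.leaf
  0) (.leaf
  0))))) (.node 4 (.node 2 (.node 1 (.leaf
  0) (.leaf
  0)) (.node 1 (.leaf
  0) (.leaf
  0))) (.node 2 (.node 1 (.leaf
  0) (.leaf
  0)) (.node 1 (.leaf
  0) (.node 1 (.leaf
  0) (.leaf
  0))))))) (.node 18 (.node 9 (.node 4 (.node 2 (.node 1 (.leaf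
  0) (.leaf
  0)) (.node 1 (.leaf
  0) (.leaf
  0))) (.node 2 (.node 1 (.leaf
  9827836) (.leaf
  8676072)) (.node 1 (.leaf
  146260) (.node 1 (.leaf
  3928840) (.leaf
  0))))) (.node 4 (.node 2 (.node 1 (.leaf
  0) (.leaf
  0)) (.node 1 (.leaf
  0) (.leaf
  146280))) (.node 2 (.node 1 (.leaf
  3929432) (.leaf
  3375996)) (.node 1 (.leaf
  11508496) (.node 1 (.leaf
  0) (.leaf
  0)))))) (.node 9 (.node 4 (.node 2 (.node 1 (.leaf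
  0) (.leaf
  0)) (.node 1 (.leaf
  40) (.leaf
  108))) (.node 2 (.node 1 (.leaf
  8287972) (.leaf
  8290268)) (.node 1 (.leaf
  0) (.node 1 (.leaf
  0) (.leaf
  0))))) (.node 4 (.node 2 (.node 1 (.leaf
  0) (.leaf
  4518748)) (.node 1 (.leaf
  7246204) (.leaf
  488))) (.node 2 (.node 1 (.leaf
  149248) (.leaf
  0)) (.node 1 (.leaf
  0) (.node 1 (.leaf
  0) (.leaf
  0))))))))) (.node 72 (.node 36 (.node 18 (.node 9 (.node 4 (.node 2 (.node 1 (.leaf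
  0) (.leaf
  0)) (.node 1 (.leaf
  0) (.leaf
  0))) (.node 2 (.node 1 (.leaf
  0) (.leaf
  0)) (.node 1 (.leaf
  0) (.node 1 (.leaf
  0) (.leaf
  0))))) (.node 4 (.node 2 (.node 1 (.leaf
  0) (.leaf
  0)) (.node 1 (.leaf
  0) (.leaf
  0))) (.node 2 (.node 1 (.leaf
  0) (.leaf
  0)) (.node 1 (.leaf
  0) (.node 1 (.leaf
  0) (.leaf
  0)))))) (.node 9 (.node 4 (.node 2 (.node 1 (.leaf
  0) (.leaf
  0)) (.node 1 (.leaf
  0) (.leaf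
  0))) (.node 2 (.node 1 (.leaf
  0) (.leaf
  0)) (.node 1 (.leaf
  0) (.node 1 (.leaf
  0) (.leaf
  0))))) (.node 4 (.node 2 (.node 1 (.leaf
  0) (.leaf
  0)) (.node 1 (.leaf
  0) (.leaf
  0))) (.node 2 (.node 1 (.leaf
  0) (.leaf
  0)) (.node 1 (.leaf
  0) (.node 1 (.leaf
  0) (.leaf
  0))))))) (.node 18 (.node 9 (.node 4 (.node 2 (.node 1 (.leaf
  0) (.leaf
  0)) (.node 1 (.leaf
  0) (.leaf
  0))) (.node 2 (.node 1 (.leaf
  0) (.leaf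
  0)) (.node 1 (.leaf
  0) (.node 1 (.leaf
  0) (.leaf
  0))))) (.node 4 (.node 2 (.node 1 (.leaf
  0) (.leaf
  0)) (.node 1 (.leaf
  0) (.leaf
  0))) (.node 2 (.node 1 (.leaf
  0) (.leaf
  0)) (.node 1 (.leaf
  0) (.node 1 (.leaf
  0) (.leaf
  0)))))) (.node 9 (.node 4 (.node 2 (.node 1 (.leaf
  0) (.leaf
  0)) (.node 1 (.leaf
  0) (.leaf
  0))) (.node 2 (.node 1 (.leaf
  0) (.leaf
  0)) (.node 1 (.leaf
  0) (.node 1 (.leaf
  0) (.leaf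
  0))))) (.node 4 (.node 2 (.node 1 (.leaf
  0) (.leaf
  8674296)) (.node 1 (.leaf
  4474132) (.leaf
  1346676))) (.node 2 (.node 1 (.leaf
  3873428) (.leaf
  0)) (.node 1 (.leaf
  0) (.node 1 (.leaf
  0) (.leaf
  0)))))))) (.node 36 (.node 18 (.node 9 (.node 4 (.node 2 (.node 1 (.leaf
  1893672) (.leaf
  9861192)) (.node 1 (.leaf
  2726692) (.leaf
  2726684))) (.node 2 (.node 1 (.leaf
  0) (.leaf
  0)) (.node 1 (.leaf
  0) (.node 1 (.leaf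
  0) (.leaf
  0))))) (.node 4 (.node 2 (.node 1 (.leaf
  0) (.leaf
  0)) (.node 1 (.leaf
  0) (.leaf
  0))) (.node 2 (.node 1 (.leaf
  0) (.leaf
  0)) (.node 1 (.leaf
  0) (.node 1 (.leaf
  0) (.leaf
  0)))))) (.node 9 (.node 4 (.node 2 (.node 1 (.leaf
  0) (.leaf
  0)) (.node 1 (.leaf
  0) (.leaf
  0))) (.node 2 (.node 1 (.leaf
  0) (.leaf
  0)) (.node 1 (.leaf
  0) (.node 1 (.leaf
  0) (.leaf
  0))))) (.node 4 (.node 2 (.node 1 (.leaf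
  0) (.leaf
  0)) (.node 1 (.leaf
  0) (.leaf
  0))) (.node 2 (.node 1 (.leaf
  0) (.leaf
  0)) (.node 1 (.leaf
  0) (.node 1 (.leaf
  0) (.leaf
  0))))))) (.node 18 (.node 9 (.node 4 (.node 2 (.node 1 (.leaf
  0) (.leaf
  0)) (.node 1 (.leaf
  0) (.leaf
  0))) (.node 2 (.node 1 (.leaf
  0) (.leaf
  0)) (.node 1 (.leaf
  0) (.node 1 (.leaf
  0) (.leaf
  0))))) (.node 4 (.node 2 (.node 1 (.leaf
  0) (.leaf
  0)) (.node 1 (.leaf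
  0) (.leaf
  0))) (.node 2 (.node 1 (.leaf
  0) (.leaf
  0)) (.node 1 (.leaf
  0) (.node 1 (.leaf
  0) (.leaf
  0)))))) (.node 9 (.node 4 (.node 2 (.node 1 (.leaf
  0) (.leaf
  0)) (.node 1 (.leaf
  0) (.leaf
  0))) (.node 2 (.node 1 (.leaf
  0) (.leaf
  0)) (.node 1 (.leaf
  0) (.node 1 (.leaf
  0) (.leaf
  0))))) (.node 4 (.node 2 (.node 1 (.leaf
  0) (.leaf
  0)) (.node 1 (.leaf
  0) (.leaf
  0))) (.node 2 (.node 1 (.leaf
  0) (.leaf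
  0)) (.node 1 (.leaf
  0) (.node 1 (.leaf
  0) (.leaf
  0)))))))))) (.node 144 (.node 72 (.node 36 (.node 18 (.node 9 (.node 4 (.node 2 (.node 1 (.leaf
  1346704) (.leaf
  3870876)) (.node 1 (.leaf
  9826060) (.leaf
  4413632))) (.node 2 (.node 1 (.leaf
  0) (.leaf
  0)) (.node 1 (.leaf
  0) (.node 1 (.leaf
  0) (.leaf
  2580868))))) (.node 4 (.node 2 (.node 1 (.leaf
  2583660) (.leaf
  8167448)) (.node 1 (.leaf
  8167660) (.leaf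
  0))) (.node 2 (.node 1 (.leaf
  0) (.leaf
  0)) (.node 1 (.leaf
  0) (.node 1 (.leaf
  0) (.leaf
  0)))))) (.node 9 (.node 4 (.node 2 (.node 1 (.leaf
  0) (.leaf
  0)) (.node 1 (.leaf
  0) (.leaf
  0))) (.node 2 (.node 1 (.leaf
  0) (.leaf
  0)) (.node 1 (.leaf
  0) (.node 1 (.leaf
  0) (.leaf
  0))))) (.node 4 (.node 2 (.node 1 (.leaf
  0) (.leaf
  0)) (.node 1 (.leaf
  0) (.leaf
  0))) (.node 2 (.node 1 (.leaf
  0) (.leaf
  0)) (.node 1 (.leaf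
  0) (.node 1 (.leaf
  0) (.leaf
  0))))))) (.node 18 (.node 9 (.node 4 (.node 2 (.node 1 (.leaf
  0) (.leaf
  0)) (.node 1 (.leaf
  0) (.leaf
  0))) (.node 2 (.node 1 (.leaf
  0) (.leaf
  0)) (.node 1 (.leaf
  0) (.node 1 (.leaf
  0) (.leaf
  0))))) (.node 4 (.node 2 (.node 1 (.leaf
  0) (.leaf
  0)) (.node 1 (.leaf
  0) (.leaf
  0))) (.node 2 (.node 1 (.leaf
  0) (.leaf
  0)) (.node 1 (.leaf
  0) (.node 1 (.leaf
  0) (.leaf
  0)))))) (.node 9 (.node 4 (.node 2 (.node 1 (.leaf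
  0) (.leaf
  0)) (.node 1 (.leaf
  0) (.leaf
  0))) (.node 2 (.node 1 (.leaf
  0) (.leaf
  0)) (.node 1 (.leaf
  0) (.node 1 (.leaf
  0) (.leaf
  0))))) (.node 4 (.node 2 (.node 1 (.leaf
  0) (.leaf
  0)) (.node 1 (.leaf
  0) (.leaf
  0))) (.node 2 (.node 1 (.leaf
  0) (.leaf
  0)) (.node 1 (.leaf
  0) (.node 1 (.leaf
  0) (.leaf
  0)))))))) (.node 36 (.node 18 (.node 9 (.node 4 (.node 2 (.node 1 (.leaf
  120240) (.leaf
  10324988)) (.node 1 (.leaf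
  3870888) (.leaf
  3871460))) (.node 2 (.node 1 (.leaf
  3871000) (.leaf
  1860)) (.node 1 (.leaf
  4516456) (.node 1 (.leaf
  4516144) (.leaf
  0))))) (.node 4 (.node 2 (.node 1 (.leaf
  0) (.leaf
  0)) (.node 1 (.leaf
  0) (.leaf
  0))) (.node 2 (.node 1 (.leaf
  0) (.leaf
  0)) (.node 1 (.leaf
  0) (.node 1 (.leaf
  0) (.leaf
  0)))))) (.node 9 (.node 4 (.node 2 (.node 1 (.leaf
  0) (.leaf
  0)) (.node 1 (.leaf
  0) (.leaf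
  0))) (.node 2 (.node 1 (.leaf
  0) (.leaf
  0)) (.node 1 (.leaf
  0) (.node 1 (.leaf
  0) (.leaf
  0))))) (.node 4 (.node 2 (.node 1 (.leaf
  0) (.leaf
  0)) (.node 1 (.leaf
  0) (.leaf
  0))) (.node 2 (.node 1 (.leaf
  0) (.leaf
  9823956)) (.node 1 (.leaf
  9823936) (.node 1 (.leaf
  616) (.leaf
  1437424))))))) (.node 18 (.node 9 (.node 4 (.node 2 (.node 1 (.leaf
  5634788) (.leaf
  5634860)) (.node 1 (.leaf
  1291168) (.leaf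
  1437244))) (.node 2 (.node 1 (.leaf
  0) (.leaf
  0)) (.node 1 (.leaf
  0) (.node 1 (.leaf
  0) (.leaf
  0))))) (.node 4 (.node 2 (.node 1 (.leaf
  0) (.leaf
  0)) (.node 1 (.leaf
  0) (.leaf
  0))) (.node 2 (.node 1 (.leaf
  0) (.leaf
  0)) (.node 1 (.leaf
  0) (.node 1 (.leaf
  0) (.leaf
  0)))))) (.node 9 (.node 4 (.node 2 (.node 1 (.leaf
  0) (.leaf
  0)) (.node 1 (.leaf
  0) (.leaf
  0))) (.node 2 (.node 1 (.leaf
  0) (.leaf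
  0)) (.node 1 (.leaf
  0) (.node 1 (.leaf
  0) (.leaf
  0))))) (.node 4 (.node 2 (.node 1 (.leaf
  0) (.leaf
  0)) (.node 1 (.leaf
  0) (.leaf
  0))) (.node 2 (.node 1 (.leaf
  0) (.leaf
  0)) (.node 1 (.leaf
  0) (.node 1 (.leaf
  0) (.leaf
  0))))))))) (.node 72 (.node 36 (.node 18 (.node 9 (.node 4 (.node 2 (.node 1 (.leaf
  0) (.leaf
  0)) (.node 1 (.leaf
  0) (.leaf
  0))) (.node 2 (.node 1 (.leaf
  0) (.leaf
  0)) (.node 1 (.leaf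
  0) (.node 1 (.leaf
  0) (.leaf
  0))))) (.node 4 (.node 2 (.node 1 (.leaf
  0) (.leaf
  0)) (.node 1 (.leaf
  0) (.leaf
  0))) (.node 2 (.node 1 (.leaf
  0) (.leaf
  0)) (.node 1 (.leaf
  0) (.node 1 (.leaf
  0) (.leaf
  0)))))) (.node 9 (.node 4 (.node 2 (.node 1 (.leaf
  0) (.leaf
  0)) (.node 1 (.leaf
  0) (.leaf
  0))) (.node 2 (.node 1 (.leaf
  0) (.leaf
  0)) (.node 1 (.leaf
  0) (.node 1 (.leaf
  0) (.leaf
  0))))) (.node 4 (.node 2 (.node 1 (.leaf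
  0) (.leaf
  0)) (.node 1 (.leaf
  0) (.leaf
  0))) (.node 2 (.node 1 (.leaf
  0) (.leaf
  0)) (.node 1 (.leaf
  0) (.node 1 (.leaf
  0) (.leaf
  0))))))) (.node 18 (.node 9 (.node 4 (.node 2 (.node 1 (.leaf
  0) (.leaf
  0)) (.node 1 (.leaf
  0) (.leaf
  0))) (.node 2 (.node 1 (.leaf
  0) (.leaf
  0)) (.node 1 (.leaf
  0) (.node 1 (.leaf
  0) (.leaf
  0))))) (.node 4 (.node 2 (.node 1 (.leaf
  0) (.leaf
  0)) (.node 1 (.leaf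
  0) (.leaf
  0))) (.node 2 (.node 1 (.leaf
  0) (.leaf
  0)) (.node 1 (.leaf
  0) (.node 1 (.leaf
  0) (.leaf
  0)))))) (.node 9 (.node 4 (.node 2 (.node 1 (.leaf
  0) (.leaf
  0)) (.node 1 (.leaf
  0) (.leaf
  0))) (.node 2 (.node 1 (.leaf
  0) (.leaf
  0)) (.node 1 (.leaf
  0) (.node 1 (.leaf
  0) (.leaf
  0))))) (.node 4 (.node 2 (.node 1 (.leaf
  0) (.leaf
  0)) (.node 1 (.leaf
  0) (.leaf
  0))) (.node 2 (.node 1 (.leaf
  0) (.leaf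
  0)) (.node 1 (.leaf
  0) (.node 1 (.leaf
  0) (.leaf
  0)))))))) (.node 36 (.node 18 (.node 9 (.node 4 (.node 2 (.node 1 (.leaf
  3929448) (.leaf
  1935976)) (.node 1 (.leaf
  5635792) (.leaf
  5638124))) (.node 2 (.node 1 (.leaf
  4516680) (.leaf
  9181328)) (.node 1 (.leaf
  1437396) (.node 1 (.leaf
  792208) (.leaf
  0))))) (.node 4 (.node 2 (.node 1 (.leaf
  0) (.leaf
  0)) (.node 1 (.leaf
  0) (.leaf
  0))) (.node 2 (.node 1 (.leaf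
  0) (.leaf
  0)) (.node 1 (.leaf
  0) (.node 1 (.leaf
  0) (.leaf
  0)))))) (.node 9 (.node 4 (.node 2 (.node 1 (.leaf
  0) (.leaf
  0)) (.node 1 (.leaf
  0) (.leaf
  0))) (.node 2 (.node 1 (.leaf
  0) (.leaf
  0)) (.node 1 (.leaf
  0) (.node 1 (.leaf
  0) (.leaf
  0))))) (.node 4 (.node 2 (.node 1 (.leaf
  0) (.leaf
  0)) (.node 1 (.leaf
  0) (.leaf
  0))) (.node 2 (.node 1 (.leaf
  0) (.leaf
  3871012)) (.node 1 (.leaf
  4018372) (.node 1 (.leaf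
  8677288) (.leaf
  5587652))))))) (.node 18 (.node 9 (.node 4 (.node 2 (.node 1 (.leaf
  1348484) (.leaf
  59108)) (.node 1 (.leaf
  1830364) (.leaf
  5307736))) (.node 2 (.node 1 (.leaf
  0) (.leaf
  0)) (.node 1 (.leaf
  0) (.node 1 (.leaf
  0) (.leaf
  0))))) (.node 4 (.node 2 (.node 1 (.leaf
  0) (.leaf
  0)) (.node 1 (.leaf
  0) (.leaf
  0))) (.node 2 (.node 1 (.leaf
  0) (.leaf
  0)) (.node 1 (.leaf
  0) (.node 1 (.leaf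
  0) (.leaf
  0)))))) (.node 9 (.node 4 (.node 2 (.node 1 (.leaf
  0) (.leaf
  0)) (.node 1 (.leaf
  0) (.leaf
  0))) (.node 2 (.node 1 (.leaf
  0) (.leaf
  0)) (.node 1 (.leaf
  0) (.node 1 (.leaf
  0) (.leaf
  0))))) (.node 4 (.node 2 (.node 1 (.leaf
  0) (.leaf
  0)) (.node 1 (.leaf
  0) (.leaf
  0))) (.node 2 (.node 1 (.leaf
  0) (.leaf
  0)) (.node 1 (.leaf
  0) (.node 1 (.leaf
  0) (.leaf
  0))))))))))))) (.node 1152 (.node 576 (.node 288 (.node 144 (.node 72 (.node 36 (.node 18 (.node 9 (.node 4 (.node 2 (.node 1 (.leaf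
  0) (.leaf
  0)) (.node 1 (.leaf
  0) (.leaf
  0))) (.node 2 (.node 1 (.leaf
  0) (.leaf
  0)) (.node 1 (.leaf
  0) (.node 1 (.leaf
  0) (.leaf
  0))))) (.node 4 (.node 2 (.node 1 (.leaf
  0) (.leaf
  0)) (.node 1 (.leaf
  0) (.leaf
  0))) (.node 2 (.node 1 (.leaf
  0) (.leaf
  0)) (.node 1 (.leaf
  0) (.node 1 (.leaf
  0) (.leaf
  0)))))) (.node 9 (.node 4 (.node 2 (.node 1 (.leaf
  0) (.leaf
  0)) (.node 1 (.leaf
  0) (.leaf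
  0))) (.node 2 (.node 1 (.leaf
  0) (.leaf
  0)) (.node 1 (.leaf
  0) (.node 1 (.leaf
  0) (.leaf
  0))))) (.node 4 (.node 2 (.node 1 (.leaf
  0) (.leaf
  0)) (.node 1 (.leaf
  0) (.leaf
  0))) (.node 2 (.node 1 (.leaf
  0) (.leaf
  0)) (.node 1 (.leaf
  0) (.node 1 (.leaf
  0) (.leaf
  0))))))) (.node 18 (.node 9 (.node 4 (.node 2 (.node 1 (.leaf
  0) (.leaf
  0)) (.node 1 (.leaf
  0) (.leaf
  0))) (.node 2 (.node 1 (.leaf
  0) (.leaf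
  0)) (.node 1 (.leaf
  0) (.node 1 (.leaf
  0) (.leaf
  0))))) (.node 4 (.node 2 (.node 1 (.leaf
  0) (.leaf
  0)) (.node 1 (.leaf
  0) (.leaf
  0))) (.node 2 (.node 1 (.leaf
  0) (.leaf
  0)) (.node 1 (.leaf
  0) (.node 1 (.leaf
  0) (.leaf
  0)))))) (.node 9 (.node 4 (.node 2 (.node 1 (.leaf
  0) (.leaf
  0)) (.node 1 (.leaf
  0) (.leaf
  0))) (.node 2 (.node 1 (.leaf
  0) (.leaf
  0)) (.node 1 (.leaf
  0) (.node 1 (.leaf
  0) (.leaf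
  0))))) (.node 4 (.node 2 (.node 1 (.leaf
  0) (.leaf
  0)) (.node 1 (.leaf
  0) (.leaf
  0))) (.node 2 (.node 1 (.leaf
  0) (.leaf
  0)) (.node 1 (.leaf
  0) (.node 1 (.leaf
  0) (.leaf
  0)))))))) (.node 36 (.node 18 (.node 9 (.node 4 (.node 2 (.node 1 (.leaf
  0) (.leaf
  0)) (.node 1 (.leaf
  0) (.leaf
  0))) (.node 2 (.node 1 (.leaf
  0) (.leaf
  0)) (.node 1 (.leaf
  0) (.node 1 (.leaf
  0) (.leaf
  0))))) (.node 4 (.node 2 (.node 1 (.leaf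
  0) (.leaf
  0)) (.node 1 (.leaf
  0) (.leaf
  0))) (.node 2 (.node 1 (.leaf
  0) (.leaf
  0)) (.node 1 (.leaf
  0) (.node 1 (.leaf
  0) (.leaf
  0)))))) (.node 9 (.node 4 (.node 2 (.node 1 (.leaf
  0) (.leaf
  0)) (.node 1 (.leaf
  0) (.leaf
  0))) (.node 2 (.node 1 (.leaf
  0) (.leaf
  0)) (.node 1 (.leaf
  0) (.node 1 (.leaf
  0) (.leaf
  0))))) (.node 4 (.node 2 (.node 1 (.leaf
  0) (.leaf
  0)) (.node 1 (.leaf
  0) (.leaf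
  0))) (.node 2 (.node 1 (.leaf
  0) (.leaf
  0)) (.node 1 (.leaf
  0) (.node 1 (.leaf
  0) (.leaf
  0))))))) (.node 18 (.node 9 (.node 4 (.node 2 (.node 1 (.leaf
  0) (.leaf
  0)) (.node 1 (.leaf
  0) (.leaf
  0))) (.node 2 (.node 1 (.leaf
  0) (.leaf
  0)) (.node 1 (.leaf
  0) (.node 1 (.leaf
  0) (.leaf
  0))))) (.node 4 (.node 2 (.node 1 (.leaf
  0) (.leaf
  0)) (.node 1 (.leaf
  0) (.leaf
  0))) (.node 2 (.node 1 (.leaf
  0) (.leaf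
  0)) (.node 1 (.leaf
  0) (.node 1 (.leaf
  0) (.leaf
  0)))))) (.node 9 (.node 4 (.node 2 (.node 1 (.leaf
  0) (.leaf
  0)) (.node 1 (.leaf
  0) (.leaf
  0))) (.node 2 (.node 1 (.leaf
  0) (.leaf
  0)) (.node 1 (.leaf
  0) (.node 1 (.leaf
  0) (.leaf
  0))))) (.node 4 (.node 2 (.node 1 (.leaf
  0) (.leaf
  0)) (.node 1 (.leaf
  0) (.leaf
  0))) (.node 2 (.node 1 (.leaf
  0) (.leaf
  0)) (.node 1 (.leaf
  0) (.node 1 (.leaf
  0) (.leaf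
  0))))))))) (.node 72 (.node 36 (.node 18 (.node 9 (.node 4 (.node 2 (.node 1 (.leaf
  0) (.leaf
  0)) (.node 1 (.leaf
  0) (.leaf
  0))) (.node 2 (.node 1 (.leaf
  0) (.leaf
  0)) (.node 1 (.leaf
  0) (.node 1 (.leaf
  0) (.leaf
  0))))) (.node 4 (.node 2 (.node 1 (.leaf
  0) (.leaf
  0)) (.node 1 (.leaf
  0) (.leaf
  0))) (.node 2 (.node 1 (.leaf
  0) (.leaf
  0)) (.node 1 (.leaf
  0) (.node 1 (.leaf
  0) (.leaf
  0)))))) (.node 9 (.node 4 (.node 2 (.node 1 (.leaf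
  0) (.leaf
  0)) (.node 1 (.leaf
  0) (.leaf
  0))) (.node 2 (.node 1 (.leaf
  0) (.leaf
  0)) (.node 1 (.leaf
  0) (.node 1 (.leaf
  0) (.leaf
  0))))) (.node 4 (.node 2 (.node 1 (.leaf
  0) (.leaf
  0)) (.node 1 (.leaf
  0) (.leaf
  0))) (.node 2 (.node 1 (.leaf
  0) (.leaf
  0)) (.node 1 (.leaf
  0) (.node 1 (.leaf
  0) (.leaf
  0))))))) (.node 18 (.node 9 (.node 4 (.node 2 (.node 1 (.leaf
  0) (.leaf
  0)) (.node 1 (.leaf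
  0) (.leaf
  0))) (.node 2 (.node 1 (.leaf
  0) (.leaf
  0)) (.node 1 (.leaf
  0) (.node 1 (.leaf
  0) (.leaf
  0))))) (.node 4 (.node 2 (.node 1 (.leaf
  0) (.leaf
  0)) (.node 1 (.leaf
  0) (.leaf
  0))) (.node 2 (.node 1 (.leaf
  0) (.leaf
  0)) (.node 1 (.leaf
  0) (.node 1 (.leaf
  0) (.leaf
  0)))))) (.node 9 (.node 4 (.node 2 (.node 1 (.leaf
  0) (.leaf
  0)) (.node 1 (.leaf
  0) (.leaf
  0))) (.node 2 (.node 1 (.leaf
  0) (.leaf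
  0)) (.node 1 (.leaf
  0) (.node 1 (.leaf
  0) (.leaf
  0))))) (.node 4 (.node 2 (.node 1 (.leaf
  0) (.leaf
  0)) (.node 1 (.leaf
  0) (.leaf
  0))) (.node 2 (.node 1 (.leaf
  0) (.leaf
  0)) (.node 1 (.leaf
  0) (.node 1 (.leaf
  0) (.leaf
  0)))))))) (.node 36 (.node 18 (.node 9 (.node 4 (.node 2 (.node 1 (.leaf
  0) (.leaf
  0)) (.node 1 (.leaf
  0) (.leaf
  0))) (.node 2 (.node 1 (.leaf
  0) (.leaf
  0)) (.node 1 (.leaf
  0) (.node 1 (.leaf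
  0) (.leaf
  0))))) (.node 4 (.node 2 (.node 1 (.leaf
  0) (.leaf
  0)) (.node 1 (.leaf
  0) (.leaf
  0))) (.node 2 (.node 1 (.leaf
  0) (.leaf
  0)) (.node 1 (.leaf
  0) (.node 1 (.leaf
  0) (.leaf
  0)))))) (.node 9 (.node 4 (.node 2 (.node 1 (.leaf
  0) (.leaf
  0)) (.node 1 (.leaf
  0) (.leaf
  0))) (.node 2 (.node 1 (.leaf
  0) (.leaf
  0)) (.node 1 (.leaf
  0) (.node 1 (.leaf
  0) (.leaf
  0))))) (.node 4 (.node 2 (.node 1 (.leaf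
  0) (.leaf
  0)) (.node 1 (.leaf
  0) (.leaf
  0))) (.node 2 (.node 1 (.leaf
  0) (.leaf
  0)) (.node 1 (.leaf
  0) (.node 1 (.leaf
  0) (.leaf
  0))))))) (.node 18 (.node 9 (.node 4 (.node 2 (.node 1 (.leaf
  0) (.leaf
  0)) (.node 1 (.leaf
  0) (.leaf
  0))) (.node 2 (.node 1 (.leaf
  0) (.leaf
  0)) (.node 1 (.leaf
  0) (.node 1 (.leaf
  0) (.leaf
  0))))) (.node 4 (.node 2 (.node 1 (.leaf
  0) (.leaf
  0)) (.node 1 (.leaf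
  0) (.leaf
  0))) (.node 2 (.node 1 (.leaf
  0) (.leaf
  0)) (.node 1 (.leaf
  0) (.node 1 (.leaf
  0) (.leaf
  0)))))) (.node 9 (.node 4 (.node 2 (.node 1 (.leaf
  0) (.leaf
  0)) (.node 1 (.leaf
  0) (.leaf
  0))) (.node 2 (.node 1 (.leaf
  0) (.leaf
  0)) (.node 1 (.leaf
  0) (.node 1 (.leaf
  0) (.leaf
  0))))) (.node 4 (.node 2 (.node 1 (.leaf
  0) (.leaf
  0)) (.node 1 (.leaf
  0) (.leaf
  0))) (.node 2 (.node 1 (.leaf
  0) (.leaf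
  0)) (.node 1 (.leaf
  0) (.node 1 (.leaf
  0) (.leaf
  0)))))))))) (.node 144 (.node 72 (.node 36 (.node 18 (.node 9 (.node 4 (.node 2 (.node 1 (.leaf
  0) (.leaf
  0)) (.node 1 (.leaf
  0) (.leaf
  0))) (.node 2 (.node 1 (.leaf
  0) (.leaf
  0)) (.node 1 (.leaf
  0) (.node 1 (.leaf
  0) (.leaf
  0))))) (.node 4 (.node 2 (.node 1 (.leaf
  0) (.leaf
  0)) (.node 1 (.leaf
  0) (.leaf
  0))) (.node 2 (.node 1 (.leaf
  0) (.leaf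
  0)) (.node 1 (.leaf
  0) (.node 1 (.leaf
  0) (.leaf
  0)))))) (.node 9 (.node 4 (.node 2 (.node 1 (.leaf
  0) (.leaf
  0)) (.node 1 (.leaf
  0) (.leaf
  0))) (.node 2 (.node 1 (.leaf
  0) (.leaf
  0)) (.node 1 (.leaf
  0) (.node 1 (.leaf
  0) (.leaf
  0))))) (.node 4 (.node 2 (.node 1 (.leaf
  0) (.leaf
  0)) (.node 1 (.leaf
  0) (.leaf
  0))) (.node 2 (.node 1 (.leaf
  0) (.leaf
  0)) (.node 1 (.leaf
  0) (.node 1 (.leaf
  0) (.leaf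
  0))))))) (.node 18 (.node 9 (.node 4 (.node 2 (.node 1 (.leaf
  0) (.leaf
  0)) (.node 1 (.leaf
  0) (.leaf
  0))) (.node 2 (.node 1 (.leaf
  0) (.leaf
  0)) (.node 1 (.leaf
  0) (.node 1 (.leaf
  0) (.leaf
  0))))) (.node 4 (.node 2 (.node 1 (.leaf
  0) (.leaf
  0)) (.node 1 (.leaf
  0) (.leaf
  0))) (.node 2 (.node 1 (.leaf
  0) (.leaf
  0)) (.node 1 (.leaf
  0) (.node 1 (.leaf
  0) (.leaf
  0)))))) (.node 9 (.node 4 (.node 2 (.node 1 (.leaf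
  0) (.leaf
  0)) (.node 1 (.leaf
  0) (.leaf
  0))) (.node 2 (.node 1 (.leaf
  0) (.leaf
  0)) (.node 1 (.leaf
  0) (.node 1 (.leaf
  0) (.leaf
  0))))) (.node 4 (.node 2 (.node 1 (.leaf
  0) (.leaf
  0)) (.node 1 (.leaf
  0) (.leaf
  0))) (.node 2 (.node 1 (.leaf
  0) (.leaf
  0)) (.node 1 (.leaf
  0) (.node 1 (.leaf
  0) (.leaf
  0)))))))) (.node 36 (.node 18 (.node 9 (.node 4 (.node 2 (.node 1 (.leaf
  0) (.leaf
  0)) (.node 1 (.leaf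
  0) (.leaf
  0))) (.node 2 (.node 1 (.leaf
  0) (.leaf
  0)) (.node 1 (.leaf
  0) (.node 1 (.leaf
  0) (.leaf
  0))))) (.node 4 (.node 2 (.node 1 (.leaf
  0) (.leaf
  0)) (.node 1 (.leaf
  0) (.leaf
  0))) (.node 2 (.node 1 (.leaf
  0) (.leaf
  0)) (.node 1 (.leaf
  0) (.node 1 (.leaf
  0) (.leaf
  0)))))) (.node 9 (.node 4 (.node 2 (.node 1 (.leaf
  0) (.leaf
  0)) (.node 1 (.leaf
  0) (.leaf
  0))) (.node 2 (.node 1 (.leaf
  0) (.leaf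
  0)) (.node 1 (.leaf
  0) (.node 1 (.leaf
  0) (.leaf
  0))))) (.node 4 (.node 2 (.node 1 (.leaf
  0) (.leaf
  0)) (.node 1 (.leaf
  0) (.leaf
  0))) (.node 2 (.node 1 (.leaf
  0) (.leaf
  0)) (.node 1 (.leaf
  0) (.node 1 (.leaf
  0) (.leaf
  0))))))) (.node 18 (.node 9 (.node 4 (.node 2 (.node 1 (.leaf
  0) (.leaf
  0)) (.node 1 (.leaf
  0) (.leaf
  0))) (.node 2 (.node 1 (.leaf
  0) (.leaf
  0)) (.node 1 (.leaf
  0) (.node 1 (.leaf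
  0) (.leaf
  0))))) (.node 4 (.node 2 (.node 1 (.leaf
  0) (.leaf
  0)) (.node 1 (.leaf
  0) (.leaf
  0))) (.node 2 (.node 1 (.leaf
  0) (.leaf
  0)) (.node 1 (.leaf
  0) (.node 1 (.leaf
  0) (.leaf
  0)))))) (.node 9 (.node 4 (.node 2 (.node 1 (.leaf
  0) (.leaf
  0)) (.node 1 (.leaf
  0) (.leaf
  0))) (.node 2 (.node 1 (.leaf
  0) (.leaf
  0)) (.node 1 (.leaf
  0) (.node 1 (.leaf
  0) (.leaf
  0))))) (.node 4 (.node 2 (.node 1 (.leaf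
  0) (.leaf
  0)) (.node 1 (.leaf
  0) (.leaf
  0))) (.node 2 (.node 1 (.leaf
  0) (.leaf
  0)) (.node 1 (.leaf
  0) (.node 1 (.leaf
  0) (.leaf
  0))))))))) (.node 72 (.node 36 (.node 18 (.node 9 (.node 4 (.node 2 (.node 1 (.leaf
  0) (.leaf
  0)) (.node 1 (.leaf
  0) (.leaf
  0))) (.node 2 (.node 1 (.leaf
  0) (.leaf
  0)) (.node 1 (.leaf
  0) (.node 1 (.leaf
  0) (.leaf
  0))))) (.node 4 (.node 2 (.node 1 (.leaf
  0) (.leaf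
  0)) (.node 1 (.leaf
  0) (.leaf
  0))) (.node 2 (.node 1 (.leaf
  0) (.leaf
  0)) (.node 1 (.leaf
  0) (.node 1 (.leaf
  0) (.leaf
  0)))))) (.node 9 (.node 4 (.node 2 (.node 1 (.leaf
  0) (.leaf
  0)) (.node 1 (.leaf
  0) (.leaf
  0))) (.node 2 (.node 1 (.leaf
  0) (.leaf
  0)) (.node 1 (.leaf
  0) (.node 1 (.leaf
  0) (.leaf
  0))))) (.node 4 (.node 2 (.node 1 (.leaf
  0) (.leaf
  0)) (.node 1 (.leaf
  0) (.leaf
  0))) (.node 2 (.node 1 (.leaf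
  0) (.leaf
  0)) (.node 1 (.leaf
  0) (.node 1 (.leaf
  0) (.leaf
  0))))))) (.node 18 (.node 9 (.node 4 (.node 2 (.node 1 (.leaf
  0) (.leaf
  0)) (.node 1 (.leaf
  0) (.leaf
  0))) (.node 2 (.node 1 (.leaf
  0) (.leaf
  0)) (.node 1 (.leaf
  0) (.node 1 (.leaf
  0) (.leaf
  0))))) (.node 4 (.node 2 (.node 1 (.leaf
  0) (.leaf
  0)) (.node 1 (.leaf
  0) (.leaf
  0))) (.node 2 (.node 1 (.leaf
  0) (.leaf
  0)) (.node 1 (.leaf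
  0) (.node 1 (.leaf
  0) (.leaf
  0)))))) (.node 9 (.node 4 (.node 2 (.node 1 (.leaf
  0) (.leaf
  0)) (.node 1 (.leaf
  0) (.leaf
  0))) (.node 2 (.node 1 (.leaf
  0) (.leaf
  0)) (.node 1 (.leaf
  0) (.node 1 (.leaf
  0) (.leaf
  0))))) (.node 4 (.node 2 (.node 1 (.leaf
  0) (.leaf
  0)) (.node 1 (.leaf
  0) (.leaf
  0))) (.node 2 (.node 1 (.leaf
  0) (.leaf
  0)) (.node 1 (.leaf
  0) (.node 1 (.leaf
  0) (.leaf
  0)))))))) (.node 36 (.node 18 (.node 9 (.node 4 (.node 2 (.node 1 (.leaf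
  0) (.leaf
  0)) (.node 1 (.leaf
  0) (.leaf
  0))) (.node 2 (.node 1 (.leaf
  0) (.leaf
  0)) (.node 1 (.leaf
  0) (.node 1 (.leaf
  0) (.leaf
  0))))) (.node 4 (.node 2 (.node 1 (.leaf
  0) (.leaf
  0)) (.node 1 (.leaf
  0) (.leaf
  0))) (.node 2 (.node 1 (.leaf
  0) (.leaf
  0)) (.node 1 (.leaf
  0) (.node 1 (.leaf
  791868) (.leaf
  1935644)))))) (.node 9 (.node 4 (.node 2 (.node 1 (.leaf
  5639584) (.leaf
  5636932)) (.node 1 (.leaf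
  0) (.leaf
  0))) (.node 2 (.node 1 (.leaf
  0) (.leaf
  0)) (.node 1 (.leaf
  0) (.node 1 (.leaf
  0) (.leaf
  0))))) (.node 4 (.node 2 (.node 1 (.leaf
  0) (.leaf
  0)) (.node 1 (.leaf
  0) (.leaf
  0))) (.node 2 (.node 1 (.leaf
  0) (.leaf
  0)) (.node 1 (.leaf
  0) (.node 1 (.leaf
  0) (.leaf
  0))))))) (.node 18 (.node 9 (.node 4 (.node 2 (.node 1 (.leaf
  0) (.leaf
  0)) (.node 1 (.leaf
  0) (.leaf
  0))) (.node 2 (.node 1 (.leaf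
  0) (.leaf
  0)) (.node 1 (.leaf
  0) (.node 1 (.leaf
  0) (.leaf
  0))))) (.node 4 (.node 2 (.node 1 (.leaf
  0) (.leaf
  0)) (.node 1 (.leaf
  0) (.leaf
  0))) (.node 2 (.node 1 (.leaf
  0) (.leaf
  0)) (.node 1 (.leaf
  0) (.node 1 (.leaf
  0) (.leaf
  0)))))) (.node 9 (.node 4 (.node 2 (.node 1 (.leaf
  0) (.leaf
  0)) (.node 1 (.leaf
  0) (.leaf
  0))) (.node 2 (.node 1 (.leaf
  0) (.leaf
  0)) (.node 1 (.leaf
  0) (.node 1 (.leaf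
  0) (.leaf
  0))))) (.node 4 (.node 2 (.node 1 (.leaf
  0) (.leaf
  856)) (.node 1 (.leaf
  146428) (.leaf
  3373796))) (.node 2 (.node 1 (.leaf
  11508692) (.leaf
  0)) (.node 1 (.leaf
  0) (.node 1 (.leaf
  0) (.leaf
  0))))))))))) (.node 288 (.node 144 (.node 72 (.node 36 (.node 18 (.node 9 (.node 4 (.node 2 (.node 1 (.leaf
  168) (.leaf
  316)) (.node 1 (.leaf
  8287904) (.leaf
  3515112))) (.node 2 (.node 1 (.leaf
  0) (.leaf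
  0)) (.node 1 (.leaf
  0) (.node 1 (.leaf
  0) (.leaf
  0))))) (.node 4 (.node 2 (.node 1 (.leaf
  0) (.leaf
  0)) (.node 1 (.leaf
  0) (.leaf
  0))) (.node 2 (.node 1 (.leaf
  0) (.leaf
  0)) (.node 1 (.leaf
  0) (.node 1 (.leaf
  0) (.leaf
  0)))))) (.node 9 (.node 4 (.node 2 (.node 1 (.leaf
  0) (.leaf
  0)) (.node 1 (.leaf
  0) (.leaf
  0))) (.node 2 (.node 1 (.leaf
  0) (.leaf
  0)) (.node 1 (.leaf
  0) (.node 1 (.leaf
  0) (.leaf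
  0))))) (.node 4 (.node 2 (.node 1 (.leaf
  0) (.leaf
  0)) (.node 1 (.leaf
  0) (.leaf
  0))) (.node 2 (.node 1 (.leaf
  0) (.leaf
  0)) (.node 1 (.leaf
  0) (.node 1 (.leaf
  0) (.leaf
  0))))))) (.node 18 (.node 9 (.node 4 (.node 2 (.node 1 (.leaf
  0) (.leaf
  0)) (.node 1 (.leaf
  0) (.leaf
  0))) (.node 2 (.node 1 (.leaf
  0) (.leaf
  0)) (.node 1 (.leaf
  0) (.node 1 (.leaf
  0) (.leaf
  0))))) (.node 4 (.node 2 (.node 1 (.leaf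
  0) (.leaf
  0)) (.node 1 (.leaf
  0) (.leaf
  149004))) (.node 2 (.node 1 (.leaf
  768) (.leaf
  4664716)) (.node 1 (.leaf
  7246000) (.node 1 (.leaf
  0) (.leaf
  0)))))) (.node 9 (.node 4 (.node 2 (.node 1 (.leaf
  0) (.leaf
  0)) (.node 1 (.leaf
  0) (.leaf
  0))) (.node 2 (.node 1 (.leaf
  0) (.leaf
  0)) (.node 1 (.leaf
  0) (.node 1 (.leaf
  0) (.leaf
  0))))) (.node 4 (.node 2 (.node 1 (.leaf
  0) (.leaf
  0)) (.node 1 (.leaf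
  0) (.leaf
  0))) (.node 2 (.node 1 (.leaf
  0) (.leaf
  4017264)) (.node 1 (.leaf
  1348808) (.node 1 (.leaf
  3871144) (.leaf
  4471992)))))))) (.node 36 (.node 18 (.node 9 (.node 4 (.node 2 (.node 1 (.leaf
  0) (.leaf
  0)) (.node 1 (.leaf
  0) (.leaf
  0))) (.node 2 (.node 1 (.leaf
  0) (.leaf
  0)) (.node 1 (.leaf
  0) (.node 1 (.leaf
  0) (.leaf
  0))))) (.node 4 (.node 2 (.node 1 (.leaf
  0) (.leaf
  0)) (.node 1 (.leaf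
  0) (.leaf
  0))) (.node 2 (.node 1 (.leaf
  0) (.leaf
  0)) (.node 1 (.leaf
  0) (.node 1 (.leaf
  0) (.leaf
  0)))))) (.node 9 (.node 4 (.node 2 (.node 1 (.leaf
  0) (.leaf
  0)) (.node 1 (.leaf
  0) (.leaf
  0))) (.node 2 (.node 1 (.leaf
  0) (.leaf
  0)) (.node 1 (.leaf
  0) (.node 1 (.leaf
  0) (.leaf
  0))))) (.node 4 (.node 2 (.node 1 (.leaf
  0) (.leaf
  0)) (.node 1 (.leaf
  0) (.leaf
  0))) (.node 2 (.node 1 (.leaf
  0) (.leaf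
  0)) (.node 1 (.leaf
  0) (.node 1 (.leaf
  0) (.leaf
  0))))))) (.node 18 (.node 9 (.node 4 (.node 2 (.node 1 (.leaf
  0) (.leaf
  0)) (.node 1 (.leaf
  0) (.leaf
  0))) (.node 2 (.node 1 (.leaf
  0) (.leaf
  0)) (.node 1 (.leaf
  0) (.node 1 (.leaf
  0) (.leaf
  2726792))))) (.node 4 (.node 2 (.node 1 (.leaf
  2726800) (.leaf
  1891520)) (.node 1 (.leaf
  9858416) (.leaf
  0))) (.node 2 (.node 1 (.leaf
  0) (.leaf
  0)) (.node 1 (.leaf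
  0) (.node 1 (.leaf
  0) (.leaf
  0)))))) (.node 9 (.node 4 (.node 2 (.node 1 (.leaf
  0) (.leaf
  0)) (.node 1 (.leaf
  0) (.leaf
  0))) (.node 2 (.node 1 (.leaf
  0) (.leaf
  0)) (.node 1 (.leaf
  0) (.node 1 (.leaf
  0) (.leaf
  0))))) (.node 4 (.node 2 (.node 1 (.leaf
  0) (.leaf
  0)) (.node 1 (.leaf
  0) (.leaf
  0))) (.node 2 (.node 1 (.leaf
  0) (.leaf
  1349612)) (.node 1 (.leaf
  3870768) (.node 1 (.leaf
  4413244) (.leaf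
  5635264))))))))) (.node 72 (.node 36 (.node 18 (.node 9 (.node 4 (.node 2 (.node 1 (.leaf
  0) (.leaf
  0)) (.node 1 (.leaf
  0) (.leaf
  0))) (.node 2 (.node 1 (.leaf
  0) (.leaf
  0)) (.node 1 (.leaf
  0) (.node 1 (.leaf
  0) (.leaf
  0))))) (.node 4 (.node 2 (.node 1 (.leaf
  0) (.leaf
  0)) (.node 1 (.leaf
  0) (.leaf
  0))) (.node 2 (.node 1 (.leaf
  0) (.leaf
  0)) (.node 1 (.leaf
  0) (.node 1 (.leaf
  0) (.leaf
  0)))))) (.node 9 (.node 4 (.node 2 (.node 1 (.leaf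
  0) (.leaf
  0)) (.node 1 (.leaf
  0) (.leaf
  0))) (.node 2 (.node 1 (.leaf
  0) (.leaf
  0)) (.node 1 (.leaf
  0) (.node 1 (.leaf
  0) (.leaf
  0))))) (.node 4 (.node 2 (.node 1 (.leaf
  0) (.leaf
  0)) (.node 1 (.leaf
  0) (.leaf
  0))) (.node 2 (.node 1 (.leaf
  0) (.leaf
  0)) (.node 1 (.leaf
  0) (.node 1 (.leaf
  0) (.leaf
  0))))))) (.node 18 (.node 9 (.node 4 (.node 2 (.node 1 (.leaf
  0) (.leaf
  0)) (.node 1 (.leaf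
  0) (.leaf
  0))) (.node 2 (.node 1 (.leaf
  0) (.leaf
  0)) (.node 1 (.leaf
  0) (.node 1 (.leaf
  0) (.leaf
  9861120))))) (.node 4 (.node 2 (.node 1 (.leaf
  2729356) (.leaf
  1348536)) (.node 1 (.leaf
  1348852) (.leaf
  0))) (.node 2 (.node 1 (.leaf
  0) (.leaf
  0)) (.node 1 (.leaf
  0) (.node 1 (.leaf
  0) (.leaf
  0)))))) (.node 9 (.node 4 (.node 2 (.node 1 (.leaf
  0) (.leaf
  0)) (.node 1 (.leaf
  0) (.leaf
  0))) (.node 2 (.node 1 (.leaf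
  0) (.leaf
  0)) (.node 1 (.leaf
  0) (.node 1 (.leaf
  0) (.leaf
  0))))) (.node 4 (.node 2 (.node 1 (.leaf
  0) (.leaf
  0)) (.node 1 (.leaf
  0) (.leaf
  0))) (.node 2 (.node 1 (.leaf
  0) (.leaf
  0)) (.node 1 (.leaf
  0) (.node 1 (.leaf
  0) (.leaf
  0)))))))) (.node 36 (.node 18 (.node 9 (.node 4 (.node 2 (.node 1 (.leaf
  0) (.leaf
  0)) (.node 1 (.leaf
  0) (.leaf
  0))) (.node 2 (.node 1 (.leaf
  0) (.leaf
  0)) (.node 1 (.leaf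
  0) (.node 1 (.leaf
  0) (.leaf
  0))))) (.node 4 (.node 2 (.node 1 (.leaf
  0) (.leaf
  0)) (.node 1 (.leaf
  0) (.leaf
  0))) (.node 2 (.node 1 (.leaf
  0) (.leaf
  0)) (.node 1 (.leaf
  0) (.node 1 (.leaf
  5637772) (.leaf
  5637960)))))) (.node 9 (.node 4 (.node 2 (.node 1 (.leaf
  147084) (.leaf
  808)) (.node 1 (.leaf
  0) (.leaf
  0))) (.node 2 (.node 1 (.leaf
  0) (.leaf
  0)) (.node 1 (.leaf
  0) (.node 1 (.leaf
  0) (.leaf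
  0))))) (.node 4 (.node 2 (.node 1 (.leaf
  0) (.leaf
  0)) (.node 1 (.leaf
  0) (.leaf
  0))) (.node 2 (.node 1 (.leaf
  0) (.leaf
  1936324)) (.node 1 (.leaf
  1439528) (.node 1 (.leaf
  4519592) (.leaf
  9179192))))))) (.node 18 (.node 9 (.node 4 (.node 2 (.node 1 (.leaf
  0) (.leaf
  0)) (.node 1 (.leaf
  0) (.leaf
  0))) (.node 2 (.node 1 (.leaf
  0) (.leaf
  0)) (.node 1 (.leaf
  0) (.node 1 (.leaf
  0) (.leaf
  0))))) (.node 4 (.node 2 (.node 1 (.leaf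
  0) (.leaf
  0)) (.node 1 (.leaf
  0) (.leaf
  0))) (.node 2 (.node 1 (.leaf
  0) (.leaf
  0)) (.node 1 (.leaf
  0) (.node 1 (.leaf
  0) (.leaf
  0)))))) (.node 9 (.node 4 (.node 2 (.node 1 (.leaf
  0) (.leaf
  0)) (.node 1 (.leaf
  0) (.leaf
  0))) (.node 2 (.node 1 (.leaf
  0) (.leaf
  0)) (.node 1 (.leaf
  0) (.node 1 (.leaf
  0) (.leaf
  0))))) (.node 4 (.node 2 (.node 1 (.leaf
  0) (.leaf
  0)) (.node 1 (.leaf
  0) (.leaf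
  0))) (.node 2 (.node 1 (.leaf
  0) (.leaf
  0)) (.node 1 (.leaf
  0) (.node 1 (.leaf
  0) (.leaf
  0)))))))))) (.node 144 (.node 72 (.node 36 (.node 18 (.node 9 (.node 4 (.node 2 (.node 1 (.leaf
  0) (.leaf
  0)) (.node 1 (.leaf
  0) (.leaf
  0))) (.node 2 (.node 1 (.leaf
  4020544) (.leaf
  2729404)) (.node 1 (.leaf
  9181324) (.node 1 (.leaf
  6451980) (.leaf
  0))))) (.node 4 (.node 2 (.node 1 (.leaf
  0) (.leaf
  0)) (.node 1 (.leaf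
  0) (.leaf
  0))) (.node 2 (.node 1 (.leaf
  0) (.leaf
  0)) (.node 1 (.leaf
  0) (.node 1 (.leaf
  0) (.leaf
  0)))))) (.node 9 (.node 4 (.node 2 (.node 1 (.leaf
  0) (.leaf
  0)) (.node 1 (.leaf
  1833276) (.leaf
  9216448))) (.node 2 (.node 1 (.leaf
  58720) (.leaf
  1345784)) (.node 1 (.leaf
  0) (.node 1 (.leaf
  0) (.leaf
  0))))) (.node 4 (.node 2 (.node 1 (.leaf
  0) (.leaf
  0)) (.node 1 (.leaf
  0) (.leaf
  0))) (.node 2 (.node 1 (.leaf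
  0) (.leaf
  0)) (.node 1 (.leaf
  0) (.node 1 (.leaf
  0) (.leaf
  0))))))) (.node 18 (.node 9 (.node 4 (.node 2 (.node 1 (.leaf
  0) (.leaf
  0)) (.node 1 (.leaf
  0) (.leaf
  0))) (.node 2 (.node 1 (.leaf
  0) (.leaf
  0)) (.node 1 (.leaf
  0) (.node 1 (.leaf
  0) (.leaf
  0))))) (.node 4 (.node 2 (.node 1 (.leaf
  0) (.leaf
  0)) (.node 1 (.leaf
  0) (.leaf
  0))) (.node 2 (.node 1 (.leaf
  0) (.leaf
  0)) (.node 1 (.leaf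
  0) (.node 1 (.leaf
  0) (.leaf
  0)))))) (.node 9 (.node 4 (.node 2 (.node 1 (.leaf
  0) (.leaf
  0)) (.node 1 (.leaf
  0) (.leaf
  0))) (.node 2 (.node 1 (.leaf
  0) (.leaf
  0)) (.node 1 (.leaf
  0) (.node 1 (.leaf
  0) (.leaf
  0))))) (.node 4 (.node 2 (.node 1 (.leaf
  0) (.leaf
  0)) (.node 1 (.leaf
  0) (.leaf
  0))) (.node 2 (.node 1 (.leaf
  0) (.leaf
  0)) (.node 1 (.leaf
  0) (.node 1 (.leaf
  0) (.leaf
  0)))))))) (.node 36 (.node 18 (.node 9 (.node 4 (.node 2 (.node 1 (.leaf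
  0) (.leaf
  0)) (.node 1 (.leaf
  0) (.leaf
  0))) (.node 2 (.node 1 (.leaf
  3870760) (.leaf
  3874368)) (.node 1 (.leaf
  5307732) (.node 1 (.leaf
  11515672) (.leaf
  0))))) (.node 4 (.node 2 (.node 1 (.leaf
  0) (.leaf
  0)) (.node 1 (.leaf
  0) (.leaf
  0))) (.node 2 (.node 1 (.leaf
  0) (.leaf
  0)) (.node 1 (.leaf
  0) (.node 1 (.leaf
  0) (.leaf
  0)))))) (.node 9 (.node 4 (.node 2 (.node 1 (.leaf
  0) (.leaf
  0)) (.node 1 (.leaf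
  4516432) (.leaf
  5587648))) (.node 2 (.node 1 (.leaf
  3873340) (.leaf
  3872576)) (.node 1 (.leaf
  0) (.node 1 (.leaf
  0) (.leaf
  0))))) (.node 4 (.node 2 (.node 1 (.leaf
  0) (.leaf
  0)) (.node 1 (.leaf
  0) (.leaf
  0))) (.node 2 (.node 1 (.leaf
  0) (.leaf
  0)) (.node 1 (.leaf
  0) (.node 1 (.leaf
  0) (.leaf
  0))))))) (.node 18 (.node 9 (.node 4 (.node 2 (.node 1 (.leaf
  0) (.leaf
  0)) (.node 1 (.leaf
  0) (.leaf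
  0))) (.node 2 (.node 1 (.leaf
  0) (.leaf
  0)) (.node 1 (.leaf
  0) (.node 1 (.leaf
  0) (.leaf
  0))))) (.node 4 (.node 2 (.node 1 (.leaf
  0) (.leaf
  0)) (.node 1 (.leaf
  0) (.leaf
  0))) (.node 2 (.node 1 (.leaf
  0) (.leaf
  0)) (.node 1 (.leaf
  0) (.node 1 (.leaf
  0) (.leaf
  0)))))) (.node 9 (.node 4 (.node 2 (.node 1 (.leaf
  0) (.leaf
  0)) (.node 1 (.leaf
  9823568) (.leaf
  9823556))) (.node 2 (.node 1 (.leaf
  1437812) (.leaf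
  2583808)) (.node 1 (.leaf
  0) (.node 1 (.leaf
  0) (.leaf
  0))))) (.node 4 (.node 2 (.node 1 (.leaf
  0) (.leaf
  0)) (.node 1 (.leaf
  0) (.leaf
  0))) (.node 2 (.node 1 (.leaf
  0) (.leaf
  0)) (.node 1 (.leaf
  0) (.node 1 (.leaf
  0) (.leaf
  0))))))))) (.node 72 (.node 36 (.node 18 (.node 9 (.node 4 (.node 2 (.node 1 (.leaf
  2583964) (.leaf
  1437636)) (.node 1 (.leaf
  5635072) (.leaf
  5634936))) (.node 2 (.node 1 (.leaf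
  0) (.leaf
  0)) (.node 1 (.leaf
  0) (.node 1 (.leaf
  0) (.leaf
  0))))) (.node 4 (.node 2 (.node 1 (.leaf
  0) (.leaf
  0)) (.node 1 (.leaf
  0) (.leaf
  0))) (.node 2 (.node 1 (.leaf
  0) (.leaf
  0)) (.node 1 (.leaf
  0) (.node 1 (.leaf
  0) (.leaf
  0)))))) (.node 9 (.node 4 (.node 2 (.node 1 (.leaf
  0) (.leaf
  0)) (.node 1 (.leaf
  0) (.leaf
  0))) (.node 2 (.node 1 (.leaf
  0) (.leaf
  0)) (.node 1 (.leaf
  0) (.node 1 (.leaf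
  0) (.leaf
  0))))) (.node 4 (.node 2 (.node 1 (.leaf
  0) (.leaf
  0)) (.node 1 (.leaf
  0) (.leaf
  0))) (.node 2 (.node 1 (.leaf
  0) (.leaf
  0)) (.node 1 (.leaf
  0) (.node 1 (.leaf
  0) (.leaf
  0))))))) (.node 18 (.node 9 (.node 4 (.node 2 (.node 1 (.leaf
  0) (.leaf
  0)) (.node 1 (.leaf
  0) (.leaf
  0))) (.node 2 (.node 1 (.leaf
  0) (.leaf
  0)) (.node 1 (.leaf
  0) (.node 1 (.leaf
  0) (.leaf
  0))))) (.node 4 (.node 2 (.node 1 (.leaf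
  0) (.leaf
  0)) (.node 1 (.leaf
  0) (.leaf
  0))) (.node 2 (.node 1 (.leaf
  0) (.leaf
  0)) (.node 1 (.leaf
  0) (.node 1 (.leaf
  0) (.leaf
  0)))))) (.node 9 (.node 4 (.node 2 (.node 1 (.leaf
  0) (.leaf
  0)) (.node 1 (.leaf
  0) (.leaf
  0))) (.node 2 (.node 1 (.leaf
  0) (.leaf
  0)) (.node 1 (.leaf
  0) (.node 1 (.leaf
  0) (.leaf
  0))))) (.node 4 (.node 2 (.node 1 (.leaf
  0) (.leaf
  0)) (.node 1 (.leaf
  0) (.leaf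
  0))) (.node 2 (.node 1 (.leaf
  0) (.leaf
  0)) (.node 1 (.leaf
  0) (.node 1 (.leaf
  0) (.leaf
  0)))))))) (.node 36 (.node 18 (.node 9 (.node 4 (.node 2 (.node 1 (.leaf
  0) (.leaf
  0)) (.node 1 (.leaf
  0) (.leaf
  0))) (.node 2 (.node 1 (.leaf
  0) (.leaf
  0)) (.node 1 (.leaf
  0) (.node 1 (.leaf
  0) (.leaf
  0))))) (.node 4 (.node 2 (.node 1 (.leaf
  0) (.leaf
  0)) (.node 1 (.leaf
  0) (.leaf
  0))) (.node 2 (.node 1 (.leaf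
  0) (.leaf
  0)) (.node 1 (.leaf
  0) (.node 1 (.leaf
  0) (.leaf
  0)))))) (.node 9 (.node 4 (.node 2 (.node 1 (.leaf
  0) (.leaf
  0)) (.node 1 (.leaf
  0) (.leaf
  0))) (.node 2 (.node 1 (.leaf
  0) (.leaf
  0)) (.node 1 (.leaf
  0) (.node 1 (.leaf
  0) (.leaf
  0))))) (.node 4 (.node 2 (.node 1 (.leaf
  0) (.leaf
  0)) (.node 1 (.leaf
  0) (.leaf
  0))) (.node 2 (.node 1 (.leaf
  0) (.leaf
  0)) (.node 1 (.leaf
  0) (.node 1 (.leaf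
  0) (.leaf
  0))))))) (.node 18 (.node 9 (.node 4 (.node 2 (.node 1 (.leaf
  0) (.leaf
  0)) (.node 1 (.leaf
  0) (.leaf
  0))) (.node 2 (.node 1 (.leaf
  0) (.leaf
  0)) (.node 1 (.leaf
  0) (.node 1 (.leaf
  0) (.leaf
  0))))) (.node 4 (.node 2 (.node 1 (.leaf
  0) (.leaf
  0)) (.node 1 (.leaf
  0) (.leaf
  0))) (.node 2 (.node 1 (.leaf
  0) (.leaf
  0)) (.node 1 (.leaf
  0) (.node 1 (.leaf
  0) (.leaf
  0)))))) (.node 9 (.node 4 (.node 2 (.node 1 (.leaf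
  0) (.leaf
  0)) (.node 1 (.leaf
  0) (.leaf
  0))) (.node 2 (.node 1 (.leaf
  0) (.leaf
  0)) (.node 1 (.leaf
  0) (.node 1 (.leaf
  0) (.leaf
  0))))) (.node 4 (.node 2 (.node 1 (.leaf
  0) (.leaf
  0)) (.node 1 (.leaf
  0) (.leaf
  0))) (.node 2 (.node 1 (.leaf
  0) (.leaf
  0)) (.node 1 (.leaf
  0) (.node 1 (.leaf
  0) (.leaf
  0)))))))))))) (.node 576 (.node 288 (.node 144 (.node 72 (.node 36 (.node 18 (.node 9 (.node 4 (.node 2 (.node 1 (.leaf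
  0) (.leaf
  0)) (.node 1 (.leaf
  0) (.leaf
  0))) (.node 2 (.node 1 (.leaf
  0) (.leaf
  0)) (.node 1 (.leaf
  0) (.node 1 (.leaf
  0) (.leaf
  0))))) (.node 4 (.node 2 (.node 1 (.leaf
  0) (.leaf
  0)) (.node 1 (.leaf
  0) (.leaf
  0))) (.node 2 (.node 1 (.leaf
  0) (.leaf
  0)) (.node 1 (.leaf
  0) (.node 1 (.leaf
  0) (.leaf
  0)))))) (.node 9 (.node 4 (.node 2 (.node 1 (.leaf
  0) (.leaf
  0)) (.node 1 (.leaf
  0) (.leaf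
  0))) (.node 2 (.node 1 (.leaf
  0) (.leaf
  0)) (.node 1 (.leaf
  0) (.node 1 (.leaf
  0) (.leaf
  0))))) (.node 4 (.node 2 (.node 1 (.leaf
  0) (.leaf
  0)) (.node 1 (.leaf
  0) (.leaf
  0))) (.node 2 (.node 1 (.leaf
  0) (.leaf
  0)) (.node 1 (.leaf
  0) (.node 1 (.leaf
  0) (.leaf
  0))))))) (.node 18 (.node 9 (.node 4 (.node 2 (.node 1 (.leaf
  0) (.leaf
  0)) (.node 1 (.leaf
  0) (.leaf
  0))) (.node 2 (.node 1 (.leaf
  0) (.leaf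
  0)) (.node 1 (.leaf
  0) (.node 1 (.leaf
  0) (.leaf
  0))))) (.node 4 (.node 2 (.node 1 (.leaf
  0) (.leaf
  0)) (.node 1 (.leaf
  0) (.leaf
  0))) (.node 2 (.node 1 (.leaf
  0) (.leaf
  0)) (.node 1 (.leaf
  0) (.node 1 (.leaf
  0) (.leaf
  0)))))) (.node 9 (.node 4 (.node 2 (.node 1 (.leaf
  0) (.leaf
  0)) (.node 1 (.leaf
  0) (.leaf
  0))) (.node 2 (.node 1 (.leaf
  0) (.leaf
  0)) (.node 1 (.leaf
  0) (.node 1 (.leaf
  0) (.leaf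
  0))))) (.node 4 (.node 2 (.node 1 (.leaf
  0) (.leaf
  0)) (.node 1 (.leaf
  0) (.leaf
  0))) (.node 2 (.node 1 (.leaf
  0) (.leaf
  0)) (.node 1 (.leaf
  0) (.node 1 (.leaf
  0) (.leaf
  0)))))))) (.node 36 (.node 18 (.node 9 (.node 4 (.node 2 (.node 1 (.leaf
  0) (.leaf
  0)) (.node 1 (.leaf
  0) (.leaf
  0))) (.node 2 (.node 1 (.leaf
  0) (.leaf
  0)) (.node 1 (.leaf
  0) (.node 1 (.leaf
  0) (.leaf
  0))))) (.node 4 (.node 2 (.node 1 (.leaf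
  0) (.leaf
  0)) (.node 1 (.leaf
  0) (.leaf
  0))) (.node 2 (.node 1 (.leaf
  0) (.leaf
  0)) (.node 1 (.leaf
  0) (.node 1 (.leaf
  0) (.leaf
  0)))))) (.node 9 (.node 4 (.node 2 (.node 1 (.leaf
  0) (.leaf
  0)) (.node 1 (.leaf
  0) (.leaf
  0))) (.node 2 (.node 1 (.leaf
  0) (.leaf
  0)) (.node 1 (.leaf
  0) (.node 1 (.leaf
  0) (.leaf
  0))))) (.node 4 (.node 2 (.node 1 (.leaf
  0) (.leaf
  0)) (.node 1 (.leaf
  0) (.leaf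
  0))) (.node 2 (.node 1 (.leaf
  0) (.leaf
  0)) (.node 1 (.leaf
  0) (.node 1 (.leaf
  0) (.leaf
  0))))))) (.node 18 (.node 9 (.node 4 (.node 2 (.node 1 (.leaf
  0) (.leaf
  0)) (.node 1 (.leaf
  0) (.leaf
  0))) (.node 2 (.node 1 (.leaf
  0) (.leaf
  0)) (.node 1 (.leaf
  0) (.node 1 (.leaf
  0) (.leaf
  0))))) (.node 4 (.node 2 (.node 1 (.leaf
  0) (.leaf
  0)) (.node 1 (.leaf
  0) (.leaf
  0))) (.node 2 (.node 1 (.leaf
  0) (.leaf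
  0)) (.node 1 (.leaf
  0) (.node 1 (.leaf
  0) (.leaf
  0)))))) (.node 9 (.node 4 (.node 2 (.node 1 (.leaf
  0) (.leaf
  0)) (.node 1 (.leaf
  0) (.leaf
  0))) (.node 2 (.node 1 (.leaf
  0) (.leaf
  0)) (.node 1 (.leaf
  0) (.node 1 (.leaf
  0) (.leaf
  0))))) (.node 4 (.node 2 (.node 1 (.leaf
  0) (.leaf
  0)) (.node 1 (.leaf
  0) (.leaf
  0))) (.node 2 (.node 1 (.leaf
  0) (.leaf
  0)) (.node 1 (.leaf
  0) (.node 1 (.leaf
  0) (.leaf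
  0))))))))) (.node 72 (.node 36 (.node 18 (.node 9 (.node 4 (.node 2 (.node 1 (.leaf
  0) (.leaf
  0)) (.node 1 (.leaf
  0) (.leaf
  0))) (.node 2 (.node 1 (.leaf
  0) (.leaf
  0)) (.node 1 (.leaf
  0) (.node 1 (.leaf
  0) (.leaf
  0))))) (.node 4 (.node 2 (.node 1 (.leaf
  0) (.leaf
  0)) (.node 1 (.leaf
  0) (.leaf
  0))) (.node 2 (.node 1 (.leaf
  0) (.leaf
  0)) (.node 1 (.leaf
  0) (.node 1 (.leaf
  0) (.leaf
  0)))))) (.node 9 (.node 4 (.node 2 (.node 1 (.leaf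
  0) (.leaf
  0)) (.node 1 (.leaf
  0) (.leaf
  0))) (.node 2 (.node 1 (.leaf
  0) (.leaf
  0)) (.node 1 (.leaf
  0) (.node 1 (.leaf
  0) (.leaf
  0))))) (.node 4 (.node 2 (.node 1 (.leaf
  0) (.leaf
  0)) (.node 1 (.leaf
  0) (.leaf
  0))) (.node 2 (.node 1 (.leaf
  0) (.leaf
  0)) (.node 1 (.leaf
  0) (.node 1 (.leaf
  0) (.leaf
  0))))))) (.node 18 (.node 9 (.node 4 (.node 2 (.node 1 (.leaf
  1437328) (.leaf
  1439184)) (.node 1 (.leaf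
  8108448) (.leaf
  8168608))) (.node 2 (.node 1 (.leaf
  146776) (.leaf
  3926316)) (.node 1 (.leaf
  2585312) (.node 1 (.leaf
  3875644) (.leaf
  0))))) (.node 4 (.node 2 (.node 1 (.leaf
  0) (.leaf
  0)) (.node 1 (.leaf
  0) (.leaf
  0))) (.node 2 (.node 1 (.leaf
  0) (.leaf
  0)) (.node 1 (.leaf
  0) (.node 1 (.leaf
  0) (.leaf
  0)))))) (.node 9 (.node 4 (.node 2 (.node 1 (.leaf
  0) (.leaf
  0)) (.node 1 (.leaf
  0) (.leaf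
  0))) (.node 2 (.node 1 (.leaf
  0) (.leaf
  0)) (.node 1 (.leaf
  0) (.node 1 (.leaf
  0) (.leaf
  0))))) (.node 4 (.node 2 (.node 1 (.leaf
  0) (.leaf
  0)) (.node 1 (.leaf
  0) (.leaf
  0))) (.node 2 (.node 1 (.leaf
  0) (.leaf
  0)) (.node 1 (.leaf
  0) (.node 1 (.leaf
  0) (.leaf
  0)))))))) (.node 36 (.node 18 (.node 9 (.node 4 (.node 2 (.node 1 (.leaf
  0) (.leaf
  0)) (.node 1 (.leaf
  0) (.leaf
  0))) (.node 2 (.node 1 (.leaf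
  0) (.leaf
  0)) (.node 1 (.leaf
  0) (.node 1 (.leaf
  0) (.leaf
  0))))) (.node 4 (.node 2 (.node 1 (.leaf
  0) (.leaf
  0)) (.node 1 (.leaf
  0) (.leaf
  2584192))) (.node 2 (.node 1 (.leaf
  2581068) (.leaf
  4665136)) (.node 1 (.leaf
  4503428) (.node 1 (.leaf
  2701068) (.leaf
  1294744)))))) (.node 9 (.node 4 (.node 2 (.node 1 (.leaf
  59116) (.leaf
  1346012)) (.node 1 (.leaf
  0) (.leaf
  0))) (.node 2 (.node 1 (.leaf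
  0) (.leaf
  0)) (.node 1 (.leaf
  0) (.node 1 (.leaf
  0) (.leaf
  0))))) (.node 4 (.node 2 (.node 1 (.leaf
  0) (.leaf
  0)) (.node 1 (.leaf
  0) (.leaf
  0))) (.node 2 (.node 1 (.leaf
  0) (.leaf
  0)) (.node 1 (.leaf
  0) (.node 1 (.leaf
  0) (.leaf
  0))))))) (.node 18 (.node 9 (.node 4 (.node 2 (.node 1 (.leaf
  0) (.leaf
  0)) (.node 1 (.leaf
  0) (.leaf
  0))) (.node 2 (.node 1 (.leaf
  0) (.leaf
  0)) (.node 1 (.leaf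
  0) (.node 1 (.leaf
  0) (.leaf
  1290484))))) (.node 4 (.node 2 (.node 1 (.leaf
  7890896) (.leaf
  6601552)) (.node 1 (.leaf
  6598684) (.leaf
  1350132))) (.node 2 (.node 1 (.leaf
  59448) (.leaf
  1291196)) (.node 1 (.leaf
  1439772) (.node 1 (.leaf
  0) (.leaf
  0)))))) (.node 9 (.node 4 (.node 2 (.node 1 (.leaf
  0) (.leaf
  0)) (.node 1 (.leaf
  0) (.leaf
  0))) (.node 2 (.node 1 (.leaf
  0) (.leaf
  0)) (.node 1 (.leaf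
  0) (.node 1 (.leaf
  0) (.leaf
  0))))) (.node 4 (.node 2 (.node 1 (.leaf
  0) (.leaf
  0)) (.node 1 (.leaf
  0) (.leaf
  0))) (.node 2 (.node 1 (.leaf
  0) (.leaf
  0)) (.node 1 (.leaf
  0) (.node 1 (.leaf
  0) (.leaf
  0)))))))))) (.node 144 (.node 72 (.node 36 (.node 18 (.node 9 (.node 4 (.node 2 (.node 1 (.leaf
  0) (.leaf
  0)) (.node 1 (.leaf
  0) (.leaf
  0))) (.node 2 (.node 1 (.leaf
  0) (.leaf
  0)) (.node 1 (.leaf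
  0) (.node 1 (.leaf
  0) (.leaf
  0))))) (.node 4 (.node 2 (.node 1 (.leaf
  0) (.leaf
  0)) (.node 1 (.leaf
  0) (.leaf
  0))) (.node 2 (.node 1 (.leaf
  0) (.leaf
  0)) (.node 1 (.leaf
  0) (.node 1 (.leaf
  0) (.leaf
  0)))))) (.node 9 (.node 4 (.node 2 (.node 1 (.leaf
  0) (.leaf
  0)) (.node 1 (.leaf
  0) (.leaf
  0))) (.node 2 (.node 1 (.leaf
  0) (.leaf
  0)) (.node 1 (.leaf
  0) (.node 1 (.leaf
  0) (.leaf
  0))))) (.node 4 (.node 2 (.node 1 (.leaf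
  0) (.leaf
  0)) (.node 1 (.leaf
  0) (.leaf
  0))) (.node 2 (.node 1 (.leaf
  0) (.leaf
  0)) (.node 1 (.leaf
  0) (.node 1 (.leaf
  0) (.leaf
  0))))))) (.node 18 (.node 9 (.node 4 (.node 2 (.node 1 (.leaf
  0) (.leaf
  0)) (.node 1 (.leaf
  0) (.leaf
  0))) (.node 2 (.node 1 (.leaf
  0) (.leaf
  0)) (.node 1 (.leaf
  0) (.node 1 (.leaf
  0) (.leaf
  0))))) (.node 4 (.node 2 (.node 1 (.leaf
  0) (.leaf
  0)) (.node 1 (.leaf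
  0) (.leaf
  0))) (.node 2 (.node 1 (.leaf
  0) (.leaf
  0)) (.node 1 (.leaf
  0) (.node 1 (.leaf
  55492) (.leaf
  1348460)))))) (.node 9 (.node 4 (.node 2 (.node 1 (.leaf
  3066108) (.leaf
  3741164)) (.node 1 (.leaf
  1345956) (.leaf
  59088))) (.node 2 (.node 1 (.leaf
  4503396) (.leaf
  8568928)) (.node 1 (.leaf
  0) (.node 1 (.leaf
  0) (.leaf
  0))))) (.node 4 (.node 2 (.node 1 (.leaf
  0) (.leaf
  0)) (.node 1 (.leaf
  0) (.leaf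
  0))) (.node 2 (.node 1 (.leaf
  0) (.leaf
  0)) (.node 1 (.leaf
  0) (.node 1 (.leaf
  0) (.leaf
  0)))))))) (.node 36 (.node 18 (.node 9 (.node 4 (.node 2 (.node 1 (.leaf
  0) (.leaf
  0)) (.node 1 (.leaf
  0) (.leaf
  0))) (.node 2 (.node 1 (.leaf
  0) (.leaf
  0)) (.node 1 (.leaf
  0) (.node 1 (.leaf
  0) (.leaf
  0))))) (.node 4 (.node 2 (.node 1 (.leaf
  0) (.leaf
  0)) (.node 1 (.leaf
  0) (.leaf
  0))) (.node 2 (.node 1 (.leaf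
  0) (.leaf
  0)) (.node 1 (.leaf
  0) (.node 1 (.leaf
  0) (.leaf
  0)))))) (.node 9 (.node 4 (.node 2 (.node 1 (.leaf
  0) (.leaf
  0)) (.node 1 (.leaf
  0) (.leaf
  0))) (.node 2 (.node 1 (.leaf
  0) (.leaf
  0)) (.node 1 (.leaf
  0) (.node 1 (.leaf
  0) (.leaf
  0))))) (.node 4 (.node 2 (.node 1 (.leaf
  0) (.leaf
  0)) (.node 1 (.leaf
  0) (.leaf
  0))) (.node 2 (.node 1 (.leaf
  0) (.leaf
  0)) (.node 1 (.leaf
  0) (.node 1 (.leaf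
  0) (.leaf
  0))))))) (.node 18 (.node 9 (.node 4 (.node 2 (.node 1 (.leaf
  0) (.leaf
  0)) (.node 1 (.leaf
  0) (.leaf
  0))) (.node 2 (.node 1 (.leaf
  0) (.leaf
  0)) (.node 1 (.leaf
  0) (.node 1 (.leaf
  0) (.leaf
  0))))) (.node 4 (.node 2 (.node 1 (.leaf
  0) (.leaf
  0)) (.node 1 (.leaf
  0) (.leaf
  0))) (.node 2 (.node 1 (.leaf
  0) (.leaf
  0)) (.node 1 (.leaf
  0) (.node 1 (.leaf
  0) (.leaf
  0)))))) (.node 9 (.node 4 (.node 2 (.node 1 (.leaf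
  0) (.leaf
  0)) (.node 1 (.leaf
  0) (.leaf
  0))) (.node 2 (.node 1 (.leaf
  0) (.leaf
  0)) (.node 1 (.leaf
  0) (.node 1 (.leaf
  0) (.leaf
  0))))) (.node 4 (.node 2 (.node 1 (.leaf
  0) (.leaf
  0)) (.node 1 (.leaf
  0) (.leaf
  0))) (.node 2 (.node 1 (.leaf
  0) (.leaf
  0)) (.node 1 (.leaf
  0) (.node 1 (.leaf
  0) (.leaf
  0))))))))) (.node 72 (.node 36 (.node 18 (.node 9 (.node 4 (.node 2 (.node 1 (.leaf
  0) (.leaf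
  0)) (.node 1 (.leaf
  0) (.leaf
  0))) (.node 2 (.node 1 (.leaf
  0) (.leaf
  0)) (.node 1 (.leaf
  0) (.node 1 (.leaf
  0) (.leaf
  0))))) (.node 4 (.node 2 (.node 1 (.leaf
  0) (.leaf
  0)) (.node 1 (.leaf
  0) (.leaf
  0))) (.node 2 (.node 1 (.leaf
  0) (.leaf
  0)) (.node 1 (.leaf
  0) (.node 1 (.leaf
  0) (.leaf
  0)))))) (.node 9 (.node 4 (.node 2 (.node 1 (.leaf
  0) (.leaf
  0)) (.node 1 (.leaf
  0) (.leaf
  0))) (.node 2 (.node 1 (.leaf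
  0) (.leaf
  0)) (.node 1 (.leaf
  0) (.node 1 (.leaf
  0) (.leaf
  0))))) (.node 4 (.node 2 (.node 1 (.leaf
  0) (.leaf
  0)) (.node 1 (.leaf
  0) (.leaf
  0))) (.node 2 (.node 1 (.leaf
  0) (.leaf
  0)) (.node 1 (.leaf
  0) (.node 1 (.leaf
  0) (.leaf
  0))))))) (.node 18 (.node 9 (.node 4 (.node 2 (.node 1 (.leaf
  0) (.leaf
  0)) (.node 1 (.leaf
  0) (.leaf
  0))) (.node 2 (.node 1 (.leaf
  0) (.leaf
  0)) (.node 1 (.leaf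
  0) (.node 1 (.leaf
  0) (.leaf
  0))))) (.node 4 (.node 2 (.node 1 (.leaf
  0) (.leaf
  0)) (.node 1 (.leaf
  0) (.leaf
  0))) (.node 2 (.node 1 (.leaf
  0) (.leaf
  0)) (.node 1 (.leaf
  0) (.node 1 (.leaf
  0) (.leaf
  0)))))) (.node 9 (.node 4 (.node 2 (.node 1 (.leaf
  0) (.leaf
  0)) (.node 1 (.leaf
  0) (.leaf
  0))) (.node 2 (.node 1 (.leaf
  0) (.leaf
  0)) (.node 1 (.leaf
  0) (.node 1 (.leaf
  0) (.leaf
  0))))) (.node 4 (.node 2 (.node 1 (.leaf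
  0) (.leaf
  0)) (.node 1 (.leaf
  0) (.leaf
  0))) (.node 2 (.node 1 (.leaf
  0) (.leaf
  0)) (.node 1 (.leaf
  0) (.node 1 (.leaf
  0) (.leaf
  0)))))))) (.node 36 (.node 18 (.node 9 (.node 4 (.node 2 (.node 1 (.leaf
  0) (.leaf
  0)) (.node 1 (.leaf
  0) (.leaf
  0))) (.node 2 (.node 1 (.leaf
  0) (.leaf
  0)) (.node 1 (.leaf
  0) (.node 1 (.leaf
  0) (.leaf
  0))))) (.node 4 (.node 2 (.node 1 (.leaf
  0) (.leaf
  0)) (.node 1 (.leaf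
  0) (.leaf
  0))) (.node 2 (.node 1 (.leaf
  0) (.leaf
  0)) (.node 1 (.leaf
  0) (.node 1 (.leaf
  0) (.leaf
  0)))))) (.node 9 (.node 4 (.node 2 (.node 1 (.leaf
  0) (.leaf
  0)) (.node 1 (.leaf
  0) (.leaf
  0))) (.node 2 (.node 1 (.leaf
  0) (.leaf
  0)) (.node 1 (.leaf
  0) (.node 1 (.leaf
  0) (.leaf
  0))))) (.node 4 (.node 2 (.node 1 (.leaf
  0) (.leaf
  0)) (.node 1 (.leaf
  0) (.leaf
  0))) (.node 2 (.node 1 (.leaf
  0) (.leaf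
  0)) (.node 1 (.leaf
  0) (.node 1 (.leaf
  0) (.leaf
  0))))))) (.node 18 (.node 9 (.node 4 (.node 2 (.node 1 (.leaf
  0) (.leaf
  0)) (.node 1 (.leaf
  0) (.leaf
  0))) (.node 2 (.node 1 (.leaf
  0) (.leaf
  0)) (.node 1 (.leaf
  0) (.node 1 (.leaf
  0) (.leaf
  0))))) (.node 4 (.node 2 (.node 1 (.leaf
  0) (.leaf
  0)) (.node 1 (.leaf
  0) (.leaf
  0))) (.node 2 (.node 1 (.leaf
  0) (.leaf
  0)) (.node 1 (.leaf
  0) (.node 1 (.leaf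
  0) (.leaf
  0)))))) (.node 9 (.node 4 (.node 2 (.node 1 (.leaf
  0) (.leaf
  0)) (.node 1 (.leaf
  0) (.leaf
  0))) (.node 2 (.node 1 (.leaf
  0) (.leaf
  0)) (.node 1 (.leaf
  0) (.node 1 (.leaf
  0) (.leaf
  0))))) (.node 4 (.node 2 (.node 1 (.leaf
  0) (.leaf
  0)) (.node 1 (.leaf
  0) (.leaf
  0))) (.node 2 (.node 1 (.leaf
  0) (.leaf
  0)) (.node 1 (.leaf
  0) (.node 1 (.leaf
  0) (.leaf
  0))))))))))) (.node 288 (.node 144 (.node 72 (.node 36 (.node 18 (.node 9 (.node 4 (.node 2 (.node 1 (.leaf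
  0) (.leaf
  0)) (.node 1 (.leaf
  0) (.leaf
  0))) (.node 2 (.node 1 (.leaf
  0) (.leaf
  0)) (.node 1 (.leaf
  0) (.node 1 (.leaf
  0) (.leaf
  0))))) (.node 4 (.node 2 (.node 1 (.leaf
  0) (.leaf
  0)) (.node 1 (.leaf
  0) (.leaf
  0))) (.node 2 (.node 1 (.leaf
  0) (.leaf
  0)) (.node 1 (.leaf
  0) (.node 1 (.leaf
  0) (.leaf
  0)))))) (.node 9 (.node 4 (.node 2 (.node 1 (.leaf
  0) (.leaf
  0)) (.node 1 (.leaf
  0) (.leaf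
  0))) (.node 2 (.node 1 (.leaf
  0) (.leaf
  0)) (.node 1 (.leaf
  0) (.node 1 (.leaf
  0) (.leaf
  0))))) (.node 4 (.node 2 (.node 1 (.leaf
  0) (.leaf
  0)) (.node 1 (.leaf
  0) (.leaf
  0))) (.node 2 (.node 1 (.leaf
  0) (.leaf
  0)) (.node 1 (.leaf
  0) (.node 1 (.leaf
  0) (.leaf
  0))))))) (.node 18 (.node 9 (.node 4 (.node 2 (.node 1 (.leaf
  0) (.leaf
  0)) (.node 1 (.leaf
  0) (.leaf
  0))) (.node 2 (.node 1 (.leaf
  0) (.leaf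
  0)) (.node 1 (.leaf
  0) (.node 1 (.leaf
  0) (.leaf
  0))))) (.node 4 (.node 2 (.node 1 (.leaf
  0) (.leaf
  0)) (.node 1 (.leaf
  0) (.leaf
  0))) (.node 2 (.node 1 (.leaf
  0) (.leaf
  0)) (.node 1 (.leaf
  0) (.node 1 (.leaf
  0) (.leaf
  0)))))) (.node 9 (.node 4 (.node 2 (.node 1 (.leaf
  0) (.leaf
  0)) (.node 1 (.leaf
  0) (.leaf
  0))) (.node 2 (.node 1 (.leaf
  0) (.leaf
  0)) (.node 1 (.leaf
  0) (.node 1 (.leaf
  0) (.leaf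
  0))))) (.node 4 (.node 2 (.node 1 (.leaf
  0) (.leaf
  0)) (.node 1 (.leaf
  0) (.leaf
  0))) (.node 2 (.node 1 (.leaf
  0) (.leaf
  0)) (.node 1 (.leaf
  0) (.node 1 (.leaf
  0) (.leaf
  0)))))))) (.node 36 (.node 18 (.node 9 (.node 4 (.node 2 (.node 1 (.leaf
  0) (.leaf
  0)) (.node 1 (.leaf
  0) (.leaf
  0))) (.node 2 (.node 1 (.leaf
  0) (.leaf
  0)) (.node 1 (.leaf
  0) (.node 1 (.leaf
  0) (.leaf
  0))))) (.node 4 (.node 2 (.node 1 (.leaf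
  0) (.leaf
  0)) (.node 1 (.leaf
  0) (.leaf
  0))) (.node 2 (.node 1 (.leaf
  0) (.leaf
  0)) (.node 1 (.leaf
  0) (.node 1 (.leaf
  0) (.leaf
  0)))))) (.node 9 (.node 4 (.node 2 (.node 1 (.leaf
  0) (.leaf
  0)) (.node 1 (.leaf
  0) (.leaf
  0))) (.node 2 (.node 1 (.leaf
  0) (.leaf
  0)) (.node 1 (.leaf
  0) (.node 1 (.leaf
  0) (.leaf
  0))))) (.node 4 (.node 2 (.node 1 (.leaf
  0) (.leaf
  0)) (.node 1 (.leaf
  0) (.leaf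
  0))) (.node 2 (.node 1 (.leaf
  0) (.leaf
  0)) (.node 1 (.leaf
  0) (.node 1 (.leaf
  0) (.leaf
  0))))))) (.node 18 (.node 9 (.node 4 (.node 2 (.node 1 (.leaf
  0) (.leaf
  0)) (.node 1 (.leaf
  0) (.leaf
  0))) (.node 2 (.node 1 (.leaf
  0) (.leaf
  0)) (.node 1 (.leaf
  0) (.node 1 (.leaf
  0) (.leaf
  0))))) (.node 4 (.node 2 (.node 1 (.leaf
  0) (.leaf
  0)) (.node 1 (.leaf
  0) (.leaf
  0))) (.node 2 (.node 1 (.leaf
  0) (.leaf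
  0)) (.node 1 (.leaf
  0) (.node 1 (.leaf
  0) (.leaf
  0)))))) (.node 9 (.node 4 (.node 2 (.node 1 (.leaf
  0) (.leaf
  0)) (.node 1 (.leaf
  0) (.leaf
  0))) (.node 2 (.node 1 (.leaf
  0) (.leaf
  0)) (.node 1 (.leaf
  0) (.node 1 (.leaf
  0) (.leaf
  0))))) (.node 4 (.node 2 (.node 1 (.leaf
  0) (.leaf
  0)) (.node 1 (.leaf
  0) (.leaf
  0))) (.node 2 (.node 1 (.leaf
  0) (.leaf
  0)) (.node 1 (.leaf
  0) (.node 1 (.leaf
  0) (.leaf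
  0))))))))) (.node 72 (.node 36 (.node 18 (.node 9 (.node 4 (.node 2 (.node 1 (.leaf
  0) (.leaf
  0)) (.node 1 (.leaf
  0) (.leaf
  0))) (.node 2 (.node 1 (.leaf
  0) (.leaf
  0)) (.node 1 (.leaf
  0) (.node 1 (.leaf
  0) (.leaf
  0))))) (.node 4 (.node 2 (.node 1 (.leaf
  0) (.leaf
  0)) (.node 1 (.leaf
  0) (.leaf
  0))) (.node 2 (.node 1 (.leaf
  0) (.leaf
  0)) (.node 1 (.leaf
  0) (.node 1 (.leaf
  0) (.leaf
  0)))))) (.node 9 (.node 4 (.node 2 (.node 1 (.leaf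
  0) (.leaf
  0)) (.node 1 (.leaf
  0) (.leaf
  0))) (.node 2 (.node 1 (.leaf
  0) (.leaf
  0)) (.node 1 (.leaf
  0) (.node 1 (.leaf
  0) (.leaf
  0))))) (.node 4 (.node 2 (.node 1 (.leaf
  0) (.leaf
  0)) (.node 1 (.leaf
  0) (.leaf
  0))) (.node 2 (.node 1 (.leaf
  0) (.leaf
  0)) (.node 1 (.leaf
  0) (.node 1 (.leaf
  0) (.leaf
  0))))))) (.node 18 (.node 9 (.node 4 (.node 2 (.node 1 (.leaf
  0) (.leaf
  0)) (.node 1 (.leaf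
  0) (.leaf
  0))) (.node 2 (.node 1 (.leaf
  0) (.leaf
  0)) (.node 1 (.leaf
  0) (.node 1 (.leaf
  0) (.leaf
  0))))) (.node 4 (.node 2 (.node 1 (.leaf
  0) (.leaf
  0)) (.node 1 (.leaf
  0) (.leaf
  0))) (.node 2 (.node 1 (.leaf
  0) (.leaf
  0)) (.node 1 (.leaf
  0) (.node 1 (.leaf
  0) (.leaf
  0)))))) (.node 9 (.node 4 (.node 2 (.node 1 (.leaf
  0) (.leaf
  0)) (.node 1 (.leaf
  0) (.leaf
  0))) (.node 2 (.node 1 (.leaf
  0) (.leaf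
  0)) (.node 1 (.leaf
  0) (.node 1 (.leaf
  0) (.leaf
  0))))) (.node 4 (.node 2 (.node 1 (.leaf
  0) (.leaf
  0)) (.node 1 (.leaf
  0) (.leaf
  0))) (.node 2 (.node 1 (.leaf
  0) (.leaf
  0)) (.node 1 (.leaf
  0) (.node 1 (.leaf
  0) (.leaf
  0)))))))) (.node 36 (.node 18 (.node 9 (.node 4 (.node 2 (.node 1 (.leaf
  0) (.leaf
  0)) (.node 1 (.leaf
  0) (.leaf
  0))) (.node 2 (.node 1 (.leaf
  0) (.leaf
  0)) (.node 1 (.leaf
  0) (.node 1 (.leaf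
  0) (.leaf
  0))))) (.node 4 (.node 2 (.node 1 (.leaf
  0) (.leaf
  0)) (.node 1 (.leaf
  0) (.leaf
  0))) (.node 2 (.node 1 (.leaf
  0) (.leaf
  0)) (.node 1 (.leaf
  0) (.node 1 (.leaf
  0) (.leaf
  0)))))) (.node 9 (.node 4 (.node 2 (.node 1 (.leaf
  0) (.leaf
  0)) (.node 1 (.leaf
  0) (.leaf
  0))) (.node 2 (.node 1 (.leaf
  0) (.leaf
  0)) (.node 1 (.leaf
  0) (.node 1 (.leaf
  0) (.leaf
  0))))) (.node 4 (.node 2 (.node 1 (.leaf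
  0) (.leaf
  0)) (.node 1 (.leaf
  0) (.leaf
  0))) (.node 2 (.node 1 (.leaf
  0) (.leaf
  0)) (.node 1 (.leaf
  0) (.node 1 (.leaf
  0) (.leaf
  0))))))) (.node 18 (.node 9 (.node 4 (.node 2 (.node 1 (.leaf
  0) (.leaf
  0)) (.node 1 (.leaf
  0) (.leaf
  0))) (.node 2 (.node 1 (.leaf
  0) (.leaf
  0)) (.node 1 (.leaf
  0) (.node 1 (.leaf
  0) (.leaf
  0))))) (.node 4 (.node 2 (.node 1 (.leaf
  0) (.leaf
  0)) (.node 1 (.leaf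
  0) (.leaf
  0))) (.node 2 (.node 1 (.leaf
  0) (.leaf
  0)) (.node 1 (.leaf
  0) (.node 1 (.leaf
  0) (.leaf
  0)))))) (.node 9 (.node 4 (.node 2 (.node 1 (.leaf
  0) (.leaf
  0)) (.node 1 (.leaf
  0) (.leaf
  0))) (.node 2 (.node 1 (.leaf
  0) (.leaf
  0)) (.node 1 (.leaf
  0) (.node 1 (.leaf
  0) (.leaf
  0))))) (.node 4 (.node 2 (.node 1 (.leaf
  0) (.leaf
  0)) (.node 1 (.leaf
  0) (.leaf
  0))) (.node 2 (.node 1 (.leaf
  0) (.leaf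
  0)) (.node 1 (.leaf
  0) (.node 1 (.leaf
  0) (.leaf
  0)))))))))) (.node 144 (.node 72 (.node 36 (.node 18 (.node 9 (.node 4 (.node 2 (.node 1 (.leaf
  0) (.leaf
  0)) (.node 1 (.leaf
  0) (.leaf
  0))) (.node 2 (.node 1 (.leaf
  0) (.leaf
  0)) (.node 1 (.leaf
  0) (.node 1 (.leaf
  0) (.leaf
  0))))) (.node 4 (.node 2 (.node 1 (.leaf
  0) (.leaf
  0)) (.node 1 (.leaf
  0) (.leaf
  0))) (.node 2 (.node 1 (.leaf
  0) (.leaf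
  0)) (.node 1 (.leaf
  0) (.node 1 (.leaf
  0) (.leaf
  0)))))) (.node 9 (.node 4 (.node 2 (.node 1 (.leaf
  0) (.leaf
  0)) (.node 1 (.leaf
  0) (.leaf
  0))) (.node 2 (.node 1 (.leaf
  0) (.leaf
  0)) (.node 1 (.leaf
  0) (.node 1 (.leaf
  0) (.leaf
  0))))) (.node 4 (.node 2 (.node 1 (.leaf
  0) (.leaf
  0)) (.node 1 (.leaf
  0) (.leaf
  0))) (.node 2 (.node 1 (.leaf
  0) (.leaf
  0)) (.node 1 (.leaf
  0) (.node 1 (.leaf
  0) (.leaf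
  0))))))) (.node 18 (.node 9 (.node 4 (.node 2 (.node 1 (.leaf
  0) (.leaf
  0)) (.node 1 (.leaf
  0) (.leaf
  0))) (.node 2 (.node 1 (.leaf
  0) (.leaf
  0)) (.node 1 (.leaf
  0) (.node 1 (.leaf
  0) (.leaf
  0))))) (.node 4 (.node 2 (.node 1 (.leaf
  0) (.leaf
  0)) (.node 1 (.leaf
  0) (.leaf
  0))) (.node 2 (.node 1 (.leaf
  0) (.leaf
  0)) (.node 1 (.leaf
  0) (.node 1 (.leaf
  0) (.leaf
  0)))))) (.node 9 (.node 4 (.node 2 (.node 1 (.leaf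
  0) (.leaf
  0)) (.node 1 (.leaf
  8166448) (.leaf
  8108772))) (.node 2 (.node 1 (.leaf
  2636884) (.leaf
  1439036)) (.node 1 (.leaf
  0) (.node 1 (.leaf
  0) (.leaf
  0))))) (.node 4 (.node 2 (.node 1 (.leaf
  0) (.leaf
  0)) (.node 1 (.leaf
  0) (.leaf
  0))) (.node 2 (.node 1 (.leaf
  0) (.leaf
  0)) (.node 1 (.leaf
  0) (.node 1 (.leaf
  0) (.leaf
  0)))))))) (.node 36 (.node 18 (.node 9 (.node 4 (.node 2 (.node 1 (.leaf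
  0) (.leaf
  0)) (.node 1 (.leaf
  0) (.leaf
  0))) (.node 2 (.node 1 (.leaf
  0) (.leaf
  0)) (.node 1 (.leaf
  0) (.node 1 (.leaf
  0) (.leaf
  0))))) (.node 4 (.node 2 (.node 1 (.leaf
  0) (.leaf
  0)) (.node 1 (.leaf
  0) (.leaf
  0))) (.node 2 (.node 1 (.leaf
  0) (.leaf
  0)) (.node 1 (.leaf
  0) (.node 1 (.leaf
  1938160) (.leaf
  1439356)))))) (.node 9 (.node 4 (.node 2 (.node 1 (.leaf
  3873188) (.leaf
  11118004)) (.node 1 (.leaf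
  0) (.leaf
  0))) (.node 2 (.node 1 (.leaf
  0) (.leaf
  0)) (.node 1 (.leaf
  0) (.node 1 (.leaf
  0) (.leaf
  0))))) (.node 4 (.node 2 (.node 1 (.leaf
  0) (.leaf
  0)) (.node 1 (.leaf
  0) (.leaf
  0))) (.node 2 (.node 1 (.leaf
  0) (.leaf
  0)) (.node 1 (.leaf
  0) (.node 1 (.leaf
  0) (.leaf
  0))))))) (.node 18 (.node 9 (.node 4 (.node 2 (.node 1 (.leaf
  0) (.leaf
  0)) (.node 1 (.leaf
  0) (.leaf
  0))) (.node 2 (.node 1 (.leaf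
  0) (.leaf
  0)) (.node 1 (.leaf
  0) (.node 1 (.leaf
  0) (.leaf
  0))))) (.node 4 (.node 2 (.node 1 (.leaf
  0) (.leaf
  0)) (.node 1 (.leaf
  0) (.leaf
  0))) (.node 2 (.node 1 (.leaf
  0) (.leaf
  0)) (.node 1 (.leaf
  0) (.node 1 (.leaf
  2581452) (.leaf
  2583988)))))) (.node 9 (.node 4 (.node 2 (.node 1 (.leaf
  5501968) (.leaf
  4357464)) (.node 1 (.leaf
  0) (.leaf
  0))) (.node 2 (.node 1 (.leaf
  0) (.leaf
  0)) (.node 1 (.leaf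
  0) (.node 1 (.leaf
  0) (.leaf
  0))))) (.node 4 (.node 2 (.node 1 (.leaf
  0) (.leaf
  0)) (.node 1 (.leaf
  0) (.leaf
  0))) (.node 2 (.node 1 (.leaf
  0) (.leaf
  0)) (.node 1 (.leaf
  0) (.node 1 (.leaf
  0) (.leaf
  0))))))))) (.node 72 (.node 36 (.node 18 (.node 9 (.node 4 (.node 2 (.node 1 (.leaf
  0) (.leaf
  0)) (.node 1 (.leaf
  0) (.leaf
  0))) (.node 2 (.node 1 (.leaf
  0) (.leaf
  0)) (.node 1 (.leaf
  0) (.node 1 (.leaf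
  0) (.leaf
  0))))) (.node 4 (.node 2 (.node 1 (.leaf
  0) (.leaf
  0)) (.node 1 (.leaf
  0) (.leaf
  2700764))) (.node 2 (.node 1 (.leaf
  1291892) (.leaf
  1348776)) (.node 1 (.leaf
  56292) (.node 1 (.leaf
  0) (.leaf
  0)))))) (.node 9 (.node 4 (.node 2 (.node 1 (.leaf
  0) (.leaf
  0)) (.node 1 (.leaf
  0) (.leaf
  0))) (.node 2 (.node 1 (.leaf
  0) (.leaf
  0)) (.node 1 (.leaf
  0) (.node 1 (.leaf
  0) (.leaf
  0))))) (.node 4 (.node 2 (.node 1 (.leaf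
  0) (.leaf
  0)) (.node 1 (.leaf
  0) (.leaf
  0))) (.node 2 (.node 1 (.leaf
  0) (.leaf
  2582524)) (.node 1 (.leaf
  2584364) (.node 1 (.leaf
  1935652) (.leaf
  7888768))))))) (.node 18 (.node 9 (.node 4 (.node 2 (.node 1 (.leaf
  0) (.leaf
  0)) (.node 1 (.leaf
  0) (.leaf
  0))) (.node 2 (.node 1 (.leaf
  0) (.leaf
  0)) (.node 1 (.leaf
  0) (.node 1 (.leaf
  0) (.leaf
  0))))) (.node 4 (.node 2 (.node 1 (.leaf
  0) (.leaf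
  0)) (.node 1 (.leaf
  0) (.leaf
  0))) (.node 2 (.node 1 (.leaf
  0) (.leaf
  0)) (.node 1 (.leaf
  0) (.node 1 (.leaf
  0) (.leaf
  0)))))) (.node 9 (.node 4 (.node 2 (.node 1 (.leaf
  0) (.leaf
  0)) (.node 1 (.leaf
  0) (.leaf
  0))) (.node 2 (.node 1 (.leaf
  0) (.leaf
  0)) (.node 1 (.leaf
  0) (.node 1 (.leaf
  0) (.leaf
  0))))) (.node 4 (.node 2 (.node 1 (.leaf
  0) (.leaf
  1440076)) (.node 1 (.leaf
  1293404) (.leaf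
  1349808))) (.node 2 (.node 1 (.leaf
  56548) (.leaf
  0)) (.node 1 (.leaf
  0) (.node 1 (.leaf
  0) (.leaf
  0)))))))) (.node 36 (.node 18 (.node 9 (.node 4 (.node 2 (.node 1 (.leaf
  0) (.leaf
  0)) (.node 1 (.leaf
  0) (.leaf
  0))) (.node 2 (.node 1 (.leaf
  0) (.leaf
  0)) (.node 1 (.leaf
  0) (.node 1 (.leaf
  0) (.leaf
  0))))) (.node 4 (.node 2 (.node 1 (.leaf
  0) (.leaf
  0)) (.node 1 (.leaf
  0) (.leaf
  0))) (.node 2 (.node 1 (.leaf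
  0) (.leaf
  0)) (.node 1 (.leaf
  0) (.node 1 (.leaf
  0) (.leaf
  0)))))) (.node 9 (.node 4 (.node 2 (.node 1 (.leaf
  0) (.leaf
  0)) (.node 1 (.leaf
  0) (.leaf
  0))) (.node 2 (.node 1 (.leaf
  0) (.leaf
  0)) (.node 1 (.leaf
  0) (.node 1 (.leaf
  0) (.leaf
  0))))) (.node 4 (.node 2 (.node 1 (.leaf
  0) (.leaf
  1348312)) (.node 1 (.leaf
  55600) (.leaf
  3068940))) (.node 2 (.node 1 (.leaf
  3741516) (.leaf
  0)) (.node 1 (.leaf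
  0) (.node 1 (.leaf
  0) (.leaf
  0))))))) (.node 18 (.node 9 (.node 4 (.node 2 (.node 1 (.leaf
  0) (.leaf
  0)) (.node 1 (.leaf
  0) (.leaf
  0))) (.node 2 (.node 1 (.leaf
  0) (.leaf
  0)) (.node 1 (.leaf
  0) (.node 1 (.leaf
  0) (.leaf
  0))))) (.node 4 (.node 2 (.node 1 (.leaf
  0) (.leaf
  0)) (.node 1 (.leaf
  0) (.leaf
  0))) (.node 2 (.node 1 (.leaf
  0) (.leaf
  0)) (.node 1 (.leaf
  0) (.node 1 (.leaf
  0) (.leaf
  0)))))) (.node 9 (.node 4 (.node 2 (.node 1 (.leaf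
  0) (.leaf
  0)) (.node 1 (.leaf
  0) (.leaf
  0))) (.node 2 (.node 1 (.leaf
  0) (.leaf
  0)) (.node 1 (.leaf
  9148564) (.node 1 (.leaf
  4503288) (.leaf
  1348296))))) (.node 4 (.node 2 (.node 1 (.leaf
  56180) (.leaf
  0)) (.node 1 (.leaf
  0) (.leaf
  0))) (.node 2 (.node 1 (.leaf
  0) (.leaf
  0)) (.node 1 (.leaf
  0) (.node 1 (.leaf
  0) (.leaf
  0))))))))))))))

/-- Conjugators for the three members in use. -/
def goodWit : List (List ℕ) :=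
  [
    [11, 47, 97, 39],
    [154, 232, 334, 254],
    [249, 329, 211, 256]]

/-- Members carrying the pairs to the pair in use. -/
def pairWit : Tree :=
  (.node 648 (.node 324 (.node 162 (.node 81 (.node 40 (.node 20 (.node 10 (.node 5 (.node 2 (.node 1 (.leaf
  0) (.leaf
  0)) (.node 1 (.leaf
  0) (.node 1 (.leaf
  0) (.leaf
  635040)))) (.node 2 (.node 1 (.leaf
  544320) (.leaf
  483840)) (.node 1 (.leaf
  574560) (.node 1 (.leaf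
  2298240) (.leaf
  2388960))))) (.node 5 (.node 2 (.node 1 (.leaf
  2368800) (.leaf
  2278080)) (.node 1 (.leaf
  0) (.node 1 (.leaf
  0) (.leaf
  0)))) (.node 2 (.node 1 (.leaf
  0) (.leaf
  0)) (.node 1 (.leaf
  0) (.node 1 (.leaf
  0) (.leaf
  0)))))) (.node 10 (.node 5 (.node 2 (.node 1 (.leaf
  0) (.leaf
  0)) (.node 1 (.leaf
  0) (.node 1 (.leaf
  0) (.leaf
  0)))) (.node 2 (.node 1 (.leaf
  0) (.leaf
  0)) (.node 1 (.leaf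
  0) (.node 1 (.leaf
  0) (.leaf
  0))))) (.node 5 (.node 2 (.node 1 (.leaf
  0) (.leaf
  0)) (.node 1 (.leaf
  0) (.node 1 (.leaf
  0) (.leaf
  0)))) (.node 2 (.node 1 (.leaf
  0) (.leaf
  0)) (.node 1 (.leaf
  0) (.node 1 (.leaf
  0) (.leaf
  0))))))) (.node 20 (.node 10 (.node 5 (.node 2 (.node 1 (.leaf
  564480) (.leaf
  493920)) (.node 1 (.leaf
  554400) (.node 1 (.leaf
  624960) (.leaf
  2358720)))) (.node 2 (.node 1 (.leaf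
  2288160) (.leaf
  2308320)) (.node 1 (.leaf
  2378880) (.node 1 (.leaf
  0) (.leaf
  0))))) (.node 5 (.node 2 (.node 1 (.leaf
  0) (.leaf
  0)) (.node 1 (.leaf
  0) (.node 1 (.leaf
  0) (.leaf
  0)))) (.node 2 (.node 1 (.leaf
  0) (.leaf
  0)) (.node 1 (.leaf
  0) (.node 1 (.leaf
  0) (.leaf
  0)))))) (.node 10 (.node 5 (.node 2 (.node 1 (.leaf
  0) (.leaf
  0)) (.node 1 (.leaf
  0) (.node 1 (.leaf
  0) (.leaf
  0)))) (.node 2 (.node 1 (.leaf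
  0) (.leaf
  0)) (.node 1 (.leaf
  0) (.node 1 (.leaf
  0) (.leaf
  0))))) (.node 5 (.node 2 (.node 1 (.leaf
  0) (.leaf
  0)) (.node 1 (.leaf
  0) (.node 1 (.leaf
  0) (.leaf
  0)))) (.node 3 (.node 1 (.leaf
  0) (.node 1 (.leaf
  534240) (.leaf
  604800))) (.node 1 (.leaf
  584640) (.node 1 (.leaf
  514080) (.leaf
  2268000)))))))) (.node 40 (.node 20 (.node 10 (.node 5 (.node 2 (.node 1 (.leaf
  2338560) (.leaf
  2399040)) (.node 1 (.leaf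
  2328480) (.node 1 (.leaf
  0) (.leaf
  0)))) (.node 2 (.node 1 (.leaf
  0) (.leaf
  0)) (.node 1 (.leaf
  0) (.node 1 (.leaf
  0) (.leaf
  0))))) (.node 5 (.node 2 (.node 1 (.leaf
  0) (.leaf
  0)) (.node 1 (.leaf
  0) (.node 1 (.leaf
  0) (.leaf
  0)))) (.node 2 (.node 1 (.leaf
  0) (.leaf
  0)) (.node 1 (.leaf
  0) (.node 1 (.leaf
  0) (.leaf
  0)))))) (.node 10 (.node 5 (.node 2 (.node 1 (.leaf
  0) (.leaf
  0)) (.node 1 (.leaf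
  0) (.node 1 (.leaf
  0) (.leaf
  0)))) (.node 2 (.node 1 (.leaf
  0) (.leaf
  0)) (.node 1 (.leaf
  0) (.node 1 (.leaf
  0) (.leaf
  0))))) (.node 5 (.node 2 (.node 1 (.leaf
  0) (.leaf
  504000)) (.node 1 (.leaf
  594720) (.node 1 (.leaf
  614880) (.leaf
  524160)))) (.node 2 (.node 1 (.leaf
  2409120) (.leaf
  2318400)) (.node 1 (.leaf
  2257920) (.node 1 (.leaf
  2348640) (.leaf
  0))))))) (.node 20 (.node 10 (.node 5 (.node 2 (.node 1 (.leaf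
  0) (.leaf
  0)) (.node 1 (.leaf
  0) (.node 1 (.leaf
  0) (.leaf
  0)))) (.node 2 (.node 1 (.leaf
  0) (.leaf
  0)) (.node 1 (.leaf
  0) (.node 1 (.leaf
  0) (.leaf
  0))))) (.node 5 (.node 2 (.node 1 (.leaf
  0) (.leaf
  0)) (.node 1 (.leaf
  0) (.node 1 (.leaf
  0) (.leaf
  0)))) (.node 2 (.node 1 (.leaf
  0) (.leaf
  0)) (.node 1 (.leaf
  0) (.node 1 (.leaf
  0) (.leaf
  0)))))) (.node 10 (.node 5 (.node 2 (.node 1 (.leaf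
  0) (.leaf
  0)) (.node 1 (.leaf
  0) (.node 1 (.leaf
  1209600) (.leaf
  1280160)))) (.node 2 (.node 1 (.leaf
  1149120) (.leaf
  1179360)) (.node 1 (.leaf
  0) (.node 1 (.leaf
  0) (.leaf
  0))))) (.node 5 (.node 2 (.node 1 (.leaf
  0) (.leaf
  120960)) (.node 1 (.leaf
  110880) (.node 1 (.leaf
  60480) (.leaf
  10080)))) (.node 3 (.node 1 (.leaf
  0) (.node 1 (.leaf
  0) (.leaf
  0))) (.node 1 (.leaf
  0) (.node 1 (.leaf
  0) (.leaf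
  0))))))))) (.node 81 (.node 40 (.node 20 (.node 10 (.node 5 (.node 2 (.node 1 (.leaf
  0) (.leaf
  0)) (.node 1 (.leaf
  0) (.node 1 (.leaf
  0) (.leaf
  0)))) (.node 2 (.node 1 (.leaf
  0) (.leaf
  0)) (.node 1 (.leaf
  0) (.node 1 (.leaf
  0) (.leaf
  0))))) (.node 5 (.node 2 (.node 1 (.leaf
  0) (.leaf
  0)) (.node 1 (.leaf
  0) (.node 1 (.leaf
  0) (.leaf
  0)))) (.node 2 (.node 1 (.leaf
  0) (.leaf
  0)) (.node 1 (.leaf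
  0) (.node 1 (.leaf
  1139040) (.leaf
  1189440)))))) (.node 10 (.node 5 (.node 2 (.node 1 (.leaf
  1239840) (.leaf
  1249920)) (.node 1 (.leaf
  0) (.node 1 (.leaf
  0) (.leaf
  0)))) (.node 2 (.node 1 (.leaf
  0) (.leaf
  20160)) (.node 1 (.leaf
  50400) (.node 1 (.leaf
  80640) (.leaf
  151200))))) (.node 5 (.node 2 (.node 1 (.leaf
  0) (.leaf
  0)) (.node 1 (.leaf
  0) (.node 1 (.leaf
  0) (.leaf
  0)))) (.node 2 (.node 1 (.leaf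
  0) (.leaf
  0)) (.node 1 (.leaf
  0) (.node 1 (.leaf
  0) (.leaf
  0))))))) (.node 20 (.node 10 (.node 5 (.node 2 (.node 1 (.leaf
  0) (.leaf
  0)) (.node 1 (.leaf
  0) (.node 1 (.leaf
  0) (.leaf
  0)))) (.node 2 (.node 1 (.leaf
  0) (.leaf
  0)) (.node 1 (.leaf
  0) (.node 1 (.leaf
  0) (.leaf
  0))))) (.node 5 (.node 2 (.node 1 (.leaf
  0) (.leaf
  0)) (.node 1 (.leaf
  0) (.node 1 (.leaf
  0) (.leaf
  1199520)))) (.node 2 (.node 1 (.leaf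
  1128960) (.leaf
  1260000)) (.node 1 (.leaf
  1229760) (.node 1 (.leaf
  0) (.leaf
  0)))))) (.node 10 (.node 5 (.node 2 (.node 1 (.leaf
  0) (.leaf
  0)) (.node 1 (.leaf
  90720) (.node 1 (.leaf
  141120) (.leaf
  30240)))) (.node 2 (.node 1 (.leaf
  40320) (.leaf
  0)) (.node 1 (.leaf
  0) (.node 1 (.leaf
  0) (.leaf
  0))))) (.node 5 (.node 2 (.node 1 (.leaf
  0) (.leaf
  0)) (.node 1 (.leaf
  0) (.node 1 (.leaf
  0) (.leaf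
  0)))) (.node 3 (.node 1 (.leaf
  0) (.node 1 (.leaf
  0) (.leaf
  0))) (.node 1 (.leaf
  0) (.node 1 (.leaf
  0) (.leaf
  0)))))))) (.node 40 (.node 20 (.node 10 (.node 5 (.node 2 (.node 1 (.leaf
  0) (.leaf
  0)) (.node 1 (.leaf
  0) (.node 1 (.leaf
  0) (.leaf
  0)))) (.node 2 (.node 1 (.leaf
  0) (.leaf
  0)) (.node 1 (.leaf
  0) (.node 1 (.leaf
  0) (.leaf
  1270080))))) (.node 5 (.node 2 (.node 1 (.leaf
  1219680) (.leaf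
  1169280)) (.node 1 (.leaf
  1159200) (.node 1 (.leaf
  0) (.leaf
  0)))) (.node 2 (.node 1 (.leaf
  0) (.leaf
  0)) (.node 1 (.leaf
  70560) (.node 1 (.leaf
  0) (.leaf
  131040)))))) (.node 10 (.node 5 (.node 2 (.node 1 (.leaf
  100800) (.leaf
  0)) (.node 1 (.leaf
  0) (.node 1 (.leaf
  0) (.leaf
  0)))) (.node 2 (.node 1 (.leaf
  0) (.leaf
  0)) (.node 1 (.leaf
  0) (.node 1 (.leaf
  0) (.leaf
  0))))) (.node 5 (.node 2 (.node 1 (.leaf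
  0) (.leaf
  0)) (.node 1 (.leaf
  0) (.node 1 (.leaf
  0) (.leaf
  0)))) (.node 2 (.node 1 (.leaf
  0) (.leaf
  0)) (.node 1 (.leaf
  0) (.node 1 (.leaf
  0) (.leaf
  0))))))) (.node 20 (.node 10 (.node 5 (.node 2 (.node 1 (.leaf
  0) (.leaf
  0)) (.node 1 (.leaf
  0) (.node 1 (.leaf
  0) (.leaf
  0)))) (.node 2 (.node 1 (.leaf
  786240) (.leaf
  645120)) (.node 1 (.leaf
  756000) (.node 1 (.leaf
  695520) (.leaf
  1370880))))) (.node 5 (.node 2 (.node 1 (.leaf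
  1350720) (.leaf
  1421280)) (.node 1 (.leaf
  1320480) (.node 1 (.leaf
  0) (.leaf
  0)))) (.node 2 (.node 1 (.leaf
  0) (.leaf
  0)) (.node 1 (.leaf
  0) (.node 1 (.leaf
  0) (.leaf
  0)))))) (.node 10 (.node 5 (.node 2 (.node 1 (.leaf
  0) (.leaf
  0)) (.node 1 (.leaf
  0) (.node 1 (.leaf
  0) (.leaf
  0)))) (.node 2 (.node 1 (.leaf
  0) (.leaf
  0)) (.node 1 (.leaf
  0) (.node 1 (.leaf
  0) (.leaf
  0))))) (.node 5 (.node 2 (.node 1 (.leaf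
  0) (.leaf
  0)) (.node 1 (.leaf
  0) (.node 1 (.leaf
  0) (.leaf
  0)))) (.node 3 (.node 1 (.leaf
  0) (.node 1 (.leaf
  0) (.leaf
  0))) (.node 1 (.leaf
  0) (.node 1 (.leaf
  0) (.leaf
  0)))))))))) (.node 162 (.node 81 (.node 40 (.node 20 (.node 10 (.node 5 (.node 2 (.node 1 (.leaf
  715680) (.leaf
  735840)) (.node 1 (.leaf
  665280) (.node 1 (.leaf
  766080) (.leaf
  1441440)))) (.node 2 (.node 1 (.leaf
  1300320) (.leaf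
  1391040)) (.node 1 (.leaf
  1330560) (.node 1 (.leaf
  0) (.leaf
  0))))) (.node 5 (.node 2 (.node 1 (.leaf
  0) (.leaf
  0)) (.node 1 (.leaf
  0) (.node 1 (.leaf
  0) (.leaf
  0)))) (.node 2 (.node 1 (.leaf
  0) (.leaf
  0)) (.node 1 (.leaf
  0) (.node 1 (.leaf
  0) (.leaf
  0)))))) (.node 10 (.node 5 (.node 2 (.node 1 (.leaf
  0) (.leaf
  0)) (.node 1 (.leaf
  0) (.node 1 (.leaf
  0) (.leaf
  0)))) (.node 2 (.node 1 (.leaf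
  0) (.leaf
  0)) (.node 1 (.leaf
  0) (.node 1 (.leaf
  0) (.leaf
  0))))) (.node 5 (.node 2 (.node 1 (.leaf
  0) (.leaf
  0)) (.node 1 (.leaf
  0) (.node 1 (.leaf
  0) (.leaf
  0)))) (.node 2 (.node 1 (.leaf
  0) (.leaf
  655200)) (.node 1 (.leaf
  796320) (.node 1 (.leaf
  685440) (.leaf
  745920))))))) (.node 20 (.node 10 (.node 5 (.node 2 (.node 1 (.leaf
  1310400) (.leaf
  1411200)) (.node 1 (.leaf
  1360800) (.node 1 (.leaf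
  1380960) (.leaf
  0)))) (.node 2 (.node 1 (.leaf
  0) (.leaf
  0)) (.node 1 (.leaf
  0) (.node 1 (.leaf
  0) (.leaf
  0))))) (.node 5 (.node 2 (.node 1 (.leaf
  0) (.leaf
  0)) (.node 1 (.leaf
  0) (.node 1 (.leaf
  0) (.leaf
  0)))) (.node 2 (.node 1 (.leaf
  0) (.leaf
  0)) (.node 1 (.leaf
  0) (.node 1 (.leaf
  0) (.leaf
  0)))))) (.node 10 (.node 5 (.node 2 (.node 1 (.leaf
  0) (.leaf
  0)) (.node 1 (.leaf
  0) (.node 1 (.leaf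
  0) (.leaf
  0)))) (.node 2 (.node 1 (.leaf
  0) (.leaf
  0)) (.node 1 (.leaf
  0) (.node 1 (.leaf
  0) (.leaf
  0))))) (.node 5 (.node 2 (.node 1 (.leaf
  0) (.leaf
  0)) (.node 1 (.leaf
  725760) (.node 1 (.leaf
  705600) (.leaf
  776160)))) (.node 3 (.node 1 (.leaf
  675360) (.node 1 (.leaf
  1340640) (.leaf
  1401120))) (.node 1 (.leaf
  1290240) (.node 1 (.leaf
  1431360) (.leaf
  0)))))))) (.node 40 (.node 20 (.node 10 (.node 5 (.node 2 (.node 1 (.leaf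
  0) (.leaf
  0)) (.node 1 (.leaf
  0) (.node 1 (.leaf
  0) (.leaf
  0)))) (.node 2 (.node 1 (.leaf
  0) (.leaf
  0)) (.node 1 (.leaf
  0) (.node 1 (.leaf
  0) (.leaf
  0))))) (.node 5 (.node 2 (.node 1 (.leaf
  0) (.leaf
  0)) (.node 1 (.leaf
  0) (.node 1 (.leaf
  0) (.leaf
  0)))) (.node 2 (.node 1 (.leaf
  0) (.leaf
  0)) (.node 1 (.leaf
  0) (.node 1 (.leaf
  0) (.leaf
  0)))))) (.node 10 (.node 5 (.node 2 (.node 1 (.leaf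
  0) (.leaf
  0)) (.node 1 (.leaf
  0) (.node 1 (.leaf
  0) (.leaf
  0)))) (.node 2 (.node 1 (.leaf
  0) (.leaf
  0)) (.node 1 (.leaf
  0) (.node 1 (.leaf
  0) (.leaf
  0))))) (.node 5 (.node 2 (.node 1 (.leaf
  0) (.leaf
  0)) (.node 1 (.leaf
  0) (.node 1 (.leaf
  0) (.leaf
  0)))) (.node 2 (.node 1 (.leaf
  0) (.leaf
  0)) (.node 1 (.leaf
  0) (.node 1 (.leaf
  0) (.leaf
  0))))))) (.node 20 (.node 10 (.node 5 (.node 2 (.node 1 (.leaf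
  0) (.leaf
  0)) (.node 1 (.leaf
  0) (.node 1 (.leaf
  1010520) (.leaf
  1088640)))) (.node 2 (.node 1 (.leaf
  972720) (.leaf
  1055880)) (.node 1 (.leaf
  2585520) (.node 1 (.leaf
  2668680) (.leaf
  2623320))))) (.node 5 (.node 2 (.node 1 (.leaf
  2701440) (.leaf
  0)) (.node 1 (.leaf
  0) (.node 1 (.leaf
  0) (.leaf
  0)))) (.node 2 (.node 1 (.leaf
  0) (.leaf
  0)) (.node 1 (.leaf
  0) (.node 1 (.leaf
  0) (.leaf
  0)))))) (.node 10 (.node 5 (.node 2 (.node 1 (.leaf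
  0) (.leaf
  0)) (.node 1 (.leaf
  0) (.node 1 (.leaf
  0) (.leaf
  0)))) (.node 2 (.node 1 (.leaf
  0) (.leaf
  0)) (.node 1 (.leaf
  0) (.node 1 (.leaf
  0) (.leaf
  0))))) (.node 5 (.node 2 (.node 1 (.leaf
  0) (.leaf
  0)) (.node 1 (.leaf
  0) (.node 1 (.leaf
  0) (.leaf
  0)))) (.node 3 (.node 1 (.leaf
  0) (.node 1 (.leaf
  0) (.leaf
  0))) (.node 1 (.leaf
  0) (.node 1 (.leaf
  1053360) (.leaf
  975240))))))))) (.node 81 (.node 40 (.node 20 (.node 10 (.node 5 (.node 2 (.node 1 (.leaf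
  1091160) (.leaf
  1008000)) (.node 1 (.leaf
  2620800) (.node 1 (.leaf
  2703960) (.leaf
  2588040)))) (.node 2 (.node 1 (.leaf
  2666160) (.leaf
  0)) (.node 1 (.leaf
  0) (.node 1 (.leaf
  0) (.leaf
  0))))) (.node 5 (.node 2 (.node 1 (.leaf
  0) (.leaf
  0)) (.node 1 (.leaf
  0) (.node 1 (.leaf
  0) (.leaf
  0)))) (.node 2 (.node 1 (.leaf
  0) (.leaf
  0)) (.node 1 (.leaf
  0) (.node 1 (.leaf
  0) (.leaf
  0)))))) (.node 10 (.node 5 (.node 2 (.node 1 (.leaf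
  0) (.leaf
  0)) (.node 1 (.leaf
  0) (.node 1 (.leaf
  0) (.leaf
  0)))) (.node 2 (.node 1 (.leaf
  0) (.leaf
  0)) (.node 1 (.leaf
  0) (.node 1 (.leaf
  0) (.leaf
  0))))) (.node 5 (.node 2 (.node 1 (.leaf
  0) (.leaf
  0)) (.node 1 (.leaf
  0) (.node 1 (.leaf
  0) (.leaf
  1096200)))) (.node 2 (.node 1 (.leaf
  1013040) (.leaf
  1048320)) (.node 1 (.leaf
  970200) (.node 1 (.leaf
  2709000) (.leaf
  2625840))))))) (.node 20 (.node 10 (.node 5 (.node 2 (.node 1 (.leaf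
  2661120) (.leaf
  2583000)) (.node 1 (.leaf
  0) (.node 1 (.leaf
  0) (.leaf
  0)))) (.node 2 (.node 1 (.leaf
  0) (.leaf
  0)) (.node 1 (.leaf
  0) (.node 1 (.leaf
  0) (.leaf
  0))))) (.node 5 (.node 2 (.node 1 (.leaf
  0) (.leaf
  0)) (.node 1 (.leaf
  0) (.node 1 (.leaf
  0) (.leaf
  0)))) (.node 2 (.node 1 (.leaf
  0) (.leaf
  0)) (.node 1 (.leaf
  0) (.node 1 (.leaf
  0) (.leaf
  0)))))) (.node 10 (.node 5 (.node 2 (.node 1 (.leaf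
  0) (.leaf
  0)) (.node 1 (.leaf
  0) (.node 1 (.leaf
  0) (.leaf
  0)))) (.node 2 (.node 1 (.leaf
  0) (.leaf
  0)) (.node 1 (.leaf
  0) (.node 1 (.leaf
  0) (.leaf
  0))))) (.node 5 (.node 2 (.node 1 (.leaf
  967680) (.leaf
  1050840)) (.node 1 (.leaf
  1015560) (.node 1 (.leaf
  1093680) (.leaf
  2663640)))) (.node 3 (.node 1 (.leaf
  2580480) (.node 1 (.leaf
  2706480) (.leaf
  2628360))) (.node 1 (.leaf
  0) (.node 1 (.leaf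
  0) (.leaf
  0)))))))) (.node 40 (.node 20 (.node 10 (.node 5 (.node 2 (.node 1 (.leaf
  0) (.leaf
  0)) (.node 1 (.leaf
  0) (.node 1 (.leaf
  0) (.leaf
  0)))) (.node 2 (.node 1 (.leaf
  0) (.leaf
  0)) (.node 1 (.leaf
  0) (.node 1 (.leaf
  0) (.leaf
  0))))) (.node 5 (.node 2 (.node 1 (.leaf
  0) (.leaf
  0)) (.node 1 (.leaf
  0) (.node 1 (.leaf
  0) (.leaf
  0)))) (.node 2 (.node 1 (.leaf
  0) (.leaf
  0)) (.node 1 (.leaf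
  0) (.node 1 (.leaf
  0) (.leaf
  0)))))) (.node 10 (.node 5 (.node 2 (.node 1 (.leaf
  0) (.leaf
  2504880)) (.node 1 (.leaf
  2462040) (.node 1 (.leaf
  2419200) (.leaf
  2547720)))) (.node 2 (.node 1 (.leaf
  0) (.leaf
  0)) (.node 1 (.leaf
  0) (.node 1 (.leaf
  0) (.leaf
  367920))))) (.node 5 (.node 2 (.node 1 (.leaf
  405720) (.leaf
  443520)) (.node 1 (.leaf
  330120) (.node 1 (.leaf
  0) (.leaf
  0)))) (.node 2 (.node 1 (.leaf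
  0) (.leaf
  0)) (.node 1 (.leaf
  0) (.node 1 (.leaf
  0) (.leaf
  0))))))) (.node 20 (.node 10 (.node 5 (.node 2 (.node 1 (.leaf
  0) (.leaf
  0)) (.node 1 (.leaf
  0) (.node 1 (.leaf
  0) (.leaf
  0)))) (.node 2 (.node 1 (.leaf
  0) (.leaf
  0)) (.node 1 (.leaf
  0) (.node 1 (.leaf
  0) (.leaf
  0))))) (.node 5 (.node 2 (.node 1 (.leaf
  0) (.leaf
  0)) (.node 1 (.leaf
  0) (.node 1 (.leaf
  0) (.leaf
  0)))) (.node 2 (.node 1 (.leaf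
  0) (.leaf
  0)) (.node 1 (.leaf
  2426760) (.node 1 (.leaf
  2540160) (.leaf
  2502360)))))) (.node 10 (.node 5 (.node 2 (.node 1 (.leaf
  2464560) (.leaf
  0)) (.node 1 (.leaf
  0) (.node 1 (.leaf
  0) (.leaf
  0)))) (.node 2 (.node 1 (.leaf
  322560) (.leaf
  451080)) (.node 1 (.leaf
  408240) (.node 1 (.leaf
  365400) (.leaf
  0))))) (.node 5 (.node 2 (.node 1 (.leaf
  0) (.leaf
  0)) (.node 1 (.leaf
  0) (.node 1 (.leaf
  0) (.leaf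
  0)))) (.node 3 (.node 1 (.leaf
  0) (.node 1 (.leaf
  0) (.leaf
  0))) (.node 1 (.leaf
  0) (.node 1 (.leaf
  0) (.leaf
  0))))))))))) (.node 324 (.node 162 (.node 81 (.node 40 (.node 20 (.node 10 (.node 5 (.node 2 (.node 1 (.leaf
  0) (.leaf
  0)) (.node 1 (.leaf
  0) (.node 1 (.leaf
  0) (.leaf
  0)))) (.node 2 (.node 1 (.leaf
  0) (.leaf
  0)) (.node 1 (.leaf
  0) (.node 1 (.leaf
  0) (.leaf
  0))))) (.node 5 (.node 2 (.node 1 (.leaf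
  0) (.leaf
  0)) (.node 1 (.leaf
  2542680) (.node 1 (.leaf
  2424240) (.leaf
  2467080)))) (.node 2 (.node 1 (.leaf
  2499840) (.leaf
  0)) (.node 1 (.leaf
  0) (.node 1 (.leaf
  0) (.leaf
  0)))))) (.node 10 (.node 5 (.node 2 (.node 1 (.leaf
  410760) (.leaf
  362880)) (.node 1 (.leaf
  325080) (.node 1 (.leaf
  448560) (.leaf
  0)))) (.node 2 (.node 1 (.leaf
  0) (.leaf
  0)) (.node 1 (.leaf
  0) (.node 1 (.leaf
  0) (.leaf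
  0))))) (.node 5 (.node 2 (.node 1 (.leaf
  0) (.leaf
  0)) (.node 1 (.leaf
  0) (.node 1 (.leaf
  0) (.leaf
  0)))) (.node 2 (.node 1 (.leaf
  0) (.leaf
  0)) (.node 1 (.leaf
  0) (.node 1 (.leaf
  0) (.leaf
  0))))))) (.node 20 (.node 10 (.node 5 (.node 2 (.node 1 (.leaf
  0) (.leaf
  0)) (.node 1 (.leaf
  0) (.node 1 (.leaf
  0) (.leaf
  0)))) (.node 2 (.node 1 (.leaf
  0) (.leaf
  0)) (.node 1 (.leaf
  0) (.node 1 (.leaf
  2459520) (.leaf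
  2507400))))) (.node 5 (.node 2 (.node 1 (.leaf
  2545200) (.leaf
  2421720)) (.node 1 (.leaf
  0) (.node 1 (.leaf
  0) (.leaf
  0)))) (.node 2 (.node 1 (.leaf
  0) (.leaf
  446040)) (.node 1 (.leaf
  327600) (.node 1 (.leaf
  370440) (.leaf
  403200)))))) (.node 10 (.node 5 (.node 2 (.node 1 (.leaf
  0) (.leaf
  0)) (.node 1 (.leaf
  0) (.node 1 (.leaf
  0) (.leaf
  0)))) (.node 2 (.node 1 (.leaf
  0) (.leaf
  0)) (.node 1 (.leaf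
  0) (.node 1 (.leaf
  0) (.leaf
  0))))) (.node 5 (.node 2 (.node 1 (.leaf
  0) (.leaf
  0)) (.node 1 (.leaf
  0) (.node 1 (.leaf
  0) (.leaf
  0)))) (.node 3 (.node 1 (.leaf
  0) (.node 1 (.leaf
  0) (.leaf
  0))) (.node 1 (.leaf
  0) (.node 1 (.leaf
  0) (.leaf
  0)))))))) (.node 40 (.node 20 (.node 10 (.node 5 (.node 2 (.node 1 (.leaf
  0) (.leaf
  0)) (.node 1 (.leaf
  0) (.node 1 (.leaf
  206640) (.leaf
  161280)))) (.node 2 (.node 1 (.leaf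
  249480) (.leaf
  284760)) (.node 1 (.leaf
  2136960) (.node 1 (.leaf
  2101680) (.leaf
  2179800))))) (.node 5 (.node 2 (.node 1 (.leaf
  2225160) (.leaf
  0)) (.node 1 (.leaf
  0) (.node 1 (.leaf
  0) (.leaf
  0)))) (.node 2 (.node 1 (.leaf
  0) (.leaf
  0)) (.node 1 (.leaf
  0) (.node 1 (.leaf
  0) (.leaf
  0)))))) (.node 10 (.node 5 (.node 2 (.node 1 (.leaf
  0) (.leaf
  0)) (.node 1 (.leaf
  0) (.node 1 (.leaf
  0) (.leaf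
  0)))) (.node 2 (.node 1 (.leaf
  0) (.leaf
  0)) (.node 1 (.leaf
  0) (.node 1 (.leaf
  0) (.leaf
  0))))) (.node 5 (.node 2 (.node 1 (.leaf
  0) (.leaf
  0)) (.node 1 (.leaf
  0) (.node 1 (.leaf
  0) (.leaf
  0)))) (.node 2 (.node 1 (.leaf
  0) (.leaf
  0)) (.node 1 (.leaf
  0) (.node 1 (.leaf
  0) (.leaf
  289800))))))) (.node 20 (.node 10 (.node 5 (.node 2 (.node 1 (.leaf
  244440) (.leaf
  166320)) (.node 1 (.leaf
  201600) (.node 1 (.leaf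
  2184840) (.leaf
  2220120)))) (.node 2 (.node 1 (.leaf
  2142000) (.leaf
  2096640)) (.node 1 (.leaf
  0) (.node 1 (.leaf
  0) (.leaf
  0))))) (.node 5 (.node 2 (.node 1 (.leaf
  0) (.leaf
  0)) (.node 1 (.leaf
  0) (.node 1 (.leaf
  0) (.leaf
  0)))) (.node 2 (.node 1 (.leaf
  0) (.leaf
  0)) (.node 1 (.leaf
  0) (.node 1 (.leaf
  0) (.leaf
  0)))))) (.node 10 (.node 5 (.node 2 (.node 1 (.leaf
  0) (.leaf
  0)) (.node 1 (.leaf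
  0) (.node 1 (.leaf
  0) (.leaf
  0)))) (.node 2 (.node 1 (.leaf
  0) (.leaf
  0)) (.node 1 (.leaf
  0) (.node 1 (.leaf
  0) (.leaf
  0))))) (.node 5 (.node 2 (.node 1 (.leaf
  0) (.leaf
  0)) (.node 1 (.leaf
  0) (.node 1 (.leaf
  0) (.leaf
  0)))) (.node 3 (.node 1 (.leaf
  163800) (.node 1 (.leaf
  209160) (.leaf
  282240))) (.node 1 (.leaf
  246960) (.node 1 (.leaf
  2222640) (.leaf
  2177280))))))))) (.node 81 (.node 40 (.node 20 (.node 10 (.node 5 (.node 2 (.node 1 (.leaf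
  2104200) (.leaf
  2139480)) (.node 1 (.leaf
  0) (.node 1 (.leaf
  0) (.leaf
  0)))) (.node 2 (.node 1 (.leaf
  0) (.leaf
  0)) (.node 1 (.leaf
  0) (.node 1 (.leaf
  0) (.leaf
  0))))) (.node 5 (.node 2 (.node 1 (.leaf
  0) (.leaf
  0)) (.node 1 (.leaf
  0) (.node 1 (.leaf
  0) (.leaf
  0)))) (.node 2 (.node 1 (.leaf
  0) (.leaf
  0)) (.node 1 (.leaf
  0) (.node 1 (.leaf
  0) (.leaf
  0)))))) (.node 10 (.node 5 (.node 2 (.node 1 (.leaf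
  0) (.leaf
  0)) (.node 1 (.leaf
  0) (.node 1 (.leaf
  0) (.leaf
  0)))) (.node 2 (.node 1 (.leaf
  0) (.leaf
  0)) (.node 1 (.leaf
  0) (.node 1 (.leaf
  0) (.leaf
  0))))) (.node 5 (.node 2 (.node 1 (.leaf
  241920) (.leaf
  287280)) (.node 1 (.leaf
  204120) (.node 1 (.leaf
  168840) (.leaf
  2099160)))) (.node 2 (.node 1 (.leaf
  2144520) (.leaf
  2217600)) (.node 1 (.leaf
  2182320) (.node 1 (.leaf
  0) (.leaf
  0))))))) (.node 20 (.node 10 (.node 5 (.node 2 (.node 1 (.leaf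
  0) (.leaf
  0)) (.node 1 (.leaf
  0) (.node 1 (.leaf
  0) (.leaf
  0)))) (.node 2 (.node 1 (.leaf
  0) (.leaf
  0)) (.node 1 (.leaf
  0) (.node 1 (.leaf
  0) (.leaf
  0))))) (.node 5 (.node 2 (.node 1 (.leaf
  0) (.leaf
  0)) (.node 1 (.leaf
  0) (.node 1 (.leaf
  0) (.leaf
  0)))) (.node 2 (.node 1 (.leaf
  0) (.leaf
  0)) (.node 1 (.leaf
  0) (.node 1 (.leaf
  0) (.leaf
  0)))))) (.node 10 (.node 5 (.node 2 (.node 1 (.leaf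
  0) (.leaf
  0)) (.node 1 (.leaf
  0) (.node 1 (.leaf
  0) (.leaf
  0)))) (.node 2 (.node 1 (.leaf
  0) (.leaf
  0)) (.node 1 (.leaf
  0) (.node 1 (.leaf
  0) (.leaf
  0))))) (.node 5 (.node 2 (.node 1 (.leaf
  0) (.leaf
  0)) (.node 1 (.leaf
  0) (.node 1 (.leaf
  0) (.leaf
  0)))) (.node 3 (.node 1 (.leaf
  0) (.node 1 (.leaf
  0) (.leaf
  0))) (.node 1 (.leaf
  0) (.node 1 (.leaf
  0) (.leaf
  0)))))))) (.node 40 (.node 20 (.node 10 (.node 5 (.node 2 (.node 1 (.leaf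
  0) (.leaf
  1784160)) (.node 1 (.leaf
  1799280) (.node 1 (.leaf
  1781640) (.leaf
  1806840)))) (.node 2 (.node 1 (.leaf
  821520) (.leaf
  826560)) (.node 1 (.leaf
  808920) (.node 1 (.leaf
  844200) (.leaf
  0))))) (.node 5 (.node 2 (.node 1 (.leaf
  0) (.leaf
  0)) (.node 1 (.leaf
  0) (.node 1 (.leaf
  0) (.leaf
  0)))) (.node 2 (.node 1 (.leaf
  0) (.leaf
  0)) (.node 1 (.leaf
  0) (.node 1 (.leaf
  0) (.leaf
  0)))))) (.node 10 (.node 5 (.node 2 (.node 1 (.leaf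
  0) (.leaf
  0)) (.node 1 (.leaf
  0) (.node 1 (.leaf
  0) (.leaf
  0)))) (.node 2 (.node 1 (.leaf
  0) (.leaf
  0)) (.node 1 (.leaf
  0) (.node 1 (.leaf
  0) (.leaf
  0))))) (.node 5 (.node 2 (.node 1 (.leaf
  0) (.leaf
  0)) (.node 1 (.leaf
  0) (.node 1 (.leaf
  0) (.leaf
  0)))) (.node 2 (.node 1 (.leaf
  0) (.leaf
  0)) (.node 1 (.leaf
  1776600) (.node 1 (.leaf
  1811880) (.leaf
  1789200))))))) (.node 20 (.node 10 (.node 5 (.node 2 (.node 1 (.leaf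
  1794240) (.leaf
  839160)) (.node 1 (.leaf
  813960) (.node 1 (.leaf
  831600) (.leaf
  816480)))) (.node 2 (.node 1 (.leaf
  0) (.leaf
  0)) (.node 1 (.leaf
  0) (.node 1 (.leaf
  0) (.leaf
  0))))) (.node 5 (.node 2 (.node 1 (.leaf
  0) (.leaf
  0)) (.node 1 (.leaf
  0) (.node 1 (.leaf
  0) (.leaf
  0)))) (.node 2 (.node 1 (.leaf
  0) (.leaf
  0)) (.node 1 (.leaf
  0) (.node 1 (.leaf
  0) (.leaf
  0)))))) (.node 10 (.node 5 (.node 2 (.node 1 (.leaf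
  0) (.leaf
  0)) (.node 1 (.leaf
  0) (.node 1 (.leaf
  0) (.leaf
  0)))) (.node 2 (.node 1 (.leaf
  0) (.leaf
  0)) (.node 1 (.leaf
  0) (.node 1 (.leaf
  0) (.leaf
  0))))) (.node 5 (.node 2 (.node 1 (.leaf
  0) (.leaf
  0)) (.node 1 (.leaf
  0) (.node 1 (.leaf
  1809360) (.leaf
  1774080)))) (.node 3 (.node 1 (.leaf
  1796760) (.node 1 (.leaf
  1791720) (.leaf
  834120))) (.node 1 (.leaf
  819000) (.node 1 (.leaf
  836640) (.leaf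
  811440)))))))))) (.node 162 (.node 81 (.node 40 (.node 20 (.node 10 (.node 5 (.node 2 (.node 1 (.leaf
  0) (.leaf
  0)) (.node 1 (.leaf
  0) (.node 1 (.leaf
  0) (.leaf
  0)))) (.node 2 (.node 1 (.leaf
  0) (.leaf
  0)) (.node 1 (.leaf
  0) (.node 1 (.leaf
  0) (.leaf
  0))))) (.node 5 (.node 2 (.node 1 (.leaf
  0) (.leaf
  0)) (.node 1 (.leaf
  0) (.node 1 (.leaf
  0) (.leaf
  0)))) (.node 2 (.node 1 (.leaf
  0) (.leaf
  0)) (.node 1 (.leaf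
  0) (.node 1 (.leaf
  0) (.leaf
  0)))))) (.node 10 (.node 5 (.node 2 (.node 1 (.leaf
  0) (.leaf
  0)) (.node 1 (.leaf
  0) (.node 1 (.leaf
  0) (.leaf
  0)))) (.node 2 (.node 1 (.leaf
  0) (.leaf
  0)) (.node 1 (.leaf
  0) (.node 1 (.leaf
  1801800) (.leaf
  1786680))))) (.node 5 (.node 2 (.node 1 (.leaf
  1804320) (.leaf
  1779120)) (.node 1 (.leaf
  806400) (.node 1 (.leaf
  841680) (.leaf
  824040)))) (.node 2 (.node 1 (.leaf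
  829080) (.leaf
  0)) (.node 1 (.leaf
  0) (.node 1 (.leaf
  0) (.leaf
  0))))))) (.node 20 (.node 10 (.node 5 (.node 2 (.node 1 (.leaf
  0) (.leaf
  0)) (.node 1 (.leaf
  0) (.node 1 (.leaf
  0) (.leaf
  0)))) (.node 2 (.node 1 (.leaf
  0) (.leaf
  0)) (.node 1 (.leaf
  0) (.node 1 (.leaf
  0) (.leaf
  0))))) (.node 5 (.node 2 (.node 1 (.leaf
  0) (.leaf
  0)) (.node 1 (.leaf
  0) (.node 1 (.leaf
  0) (.leaf
  0)))) (.node 2 (.node 1 (.leaf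
  0) (.leaf
  0)) (.node 1 (.leaf
  0) (.node 1 (.leaf
  0) (.leaf
  0)))))) (.node 10 (.node 5 (.node 2 (.node 1 (.leaf
  1461600) (.leaf
  1454040)) (.node 1 (.leaf
  1486800) (.node 1 (.leaf
  1479240) (.leaf
  0)))) (.node 2 (.node 1 (.leaf
  0) (.leaf
  0)) (.node 1 (.leaf
  0) (.node 1 (.leaf
  2741760) (.leaf
  2754360))))) (.node 5 (.node 2 (.node 1 (.leaf
  2766960) (.leaf
  2779560)) (.node 1 (.leaf
  0) (.node 1 (.leaf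
  0) (.leaf
  0)))) (.node 3 (.node 1 (.leaf
  0) (.node 1 (.leaf
  0) (.leaf
  0))) (.node 1 (.leaf
  0) (.node 1 (.leaf
  0) (.leaf
  0)))))))) (.node 40 (.node 20 (.node 10 (.node 5 (.node 2 (.node 1 (.leaf
  0) (.leaf
  0)) (.node 1 (.leaf
  0) (.node 1 (.leaf
  0) (.leaf
  0)))) (.node 2 (.node 1 (.leaf
  0) (.leaf
  0)) (.node 1 (.leaf
  0) (.node 1 (.leaf
  0) (.leaf
  0))))) (.node 5 (.node 2 (.node 1 (.leaf
  0) (.leaf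
  0)) (.node 1 (.leaf
  0) (.node 1 (.leaf
  0) (.leaf
  0)))) (.node 2 (.node 1 (.leaf
  1476720) (.leaf
  1489320)) (.node 1 (.leaf
  1451520) (.node 1 (.leaf
  1464120) (.leaf
  0)))))) (.node 10 (.node 5 (.node 2 (.node 1 (.leaf
  0) (.leaf
  0)) (.node 1 (.leaf
  0) (.node 1 (.leaf
  2769480) (.leaf
  2777040)))) (.node 2 (.node 1 (.leaf
  2744280) (.leaf
  2751840)) (.node 1 (.leaf
  0) (.node 1 (.leaf
  0) (.leaf
  0))))) (.node 5 (.node 2 (.node 1 (.leaf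
  0) (.leaf
  0)) (.node 1 (.leaf
  0) (.node 1 (.leaf
  0) (.leaf
  0)))) (.node 2 (.node 1 (.leaf
  0) (.leaf
  0)) (.node 1 (.leaf
  0) (.node 1 (.leaf
  0) (.leaf
  0))))))) (.node 20 (.node 10 (.node 5 (.node 2 (.node 1 (.leaf
  0) (.leaf
  0)) (.node 1 (.leaf
  0) (.node 1 (.leaf
  0) (.leaf
  0)))) (.node 2 (.node 1 (.leaf
  0) (.leaf
  0)) (.node 1 (.leaf
  0) (.node 1 (.leaf
  0) (.leaf
  0))))) (.node 5 (.node 2 (.node 1 (.leaf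
  0) (.leaf
  1459080)) (.node 1 (.leaf
  1466640) (.node 1 (.leaf
  1474200) (.leaf
  1481760)))) (.node 2 (.node 1 (.leaf
  0) (.leaf
  0)) (.node 1 (.leaf
  0) (.node 1 (.leaf
  0) (.leaf
  2774520)))))) (.node 10 (.node 5 (.node 2 (.node 1 (.leaf
  2761920) (.leaf
  2759400)) (.node 1 (.leaf
  2746800) (.node 1 (.leaf
  0) (.leaf
  0)))) (.node 2 (.node 1 (.leaf
  0) (.leaf
  0)) (.node 1 (.leaf
  0) (.node 1 (.leaf
  0) (.leaf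
  0))))) (.node 5 (.node 2 (.node 1 (.leaf
  0) (.leaf
  0)) (.node 1 (.leaf
  0) (.node 1 (.leaf
  0) (.leaf
  0)))) (.node 3 (.node 1 (.leaf
  0) (.node 1 (.leaf
  0) (.leaf
  0))) (.node 1 (.leaf
  0) (.node 1 (.leaf
  0) (.leaf
  0))))))))) (.node 81 (.node 40 (.node 20 (.node 10 (.node 5 (.node 2 (.node 1 (.leaf
  0) (.leaf
  0)) (.node 1 (.leaf
  0) (.node 1 (.leaf
  0) (.leaf
  0)))) (.node 2 (.node 1 (.leaf
  0) (.leaf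
  1484280)) (.node 1 (.leaf
  1471680) (.node 1 (.leaf
  1469160) (.leaf
  1456560))))) (.node 5 (.node 2 (.node 1 (.leaf
  0) (.leaf
  0)) (.node 1 (.leaf
  0) (.node 1 (.leaf
  0) (.leaf
  2756880)))) (.node 2 (.node 1 (.leaf
  2749320) (.leaf
  2772000)) (.node 1 (.leaf
  2764440) (.node 1 (.leaf
  0) (.leaf
  0)))))) (.node 10 (.node 5 (.node 2 (.node 1 (.leaf
  0) (.leaf
  0)) (.node 1 (.leaf
  0) (.node 1 (.leaf
  0) (.leaf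
  0)))) (.node 2 (.node 1 (.leaf
  0) (.leaf
  0)) (.node 1 (.leaf
  0) (.node 1 (.leaf
  0) (.leaf
  0))))) (.node 5 (.node 2 (.node 1 (.leaf
  0) (.leaf
  0)) (.node 1 (.leaf
  0) (.node 1 (.leaf
  0) (.leaf
  0)))) (.node 2 (.node 1 (.leaf
  0) (.leaf
  0)) (.node 1 (.leaf
  0) (.node 1 (.leaf
  0) (.leaf
  0))))))) (.node 20 (.node 10 (.node 5 (.node 2 (.node 1 (.leaf
  0) (.leaf
  0)) (.node 1 (.leaf
  1955520) (.node 1 (.leaf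
  1942920) (.leaf
  1947960)))) (.node 2 (.node 1 (.leaf
  1970640) (.leaf
  1625400)) (.node 1 (.leaf
  1648080) (.node 1 (.leaf
  1632960) (.leaf
  1620360))))) (.node 5 (.node 2 (.node 1 (.leaf
  0) (.leaf
  0)) (.node 1 (.leaf
  0) (.node 1 (.leaf
  0) (.leaf
  0)))) (.node 2 (.node 1 (.leaf
  0) (.leaf
  0)) (.node 1 (.leaf
  0) (.node 1 (.leaf
  0) (.leaf
  0)))))) (.node 10 (.node 5 (.node 2 (.node 1 (.leaf
  0) (.leaf
  0)) (.node 1 (.leaf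
  0) (.node 1 (.leaf
  0) (.leaf
  0)))) (.node 2 (.node 1 (.leaf
  0) (.leaf
  0)) (.node 1 (.leaf
  0) (.node 1 (.leaf
  0) (.leaf
  0))))) (.node 5 (.node 2 (.node 1 (.leaf
  0) (.leaf
  0)) (.node 1 (.leaf
  0) (.node 1 (.leaf
  0) (.leaf
  0)))) (.node 3 (.node 1 (.leaf
  0) (.node 1 (.leaf
  0) (.leaf
  0))) (.node 1 (.leaf
  1950480) (.node 1 (.leaf
  1968120) (.leaf
  1963080)))))))) (.node 40 (.node 20 (.node 10 (.node 5 (.node 2 (.node 1 (.leaf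
  1935360) (.leaf
  1612800)) (.node 1 (.leaf
  1640520) (.node 1 (.leaf
  1645560) (.leaf
  1627920)))) (.node 2 (.node 1 (.leaf
  0) (.leaf
  0)) (.node 1 (.leaf
  0) (.node 1 (.leaf
  0) (.leaf
  0))))) (.node 5 (.node 2 (.node 1 (.leaf
  0) (.leaf
  0)) (.node 1 (.leaf
  0) (.node 1 (.leaf
  0) (.leaf
  0)))) (.node 2 (.node 1 (.leaf
  0) (.leaf
  0)) (.node 1 (.leaf
  0) (.node 1 (.leaf
  0) (.leaf
  0)))))) (.node 10 (.node 5 (.node 2 (.node 1 (.leaf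
  0) (.leaf
  0)) (.node 1 (.leaf
  0) (.node 1 (.leaf
  0) (.leaf
  0)))) (.node 2 (.node 1 (.leaf
  0) (.leaf
  0)) (.node 1 (.leaf
  0) (.node 1 (.leaf
  0) (.leaf
  0))))) (.node 5 (.node 2 (.node 1 (.leaf
  0) (.leaf
  0)) (.node 1 (.leaf
  0) (.node 1 (.leaf
  1973160) (.leaf
  1945440)))) (.node 2 (.node 1 (.leaf
  1940400) (.leaf
  1958040)) (.node 1 (.leaf
  1650600) (.node 1 (.leaf
  1622880) (.leaf
  1617840))))))) (.node 20 (.node 10 (.node 5 (.node 2 (.node 1 (.leaf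
  1635480) (.leaf
  0)) (.node 1 (.leaf
  0) (.node 1 (.leaf
  0) (.leaf
  0)))) (.node 2 (.node 1 (.leaf
  0) (.leaf
  0)) (.node 1 (.leaf
  0) (.node 1 (.leaf
  0) (.leaf
  0))))) (.node 5 (.node 2 (.node 1 (.leaf
  0) (.leaf
  0)) (.node 1 (.leaf
  0) (.node 1 (.leaf
  0) (.leaf
  0)))) (.node 2 (.node 1 (.leaf
  0) (.leaf
  0)) (.node 1 (.leaf
  0) (.node 1 (.leaf
  0) (.leaf
  0)))))) (.node 10 (.node 5 (.node 2 (.node 1 (.leaf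
  0) (.leaf
  0)) (.node 1 (.leaf
  0) (.node 1 (.leaf
  0) (.leaf
  0)))) (.node 2 (.node 1 (.leaf
  0) (.leaf
  0)) (.node 1 (.leaf
  0) (.node 1 (.leaf
  0) (.leaf
  1937880))))) (.node 5 (.node 2 (.node 1 (.leaf
  1960560) (.leaf
  1965600)) (.node 1 (.leaf
  1953000) (.node 1 (.leaf
  1638000) (.leaf
  1615320)))) (.node 3 (.node 1 (.leaf
  1630440) (.node 1 (.leaf
  1643040) (.leaf
  0))) (.node 1 (.leaf
  0) (.node 1 (.leaf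
  0) (.leaf
  0))))))))))))

/-- Words of the images of the atoms. -/
def cubeW : List (List ℕ) :=
  [
    [0, 1],
    [0],
    [0, 1, 3],
    [0, 2, 3],
    [2, 6, 4, 5, 6, 4, 4],
    [4, 4, 2, 4, 5, 3],
    [5, 3, 6, 5, 5],
    [0, 1],
    [0],
    [0, 1, 3],
    [0, 2, 3],
    [2, 6, 4, 5, 6, 4, 4],
    [4, 4, 2, 4, 5, 3],
    [5, 6, 5, 2, 5],
    [0, 1],
    [0],
    [0, 1, 3],
    [0, 2, 3],
    [2, 6, 4, 5, 6, 4, 4],
    [4, 4, 2, 4, 5, 3],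
    [1, 5, 3, 6, 5, 5],
    [0, 1],
    [0],
    [0, 1, 3],
    [0, 2, 3],
    [2, 6, 4, 5, 6, 4, 4],
    [4, 4, 2, 4, 5, 3],
    [1, 5, 6, 5, 2, 5]]

/-- Words of the images of the images. -/
def cubeW2 : List (List ℕ) :=
  [
    [1],
    [0, 1],
    [0, 1, 2, 3],
    [0, 2],
    [1, 6, 4, 2, 4, 2, 6, 5],
    [0, 1, 6, 4, 6, 4, 5],
    [1, 2, 6, 5, 6, 5, 5, 6],
    [1],
    [0, 1],
    [0, 1, 2, 3],
    [0, 2],
    [1, 6, 4, 2, 4, 2, 6, 5],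
    [0, 1, 6, 4, 6, 4, 5],
    [2, 6, 5, 6, 5, 5, 6],
    [1],
    [0, 1],
    [0, 1, 2, 3],
    [0, 2],
    [1, 6, 4, 2, 4, 2, 6, 5],
    [0, 1, 6, 4, 6, 4, 5],
    [6, 5, 6, 5, 2, 5, 6],
    [1],
    [0, 1],
    [0, 1, 2, 3],
    [0, 2],
    [1, 6, 4, 2, 4, 2, 6, 5],
    [0, 1, 6, 4, 6, 4, 5],
    [1, 6, 5, 6, 5, 2, 5, 6]]

/-- Words of the images conjugated by the inverting involution. -/
def sW : List (List ℕ) :=
  [
    [1],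
    [0],
    [1, 3],
    [0, 2],
    [1, 5, 3, 4, 2, 3],
    [1, 2, 5, 5],
    [3, 4, 3, 5, 6, 4],
    [1],
    [0],
    [1, 3],
    [0, 2],
    [1, 5, 3, 4, 2, 3],
    [1, 2, 5, 5],
    [3, 4, 5, 2, 6, 4],
    [1],
    [0],
    [1, 3],
    [0, 2],
    [1, 5, 3, 4, 2, 3],
    [1, 2, 5, 5],
    [1, 3, 4, 5, 2, 6, 4],
    [1],
    [0],
    [1, 3],
    [0, 2],
    [1, 5, 3, 4, 2, 3],
    [1, 2, 5, 5],
    [1, 3, 4, 3, 5, 6, 4]]

/-- Words of the elementary group of order 16. -/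
def e0W : List (List ℕ) :=
  [
    [],
    [0],
    [1],
    [0, 1],
    [2],
    [0, 2],
    [1, 2],
    [0, 1, 2],
    [3],
    [0, 3],
    [1, 3],
    [0, 1, 3],
    [2, 3],
    [0, 2, 3],
    [1, 2, 3],
    [0, 1, 2, 3]]

/-- Its members. -/
def e0C : List ℕ :=
  [0, 630, 1260, 1890, 2520, 3150, 3780, 4410, 5040, 5670, 6300, 6930, 7560, 8190, 8820, 9450]

/-- The elements `u₀, a₀, b₀`. -/
def locC : List ℕ :=
  [11, 2666414, 161536]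

/-- Their inverses. -/
def locI : List ℕ :=
  [641, 269242, 659707]

/-- Words of conjugates by `u₀`. -/
def uW : List (List ℕ) :=
  [
    [0, 2],
    [0],
    [2, 3],
    [1, 3]]

/-- Words of conjugates by `b₀`. -/
def bW' : List (List ℕ) :=
  [
    [0],
    [1, 2],
    [0, 3],
    [2, 3]]

/-- The members used in the three tests. -/
def kC : List ℕ :=
  [60480, 1311030, 1214640, 504000, 2405340, 645120, 797580, 10080]

/-- Their words. -/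
def kW : List (List ℕ) :=
  [
    [1, 4, 2, 3, 4, 3, 4],
    [2, 4, 6, 2, 4, 5, 5],
    [1, 4, 4, 6, 4, 2, 4],
    [4, 5, 2, 4, 4],
    [0, 5, 5, 6, 4, 2, 4, 4],
    [1, 4, 3, 4, 4, 5, 5],
    [1, 2, 6, 4, 5, 6, 4],
    [4, 2, 4, 4]]

/-- Words with the members as images. -/
def kP : List (List ℕ) :=
  [
    [1, 6, 5, 6, 5],
    [6, 5, 2, 5, 6, 5, 6],
    [1, 5, 6],
    [3, 5, 5, 6, 5, 6],
    [1, 4, 6, 4],
    [2, 4, 3, 4, 2, 4, 5, 5],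
    [0, 1, 6, 4, 5, 6, 4],
    [4, 2, 4, 4],
    [1, 6, 5, 6, 5],
    [4, 4, 6, 4, 3, 4, 5],
    [5, 6],
    [3, 5, 5, 6, 5, 6],
    [4, 6, 4],
    [2, 4, 3, 4, 2, 4, 5, 5],
    [0, 1, 6, 4, 5, 6, 4],
    [4, 2, 4, 4],
    [1, 6, 5, 6, 5],
    [4, 3, 4, 6, 4, 4, 5],
    [0, 5, 6],
    [3, 5, 5, 6, 5, 6],
    [0, 4, 6, 4],
    [2, 4, 3, 4, 2, 4, 5, 5],
    [0, 1, 6, 4, 5, 6, 4],
    [4, 2, 4, 4],
    [1, 6, 5, 6, 5],
    [3, 6, 5, 5, 6, 5, 6],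
    [0, 1, 5, 6],
    [3, 5, 5, 6, 5, 6],
    [0, 1, 4, 6, 4],
    [2, 4, 3, 4, 2, 4, 5, 5],
    [0, 1, 6, 4, 5, 6, 4],
    [4, 2, 4, 4]]

/-- The test refuting each case. -/
def kill : List (ℕ × ℕ × List ℕ) :=
  [
    (0, 0, []),
    (1, 2329740, [1, 4, 5, 3, 5, 6, 4]),
    (2, 1434510, [1, 4, 2, 6, 4, 5, 5]),
    (1, 2331630, [3, 4, 5, 5, 2, 6, 4]),
    (0, 92610, [0, 5, 6, 5, 6]),
    (0, 92610, [0, 5, 6, 5, 6]),
    (0, 92610, [0, 5, 6, 5, 6]),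
    (0, 92610, [0, 5, 6, 5, 6]),
    (0, 92610, [0, 5, 6, 5, 6]),
    (0, 92610, [0, 5, 6, 5, 6]),
    (0, 92610, [0, 5, 6, 5, 6]),
    (0, 92610, [0, 5, 6, 5, 6]),
    (2, 1431990, [2, 4, 6, 5, 5, 2, 4]),
    (1, 2332260, [1, 3, 4, 5, 3, 5, 6, 4]),
    (2, 1433880, [1, 4, 6, 5, 5, 2, 4]),
    (1, 2329110, [4, 5, 5, 2, 6, 4]),
    (0, 91980, [5, 6, 5, 6]),
    (0, 91980, [5, 6, 5, 6]),
    (0, 91980, [5, 6, 5, 6]),
    (0, 91980, [5, 6, 5, 6]),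
    (0, 92610, [0, 5, 6, 5, 6]),
    (0, 92610, [0, 5, 6, 5, 6]),
    (0, 92610, [0, 5, 6, 5, 6]),
    (0, 92610, [0, 5, 6, 5, 6]),
    (0, 92610, [0, 5, 6, 5, 6]),
    (0, 92610, [0, 5, 6, 5, 6]),
    (0, 92610, [0, 5, 6, 5, 6]),
    (0, 92610, [0, 5, 6, 5, 6]),
    (0, 91980, [5, 6, 5, 6]),
    (0, 91980, [5, 6, 5, 6]),
    (0, 91980, [5, 6, 5, 6]),
    (0, 91980, [5, 6, 5, 6]),
    (0, 91980, [5, 6, 5, 6]),
    (0, 91980, [5, 6, 5, 6]),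
    (0, 91980, [5, 6, 5, 6]),
    (0, 91980, [5, 6, 5, 6]),
    (0, 92610, [0, 5, 6, 5, 6]),
    (0, 92610, [0, 5, 6, 5, 6]),
    (0, 92610, [0, 5, 6, 5, 6]),
    (0, 92610, [0, 5, 6, 5, 6]),
    (0, 92610, [0, 5, 6, 5, 6]),
    (0, 92610, [0, 5, 6, 5, 6]),
    (0, 92610, [0, 5, 6, 5, 6]),
    (0, 92610, [0, 5, 6, 5, 6]),
    (0, 91980, [5, 6, 5, 6]),
    (0, 91980, [5, 6, 5, 6]),
    (0, 91980, [5, 6, 5, 6]),
    (0, 91980, [5, 6, 5, 6]),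
    (0, 91980, [5, 6, 5, 6]),
    (0, 91980, [5, 6, 5, 6]),
    (0, 91980, [5, 6, 5, 6]),
    (0, 91980, [5, 6, 5, 6]),
    (0, 92610, [0, 5, 6, 5, 6]),
    (0, 92610, [0, 5, 6, 5, 6]),
    (0, 92610, [0, 5, 6, 5, 6]),
    (0, 92610, [0, 5, 6, 5, 6]),
    (0, 92610, [0, 5, 6, 5, 6]),
    (0, 92610, [0, 5, 6, 5, 6]),
    (0, 92610, [0, 5, 6, 5, 6]),
    (0, 92610, [0, 5, 6, 5, 6]),
    (0, 91980, [5, 6, 5, 6]),
    (0, 91980, [5, 6, 5, 6]),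
    (0, 91980, [5, 6, 5, 6]),
    (0, 91980, [5, 6, 5, 6])]

end Cfsg.Agent.Co3Type.Data
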