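import Cfsg.Agent.Lib.Co3Type.Class
import Cfsg.Agent.Lib.Co3Type.LocalData

/-!
# The finite checks of the local analysis

The action on the centraliser of the four group is searched through generators and relations, and the
remaining parameters are refuted by single equations.
-/

set_option autoImplicit false
set_option maxRecDepth 100000
set_option Elab.async false

namespace Cfsg.Agent.Co3Type.Model

noncomputable section

/-- The codes of the members of the four group. -/
def vC (j : ℕ) : ℕ := j * 630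

/-- The action of the cycling element on the four group. -/
def gV (j : ℕ) : ℕ := [0, 3, 1, 2].getD j 0

/-- The action of the inverting involution on the four group. -/
def sV (j : ℕ) : ℕ := [0, 1, 3, 2].getD j 0

/-- The atoms. -/
def srcL (w : List ℕ) : List ℕ := w.map fun i => Data.srcA.getD i 0

/-- The images of the atoms in a case. -/
def dstL (v : ℕ) : List ℕ := Data.dstA.getD v []

/-- The image of a word in a case. -/
def imgL (v : ℕ) (w : List ℕ) : List ℕ := w.map fun i => (dstL v).getD i 0

/-- The relations hold for an assignment. -/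
def okR (R : List (List ℕ × List ℕ)) (A : List ℕ) : Bool :=
  R.all fun p => cEq (p.1.map fun i => A.getD i 0) (p.2.map fun i => A.getD i 0)

/-- The first atoms with images. -/
def baseB2 : Bool :=
  okR Data.rel1 Data.srcA && okR Data.rel2 Data.srcA && okR Data.rel3 Data.srcA &&
  cEq [1890] [1260, 630] && cEq [1890] [630, 1260] &&
  decide (Data.srcA.take 4 = [630, 1260, 2520, 5040]) && Nat.beq Data.srcA.length 7 &&
  (Data.srcA.all fun a => Nat.blt a 2903040 && Nat.beq (a % 630) 0) &&
  (allB 4 fun v => decide ((dstL v).take 2 = [1890, 630]) && decide ((dstL v).take 6 = (dstL 0).take 6) &&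
    Nat.beq (dstL v).length 7 && (dstL v).all fun a => Nat.blt a 2903040 && Nat.beq (a % 630) 0 && cEq [a, 1890] [1890, a])

theorem base2_ok : baseB2 = true := by decide +kernel

/-- The members whose translates lie in the class of `y`. -/
def goodB : Bool :=
  (allB 3 fun g => allB 4 fun j =>
    let x := (Data.goodWit.getD g []).getD j 0
    cEq (x :: ([[2520], [5040], [2520, 5040]].getD g [] ++ [vC j])) [1260, x]) &&
  allB 4608 fun d => (Data.good.any fun p => Nat.beq d p) ||
    let w := Data.badWit.get d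
    let u := [vC d, vC (w % 4)]
    cEq u [] || !(cEq (u ++ u) []) || cEq (w / 4 :: u) [Data.bC, w / 4]

theorem good_ok : goodB = true := by decide +kernel

/-- Every admissible pair of images is carried to the pair in use. -/
def pairB : Bool :=
  Nat.beq Data.good.length 36 &&
  allB 36 fun i => allB 36 fun j =>
    let a := vC (Data.good.getD i 0)
    let b := vC (Data.good.getD j 0)
    let d := Data.pairWit.get (36 * i + j)
    !(cEq [a, b] [b, a]) || !(Data.good.any fun p => cEq [a, b] [vC p]) ||
      (Nat.blt d 2903040 && Nat.beq (d % 630) 0 && cEq [d, a] [(dstL 0).getD 2 0, d] &&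
        cEq [d, b] [(dstL 0).getD 3 0, d])

theorem pair_ok : pairB = true := by decide +kernel

/-- The images of the atoms of order 3. -/
def searchB : Bool :=
  (allB 4608 fun d => !(cEq [vC d, vC d, vC d] []) || Data.ord3.any fun p => Nat.beq d p) &&
  Data.ord3.all fun x =>
    let A := (dstL 0).take 4 ++ [vC x]
    !(okR Data.rel1 A) || Data.ord3.all fun x2 =>
      !(okR Data.rel2 (A ++ [vC x2])) || Data.fixE.any fun f =>
        Nat.beq f.1 x && Nat.beq f.2.1 x2 && Nat.blt f.2.2 2903040 && Nat.beq (f.2.2 % 630) 0 &&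
          cEq [f.2.2, vC x] [(dstL 0).getD 4 0, f.2.2] && cEq [f.2.2, vC x2] [(dstL 0).getD 5 0, f.2.2] &&
          cEq [f.2.2, (dstL 0).getD 2 0] [(dstL 0).getD 2 0, f.2.2] &&
          cEq [f.2.2, (dstL 0).getD 3 0] [(dstL 0).getD 3 0, f.2.2]

theorem search_ok : searchB = true := by decide +kernel

/-- The images of the last atom. -/
def lastB : Bool :=
  allB 4608 fun m => !(okR Data.rel3 ((dstL 0).take 6 ++ [vC m])) ||
    ([0, 1, 2, 3].any fun v => Nat.beq ((dstL v).getD 6 0) (vC m))

theorem last_ok : lastB = true := by decide +kernel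

/-- The cube and the product with the inverting involution. -/
def cubeB : Bool :=
  (allB 4 fun v => allB 7 fun g =>
    let w1 := Data.cubeW.getD (7 * v + g) []
    let w2 := Data.cubeW2.getD (7 * v + g) []
    cEq (srcL w1) [(dstL v).getD g 0] && cEq (srcL w2) (imgL v w1) && cEq (imgL v w2) [Data.srcA.getD g 0] &&
      cEq (srcL (Data.sW.getD (7 * v + g) [])) [Data.sC, (dstL v).getD g 0, Data.sC]) &&
  (allB 4608 fun d => Nat.blt d 4 || !(Data.srcA.all fun a => cEq [vC d, a] [a, vC d])) &&
  (allB 4 fun v => allB 4608 fun d => Nat.blt d 4 || !(allB 7 fun g =>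
    cEq [vC d, Data.srcA.getD g 0] ([Data.sC] ++ imgL v (Data.sW.getD (7 * v + g) []) ++ [Data.sC, vC d]))) &&
  cEq [Data.sC, Data.sC] [] && Nat.blt Data.sC 2903040 &&
  allB 4 fun j => cEq [Data.sC, vC j, Data.sC] [vC (sV j)]

theorem cube_ok : cubeB = true := by decide +kernel

/-- The element `u₀`. -/
def u0C : ℕ := Data.locC.getD 0 0
/-- The element `a₀`. -/
def a0C : ℕ := Data.locC.getD 1 0
/-- The element `b₀`. -/
def b0C : ℕ := Data.locC.getD 2 0
/-- The inverse of `u₀`. -/
def u0I : ℕ := Data.locI.getD 0 0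
/-- The inverse of `a₀`. -/
def a0I : ℕ := Data.locI.getD 1 0
/-- The inverse of `b₀`. -/
def b0I : ℕ := Data.locI.getD 2 0

/-- The equation of `u₀` up to the elementary group. -/
def normB : Bool :=
  cEq [u0C, u0I] [] && cEq [a0C, a0I] [] && cEq [b0C, b0I] [] &&
  (allB 4 fun v => allB 4 fun g =>
    let m := Data.uW.getD g []
    let n := Data.bW'.getD g []
    cEq [u0C, (dstL v).getD g 0, u0I] (srcL m) && cEq [b0C, Data.srcA.getD g 0, b0I] (srcL n) &&
      cEq (imgL v m ++ [a0C]) ([a0C] ++ imgL v n)) &&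
  (allB 4608 fun d => Nat.blt d 16 || !(allB 4 fun g => cEq [vC d, Data.srcA.getD g 0] [Data.srcA.getD g 0, vC d])) &&
  allB 16 fun d => cEq [vC d, vC d] []

theorem norm_ok : normB = true := by decide +kernel

/-- The member used in the tests. -/
def kk (r : ℕ) : ℕ := Data.kC.getD r 0
/-- Its image. -/
def kI (v r : ℕ) : List ℕ := imgL v (Data.kW.getD r [])
/-- Its preimage. -/
def kS (v r : ℕ) : List ℕ := srcL (Data.kP.getD (8 * v + r) [])

/-- The three equations `a c b = a' c b'` in a case. -/
def testT (v e : ℕ) : ℕ → List ℕ × List ℕ × List ℕ × List ℕ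
  | 0 => ([a0C], [b0C, e] ++ kS v 0, kI v 1 ++ [a0C], [b0C, e])
  | 1 => (kI v 2 ++ [a0C], [b0C, e] ++ kS v 3, [Data.sC, e, b0I, Data.sC], [Data.sC, a0I, Data.sC])
  | _ => ([Data.sC] ++ kI v 6 ++ [a0C], [b0C, e] ++ kS v 7, kI v 4 ++ [a0C], [b0C, e] ++ kS v 5 ++ [b0C, e])

/-- A contradiction from an equation `a c b = a' c b'`. -/
def refute (v : ℕ) (T : List ℕ × List ℕ × List ℕ × List ℕ) (m : ℕ) (w : List ℕ) : Bool :=
  Nat.blt m 2903040 && cEq T.2.2.2 (m :: T.2.1) &&
    ((T.1.all fun a => Nat.blt a 2903040) && (T.2.2.1.all fun a => Nat.blt a 2903040)) &&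
    (!(Nat.beq (m % 630) 0) || (cEq (srcL w) [m] && !(cEq (T.2.2.1 ++ imgL v w) T.1)))

/-- The tests. -/
def killB : Bool :=
  (allB 4 fun v => allB 8 fun r =>
    cEq (srcL (Data.kW.getD r [])) [kk r] && cEq (imgL v (Data.kP.getD (8 * v + r) [])) [kk r]) &&
  cEq [u0C, kk 0] [kk 1, u0C] && cEq [Data.sC, u0I, Data.sC] [kk 2, u0C, kk 3] &&
  cEq [a0C] [kk 4, u0C, kk 5] && cEq [Data.sC, u0C] [kk 6, u0C, kk 7] &&
  allB 4 fun v => allB 16 fun i => (Nat.beq v 0 && Nat.beq i 0) ||
    let k := Data.kill.getD (16 * v + i) (0, 0, [])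
    refute v (testT v (vC i) k.1) k.2.1 k.2.2

theorem kill_ok : killB = true := by decide +kernel

end

end Cfsg.Agent.Co3Type.Model
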