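import Cfsg.Agent.Lib.Co3Type.Fusion
import Cfsg.Agent.Lib.Co3Type.LocalCheck

/-!
# The local configuration

An element cycling the four group on `t` and `y` is normalised so that its action on the centraliser of that
four group, its cube, and its product with one element `u₀` outside are all fixed.
-/

set_option autoImplicit false
set_option maxRecDepth 100000
set_option linter.style.haveILetI false

open Subgroup

namespace Cfsg.Agent.Co3Type

open Model

variable {G : Type*} [Group G] {t : G}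

/-- The image of a word of coded elements. -/
noncomputable def phl (φ : W →* G) (l : List ℕ) : G := φ (l.map el).prod

/-- Conjugation by `c` sends one coded element to another. -/
def Sends (φ : W →* G) (c : G) (a a' : ℕ) : Prop := c * φ (el a) * c⁻¹ = φ (el a')

/-- Conjugation by `c` acts on the atoms as in the case `v`. -/
def Act (φ : W →* G) (c : G) (v : ℕ) : Prop := ∀ i, Sends φ c (Data.srcA.getD i 0) ((dstL v).getD i 0)

/-- Conjugation by `c` cycles the four group. -/
def Cyc (φ : W →* G) (c : G) : Prop := Sends φ c 630 1890 ∧ Sends φ c 1260 630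

/-- The configuration in which the group generated by the centraliser and `c` is determined. -/
structure Conf (φ : W →* G) (c : G) : Prop where
  act : Act φ c 0
  cube : c * c * c = 1
  flip : φ (el Data.sC) * c * φ (el Data.sC) * c = 1
  eqn : c * φ (el u0C) * c = φ (el a0C) * c * φ (el b0C)

theorem phl_append (φ : W →* G) (l l' : List ℕ) : phl φ (l ++ l') = phl φ l * phl φ l' := by
  simp [phl, List.prod_append, map_mul]

theorem phl_cons (φ : W →* G) (a : ℕ) (l : List ℕ) : phl φ (a :: l) = φ (el a) * phl φ l := by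
  simp [phl, map_mul]

theorem phl_nil (φ : W →* G) : phl φ [] = 1 := by simp [phl]

theorem phl_eq (φ : W →* G) {l l' : List ℕ} (h : cEq l l' = true) : phl φ l = phl φ l' :=
  congrArg φ (of_cEq h)

theorem getD_lt {A : List ℕ} (h : ∀ a ∈ A, a < 2903040) (i : ℕ) : A.getD i 0 < 2903040 := by
  rw [List.getD_eq_getElem?_getD]
  cases hx : A[i]? with
  | none => simp
  | some a => simpa using h a (List.mem_of_getElem? hx)

/-- The image of a word of atoms. -/
theorem sends_word {φ : W →* G} {c : G} (A : List ℕ) : ∀ (w : List ℕ),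
    (∀ i ∈ w, Sends φ c (Data.srcA.getD i 0) (A.getD i 0)) →
    c * phl φ (srcL w) * c⁻¹ = phl φ (w.map fun i => A.getD i 0)
  | [], _ => by simp [srcL, phl_nil]
  | i :: w, h => by
    have ih := sends_word A w fun j hj => h j (List.mem_cons_of_mem _ hj)
    have hi : c * φ (el (Data.srcA.getD i 0)) * c⁻¹ = φ (el (A.getD i 0)) := h i List.mem_cons_self
    rw [srcL, List.map_cons, List.map_cons, phl_cons, phl_cons, ← ih, ← hi, srcL]
    group

theorem Act.word {φ : W →* G} {c : G} {v : ℕ} (h : Act φ c v) (w : List ℕ) :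
    c * phl φ (srcL w) * c⁻¹ = phl φ (imgL v w) :=
  sends_word _ w fun i _ => h i

/-- The checks on the atoms. -/
theorem atoms_spec :
    (∀ i, Data.srcA.getD i 0 < 2903040 ∧ Data.srcA.getD i 0 % 630 = 0) ∧
    (∀ v < 4, ∀ i, (dstL v).getD i 0 < 2903040 ∧ (dstL v).getD i 0 % 630 = 0) ∧
    (∀ v < 4, ∀ i < 6, (dstL v).getD i 0 = (dstL 0).getD i 0) ∧
    (∀ v < 4, (dstL v).getD 0 0 = 1890 ∧ (dstL v).getD 1 0 = 630 ∧ (dstL v).length = 7) ∧
    (∀ v < 4, ∀ i, Commute (el ((dstL v).getD i 0)) (el 1890)) := by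
  have h := base2_ok
  simp only [baseB2, Bool.and_eq_true, List.all_eq_true, decide_eq_true_eq, Nat.blt_eq, Nat.beq_eq] at h
  obtain ⟨⟨-, hsrc⟩, hd⟩ := h
  have gm : ∀ (A : List ℕ) (i : ℕ), i < A.length → A.getD i 0 ∈ A := fun A i hi => by
    rw [List.getD_eq_getElem?_getD, List.getElem?_eq_getElem hi]; exact List.getElem_mem hi
  have gout : ∀ (A : List ℕ) (i : ℕ), ¬ i < A.length → A.getD i 0 = 0 := fun A i hi => by
    rw [List.getD_eq_getElem?_getD, List.getElem?_eq_none (not_lt.1 hi)]; rfl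
  have hd' := fun v hv => allB_spec hd v hv
  simp only [Bool.and_eq_true, decide_eq_true_eq, Nat.beq_eq, List.all_eq_true, Nat.blt_eq] at hd'
  refine ⟨fun i => ⟨getD_lt (fun a ha => (hsrc a ha).1) i, ?_⟩, fun v hv i => ⟨getD_lt (fun a ha =>
    ((hd' v hv).2 a ha).1.1) i, ?_⟩, fun v hv i hi => ?_, fun v hv => ?_, fun v hv i => ?_⟩
  · by_cases hi : i < Data.srcA.length
    · exact (hsrc _ (gm _ i hi)).2
    · rw [gout _ i hi]
  · by_cases hi : i < (dstL v).length
    · exact ((hd' v hv).2 _ (gm _ i hi)).1.2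
    · rw [gout _ i hi]
  · have e := congrArg (fun l : List ℕ => l.getD i 0) (hd' v hv).1.1.2
    simp only [List.getD_eq_getElem?_getD, List.getElem?_take, hi, if_true] at e ⊢
    exact e
  · have e0 := congrArg (fun l : List ℕ => l.getD 0 0) (hd' v hv).1.1.1
    have e1 := congrArg (fun l : List ℕ => l.getD 1 0) (hd' v hv).1.1.1
    simp only [List.getD_eq_getElem?_getD, List.getElem?_take, show (0 : ℕ) < 2 by norm_num,
      show (1 : ℕ) < 2 by norm_num, if_true] at e0 e1 ⊢
    exact ⟨e0.trans (by rfl), e1.trans (by rfl), (hd' v hv).1.2⟩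
  · by_cases hi : i < (dstL v).length
    · simpa [Commute, SemiconjBy] using of_cEq ((hd' v hv).2 _ (gm _ i hi)).2
    · rw [gout _ i hi, el_zero]; exact Commute.one_left _

theorem base_eqs : el 1890 = yW * zW ∧ el 630 * el 1890 = el 1260 ∧ Data.srcA.getD 0 0 = 630 ∧
    Data.srcA.getD 1 0 = 1260 ∧ (∀ d, el (vC d) = elD d) := by
  have h1 : cEq [630, 1890] [1260] = true := by decide +kernel
  have h2 : cEq [1890] [1260, 630] = true := by decide +kernel
  exact ⟨by simpa [el_1260, el_630] using of_cEq h2, by simpa using of_cEq h1, rfl, rfl,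
    fun d => (elD_eq d).symm⟩

theorem el_comm_yW_iff {m : ℕ} (hm : m < 2903040) : Commute (el m) yW ↔ m % 630 = 0 := by
  constructor
  · intro h
    obtain ⟨d, hd, e⟩ := (comm_yW_iff _).1 h
    rw [elD_eq] at e
    have := el_injective (show d * 630 < 2903040 by omega) hm e
    omega
  · intro h
    obtain ⟨d, rfl⟩ : ∃ d, m = d * 630 := ⟨m / 630, by omega⟩
    rw [← elD_eq]; exact elD_comm (by omega)

namespace Setting

variable {φ : W →* G} (S : Setting t φ) {c : G}
include S

theorem cEq_of {l l' : List ℕ} (h1 : ∀ a ∈ l, a < 2903040) (h2 : ∀ a ∈ l', a < 2903040)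
    (h : phl φ l = phl φ l') : cEq l l' = true :=
  (cEq_iff h1 h2).2 (S.inj h)

theorem t_eq : φ (el 630) = t := by rw [el_630, S.map_zW]

/-- The centraliser of the four group is coded. -/
theorem exists_dcode {g : G} (h1 : Commute g t) (h2 : Commute g (φ (el 1260))) :
    ∃ d < 4608, φ (el (vC d)) = g := by
  obtain ⟨w, rfl⟩ := S.exists_pre h1
  obtain ⟨d, hd, e⟩ := (comm_yW_iff w).1 (S.inj (by rw [map_mul, map_mul, ← el_1260]; exact h2.eq))
  exact ⟨d, hd, by rw [base_eqs.2.2.2.2, e]⟩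

theorem comm_t (a : ℕ) : Commute (φ (el a)) t := S.commute _

omit S in
theorem comm_four {a : ℕ} (ha : a < 2903040) (h : a % 630 = 0) :
    Commute (φ (el a)) (φ (el 1260)) ∧ Commute (φ (el a)) (φ (el 1890)) := by
  have h1 : Commute (el a) yW := (el_comm_yW_iff ha).2 h
  rw [el_1260, base_eqs.1]
  exact ⟨h1.map φ, (h1.mul_right (rels.2.1 _)).map φ⟩

theorem cyc_third (hc : Cyc φ c) : Sends φ c 1890 1260 := by
  have e : el 1890 = el 1260 * el 630 := by rw [base_eqs.1, el_1260, el_630]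
  rw [Sends, e, map_mul, ← mul_assoc]
  calc c * φ (el 1260) * φ (el 630) * c⁻¹ = c * φ (el 1260) * c⁻¹ * (c * φ (el 630) * c⁻¹) := by group
    _ = φ (el 1260) := by rw [hc.2, hc.1, ← map_mul, base_eqs.2.1]

/-- The image of a member of the centraliser of the four group. -/
theorem exists_image (hc : Cyc φ c) {a : ℕ} (ha : a < 2903040) (h : a % 630 = 0) :
    ∃ d < 4608, Sends φ c a (vC d) := by
  obtain ⟨h1, h2⟩ := comm_four (φ := φ) ha h
  have e1 := h1.map (MulAut.conj c).toMonoidHom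
  have e2 := h2.map (MulAut.conj c).toMonoidHom
  simp only [MulEquiv.coe_toMonoidHom, MulAut.conj_apply] at e1 e2
  rw [hc.2, S.t_eq] at e1
  rw [S.cyc_third hc] at e2
  obtain ⟨d, hd, e⟩ := S.exists_dcode e1 e2
  exact ⟨d, hd, e.symm⟩

omit S in
theorem vC_lt {d : ℕ} (hd : d < 4608) : vC d < 2903040 ∧ vC d % 630 = 0 := by
  unfold vC; omega

/-- Adjusting the cycling element by a member of the centraliser of the four group. -/
theorem adjust {a a' a'' d : ℕ} (h : Sends φ c a a') (he : cEq [d, a'] [a'', d] = true) :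
    Sends φ (φ (el d) * c) a a'' := by
  have := phl_eq φ he
  simp only [phl_cons, phl_nil, mul_one] at this
  rw [Sends, show φ (el d) * c * φ (el a) * (φ (el d) * c)⁻¹ =
    φ (el d) * (c * φ (el a) * c⁻¹) * (φ (el d))⁻¹ by group, h, this, mul_inv_cancel_right]

theorem adjust_cyc (hc : Cyc φ c) {d : ℕ} (hd : d < 2903040) (h : d % 630 = 0) : Cyc φ (φ (el d) * c) := by
  obtain ⟨-, h2⟩ := comm_four (φ := φ) hd h
  have key : ∀ {a a' : ℕ}, Sends φ c a a' → Commute (φ (el d)) (φ (el a')) → Sends φ (φ (el d) * c) a a' :=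
    fun {a a'} hs hk => by
    rw [Sends, show φ (el d) * c * φ (el a) * (φ (el d) * c)⁻¹ =
      φ (el d) * (c * φ (el a) * c⁻¹) * (φ (el d))⁻¹ by group, hs, hk.eq, mul_inv_cancel_right]
  exact ⟨key hc.1 h2, key hc.2 (S.t_eq ▸ S.comm_t d)⟩

/-- Membership of the good set. -/
theorem good_of {d : ℕ} (hd : d < 4608) (h : ∀ j < 4, IsConj t (φ (el (vC d) * el (vC j)))) : d ∈ Data.good := by
  have hok := good_ok
  simp only [goodB, Bool.and_eq_true] at hok
  have hw := allB_spec hok.2 d hd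
  simp only [Bool.or_eq_true, List.any_eq_true, Nat.beq_eq, Bool.not_eq_true'] at hw
  rcases hw with ⟨p, hp, rfl⟩ | hw
  · exact hp
  exfalso
  have hj := h (Data.badWit.get d % 4) (Nat.mod_lt _ (by norm_num))
  obtain ⟨hb1, -⟩ := vC_lt hd
  have hb2 : vC (Data.badWit.get d % 4) < 2903040 := (vC_lt (Nat.lt_of_lt_of_le (Nat.mod_lt _ (by norm_num)) (by norm_num))).1
  have hu : phl φ [vC d, vC (Data.badWit.get d % 4)] = φ (el (vC d) * el (vC (Data.badWit.get d % 4))) := by
    simp [phl]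
  rw [← hu] at hj
  obtain ⟨x, hx⟩ := isConj_iff.1 hj
  have ht2 : t * t = 1 := by rw [← S.map_zW, ← map_mul, rels.2.2.2.1, map_one]
  rcases hw with (hw | hw) | hw
  · rw [phl_eq φ hw, phl_nil, conj_eq_one_iff, ← S.map_zW, ← map_one φ] at hx
    exact rels.2.2.2.2.1 (S.inj hx)
  · rw [← Bool.not_eq_true] at hw
    refine hw (S.cEq_of (by simp [hb1, hb2]) (by simp) ?_)
    rw [phl_append, ← hx, phl_nil, show x * t * x⁻¹ * (x * t * x⁻¹) = x * (t * t) * x⁻¹ by group, ht2]
    group
  · have e := phl_eq φ hw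
    rw [phl_cons, phl_cons φ Data.bC, phl_cons φ (Data.badWit.get d / 4) [], phl_nil, mul_one] at e
    refine S.not_conj_bW (hj.trans (isConj_iff.2 ⟨φ (el (Data.badWit.get d / 4)), ?_⟩))
    rw [e, bW, mul_inv_cancel_right]

/-- The cycling element with the images of the atoms of the elementary group of order 16. -/
theorem step_pair (hc : Cyc φ c) :
    ∃ c' : G, Cyc φ c' ∧ Sends φ c' 2520 ((dstL 0).getD 2 0) ∧ Sends φ c' 5040 ((dstL 0).getD 3 0) := by
  have hgood := good_ok
  simp only [goodB, Bool.and_eq_true] at hgood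
  have hty : IsConj (φ yW) t := isConj_iff.2 ⟨c, by rw [← el_1260, hc.2, S.t_eq]⟩
  have hW : ∀ g < 3, ∀ j < 4,
      IsConj t (φ (([[2520], [5040], [2520, 5040]].getD g []).map el).prod * φ (el (vC j))) := by
    intro g hg j hj
    have e := phl_eq φ (allB_spec (allB_spec hgood.1 g hg) j hj)
    rw [phl_cons, phl_append, phl_cons φ 1260, phl_cons φ ((Data.goodWit.getD g []).getD j 0) [],
      phl_cons φ (vC j) [], phl_nil, mul_one, mul_one] at e
    refine hty.symm.trans (IsConj.symm (isConj_iff.2 ⟨φ (el ((Data.goodWit.getD g []).getD j 0)), ?_⟩))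
    change φ (el _) * (phl φ _ * φ (el (vC j))) * _ = _
    rw [e, el_1260, mul_inv_cancel_right]
  have img : ∀ (w : W) (d : ℕ), d < 4608 → c * φ w * c⁻¹ = φ (el (vC d)) →
      (∀ j < 4, IsConj t (φ w * φ (el (vC j)))) → d ∈ Data.good := by
    intro w d hd he hgw
    refine S.good_of hd fun j hj => ?_
    have hVj : ∃ i < 4, c * φ (el (vC i)) * c⁻¹ = φ (el (vC j)) := by
      interval_cases j
      · exact ⟨0, by norm_num, by simp [vC, el_zero]⟩
      · exact ⟨2, by norm_num, hc.2⟩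
      · exact ⟨3, by norm_num, S.cyc_third hc⟩
      · exact ⟨1, by norm_num, hc.1⟩
    obtain ⟨i, hi, hij⟩ := hVj
    refine (hgw i hi).trans (isConj_iff.2 ⟨c, ?_⟩)
    rw [map_mul, ← he, ← hij]; group
  obtain ⟨a, ha, hsa⟩ := S.exists_image hc (show 2520 < 2903040 by norm_num) (by norm_num)
  obtain ⟨b, hb, hsb⟩ := S.exists_image hc (show 5040 < 2903040 by norm_num) (by norm_num)
  have ga := img (el 2520) a ha hsa fun j hj => by simpa using hW 0 (by norm_num) j hj
  have gb := img (el 5040) b hb hsb fun j hj => by simpa using hW 1 (by norm_num) j hj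
  have hab : c * φ (el 2520 * el 5040) * c⁻¹ = phl φ [vC a, vC b] := by
    rw [phl_cons, phl_cons, phl_nil, mul_one, ← hsa, ← hsb, map_mul]; group
  have hcomm : cEq [2520, 5040] [5040, 2520] = true := by decide +kernel
  have hba : phl φ [vC a, vC b] = phl φ [vC b, vC a] := by
    rw [← hab, phl_cons, phl_cons, phl_nil, mul_one, ← hsa, ← hsb]
    have := phl_eq φ hcomm
    simp only [phl_cons, phl_nil, mul_one] at this
    rw [map_mul, this]; group
  obtain ⟨hA, hB⟩ := And.intro (vC_lt ha) (vC_lt hb)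
  obtain ⟨p, hp, hsp⟩ : ∃ p < 4608, φ (el (vC p)) = phl φ [vC a, vC b] := by
    refine S.exists_dcode (S.commute _) ?_
    rw [phl_cons, phl_cons, phl_nil, mul_one]
    exact ((comm_four hA.1 hA.2).1).mul_left (comm_four hB.1 hB.2).1
  have gp := img (el 2520 * el 5040) p hp (hab.trans hsp.symm) fun j hj => by
    simpa using hW 2 (by norm_num) j hj
  have hok := pair_ok
  simp only [pairB, Bool.and_eq_true] at hok
  have hlen : Data.good.length = 36 := Nat.eq_of_beq_eq_true hok.1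
  obtain ⟨i, hi, hia⟩ := List.getElem_of_mem ga
  obtain ⟨k, hk, hkb⟩ := List.getElem_of_mem gb
  have h := allB_spec (allB_spec hok.2 i (by omega)) k (by omega)
  rw [List.getD_eq_getElem?_getD, List.getElem?_eq_getElem hi, List.getD_eq_getElem?_getD,
    List.getElem?_eq_getElem hk] at h
  simp only [Option.getD_some, hia, hkb, Bool.or_eq_true, Bool.and_eq_true, Nat.blt_eq, Nat.beq_eq,
    Bool.not_eq_true'] at h
  rcases h with (h | h) | ⟨⟨⟨hd, hd0⟩, h2⟩, h3⟩
  · rw [S.cEq_of (by simp [hA.1, hB.1]) (by simp [hA.1, hB.1]) hba] at h; simp at h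
  · exfalso
    rw [← Bool.not_eq_true] at h
    refine h (List.any_eq_true.2 ⟨p, gp, S.cEq_of (by simp [hA.1, hB.1]) (by simp [(vC_lt hp).1]) ?_⟩)
    rw [← hsp]; simp [phl]
  · exact ⟨_, S.adjust_cyc hc hd hd0, S.adjust hsa h2, S.adjust hsb h3⟩

omit S in
/-- A relation between atoms goes over to their images. -/
theorem rel_image (S : Setting t φ) {R : List (List ℕ × List ℕ)} {A : List ℕ} (hR : okR R Data.srcA = true)
    (hA : ∀ a ∈ A, a < 2903040) (h : ∀ p ∈ R, ∀ i ∈ p.1 ++ p.2, Sends φ c (Data.srcA.getD i 0) (A.getD i 0)) :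
    okR R A = true := by
  simp only [okR, List.all_eq_true] at hR ⊢
  intro p hp
  refine S.cEq_of (fun a ha => ?_) (fun a ha => ?_) ?_
  · obtain ⟨i, -, rfl⟩ := List.mem_map.1 ha; exact getD_lt hA i
  · obtain ⟨i, -, rfl⟩ := List.mem_map.1 ha; exact getD_lt hA i
  · rw [← sends_word A p.1 fun i hi => h p hp i (List.mem_append_left _ hi),
      ← sends_word A p.2 fun i hi => h p hp i (List.mem_append_right _ hi)]
    exact congrArg (fun g => c * g * c⁻¹) (phl_eq φ (hR p hp))

/-- The cycling element with the images of the six atoms of the subgroup of index 2. -/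
theorem step_six (hc : Cyc φ c) :
    ∃ c' : G, Cyc φ c' ∧ ∀ i < 6, Sends φ c' (Data.srcA.getD i 0) ((dstL 0).getD i 0) := by
  obtain ⟨c₁, hc₁, h2, h3⟩ := S.step_pair hc
  obtain ⟨hsrc, hdst, -, hfix, -⟩ := atoms_spec
  obtain ⟨f0, f1, flen⟩ := hfix 0 (by norm_num)
  have e2 : Data.srcA.getD 2 0 = 2520 := rfl
  have e3 : Data.srcA.getD 3 0 = 5040 := rfl
  obtain ⟨x, hx, hsx⟩ := S.exists_image hc₁ (hsrc 4).1 (hsrc 4).2
  obtain ⟨x₂, hx₂, hsx₂⟩ := S.exists_image hc₁ (hsrc 5).1 (hsrc 5).2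
  have hbase := base2_ok
  simp only [baseB2, Bool.and_eq_true] at hbase
  obtain ⟨⟨⟨⟨⟨⟨⟨⟨hr1, hr2⟩, -⟩, -⟩, -⟩, -⟩, -⟩, -⟩, -⟩ := hbase
  have hA : ∀ i < 6, ((dstL 0).take 4 ++ [vC x] ++ [vC x₂]).getD i 0 =
      [1890, 630, (dstL 0).getD 2 0, (dstL 0).getD 3 0, vC x, vC x₂].getD i 0 := by
    intro i hi
    interval_cases i <;> simp [List.getD_eq_getElem?_getD, List.getElem?_append, List.getElem?_take, flen] <;>
      first | exact f0 | exact f1 | rfl
  have hS : ∀ i < 6, Sends φ c₁ (Data.srcA.getD i 0) (((dstL 0).take 4 ++ [vC x] ++ [vC x₂]).getD i 0) := by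
    intro i hi
    rw [hA i hi]
    interval_cases i
    exacts [hc₁.1, hc₁.2, e2 ▸ h2, e3 ▸ h3, hsx, hsx₂]
  have hbd : ∀ a ∈ (dstL 0).take 4 ++ [vC x] ++ [vC x₂], a < 2903040 := by
    intro a ha
    simp only [List.mem_append, List.mem_singleton] at ha
    rcases ha with (ha | rfl) | rfl
    · obtain ⟨i, hi, rfl⟩ := List.getElem_of_mem (List.mem_of_mem_take ha)
      simpa [List.getD_eq_getElem?_getD, hi] using (hdst 0 (by norm_num) i).1
    · exact (vC_lt hx).1
    · exact (vC_lt hx₂).1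
  have r1 : ∀ p ∈ Data.rel1, ∀ i ∈ p.1 ++ p.2, i < 5 := by decide
  have r2 : ∀ p ∈ Data.rel2, ∀ i ∈ p.1 ++ p.2, i < 6 := by decide
  have ok2 := rel_image S hr2 hbd fun p hp i hi => hS i (r2 p hp i hi)
  have ok1 : okR Data.rel1 ((dstL 0).take 4 ++ [vC x]) = true := by
    refine rel_image S (c := c₁) hr1 (fun a ha => hbd a (List.mem_append_left _ ha)) fun p hp i hi => ?_
    have := hS i ((r1 p hp i hi).trans (by norm_num))
    simp only [List.getD_eq_getElem?_getD] at this ⊢
    rwa [List.getElem?_append_left (by simp [flen]; exact r1 p hp i hi)] at this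
  have hok := search_ok
  simp only [searchB, Bool.and_eq_true, List.all_eq_true] at hok
  have mem3 : ∀ {d m : ℕ}, d < 4608 → Sends φ c₁ m (vC d) → cEq [m, m, m] [] = true → d ∈ Data.ord3 := by
    intro d m hd hm hm3
    have h := allB_spec hok.1 d hd
    simp only [Bool.or_eq_true, List.any_eq_true, Nat.beq_eq, Bool.not_eq_true'] at h
    rcases h with h | ⟨p, hp, rfl⟩
    · exfalso
      rw [← Bool.not_eq_true] at h
      refine h (S.cEq_of (by simp [(vC_lt hd).1]) (by simp) ?_)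
      have e := phl_eq φ hm3
      simp only [phl_cons, phl_nil, mul_one] at e ⊢
      rw [← hm, show c₁ * φ (el m) * c₁⁻¹ * (c₁ * φ (el m) * c₁⁻¹ * (c₁ * φ (el m) * c₁⁻¹)) =
        c₁ * (φ (el m) * (φ (el m) * φ (el m))) * c₁⁻¹ by group, e]
      group
    · exact hp
  have m4 := mem3 hx hsx (by decide +kernel)
  have m5 := mem3 hx₂ hsx₂ (by decide +kernel)
  have h := hok.2 x m4
  rw [ok1, Bool.not_true, Bool.false_or, List.all_eq_true] at h
  have h := h x₂ m5
  rw [ok2, Bool.not_true, Bool.false_or] at h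
  simp only [List.any_eq_true, Bool.and_eq_true, Nat.beq_eq, Nat.blt_eq] at h
  obtain ⟨f, -, ⟨⟨⟨⟨⟨⟨⟨-, -⟩, hf⟩, hf0⟩, k4⟩, k5⟩, k2⟩, k3⟩⟩ := h
  have hc₂ := S.adjust_cyc hc₁ hf hf0
  refine ⟨_, hc₂, fun i hi => ?_⟩
  interval_cases i
  · rw [f0]; exact hc₂.1
  · rw [f1]; exact hc₂.2
  · rw [e2]; exact S.adjust h2 k2
  · rw [e3]; exact S.adjust h3 k3
  · exact S.adjust hsx k4
  · exact S.adjust hsx₂ k5

/-- The action on all atoms, up to one member of the four group. -/
theorem step_act (hc : Cyc φ c) : ∃ (c' : G) (v : ℕ), v < 4 ∧ Act φ c' v := by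
  obtain ⟨c₁, hc₁, hs⟩ := S.step_six hc
  obtain ⟨hsrc, hdst, hsame, hfix, -⟩ := atoms_spec
  obtain ⟨m, hm, hsm⟩ := S.exists_image hc₁ (hsrc 6).1 (hsrc 6).2
  have flen := (hfix 0 (by norm_num)).2.2
  have hA : ∀ i < 7, Sends φ c₁ (Data.srcA.getD i 0) (((dstL 0).take 6 ++ [vC m]).getD i 0) := by
    intro i hi
    by_cases h6 : i < 6
    · simp only [List.getD_eq_getElem?_getD]
      rw [List.getElem?_append_left (by simp [flen]; exact h6), List.getElem?_take, if_pos h6]
      simpa [List.getD_eq_getElem?_getD] using hs i h6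
    · obtain rfl : i = 6 := by omega
      simp only [List.getD_eq_getElem?_getD]
      rw [List.getElem?_append_right (by simp [flen])]
      simpa [flen, List.getD_eq_getElem?_getD] using hsm
  have hbase := base2_ok
  simp only [baseB2, Bool.and_eq_true] at hbase
  obtain ⟨⟨⟨⟨⟨⟨⟨⟨-, -⟩, hr3⟩, -⟩, -⟩, -⟩, -⟩, -⟩, -⟩ := hbase
  have r3 : ∀ p ∈ Data.rel3, ∀ i ∈ p.1 ++ p.2, i < 7 := by decide
  have ok3 : okR Data.rel3 ((dstL 0).take 6 ++ [vC m]) = true := by
    refine rel_image S hr3 (fun a ha => ?_) fun p hp i hi => hA i (r3 p hp i hi)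
    simp only [List.mem_append, List.mem_singleton] at ha
    rcases ha with ha | rfl
    · obtain ⟨i, hi, rfl⟩ := List.getElem_of_mem (List.mem_of_mem_take ha)
      simpa [List.getD_eq_getElem?_getD, hi] using (hdst 0 (by norm_num) i).1
    · exact (vC_lt hm).1
  have h := allB_spec last_ok m hm
  rw [ok3, Bool.not_true, Bool.false_or] at h
  simp only [List.any_eq_true, Nat.beq_eq] at h
  obtain ⟨v, hv, hv6⟩ := h
  have hv4 : v < 4 := by simp at hv; omega
  refine ⟨c₁, v, hv4, fun i => ?_⟩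
  rcases lt_trichotomy i 6 with h6 | rfl | h6
  · rw [hsame v hv4 i h6]; exact hs i h6
  · rw [hv6]; exact hsm
  · rw [List.getD_eq_getElem?_getD, List.getD_eq_getElem?_getD, List.getElem?_eq_none (by
      simp [show Data.srcA.length = 7 from rfl]; omega),
      List.getElem?_eq_none (by rw [(hfix v hv4).2.2]; omega)]
    simp [Sends, el_zero]

theorem act_cyc {v : ℕ} (hv : v < 4) (ha : Act φ c v) : Cyc φ c := by
  obtain ⟨h0, h1, -⟩ := (atoms_spec.2.2.2.1) v hv
  have a0 := ha 0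
  have a1 := ha 1
  rw [h0] at a0; rw [h1] at a1
  exact ⟨a0, a1⟩

/-- An element commuting with the atoms lies in the four group. -/
theorem mem_four {g : G} (h : ∀ i < 7, Commute g (φ (el (Data.srcA.getD i 0)))) :
    ∃ j < 4, φ (el (vC j)) = g := by
  obtain ⟨d, hd, rfl⟩ := S.exists_dcode (S.t_eq ▸ h 0 (by norm_num)) (h 1 (by norm_num))
  have hok := cube_ok
  simp only [cubeB, Bool.and_eq_true] at hok
  have hd' := allB_spec hok.1.1.1.1.2 d hd
  simp only [Bool.or_eq_true, Nat.blt_eq, Bool.not_eq_true'] at hd'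
  refine ⟨d, hd'.resolve_right fun hf => ?_, rfl⟩
  rw [← Bool.not_eq_true] at hf
  refine hf (List.all_eq_true.2 fun a ha => ?_)
  obtain ⟨i, hi, rfl⟩ := List.getElem_of_mem ha
  have hil : i < 7 := hi
  refine S.cEq_of (by simp [(vC_lt hd).1]; simpa [List.getD_eq_getElem?_getD, hi] using (atoms_spec.1 i).1)
    (by simp [(vC_lt hd).1]; simpa [List.getD_eq_getElem?_getD, hi] using (atoms_spec.1 i).1) ?_
  have := h i hil
  simp only [List.getD_eq_getElem?_getD, List.getElem?_eq_getElem hi, Option.getD_some] at this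
  simpa [phl_cons, phl_nil] using this.eq

/-- The cube of the cycling element is trivial. -/
theorem act_cube {v : ℕ} (hv : v < 4) (ha : Act φ c v) : c * c * c = 1 := by
  have hok := cube_ok
  simp only [cubeB, Bool.and_eq_true] at hok
  have hg := fun g (hg : g < 7) => allB_spec (allB_spec hok.1.1.1.1.1 v hv) g hg
  simp only [Bool.and_eq_true] at hg
  have hcomm : ∀ g < 7, Commute (c * c * c) (φ (el (Data.srcA.getD g 0))) := by
    intro g hgl
    obtain ⟨⟨⟨w1, w2⟩, w3⟩, -⟩ := hg g hgl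
    have e1 := phl_eq φ w1
    have e2 := phl_eq φ w2
    have e3 := phl_eq φ w3
    rw [phl_cons, phl_nil, mul_one] at e1 e3
    have a0 : c * φ (el (Data.srcA.getD g 0)) * c⁻¹ = φ (el ((dstL v).getD g 0)) := ha g
    have a1 := ha.word (Data.cubeW.getD (7 * v + g) [])
    have a2 := ha.word (Data.cubeW2.getD (7 * v + g) [])
    rw [e1] at a1; rw [e2] at a2; rw [e3] at a2
    have : c * c * c * φ (el (Data.srcA.getD g 0)) * (c * c * c)⁻¹ = φ (el (Data.srcA.getD g 0)) := by
      calc _ = c * (c * (c * φ (el (Data.srcA.getD g 0)) * c⁻¹) * c⁻¹) * c⁻¹ := by group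
        _ = _ := by rw [a0, a1, a2]
    exact mul_inv_eq_iff_eq_mul.1 this
  obtain ⟨j, hj, e⟩ := S.mem_four hcomm
  have hc := S.act_cyc hv ha
  have hfix : c * φ (el (vC j)) * c⁻¹ = φ (el (vC j)) := by rw [e]; group
  have key : ∀ {a b : ℕ}, a < 2903040 → b < 2903040 → φ (el a) = φ (el b) → a = b :=
    fun h1 h2 h => el_injective h1 h2 (S.inj h)
  rw [← e]
  interval_cases j
  · simp [vC, el_zero]
  · exact absurd (key (by norm_num [vC]) (by norm_num) (hfix.symm.trans hc.1)) (by norm_num [vC])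
  · exact absurd (key (by norm_num [vC]) (by norm_num) (hfix.symm.trans hc.2)) (by norm_num [vC])
  · exact absurd (key (by norm_num [vC]) (by norm_num) (hfix.symm.trans (S.cyc_third hc))) (by norm_num [vC])

/-- The product with the inverting involution can be made trivial. -/
theorem step_flip {v : ℕ} (hv : v < 4) (ha : Act φ c v) :
    ∃ c' : G, Act φ c' v ∧ φ (el Data.sC) * c' * φ (el Data.sC) * c' = 1 := by
  have hok := cube_ok
  simp only [cubeB, Bool.and_eq_true] at hok
  obtain ⟨⟨⟨⟨⟨hgs, -⟩, hd⟩, hs2⟩, hsb⟩, hsV⟩ := hok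
  have hsb' : Data.sC < 2903040 := by simpa using hsb
  have hc := S.act_cyc hv ha
  have hs : φ (el Data.sC) * φ (el Data.sC) = 1 := by simpa [phl_cons, phl_nil] using phl_eq φ hs2
  have hsv : ∀ j < 4, φ (el Data.sC) * φ (el (vC j)) * φ (el Data.sC) = φ (el (vC (sV j))) := fun j hj => by
    simpa [phl_cons, phl_nil, mul_assoc] using phl_eq φ (allB_spec hsV j hj)
  have gs : ∀ g < 7, phl φ (srcL (Data.sW.getD (7 * v + g) [])) =
      φ (el Data.sC) * φ (el ((dstL v).getD g 0)) * φ (el Data.sC) := fun g hg => by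
    have h := allB_spec (allB_spec hgs v hv) g hg
    simp only [Bool.and_eq_true] at h
    simpa [phl_cons, phl_nil, mul_assoc] using phl_eq φ h.2
  have h1 : c * φ (el (vC 1)) * c⁻¹ = φ (el (vC 3)) := hc.1
  have h2 : c * φ (el (vC 2)) * c⁻¹ = φ (el (vC 1)) := hc.2
  have h3 : c * φ (el (vC 3)) * c⁻¹ = φ (el (vC 2)) := S.cyc_third hc
  have hst : Commute (φ (el Data.sC)) (φ (el (vC 1))) := by
    rw [show vC 1 = 630 from rfl, S.t_eq]; exact S.comm_t _
  generalize hs' : φ (el Data.sC) = s at hs hsv gs hst ⊢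
  have hsi : s⁻¹ = s := inv_eq_of_mul_eq_one_right hs
  -- conjugation by the product
  have conjq : ∀ g : G, s * c * s * c * g * (s * c * s * c)⁻¹ = s * (c * (s * (c * g * c⁻¹) * s) * c⁻¹) * s := by
    intro g
    calc _ = s * (c * (s * (c * g * c⁻¹) * s⁻¹) * c⁻¹) * s⁻¹ := by group
      _ = _ := by rw [hsi]
  have qg : ∀ g < 7, s * c * s * c * φ (el (Data.srcA.getD g 0)) * (s * c * s * c)⁻¹ =
      s * phl φ (imgL v (Data.sW.getD (7 * v + g) [])) * s := fun g hg => by
    rw [conjq, ha g, ← gs g hg, ha.word]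
  have qc : ∀ j ∈ [1, 2], s * c * s * c * φ (el (vC j)) * (s * c * s * c)⁻¹ = φ (el (vC j)) := by
    intro j hj
    fin_cases hj
    · rw [conjq, h1, hsv 3 (by norm_num), show sV 3 = 2 from rfl, h2, hsv 1 (by norm_num)]; rfl
    · rw [conjq, h2, hsv 1 (by norm_num), show sV 1 = 1 from rfl, h1, hsv 3 (by norm_num)]; rfl
  obtain ⟨d, hd', e⟩ := S.exists_dcode (g := s * c * s * c)
    (S.t_eq ▸ mul_inv_eq_iff_eq_mul.1 (qc 1 (by simp))) (mul_inv_eq_iff_eq_mul.1 (qc 2 (by simp)))
  have hd4 : d < 4 := by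
    have h := allB_spec (allB_spec hd v hv) d hd'
    simp only [Bool.or_eq_true, Nat.blt_eq, Bool.not_eq_true'] at h
    refine h.resolve_right fun hf => ?_
    rw [← Bool.not_eq_true] at hf
    refine hf ?_
    have hall : ∀ n ≤ 7, allB n (fun g => cEq [vC d, Data.srcA.getD g 0]
        ([Data.sC] ++ imgL v (Data.sW.getD (7 * v + g) []) ++ [Data.sC, vC d])) = true := by
      intro n hn
      induction n with
      | zero => rfl
      | succ g ih =>
        rw [allB, ih (by omega), Bool.and_true]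
        refine S.cEq_of (List.forall_mem_cons.2 ⟨(vC_lt hd').1, List.forall_mem_cons.2 ⟨(atoms_spec.1 g).1, by simp⟩⟩) (fun a ha' => ?_) ?_
        · simp only [List.mem_append, List.mem_singleton, List.mem_cons, List.not_mem_nil, or_false] at ha'
          rcases ha' with (rfl | ha') | rfl | rfl
          · exact hsb'
          · obtain ⟨i, -, rfl⟩ := List.mem_map.1 ha'; exact (atoms_spec.2.1 v hv i).1
          · exact hsb'
          · exact (vC_lt hd').1
        · have h := mul_inv_eq_iff_eq_mul.1 (qg g (by omega))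
          rw [← e] at h
          rw [phl_append, phl_append, phl_cons, phl_cons, phl_nil, mul_one, phl_cons φ Data.sC, phl_nil, mul_one,
            phl_cons, phl_cons, phl_nil, mul_one, hs', h]
          simp only [mul_assoc]
    exact hall 7 le_rfl
  have hsq : φ (el (vC (sV d))) = c * φ (el (vC d)) * c⁻¹ := by
    rw [← hsv d hd4, e]
    calc s * (s * c * s * c) * s = (s * s) * c * s * c * s := by group
      _ = c * (s * c * s * c) * c⁻¹ := by rw [hs]; group
  have key : ∀ {a b : ℕ}, a < 2903040 → b < 2903040 → φ (el a) = φ (el b) → a = b :=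
    fun h1 h2 h => el_injective h1 h2 (S.inj h)
  have hd03 : d = 0 ∨ d = 3 := by
    interval_cases d
    · exact Or.inl rfl
    · exact absurd (key (by norm_num [vC, sV]) (by norm_num [vC]) (hsq.trans h1)) (by norm_num [vC, sV])
    · exact absurd (key (by norm_num [vC, sV]) (by norm_num [vC]) (hsq.trans h2)) (by norm_num [vC, sV])
    · exact Or.inr rfl
  rcases hd03 with rfl | rfl
  · exact ⟨c, ha, by rw [← e]; simp [vC, el_zero]⟩
  · refine ⟨φ (el (vC 3)) * c, fun i => ?_, ?_⟩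
    · rw [Sends, show φ (el (vC 3)) * c * φ (el (Data.srcA.getD i 0)) * (φ (el (vC 3)) * c)⁻¹ =
        φ (el (vC 3)) * (c * φ (el (Data.srcA.getD i 0)) * c⁻¹) * (φ (el (vC 3)))⁻¹ by group, ha i,
        show vC 3 = 1890 from rfl, ← ((atoms_spec.2.2.2.2 v hv i).map φ).eq, mul_inv_cancel_right]
    · have es : s * φ (el (vC 3)) = φ (el (vC 2)) * s := by
        rw [show (2 : ℕ) = sV 3 from rfl, ← hsv 3 (by norm_num), mul_assoc, hs, mul_one]
      have es2 : s * φ (el (vC 1)) = φ (el (vC 1)) * s := hst.eq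
      have ec : c * φ (el (vC 2)) = φ (el (vC 1)) * c := mul_inv_eq_iff_eq_mul.1 h2
      have e23 : φ (el (vC 2)) * φ (el (vC 1)) = φ (el (vC 3)) := by
        rw [← map_mul, show vC 2 = 1260 from rfl, show vC 1 = 630 from rfl, show vC 3 = 1890 from rfl, el_1260, el_630,
          base_eqs.1]
      have hw : yW * zW * (yW * zW) = 1 := by
        rw [mul_assoc, ← mul_assoc zW, ← (rels.2.1 yW).eq, mul_assoc, rels.2.2.2.1, mul_one, yW_facts.1]
      have hvv : φ (el (vC 3)) * φ (el (vC 3)) = 1 := by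
        rw [← map_mul, show vC 3 = 1890 from rfl, base_eqs.1, hw, map_one]
      calc s * (φ (el (vC 3)) * c) * s * (φ (el (vC 3)) * c)
          = (s * φ (el (vC 3))) * c * (s * φ (el (vC 3))) * c := by group
        _ = φ (el (vC 2)) * s * (c * φ (el (vC 2))) * s * c := by rw [es]; group
        _ = φ (el (vC 2)) * (s * φ (el (vC 1))) * c * s * c := by rw [ec]; group
        _ = φ (el (vC 2)) * φ (el (vC 1)) * (s * c * s * c) := by rw [es2]; group
        _ = 1 := by rw [e23, ← e, hvv]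

/-- The element `u₀` conjugated through the cycling element. -/
theorem step_norm {v : ℕ} (hv : v < 4) (ha : Act φ c v) :
    ∃ i < 16, c * φ (el u0C) * c = φ (el a0C) * c * φ (el b0C) * φ (el (vC i)) := by
  have hok := norm_ok
  simp only [normB, Bool.and_eq_true] at hok
  obtain ⟨⟨⟨⟨⟨hu, haI⟩, hb⟩, hg⟩, hd⟩, -⟩ := hok
  set X := c * φ (el u0C) * c with hXd
  set Z := φ (el a0C) * c * φ (el b0C) with hZd
  have hu' : φ (el u0I) = (φ (el u0C))⁻¹ := eq_inv_of_mul_eq_one_right (by simpa [phl_cons, phl_nil] using phl_eq φ hu)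
  have hb' : φ (el b0I) = (φ (el b0C))⁻¹ := eq_inv_of_mul_eq_one_right (by simpa [phl_cons, phl_nil] using phl_eq φ hb)
  have key : ∀ g < 4, Commute (Z⁻¹ * X) (φ (el (Data.srcA.getD g 0))) := by
    intro g hg'
    have h := allB_spec (allB_spec hg v hv) g hg'
    simp only [Bool.and_eq_true] at h
    have e1 := phl_eq φ h.1.1
    have e2 := phl_eq φ h.1.2
    have e3 := phl_eq φ h.2
    simp only [phl_cons, phl_nil, phl_append, mul_one, one_mul, hu', hb'] at e1 e2 e3
    have m1 := ha.word (Data.uW.getD g [])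
    have m2 := ha.word (Data.bW'.getD g [])
    rw [← e1] at m1; rw [← e2] at m2
    have a0 : c * φ (el (Data.srcA.getD g 0)) * c⁻¹ = φ (el ((dstL v).getD g 0)) := ha g
    have hX : X * φ (el (Data.srcA.getD g 0)) * X⁻¹ = phl φ (imgL v (Data.uW.getD g [])) := by
      rw [← m1, ← a0, hXd]; group
    have hZ : Z * φ (el (Data.srcA.getD g 0)) * Z⁻¹ = phl φ (imgL v (Data.uW.getD g [])) := by
      rw [hZd]
      calc _ = φ (el a0C) * (c * (φ (el b0C) * (φ (el (Data.srcA.getD g 0)) * (φ (el b0C))⁻¹)) * c⁻¹) *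
            (φ (el a0C))⁻¹ := by group
        _ = φ (el a0C) * phl φ (imgL v (Data.bW'.getD g [])) * (φ (el a0C))⁻¹ := by rw [m2]
        _ = _ := by rw [← e3, mul_inv_cancel_right]
    refine mul_inv_eq_iff_eq_mul.1 ?_
    calc Z⁻¹ * X * φ (el (Data.srcA.getD g 0)) * (Z⁻¹ * X)⁻¹
        = Z⁻¹ * (X * φ (el (Data.srcA.getD g 0)) * X⁻¹) * Z := by group
      _ = _ := by rw [hX, ← hZ]; group
  obtain ⟨d, hd', e⟩ := S.exists_dcode (S.t_eq ▸ key 0 (by norm_num)) (key 1 (by norm_num))
  have hd16 : d < 16 := by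
    have h := allB_spec hd d hd'
    simp only [Bool.or_eq_true, Nat.blt_eq, Bool.not_eq_true'] at h
    refine h.resolve_right fun hf => ?_
    rw [← Bool.not_eq_true] at hf
    refine hf ?_
    have hall : ∀ n ≤ 4, allB n (fun g => cEq [vC d, Data.srcA.getD g 0] [Data.srcA.getD g 0, vC d]) = true := by
      intro n hn
      induction n with
      | zero => rfl
      | succ g ih =>
        rw [allB, ih (by omega), Bool.and_true]
        refine S.cEq_of (List.forall_mem_cons.2 ⟨(vC_lt hd').1, List.forall_mem_cons.2 ⟨(atoms_spec.1 g).1, by simp⟩⟩)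
          (List.forall_mem_cons.2 ⟨(atoms_spec.1 g).1, List.forall_mem_cons.2 ⟨(vC_lt hd').1, by simp⟩⟩) ?_
        have h := key g (by omega)
        rw [← e] at h
        simpa [phl_cons, phl_nil] using h.eq
    exact hall 4 le_rfl
  exact ⟨d, hd16, by rw [e, mul_inv_cancel_left]⟩

/-- An equation refutes itself. -/
theorem refute_false {v : ℕ} (hv : v < 4) (ha : Act φ c v) {T : List ℕ × List ℕ × List ℕ × List ℕ} {m : ℕ}
    {w : List ℕ} (h : refute v T m w = true)
    (e : phl φ T.1 * c * phl φ T.2.1 = phl φ T.2.2.1 * c * phl φ T.2.2.2) : False := by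
  simp only [refute, Bool.and_eq_true, Nat.blt_eq, Bool.or_eq_true, Bool.not_eq_true', List.all_eq_true] at h
  obtain ⟨⟨⟨hm, h1⟩, hA, hA'⟩, h2⟩ := h
  have e1 := phl_eq φ h1
  rw [phl_cons] at e1
  rw [e1, ← mul_assoc, mul_left_inj] at e
  have hc := S.act_cyc hv ha
  have hm0 : m % 630 = 0 := by
    refine (el_comm_yW_iff hm).1 (S.inj ?_)
    have h2' : Commute (c * φ (el m) * c⁻¹) t := by
      rw [show c * φ (el m) * c⁻¹ = (phl φ T.2.2.1)⁻¹ * phl φ T.1 by
        calc c * φ (el m) * c⁻¹ = (phl φ T.2.2.1)⁻¹ * (phl φ T.2.2.1 * c * φ (el m)) * c⁻¹ := by group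
          _ = _ := by rw [← e]; group]
      exact (S.commute _).inv_left.mul_left (S.commute _)
    have h3 := h2'.map (MulAut.conj c⁻¹).toMonoidHom
    have ey : c⁻¹ * t * c = φ yW := by rw [← el_1260, ← S.t_eq, ← hc.2]; group
    simp only [MulEquiv.coe_toMonoidHom, MulAut.conj_apply, inv_inv] at h3
    rw [ey, show c⁻¹ * (c * φ (el m) * c⁻¹) * c = φ (el m) by group] at h3
    rw [map_mul, map_mul]; exact h3.eq
  rcases h2 with h2 | ⟨h2, h3⟩
  · rw [← Bool.not_eq_true, Nat.beq_eq] at h2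
    exact h2 hm0
  · rw [← Bool.not_eq_true] at h3
    refine h3 (S.cEq_of (fun a ha' => ?_) hA ?_)
    · rcases List.mem_append.1 ha' with h | h
      · exact hA' a h
      · obtain ⟨i, -, rfl⟩ := List.mem_map.1 h; exact (atoms_spec.2.1 v hv i).1
    · have em := phl_eq φ h2
      rw [phl_cons, phl_nil, mul_one] at em
      rw [phl_append, ← ha.word, em]
      calc phl φ T.2.2.1 * (c * φ (el m) * c⁻¹) = phl φ T.2.2.1 * c * φ (el m) * c⁻¹ := by group
        _ = _ := by rw [← e]; group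

/-- The configuration exists. -/
theorem exists_conf (hc : Cyc φ c) : ∃ c' : G, Conf φ c' := by
  obtain ⟨c₁, v, hv, ha₁⟩ := S.step_act hc
  obtain ⟨c₂, ha, hflip⟩ := S.step_flip hv ha₁
  have hcube := S.act_cube hv ha
  obtain ⟨i, hi, hn⟩ := S.step_norm hv ha
  suffices hvi : v = 0 ∧ i = 0 by
    obtain ⟨rfl, rfl⟩ := hvi
    exact ⟨c₂, ha, hcube, hflip, by simpa [vC, el_zero] using hn⟩
  by_contra hne
  have hok := kill_ok
  simp only [killB, Bool.and_eq_true] at hok
  obtain ⟨⟨⟨⟨⟨hk, q1⟩, q2⟩, q3⟩, q4⟩, hkill⟩ := hok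
  have hkill' := allB_spec (allB_spec hkill v hv) i hi
  simp only [Bool.or_eq_true, Bool.and_eq_true, Nat.beq_eq, hne, false_or] at hkill'
  refine S.refute_false hv ha hkill' ?_
  -- the three equations
  have hn' := norm_ok
  simp only [normB, Bool.and_eq_true] at hn'
  obtain ⟨⟨⟨⟨⟨hu, haI⟩, hb⟩, -⟩, -⟩, he2⟩ := hn'
  have hu' : φ (el u0I) = (φ (el u0C))⁻¹ := eq_inv_of_mul_eq_one_right (by simpa [phl_cons, phl_nil] using phl_eq φ hu)
  have ha' : φ (el a0I) = (φ (el a0C))⁻¹ := eq_inv_of_mul_eq_one_right (by simpa [phl_cons, phl_nil] using phl_eq φ haI)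
  have hb' : φ (el b0I) = (φ (el b0C))⁻¹ := eq_inv_of_mul_eq_one_right (by simpa [phl_cons, phl_nil] using phl_eq φ hb)
  have hee : (φ (el (vC i)))⁻¹ = φ (el (vC i)) :=
    inv_eq_of_mul_eq_one_right (by simpa [phl_cons, phl_nil] using phl_eq φ (allB_spec he2 i hi))
  have hs2 : φ (el Data.sC) * φ (el Data.sC) = 1 := by
    have hcb := cube_ok
    simp only [cubeB, Bool.and_eq_true] at hcb
    simpa [phl_cons, phl_nil] using phl_eq φ hcb.1.1.2
  have hK : ∀ r < 8, c₂ * φ (el (kk r)) = phl φ (kI v r) * c₂ ∧ φ (el (kk r)) * c₂ = c₂ * phl φ (kS v r) := by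
    intro r hr
    have h := allB_spec (allB_spec hk v hv) r hr
    simp only [Bool.and_eq_true] at h
    have e1 := phl_eq φ h.1
    have e2 := phl_eq φ h.2
    rw [phl_cons, phl_nil, mul_one] at e1 e2
    have w1 := ha.word (Data.kW.getD r [])
    have w2 := ha.word (Data.kP.getD (8 * v + r) [])
    rw [e1] at w1; rw [e2] at w2
    exact ⟨mul_inv_eq_iff_eq_mul.1 w1, (mul_inv_eq_iff_eq_mul.1 w2).symm⟩
  have p1 := phl_eq φ q1
  have p2 := phl_eq φ q2
  have p3 := phl_eq φ q3
  have p4 := phl_eq φ q4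
  simp only [phl_cons, phl_nil, mul_one, hu'] at p1 p2 p3 p4
  have hsi : (φ (el Data.sC))⁻¹ = φ (el Data.sC) := inv_eq_of_mul_eq_one_right hs2
  have hinv : c₂⁻¹ = φ (el Data.sC) * c₂ * φ (el Data.sC) := (eq_inv_of_mul_eq_one_left hflip).symm
  have ecs : c₂ * φ (el Data.sC) = φ (el Data.sC) * c₂⁻¹ := by
    rw [hinv, ← mul_assoc, ← mul_assoc, hs2, one_mul]
  have esc : φ (el Data.sC) * c₂ = c₂⁻¹ * φ (el Data.sC) := by rw [hinv, mul_assoc (_ * c₂), hs2, mul_one]
  have ecc : c₂⁻¹ = c₂ * c₂ := inv_eq_of_mul_eq_one_right (by rw [← mul_assoc]; exact hcube)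
  generalize (Data.kill.getD (16 * v + i) (0, 0, [])).1 = j
  match j with
  | 0 =>
    simp only [testT, phl_append, phl_cons, phl_nil, mul_one]
    calc φ (el a0C) * c₂ * (φ (el b0C) * φ (el (vC i)) * phl φ (kS v 0))
        = c₂ * φ (el u0C) * c₂ * phl φ (kS v 0) := by rw [hn]; group
      _ = c₂ * φ (el u0C) * (φ (el (kk 0)) * c₂) := by rw [(hK 0 (by norm_num)).2]; group
      _ = c₂ * (φ (el u0C) * φ (el (kk 0))) * c₂ := by group
      _ = c₂ * φ (el (kk 1)) * (φ (el u0C) * c₂) := by rw [p1]; group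
      _ = phl φ (kI v 1) * (c₂ * φ (el u0C) * c₂) := by rw [(hK 1 (by norm_num)).1]; group
      _ = _ := by rw [hn]; group
  | 1 =>
    simp only [testT, phl_append, phl_cons, phl_nil, mul_one, hb', ha']
    calc phl φ (kI v 2) * φ (el a0C) * c₂ * (φ (el b0C) * φ (el (vC i)) * phl φ (kS v 3))
        = phl φ (kI v 2) * (c₂ * φ (el u0C) * c₂) * phl φ (kS v 3) := by rw [hn]; group
      _ = (phl φ (kI v 2) * c₂) * φ (el u0C) * (c₂ * phl φ (kS v 3)) := by group
      _ = c₂ * (φ (el (kk 2)) * (φ (el u0C) * φ (el (kk 3)))) * c₂ := by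
        rw [← (hK 2 (by norm_num)).1, ← (hK 3 (by norm_num)).2]; group
      _ = (c₂ * φ (el Data.sC)) * (φ (el u0C))⁻¹ * (φ (el Data.sC) * c₂) := by rw [← p2]; group
      _ = φ (el Data.sC) * (c₂ * φ (el u0C) * c₂)⁻¹ * φ (el Data.sC) := by rw [ecs, esc]; group
      _ = φ (el Data.sC) * (φ (el (vC i)) * (φ (el b0C))⁻¹ * c₂⁻¹ * (φ (el a0C))⁻¹) * φ (el Data.sC) := by
        rw [hn, mul_inv_rev, mul_inv_rev, mul_inv_rev, hee]; group
      _ = _ := by rw [hinv]; group
  | _ + 2 =>
    simp only [testT, phl_append, phl_cons, phl_nil, mul_one]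
    calc φ (el Data.sC) * phl φ (kI v 6) * φ (el a0C) * c₂ * (φ (el b0C) * φ (el (vC i)) * phl φ (kS v 7))
        = φ (el Data.sC) * phl φ (kI v 6) * (c₂ * φ (el u0C) * c₂) * phl φ (kS v 7) := by rw [hn]; group
      _ = φ (el Data.sC) * (phl φ (kI v 6) * c₂) * φ (el u0C) * (c₂ * phl φ (kS v 7)) := by group
      _ = φ (el Data.sC) * c₂ * (φ (el (kk 6)) * (φ (el u0C) * φ (el (kk 7)))) * c₂ := by
        rw [← (hK 6 (by norm_num)).1, ← (hK 7 (by norm_num)).2]; group
      _ = (φ (el Data.sC) * c₂ * φ (el Data.sC)) * (φ (el u0C) * c₂) := by rw [← p4]; group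
      _ = c₂ * (c₂ * φ (el u0C) * c₂) := by rw [← hinv, ecc]; group
      _ = c₂ * φ (el a0C) * c₂ * (φ (el b0C) * φ (el (vC i))) := by rw [hn]; group
      _ = c₂ * (φ (el (kk 4)) * (φ (el u0C) * φ (el (kk 5)))) * c₂ * (φ (el b0C) * φ (el (vC i))) := by rw [p3]
      _ = (c₂ * φ (el (kk 4))) * φ (el u0C) * (φ (el (kk 5)) * c₂) * (φ (el b0C) * φ (el (vC i))) := by group
      _ = phl φ (kI v 4) * (c₂ * φ (el u0C) * c₂) * phl φ (kS v 5) * (φ (el b0C) * φ (el (vC i))) := by
        rw [(hK 4 (by norm_num)).1, (hK 5 (by norm_num)).2]; group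
      _ = _ := by rw [hn]; group

end Setting

end Cfsg.Agent.Co3Type
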