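import Cfsg.Agent.Lib.Co3Type.Rels
import Cfsg.Agent.Lib.Co3Type.ModelData

/-!
# The double cover of `Sp₆(2)` on its 240 roots, with coded elements

A table of an element lists its inverse, so that products of tables read from left to right.  An element is coded
by a number below `2903040`: a member of the centraliser of the involution `y` times a member of a transversal.
Equalities of coded elements are checked at four points.
-/

set_option autoImplicit false
set_option maxRecDepth 100000
set_option Elab.async false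
set_option linter.style.haveILetI false

namespace Cfsg.Agent.Co3Type.Model

open Cfsg.Agent.Sp6Mult (cm)

noncomputable section

local notation "P240" => Equiv.Perm (Fin 240)

/-- The check below a bound. -/
def allB : ℕ → (ℕ → Bool) → Bool
  | 0, _ => true
  | n + 1, p => p n && allB n p

theorem allB_spec {p : ℕ → Bool} : ∀ {n}, allB n p = true → ∀ i < n, p i = true
  | 0, _, i, hi => absurd hi (Nat.not_lt_zero i)
  | n + 1, h, i, hi => by
    rw [allB, Bool.and_eq_true] at h
    rcases Nat.lt_succ_iff_lt_or_eq.1 hi with hi | rfl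
    exacts [allB_spec h.2 i hi, h.1]

/-- The entry of a table. -/
def pT (x i : ℕ) : ℕ := Nat.land (Nat.shiftRight x (Nat.mul 8 i)) 255

/-- The inverse of a permutation acts as a table. -/
def IsI (x : ℕ) (g : P240) : Prop := ∀ v : Fin 240, ((g⁻¹ v : Fin 240) : ℕ) = pT x v

theorem IsI.mul {x y : ℕ} {g h : P240} (hg : IsI x g) (hh : IsI y h) (v : Fin 240) :
    (((g * h)⁻¹ v : Fin 240) : ℕ) = pT y (pT x v) := by
  rw [mul_inv_rev, Equiv.Perm.mul_apply, hh, hg]

/-- The table of a node. -/
def nd (i : ℕ) : ℕ := Data.nodeT.get i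

/-- The generators as permutations. -/
def genOK : Bool :=
  allB 7 fun i => allB 240 fun v =>
    let a := Data.genL.getD i 0
    let b := Data.genInvL.getD i 0
    decide (pT a v < 240 ∧ pT b v < 240 ∧ pT a (pT b v) = v ∧ pT b (pT a v) = v ∧ pT (nd i) v = pT a v)

theorem gen_ok : genOK = true := by decide +kernel

theorem gen_facts {i : ℕ} (hi : i < 7) (v : Fin 240) :
    pT (Data.genL.getD i 0) v < 240 ∧ pT (Data.genInvL.getD i 0) v < 240 ∧
      pT (Data.genL.getD i 0) (pT (Data.genInvL.getD i 0) v) = v.1 ∧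
      pT (Data.genInvL.getD i 0) (pT (Data.genL.getD i 0) v) = v.1 ∧ pT (nd i) v = pT (Data.genL.getD i 0) v :=
  of_decide_eq_true (allB_spec (allB_spec gen_ok i hi) v v.2)

/-- A generator. -/
def gPerm (i : Fin 7) : P240 where
  toFun v := ⟨pT (Data.genInvL.getD i 0) v, (gen_facts i.2 v).2.1⟩
  invFun v := ⟨pT (Data.genL.getD i 0) v, (gen_facts i.2 v).1⟩
  left_inv v := Fin.ext (gen_facts i.2 v).2.2.1
  right_inv v := Fin.ext (gen_facts i.2 v).2.2.2.1

/-- The group. -/
def W : Subgroup P240 := Subgroup.closure (Set.range gPerm)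

/-- A generator in the group. -/
def gW (i : Fin 7) : W := ⟨gPerm i, Subgroup.subset_closure ⟨i, rfl⟩⟩

theorem gW_tab (i : Fin 7) : IsI (nd i) (gW i : P240) := fun v => (gen_facts i.2 v).2.2.2.2.symm

/-- The check of the products. -/
def opsOK : Bool :=
  allB 1505 fun j =>
    let o := Data.opT.get j
    let a := o / 4096
    let b := o % 4096
    decide (a < 7 + j ∧ b < 7 + j) &&
      allB 240 fun v => pT (nd (7 + j)) v == pT (nd b) (pT (nd a) v)

theorem ops_ok : opsOK = true := by decide +kernel

theorem exists_nd : ∀ i : ℕ, i < 1512 → ∃ g : W, IsI (nd i) (g : P240) := by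
  intro i
  induction i using Nat.strong_induction_on with
  | _ i ih =>
    intro hi
    by_cases h : i < 7
    · exact ⟨gW ⟨i, h⟩, gW_tab ⟨i, h⟩⟩
    · obtain ⟨j, rfl⟩ : ∃ j, i = 7 + j := ⟨i - 7, by omega⟩
      have h' := allB_spec ops_ok j (by omega)
      simp only [Bool.and_eq_true, decide_eq_true_eq] at h'
      obtain ⟨⟨ha, hb⟩, h'⟩ := h'
      obtain ⟨x, hx⟩ := ih _ ha (ha.trans hi)
      obtain ⟨y, hy⟩ := ih _ hb (hb.trans hi)
      refine ⟨x * y, fun v => ?_⟩
      rw [Subgroup.coe_mul, IsI.mul hx hy v]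
      exact (beq_iff_eq.1 (allB_spec h' v v.2)).symm

/-- The element of a node. -/
def gN (i : ℕ) : W := if h : i < 1512 then (exists_nd i h).choose else 1

theorem gN_tab {i : ℕ} (hi : i < 1512) : IsI (nd i) (gN i : P240) := by
  rw [gN, dif_pos hi]; exact (exists_nd i hi).choose_spec

theorem gN_eq {i : ℕ} (hi : i < 1512) {g : W} (h : ∀ v : Fin 240, ((((g : P240))⁻¹ v : Fin 240) : ℕ) = pT (nd i) v) :
    g = gN i :=
  Subtype.ext (inv_injective (Equiv.ext fun v => Fin.ext ((h v).trans (gN_tab hi v).symm)))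

theorem gN_gen (i : Fin 7) : gN i = gW i := (gN_eq (i.2.trans (by norm_num)) (gW_tab i)).symm

/-- The central involution. -/
def zW : W := gN 7

/-- Products of words of generators. -/
def wordT : List ℕ → ℕ → ℕ
  | [], v => v
  | a :: l, v => wordT l (pT (nd a) v)

theorem word_tab : ∀ (l : List ℕ), (∀ a ∈ l, a < 1512) → ∀ v : Fin 240,
    ((((((l.map gN).prod : W) : P240))⁻¹ v : Fin 240) : ℕ) = wordT l v
  | [], _, v => by simp [wordT]
  | a :: l, h, v => by
    rw [List.map_cons, List.prod_cons, Subgroup.coe_mul, mul_inv_rev, Equiv.Perm.mul_apply, wordT,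
      word_tab l (fun b hb => h b (List.mem_cons_of_mem _ hb)), gN_tab (h a List.mem_cons_self)]

/-- The words agree on all points. -/
def wordEq (l l' : List ℕ) : Bool :=
  (l.all fun a => Nat.blt a 1512) && (l'.all fun a => Nat.blt a 1512) &&
    allB 240 fun v => wordT l v == wordT l' v

theorem of_wordEq {l l' : List ℕ} (h : wordEq l l' = true) : (l.map gN).prod = (l'.map gN).prod := by
  simp only [wordEq, Bool.and_eq_true, List.all_eq_true, Nat.blt_eq] at h
  obtain ⟨⟨h1, h2⟩, h3⟩ := h
  refine Subtype.ext (inv_injective (Equiv.ext fun v => Fin.ext ?_))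
  rw [word_tab l h1, word_tab l' h2]
  exact beq_iff_eq.1 (allB_spec h3 v v.2)

/-- The relations. -/
def relB : Bool :=
  (allB 7 fun i => wordEq [i, i] [7] && wordEq [i, 7] [7, i]) && wordEq [0, 1] [7, 1, 0] && wordEq [7, 7] [] &&
    !(wordEq [7] []) && wordEq ((List.replicate 9 (List.range 7)).flatten) [] &&
    allB 7 fun i => allB 7 fun j =>
      (cm (Fin.ofNat 7 i) (Fin.ofNat 7 j) != 2 || (wordEq [i, j] [j, i] || wordEq [i, j] [7, j, i])) &&
      (cm (Fin.ofNat 7 i) (Fin.ofNat 7 j) != 3 || wordEq [i, j, i] [j, i, j])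

theorem rel_ok : relB = true := by decide +kernel

theorem closure_gW : Subgroup.closure (Set.range gW) = ⊤ := by
  have h : Set.range gW = Subtype.val ⁻¹' Set.range gPerm := by
    ext x
    constructor
    · rintro ⟨i, rfl⟩; exact ⟨i, rfl⟩
    · rintro ⟨i, hi⟩; exact ⟨i, Subtype.ext hi⟩
  rw [h]
  exact Subgroup.closure_closure_coe_preimage

theorem rels : (∀ i, gW i * gW i = zW) ∧ (∀ h : W, Commute h zW) ∧ gW 0 * gW 1 = zW * (gW 1 * gW 0) ∧
    zW * zW = 1 ∧ zW ≠ 1 ∧ ((List.ofFn gW).prod) ^ 9 = 1 ∧
    (∀ i j, cm i j = 2 → gW i * gW j = gW j * gW i ∨ gW i * gW j = zW * (gW j * gW i)) ∧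
    ∀ i j, cm i j = 3 → gW i * gW j * gW i = gW j * gW i * gW j := by
  have h := rel_ok
  simp only [relB, Bool.and_eq_true, Bool.not_eq_true'] at h
  obtain ⟨⟨⟨⟨⟨h1, h2⟩, h3⟩, h4⟩, h5⟩, h6⟩ := h
  have H1 : ∀ i : Fin 7, gW i * gW i = zW ∧ gW i * zW = zW * gW i := fun i => by
    have h := allB_spec h1 i i.2
    rw [Bool.and_eq_true] at h
    have a := of_wordEq h.1
    have b := of_wordEq h.2
    simp only [List.map_cons, List.map_nil, List.prod_cons, List.prod_nil, mul_one, gN_gen] at a b
    exact ⟨a, b⟩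
  refine ⟨fun i => (H1 i).1, fun h => ?_, ?_, ?_, ?_, ?_, ?_, ?_⟩
  · have hm : h ∈ Subgroup.centralizer ({zW} : Set W) := by
      have := Subgroup.mem_top h
      rw [← closure_gW] at this
      refine (Subgroup.closure_le _).2 ?_ this
      rintro _ ⟨i, rfl⟩
      exact Subgroup.mem_centralizer_singleton_iff.2 (H1 i).2
    exact Subgroup.mem_centralizer_singleton_iff.1 hm
  · have a := of_wordEq h2
    simpa [← gN_gen, zW] using a
  · have a := of_wordEq h3
    simpa [zW] using a
  · intro e
    have : wordEq [7] [] = true := by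
      simp only [wordEq, Bool.and_eq_true, List.all_eq_true, List.mem_singleton, forall_eq, List.not_mem_nil,
        false_implies, implies_true, and_true]
      refine ⟨by rfl, ?_⟩
      have key : ∀ v : Fin 240, pT (nd 7) v = v.1 := fun v => by
        have := gN_tab (show 7 < 1512 by norm_num) v
        rw [show gN 7 = zW from rfl, e] at this
        simpa using this.symm
      have aux : ∀ n ≤ 240, allB n (fun v => wordT [7] v == wordT [] v) = true := by
        intro n hn
        induction n with
        | zero => rfl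
        | succ n ih =>
          rw [allB, ih (by omega), Bool.and_true]
          exact beq_iff_eq.2 (key ⟨n, by omega⟩)
      exact aux 240 le_rfl
    rw [this] at h4; exact absurd h4 (by decide)
  · have a := of_wordEq h5
    rw [List.map_flatten, List.map_replicate, List.prod_flatten, List.map_replicate, List.prod_replicate] at a
    have e : (List.range 7).map gN = List.ofFn gW := by
      simp [List.range_succ, List.ofFn_succ, ← gN_gen]
    rw [e] at a
    simpa using a
  · intro i j hij
    have h := allB_spec (allB_spec h6 i i.2) j j.2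
    simp only [Fin.ofNat_eq_cast, Fin.cast_val_eq_self, hij, Bool.and_eq_true, Bool.or_eq_true] at h
    rcases h.1 with h | h
    · simp at h
    rcases h with h | h
    · left; simpa [gN_gen] using of_wordEq h
    · right; simpa [gN_gen, zW] using of_wordEq h
  · intro i j hij
    have h := allB_spec (allB_spec h6 i i.2) j j.2
    simp only [Fin.ofNat_eq_cast, Fin.cast_val_eq_self, hij, Bool.and_eq_true, Bool.or_eq_true] at h
    rcases h.2 with h | h
    · simp at h
    simpa [gN_gen, mul_assoc] using of_wordEq h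

/-- The group is a perfect double cover with kernel generated by `zW`. -/
theorem isDouble : ∃ ξ : W →* Cfsg.PSp 3 (ZMod 2), GW.Cons.IsDouble ξ ∧ ξ.ker = Subgroup.zpowers zW :=
  let ⟨r1, r2, r3, r4, r5, r6, r7, r8⟩ := rels
  isDouble_of_rels gW zW closure_gW r4 r5 r2 r1 r7 r8 r3 (Or.inl r6)

theorem card_W : Nat.card W = 2903040 := by
  obtain ⟨ξ, hξ, -⟩ := isDouble
  rw [Subgroup.card_eq_card_quotient_mul_card_subgroup ξ.ker,
    Nat.card_congr (QuotientGroup.quotientKerEquivOfSurjective ξ hξ.surj).toEquiv, hξ.card,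
    Sp6Mult.card_psp (ZMod.card 2)]

end

end Cfsg.Agent.Co3Type.Model
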