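import Cfsg.Agent.Lib.Sp6Mult.Lower
import Cfsg.Agent.Lib.McLType.Cover
import Cfsg.Agent.Lib.OctadInv.Co2Cent

/-!
# Double covers of `Sp₆(2)` from seven generators

Seven elements which satisfy the relations of the Weyl group of type `E₇` up to a central involution generate a
perfect double cover, and two such covers are isomorphic.
-/

set_option autoImplicit false
set_option linter.style.haveILetI false
set_option linter.unusedSectionVars false

namespace Cfsg.Agent.Co3Type

open Subgroup
open scoped commutatorElement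
open Cfsg.Agent.GW.Cons (IsDouble)
open Cfsg.Agent.Sp6Mult (WGr csys cm isLiftable exists_weyl_hom psp_perfect exists_gen simple_mul_mem)

universe u v

local notation "PS" => Cfsg.PSp 3 (ZMod 2)

theorem cox_mem : ((List.ofFn fun i => csys.simple i).prod) ^ 9 * csys.simple 0 ∈ commutator WGr := by
  let q := Abelianization.of (G := WGr)
  have hk : ∀ w : WGr, w ∈ commutator WGr ↔ q w = 1 := fun w => by
    rw [← MonoidHom.mem_ker, Abelianization.ker_of]
  have h0 : q (csys.simple 0) * q (csys.simple 0) = 1 := by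
    rw [← map_mul, csys.simple_mul_simple_self, map_one]
  have hi : ∀ i, q (csys.simple i) = q (csys.simple 0) := fun i => by
    have h := (hk _).1 (simple_mul_mem i 0)
    rw [map_mul] at h
    exact (eq_inv_of_mul_eq_one_left h).trans (eq_inv_of_mul_eq_one_left h0).symm
  rw [hk, map_mul, map_pow, map_list_prod, List.map_ofFn]
  have e : (List.ofFn (q ∘ fun i => csys.simple i)) = List.replicate 7 (q (csys.simple 0)) := by
    rw [List.eq_replicate_iff]
    refine ⟨List.length_ofFn, fun x hx => ?_⟩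
    obtain ⟨i, rfl⟩ := List.mem_ofFn.1 hx
    exact hi i
  rw [e, List.prod_replicate, ← pow_mul, ← pow_succ, show 7 * 9 + 1 = 2 * 32 by rfl, pow_mul, pow_two, h0, one_pow]

/-- The presentation of a double cover. -/
theorem isDouble_of_rels {H : Type u} [Group H] [Finite H] (g : Fin 7 → H) (ε : H)
    (hgen : closure (Set.range g) = ⊤) (hε2 : ε * ε = 1) (hε1 : ε ≠ 1) (hc : ∀ h : H, Commute h ε)
    (hsq : ∀ i, g i * g i = ε)
    (h2 : ∀ i j, cm i j = 2 → g i * g j = g j * g i ∨ g i * g j = ε * (g j * g i))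
    (h3 : ∀ i j, cm i j = 3 → g i * g j * g i = g j * g i * g j)
    (hanti : g 0 * g 1 = ε * (g 1 * g 0))
    (hcox : ((List.ofFn g).prod) ^ 9 = 1 ∨ ((List.ofFn g).prod) ^ 9 = ε) :
    ∃ ξ : H →* PS, IsDouble ξ ∧ ξ.ker = zpowers ε := by
  classical
  haveI hN : (zpowers ε).Normal := ⟨fun a ha x => by
    obtain ⟨k, rfl⟩ := mem_zpowers_iff.1 ha
    rw [((hc x).zpow_right k).eq, mul_inv_cancel_right]
    exact zpow_mem (mem_zpowers ε) k⟩
  let p := QuotientGroup.mk' (zpowers ε)
  have pε : p ε = 1 := (QuotientGroup.eq_one_iff ε).2 (mem_zpowers ε)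
  have hl : cm.IsLiftable fun i => p (g i) := by
    refine isLiftable (fun i => ?_) (fun i j h => ?_) (fun i j h => ?_)
    · rw [← map_mul, hsq, pε]
    · rcases h2 i j h with e | e
      · show p (g i) * p (g j) = p (g j) * p (g i)
        rw [← map_mul, e, map_mul]
      · show p (g i) * p (g j) = p (g j) * p (g i)
        rw [← map_mul, e, map_mul, pε, one_mul, map_mul]
    · rw [← map_mul, ← map_mul, h3 i j h, map_mul, map_mul]
  let Φ := csys.lift ⟨_, hl⟩
  have hΦ : ∀ i, Φ (csys.simple i) = p (g i) := fun i => CoxeterSystem.lift_apply_simple _ hl i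
  have hΦs : Function.Surjective Φ := by
    rw [← MonoidHom.range_eq_top, eq_top_iff, ← map_top_of_surjective p (QuotientGroup.mk'_surjective _),
      ← hgen, MonoidHom.map_closure, closure_le]
    rintro _ ⟨_, ⟨i, rfl⟩, rfl⟩
    exact ⟨_, hΦ i⟩
  have hw : Φ ((List.ofFn fun i => csys.simple i).prod ^ 9) = 1 := by
    rw [map_pow, map_list_prod, List.map_ofFn, show (⇑Φ ∘ fun i => csys.simple i) = p ∘ g from funext hΦ,
      ← List.map_ofFn, ← map_list_prod, ← map_pow]
    rcases hcox with e | e <;> rw [e]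
    exacts [map_one p, pε]
  have hK : ((commutator WGr).map Φ) = ⊤ := by
    rw [eq_top_iff, ← map_top_of_surjective Φ hΦs, ← csys.subgroup_closure_range_simple,
      MonoidHom.map_closure, closure_le]
    rintro _ ⟨_, ⟨i, rfl⟩, rfl⟩
    have h0 : Φ (csys.simple 0) ∈ (commutator WGr).map Φ := ⟨_, cox_mem, by rw [map_mul, hw, one_mul]⟩
    have hi : Φ (csys.simple i * csys.simple 0) ∈ (commutator WGr).map Φ := ⟨_, simple_mul_mem i 0, rfl⟩
    rw [map_mul] at hi
    simpa using mul_mem hi (inv_mem h0)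
  obtain ⟨π, -, hπi, hπm, -⟩ := exists_weyl_hom (F := ZMod 2) (ZMod.card 2)
  let π' : commutator WGr →* PS := π.comp (commutator WGr).subtype
  have hπ' : Function.Bijective π' := by
    refine ⟨?_, fun y => ?_⟩
    · rw [injective_iff_map_eq_one]
      exact fun w hw => Subtype.ext (hπi w.1 w.2 hw)
    · obtain ⟨x, hx, rfl⟩ := hπm.ge (mem_top y)
      exact ⟨⟨x, hx⟩, rfl⟩
  let eW := MulEquiv.ofBijective π' hπ'
  let f : PS →* H ⧸ zpowers ε := (Φ.comp (commutator WGr).subtype).comp eW.symm.toMonoidHom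
  have hfs : Function.Surjective f := fun a => by
    obtain ⟨x, hx, rfl⟩ := hK.ge (mem_top a)
    exact ⟨eW ⟨x, hx⟩, by simp [f]⟩
  haveI : IsSimpleGroup PS :=
    Cfsg.Agent.Classical.Symplectic.isSimpleGroup_PSp (by norm_num) (by norm_num)
  have hfi : Function.Injective f := by
    rw [← MonoidHom.ker_eq_bot_iff]
    refine (f.normal_ker.eq_bot_or_eq_top).resolve_right fun h => hε1 ?_
    have hall : ∀ x : H, x ∈ zpowers ε := fun x => by
      obtain ⟨a, ha⟩ := hfs (p x)
      rw [MonoidHom.mem_ker.1 (h.ge (mem_top a))] at ha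
      exact (QuotientGroup.eq_one_iff x).1 ha.symm
    obtain ⟨k, hk⟩ := mem_zpowers_iff.1 (hall (g 1))
    have e : g 0 * g 1 = g 1 * g 0 := by rw [← hk]; exact ((hc (g 0)).zpow_right k).eq
    exact mul_eq_right.1 ((e ▸ hanti).symm)
  let ef := MulEquiv.ofBijective f ⟨hfi, hfs⟩
  refine ⟨ef.symm.toMonoidHom.comp p, ?_, ?_⟩
  case refine_2 =>
    rw [MonoidHom.ker_comp_of_injective _ _ ef.symm.injective, QuotientGroup.ker_mk']
  have hker : (ef.symm.toMonoidHom.comp p).ker = zpowers ε := by
    rw [MonoidHom.ker_comp_of_injective _ _ ef.symm.injective, QuotientGroup.ker_mk']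
  have hsur : Function.Surjective (ef.symm.toMonoidHom.comp p) :=
    ef.symm.surjective.comp (QuotientGroup.mk'_surjective _)
  refine ⟨?_, hsur, ?_, ?_⟩
  · set ξ := ef.symm.toMonoidHom.comp p
    have hm : (commutator H).map ξ = ⊤ := by
      rw [_root_.commutator_def, map_commutator, map_top_of_surjective _ hsur, ← _root_.commutator_def,
        psp_perfect (ZMod.card 2)]
    rw [eq_top_iff]
    intro x _
    obtain ⟨a, ha, e⟩ := hm.ge (mem_top (ξ x))
    have he : ε ∈ commutator H := by
      have : ⁅g 0, g 1⁆ = ε := by rw [commutatorElement_def, hanti]; group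
      rw [← this, _root_.commutator_def]
      exact commutator_mem_commutator (mem_top _) (mem_top _)
    have : a⁻¹ * x ∈ zpowers ε := by rw [← hker, MonoidHom.mem_ker, map_mul, map_inv, e, inv_mul_cancel]
    simpa using mul_mem ha (zpowers_le.2 he this)
  · rw [hker, zpowers_le]
    exact mem_center_iff.2 fun x => (hc x).eq
  · rw [hker, Nat.card_zpowers]
    exact orderOf_eq_prime (by rw [pow_two, hε2]) hε1

/-- A double cover in the sense of the hypothesis is a perfect double cover. -/
theorem exists_isDouble {H : Type u} [Group H] [Finite H]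
    (hH : Cfsg.IsNonsplitDoubleCover H (Matrix.symplecticGroup (Fin 3) (ZMod 2))) :
    ∃ ξ : H →* PS, IsDouble ξ ∧ ξ.ker = center H := by
  obtain ⟨h2, ⟨e⟩, hns⟩ := hH
  let eP : PS ≃* Matrix.symplecticGroup (Fin 3) (ZMod 2) :=
    (QuotientGroup.quotientMulEquivOfEq OctadInv.Co2Cent.center_sp).trans QuotientGroup.quotientBot
  let ξ : H →* PS := (eP.symm.toMonoidHom.comp e.toMonoidHom).comp (QuotientGroup.mk' (center H))
  have hsurj : Function.Surjective ξ :=
    (eP.symm.surjective.comp e.surjective).comp (QuotientGroup.mk'_surjective _)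
  have hker : ξ.ker = center H := by
    rw [MonoidHom.ker_comp_of_injective _ _ (eP.symm.injective.comp e.injective), QuotientGroup.ker_mk']
  refine ⟨ξ, ⟨?_, hsurj, hker.le, hker.symm ▸ h2⟩, hker⟩
  have hmap : (commutator H).map ξ = ⊤ := by
    rw [_root_.commutator_def, map_commutator, map_top_of_surjective _ hsurj, ← _root_.commutator_def,
      psp_perfect (ZMod.card 2)]
  have hsup : center H ⊔ commutator H = ⊤ := by
    rw [← hker, sup_comm, ← comap_map_eq, hmap, comap_top]
  by_contra hne
  refine hns (commutator H) (isComplement'_of_disjoint_and_mul_eq_univ ?_ ?_)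
  · rw [disjoint_iff, ← card_eq_one]
    have hd := card_dvd_of_le (inf_le_left : center H ⊓ commutator H ≤ center H)
    rw [h2] at hd
    refine ((Nat.dvd_prime Nat.prime_two).1 hd).resolve_right fun h => hne ?_
    have he : center H ⊓ commutator H = center H :=
      eq_of_le_of_card_ge inf_le_left (by rw [h, h2])
    rwa [sup_of_le_right (inf_eq_left.1 he)] at hsup
  · rw [← coe_mul_of_left_le_normalizer_right _ _ (le_normalizer_of_normal), hsup, coe_top]

/-- Perfect double covers of `Sp₆(2)` are isomorphic. -/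
theorem double_unique {D₁ : Type u} [Group D₁] [Finite D₁] {D₂ : Type v} [Group D₂] [Finite D₂]
    {ξ₁ : D₁ →* PS} {ξ₂ : D₂ →* PS} (h₁ : IsDouble ξ₁) (h₂ : IsDouble ξ₂) : Nonempty (D₁ ≃* D₂) := by
  refine McLType.unique_of_bound h₁ h₂ fun L π hLL hs hcn => ?_
  have hst : Cfsg.IsStemExtension π := ⟨hs, hcn, hLL ▸ le_top⟩
  obtain ⟨ε, -, hε2, hε⟩ := exists_gen (F := ZMod 2) (ZMod.card 2) hst
  refine (card_le_of_le (show π.ker ≤ zpowers ε from hε)).trans ?_
  rw [Nat.card_zpowers]
  exact Nat.le_of_dvd two_pos (orderOf_dvd_of_pow_eq_one (by rw [pow_two, hε2]))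

end Cfsg.Agent.Co3Type
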