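import Cfsg.Agent.Lib.Co3Type.CentE
import Cfsg.Agent.Lib.M12Central.Model
import Cfsg.Agent.Lib.Co3Type.EndDefs
import Cfsg.Agent.S0245
import Cfsg.Agent.Lib.Involutions.Basic

/-!
A subgroup `M` with the data `EndData` is the whole group.
-/

set_option autoImplicit false

open Subgroup

namespace Cfsg.Agent.Co3Type

variable {G : Type*} [Group G] {t e : G}

theorem card_centralizer_cover [Finite G]
    (hcov : Cfsg.IsNonsplitDoubleCover (centralizer ({t} : Set G))
      (Matrix.symplecticGroup (Fin 3) (ZMod 2))) :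
    Nat.card (centralizer ({t} : Set G)) = 2903040 := by
  obtain ⟨hc, ⟨φ⟩, -⟩ := hcov
  have h1 := Subgroup.card_eq_card_quotient_mul_card_subgroup (center (centralizer ({t} : Set G)))
  rw [Nat.card_congr φ.toEquiv, hc, Cfsg.Agent.S0245.result (ZMod.card 2) 3] at h1
  rw [h1]
  rfl

theorem not_isConj [Finite G] {M : Subgroup G}
    (hcov : Cfsg.IsNonsplitDoubleCover (centralizer ({t} : Set G))
      (Matrix.symplecticGroup (Fin 3) (ZMod 2))) (D : EndData t e M) : ¬ IsConj t e := by
  intro h
  obtain ⟨g, hg⟩ := isConj_iff.1 h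
  obtain ⟨y, -, hye, hy⟩ := D.eleven
  have hmem : g⁻¹ * y * g ∈ centralizer ({t} : Set G) := mem_centralizer_singleton_iff.2 <| by
    have h1 : y * (g * t * g⁻¹) = g * t * g⁻¹ * y := by rw [hg]; exact hye.eq
    calc g⁻¹ * y * g * t = g⁻¹ * (y * (g * t * g⁻¹)) * g := by group
      _ = g⁻¹ * (g * t * g⁻¹ * y) * g := by rw [h1]
      _ = t * (g⁻¹ * y * g) := by group
  have h11 : orderOf (g⁻¹ * y * g) = 11 := by
    rw [← hy]
    simpa using Involutions.Basic.orderOf_conj g⁻¹ y
  have hd := orderOf_dvd_natCard (⟨_, hmem⟩ : centralizer ({t} : Set G))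
  rw [← Subgroup.orderOf_coe, h11, card_centralizer_cover hcov] at hd
  norm_num at hd

theorem not_isConj_te [Finite G] {M : Subgroup G}
    (hcov : Cfsg.IsNonsplitDoubleCover (centralizer ({t} : Set G))
      (Matrix.symplecticGroup (Fin 3) (ZMod 2))) (D : EndData t e M) : ¬ IsConj t (t * e) :=
  fun h => not_isConj hcov D (h.trans D.te)

theorem centralizer_e_le_aux [Finite G] (ht : orderOf t = 2) {M : Subgroup G}
    (hcov : Cfsg.IsNonsplitDoubleCover (centralizer ({t} : Set G))
      (Matrix.symplecticGroup (Fin 3) (ZMod 2))) (D : EndData t e M)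
    {Q : Type*} [Group Q] [Finite Q] (π : centralizer ({e} : Set G) →* Q)
    (hπs : Function.Surjective π)
    (hπ1 : ∀ z, π z = 1 ↔ (z : G) = 1 ∨ (z : G) = e) :
    centralizer ({e} : Set G) ≤ M := by
  classical
  have hne : ¬ IsConj t e := not_isConj hcov D
  have hte : t ≠ e := fun h => hne (h ▸ IsConj.refl t)
  let e' : (centralizer ({e} : Set G)) := ⟨e, mem_centralizer_singleton_iff.2 rfl⟩
  let t' : (centralizer ({e} : Set G)) := ⟨t, mem_centralizer_singleton_iff.2 D.comm.eq⟩
  set s := π t' with hs
  have hs2 : orderOf s = 2 := by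
    refine orderOf_eq_prime (p := 2) ?_ fun h => ?_
    · rw [hs, ← map_pow, show t' ^ 2 = 1 from Subtype.ext (by
        show t ^ 2 = 1
        rw [← ht]; exact pow_orderOf_eq_one t), map_one]
    · rcases (hπ1 t').1 h with h | h
      · exact Involutions.Basic.ne_one ht h
      · exact hte h
  set H := centralizer ({t} : Set G) ⊓ centralizer ({e} : Set G) with hH
  let ψ : H →* centralizer ({s} : Set Q) :=
    (π.comp (Subgroup.inclusion inf_le_right)).codRestrict _ fun h => by
      refine mem_centralizer_singleton_iff.2 ?_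
      rw [hs, MonoidHom.comp_apply, ← map_mul, ← map_mul]
      exact congrArg π (Subtype.ext (mem_centralizer_singleton_iff.1 h.2.1))
  have hψ : Function.Surjective ψ := by
    rintro ⟨x, hx⟩
    obtain ⟨g, rfl⟩ := hπs x
    have hx' := mem_centralizer_singleton_iff.1 hx
    have h1 : π (g * t' * g⁻¹ * t'⁻¹) = 1 := by
      rw [map_mul, map_mul, map_mul, map_inv, map_inv]
      rw [show π g * π t' = π t' * π g from hx', mul_inv_cancel_right, mul_inv_cancel]
    rcases (hπ1 _).1 h1 with h | h
    · have hg : (g : G) ∈ H :=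
        ⟨mem_centralizer_singleton_iff.2 (mul_inv_eq_iff_eq_mul.1 (mul_inv_eq_one.1 h)), g.2⟩
      exact ⟨⟨g, hg⟩, Subtype.ext rfl⟩
    · exfalso
      apply not_isConj_te hcov D
      refine isConj_iff.2 ⟨g, ?_⟩
      rw [D.comm.eq]
      exact mul_inv_eq_iff_eq_mul.1 h
  obtain ⟨u, hu, φ, hφ, hφker⟩ := D.quot
  have hker : ψ.ker = φ.ker := by
    ext g
    rw [MonoidHom.mem_ker, MonoidHom.mem_ker, hφker]
    exact Subtype.ext_iff.trans (hπ1 _)
  let ι : centralizer ({s} : Set Q) ≃* centralizer ({u} : Set ↥Cfsg.Spor.M12) :=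
    (QuotientGroup.quotientKerEquivOfSurjective ψ hψ).symm.trans
      ((QuotientGroup.quotientMulEquivOfEq hker).trans
        (QuotientGroup.quotientKerEquivOfSurjective φ hφ))
  obtain ⟨L⟩ := M12Central.Model.exists_local u hu s hs2 ι
  -- the centraliser is generated by conjugates of `s`
  have hgen : centralizer ({s} : Set Q) ≤ normalClosure {s} := by
    intro x hx
    obtain ⟨g, hg⟩ := hψ ⟨x, hx⟩
    have key : closure (({e} : Set G) ∪ {x | ∃ m ∈ M, Commute m e ∧ m * t * m⁻¹ = x}) ≤
        ((normalClosure {s}).comap π).map (centralizer ({e} : Set G)).subtype := by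
      refine (closure_le _).2 ?_
      rintro z (hz | ⟨m, -, hm, rfl⟩)
      · exact ⟨e', by
          rw [SetLike.mem_coe, mem_comap, (hπ1 e').2 (Or.inr rfl)]; exact one_mem _, hz.symm⟩
      · refine ⟨⟨m, mem_centralizer_singleton_iff.2 hm.eq⟩ * t' *
          ⟨m, mem_centralizer_singleton_iff.2 hm.eq⟩⁻¹, ?_, rfl⟩
        rw [SetLike.mem_coe, mem_comap, map_mul, map_mul, map_inv]
        have hmem : s ∈ normalClosure ({s} : Set Q) := subset_normalClosure (Set.mem_singleton s)
        have hnormal : (normalClosure ({s} : Set Q)).Normal := normalClosure_normal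
        exact hnormal.conj_mem s hmem _
    obtain ⟨c, hc, hce⟩ := key (D.gen g.1 (mem_centralizer_singleton_iff.1 g.2.1)
      (mem_centralizer_singleton_iff.1 g.2.2))
    have hval : π (Subgroup.inclusion inf_le_right g) = x := congrArg Subtype.val hg
    have hcg : Subgroup.inclusion inf_le_right g = c := Subtype.ext hce.symm
    have hxe : x = π c := by rw [← hval, hcg]
    rw [hxe]
    exact hc
  obtain ⟨hsimple, hcard⟩ := simple_and_card L hgen
  -- the part of `(centralizer ({e} : Set G))` in `M` has index less than eleven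
  set K := M.subgroupOf (centralizer ({e} : Set G)) with hK
  have heM : e ∈ M := D.cent (mem_centralizer_singleton_iff.2 D.comm.eq.symm)
  have hcardC : Nat.card (centralizer ({e} : Set G)) = 190080 := by
    rw [Subgroup.card_eq_card_quotient_mul_card_subgroup π.ker,
      Nat.card_congr (QuotientGroup.quotientKerEquivOfSurjective π hπs).toEquiv, hcard,
      ← SetLike.coe_sort_coe,
      show (π.ker : Set (centralizer ({e} : Set G))) = {1, e'} by
        ext z
        rw [SetLike.mem_coe, MonoidHom.mem_ker, hπ1, Set.mem_insert_iff, Set.mem_singleton_iff]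
        exact or_congr ⟨fun h => Subtype.ext h, congrArg Subtype.val⟩
          ⟨fun h => Subtype.ext h, congrArg Subtype.val⟩,
      Nat.card_coe_set_eq, Set.ncard_pair
        (fun h => Involutions.Basic.ne_one D.ord (congrArg Subtype.val h).symm)]
  have hHK : H.subgroupOf (centralizer ({e} : Set G)) ≤ K := fun g hg => D.cent hg.1
  have h384 : 384 ∣ Nat.card K := by
    refine dvd_trans (dvd_of_eq ?_) (card_dvd_of_le hHK)
    rw [Nat.card_congr (subgroupOfEquivOfLe inf_le_right).toEquiv,
      Subgroup.card_eq_card_quotient_mul_card_subgroup ψ.ker,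
      Nat.card_congr (QuotientGroup.quotientKerEquivOfSurjective ψ hψ).toEquiv, L.card_centralizer]
    have h2 : (ψ.ker : Set H) = {1, ⟨e, mem_centralizer_singleton_iff.2 D.comm.eq.symm,
        mem_centralizer_singleton_iff.2 rfl⟩} := by
      ext g
      rw [hker, SetLike.mem_coe, MonoidHom.mem_ker, hφker]
      rw [Set.mem_insert_iff, Set.mem_singleton_iff]
      exact or_congr ⟨fun h => Subtype.ext h, congrArg Subtype.val⟩
        ⟨fun h => Subtype.ext h, congrArg Subtype.val⟩
    rw [← SetLike.coe_sort_coe, h2, Nat.card_coe_set_eq, Set.ncard_pair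
      (fun h => Involutions.Basic.ne_one D.ord (congrArg Subtype.val h).symm)]
  have horder : ∀ y : G, y ∈ M → Commute y e → orderOf y ∣ Nat.card K := by
    intro y hy hye
    have h := orderOf_dvd_natCard
      (⟨⟨y, mem_centralizer_singleton_iff.2 hye.eq⟩, hy⟩ : K)
    rwa [← Subgroup.orderOf_coe, ← Subgroup.orderOf_coe] at h
  obtain ⟨y, hyM, hye, hy⟩ := D.eleven
  obtain ⟨w, hwM, hwe, hw⟩ := D.five
  have h11 : 11 ∣ Nat.card K := hy ▸ horder y hyM hye
  have h5 : 5 ∣ Nat.card K := hw ▸ horder w hwM hwe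
  have h21120 : 384 * 5 * 11 ∣ Nat.card K :=
    Nat.Coprime.mul_dvd_of_dvd_of_dvd (by norm_num)
      (Nat.Coprime.mul_dvd_of_dvd_of_dvd (by norm_num) h384 h5) h11
  have hidx : K.index ∣ 9 := by
    obtain ⟨c, hc⟩ := h21120
    have h1 := K.index_mul_card
    rw [hc, hcardC] at h1
    exact ⟨c, by nlinarith⟩
  have hkerK : π.ker ≤ K := by
    intro z hz
    rcases (hπ1 z).1 hz with h | h
    · show (z : G) ∈ M
      rw [h]; exact one_mem _
    · show (z : G) ∈ M
      rw [h]; exact heM
  set K' := K.map π with hK'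
  have hidx' : K'.index = K.index :=
    K.index_map_eq hπs hkerK
  have hone : K.index = 1 := by
    by_contra hne1
    have hcore : K'.normalCore = ⊥ := by
      rcases (K'.normalCore_normal).eq_bot_or_eq_top with h | h
      · exact h
      · exfalso
        apply hne1
        rw [← hidx', index_eq_one]
        exact top_le_iff.1 (h ▸ K'.normalCore_le)
    have hinj : Function.Injective
        (MulAction.toPermHom Q (Q ⧸ K')) :=
      (MonoidHom.ker_eq_bot_iff _).1 (by rw [← normalCore_eq_ker, hcore])
    have hdvd := Subgroup.card_dvd_of_injective _ hinj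
    rw [hcard, Nat.card_perm, ← Subgroup.index, hidx'] at hdvd
    have h9 : (K.index).factorial ∣ Nat.factorial 9 :=
      Nat.factorial_dvd_factorial (Nat.le_of_dvd (by norm_num) hidx)
    have := hdvd.trans h9
    norm_num [Nat.factorial] at this
  intro g hg
  have h := (index_eq_one.1 hone).ge (mem_top (⟨g, hg⟩ : (centralizer ({e} : Set G))))
  exact h

/-- The centraliser of `e` lies in `M`. -/
theorem centralizer_e_le [Finite G] (ht : orderOf t = 2) {M : Subgroup G}
    (hcov : Cfsg.IsNonsplitDoubleCover (centralizer ({t} : Set G))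
      (Matrix.symplecticGroup (Fin 3) (ZMod 2))) (D : EndData t e M) :
    centralizer ({e} : Set G) ≤ M := by
  set C := centralizer ({e} : Set G) with hC
  let e' : C := ⟨e, mem_centralizer_singleton_iff.2 rfl⟩
  have : (zpowers e').Normal := by
    refine ⟨fun z hz g => ?_⟩
    obtain ⟨k, rfl⟩ := mem_zpowers_iff.1 hz
    have hc : Commute g e' := Subtype.ext (mem_centralizer_singleton_iff.1 g.2)
    exact mem_zpowers_iff.2 ⟨k, by rw [(hc.zpow_right k).eq, mul_inv_cancel_right]⟩
  have he' : orderOf e' = 2 := by rw [← Subgroup.orderOf_coe]; exact D.ord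
  have hZ : ∀ z : C, z ∈ zpowers e' ↔ (z : G) = 1 ∨ (z : G) = e := by
    intro z
    constructor
    · intro hz
      classical
      rw [mem_zpowers_iff_mem_range_orderOf, he'] at hz
      simp only [Finset.mem_image, Finset.mem_range] at hz
      obtain ⟨k, hk, rfl⟩ := hz
      interval_cases k <;> simp [e']
    · rintro (h | h)
      · rw [show z = 1 from Subtype.ext h]; exact one_mem _
      · rw [show z = e' from Subtype.ext h]; exact mem_zpowers e'
  exact centralizer_e_le_aux ht hcov D (QuotientGroup.mk' (zpowers e'))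
    (QuotientGroup.mk'_surjective _) fun z => (QuotientGroup.eq_one_iff z).trans (hZ z)

/-- A subgroup with the data `EndData` is the whole group. -/
theorem eq_top [Finite G] (ht : orderOf t = 2) {M : Subgroup G}
    (hcov : Cfsg.IsNonsplitDoubleCover (centralizer ({t} : Set G))
      (Matrix.symplecticGroup (Fin 3) (ZMod 2))) (D : EndData t e M) : M = ⊤ := by
  have hne : ¬ IsConj t e := not_isConj hcov D
  have hCe := centralizer_e_le ht hcov D
  -- centralisers of involutions of `M` lie in `M`
  have hC : ∀ u ∈ M, orderOf u = 2 → centralizer ({u} : Set G) ≤ M := by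
    intro u hu hu2 x hx
    have hx' := mem_centralizer_singleton_iff.1 hx
    rcases D.classes u hu hu2 with ⟨m, hm, h⟩ | ⟨m, hm, h⟩ <;>
      [have hle := D.cent; have hle := hCe] <;>
      · have hmem : m * x * m⁻¹ ∈ M := hle (mem_centralizer_singleton_iff.2 (by
          rw [← h]
          calc m * x * m⁻¹ * (m * u * m⁻¹) = m * (x * u) * m⁻¹ := by group
            _ = m * (u * x) * m⁻¹ := by rw [hx']
            _ = m * u * m⁻¹ * (m * x * m⁻¹) := by group))
        have := M.mul_mem (M.mul_mem (M.inv_mem hm) hmem) hm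
        simpa [mul_assoc] using this
  have htM : t ∈ M := D.cent (mem_centralizer_singleton_iff.2 rfl)
  refine top_le_iff.1 fun g _ => ?_
  have ho : orderOf (g * e * g⁻¹) = 2 := by rw [Involutions.Basic.orderOf_conj]; exact D.ord
  have hnc : ¬ IsConj t (g * e * g⁻¹) := fun h =>
    hne (h.trans ((isConj_iff.2 ⟨g, rfl⟩ : IsConj e _).symm))
  obtain ⟨hi, hit, hie⟩ := Involutions.Basic.middle_involution ht ho
    (Involutions.Basic.even_orderOf_mul_of_not_isConj ht ho hnc)
  have hiM := D.cent (mem_centralizer_singleton_iff.2 hit.eq)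
  have heM : g * e * g⁻¹ ∈ M := hC _ hiM hi (mem_centralizer_singleton_iff.2 hie.eq.symm)
  rcases D.classes _ heM ho with ⟨m, -, h⟩ | ⟨m, hm, h⟩
  · exact absurd ((isConj_iff.2 ⟨m * g, by rw [← h]; group⟩ : IsConj e t).symm) hne
  · have hmem : m * g ∈ M := hCe (mem_centralizer_singleton_iff.2 (by
      calc m * g * e = m * (g * e * g⁻¹) * m⁻¹ * (m * g) := by group
        _ = e * (m * g) := by rw [h]))
    simpa using M.mul_mem (M.inv_mem hm) hmem

end Cfsg.Agent.Co3Type
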